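import Mathlib
import Groth.Prelude.Def_CohTop
import Groth.Agent.Lib.Helper13.CechAcyc

/-!
# Čech cohomology vanishes in degrees at least the size of the (finite) index set

Elementary proof by induction on the index set with "generalized cochains"
(families of sections, indexed by tuples and opens), for the full (ordered) Čech complex.
-/

universe u
set_option linter.unusedSectionVars false
set_option autoImplicit false
open CategoryTheory CategoryTheory.Limits Opposite TopologicalSpace

namespace Groth.Agent.Helper25.CechCard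

open Groth.Agent.Helper24.CechEv Groth.Agent.Helper13.CechAcyc

lemma succAbove_comm_aux {n : ℕ} {i j : Fin (n+2)} (H : i ≤ j) (k : Fin (n+1)) :
    j.succ.succAbove (i.succAbove k) = i.castSucc.succAbove (j.succAbove k) := by
  have h := SimplexCategory.δ_comp_δ H
  have h2 := congrArg (fun f => f.toOrderHom k) h
  exact h2

lemma alt_sq {A : Type*} [AddCommGroup A] {n : ℕ} (F : (Fin (n+1) → Fin (n+3)) → A) :
    ∑ i : Fin (n+3), (-1:ℤ)^(i:ℕ) • ∑ j : Fin (n+2), (-1:ℤ)^(j:ℕ) •
      F (i.succAbove ∘ j.succAbove) = 0 := by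
  simp only [Finset.smul_sum, smul_smul, ← Finset.sum_product']
  let S : Finset (Fin (n+3) × Fin (n+2)) :=
    Finset.univ.filter (fun ij => (ij.1 : ℕ) ≤ (ij.2 : ℕ))
  rw [Finset.univ_product_univ, ← Finset.sum_add_sum_compl S, ← eq_neg_iff_add_eq_zero,
    ← Finset.sum_neg_distrib]
  let φ : ∀ ij : Fin (n+3) × Fin (n+2), ij ∈ S → Fin (n+3) × Fin (n+2) := fun ij hij =>
    (ij.2.succ, Fin.castLT ij.1 (lt_of_le_of_lt (Finset.mem_filter.mp hij).2 ij.2.is_lt))
  apply Finset.sum_bij φ
  · intro ij hij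
    simp only [S, φ, Finset.compl_filter, Finset.mem_filter, Finset.mem_univ, true_and,
      Fin.val_succ, Fin.val_castLT] at hij ⊢
    omega
  · rintro ⟨i, j⟩ hij ⟨i', j'⟩ hij' h
    simp only [φ, Prod.mk.injEq] at h
    obtain ⟨h1, h2⟩ := h
    have h1' : j = j' := Fin.succ_injective _ h1
    have h2' : i = i' := by
      apply Fin.ext
      have := congrArg Fin.val h2
      simpa using this
    rw [h1', h2']
  · rintro ⟨i', j'⟩ hij'
    simp only [S, Finset.compl_filter, Finset.mem_filter, Finset.mem_univ, true_and,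
      not_le] at hij'
    have hi0 : i' ≠ 0 := by
      rintro rfl
      simp at hij'
    refine ⟨(Fin.castSucc j', i'.pred hi0), ?_, ?_⟩
    · simp only [S, Finset.mem_filter, Finset.mem_univ, true_and, Fin.val_castSucc, Fin.val_pred]
      omega
    · simp only [φ, Fin.succ_pred, Fin.castLT_castSucc]
  · rintro ⟨i, j⟩ hij
    simp only [S, Finset.mem_filter, Finset.mem_univ, true_and] at hij
    simp only [φ]
    rw [← neg_smul]
    have hF : (i.succAbove ∘ j.succAbove : Fin (n+1) → Fin (n+3)) =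
        (j.succ.succAbove ∘ (Fin.castLT i (lt_of_le_of_lt hij j.is_lt)).succAbove) := by
      funext k
      have hle : Fin.castLT i (lt_of_le_of_lt hij j.is_lt) ≤ j := by
        rw [Fin.le_def]; simpa using hij
      have := succAbove_comm_aux hle k
      simp only [Function.comp]
      rw [this, Fin.castSucc_castLT]
    rw [hF]
    congr 1
    simp only [Fin.val_succ, Fin.val_castLT, pow_succ]
    ring

section Gen
variable {X : TopCat.{u}} (ι : Type u) (P : (Opens X)ᵒᵖ ⥤ AddCommGrpCat.{u})

/-- generalized cochains of degree `q`: a section over every open for every tuple -/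
abbrev GC (q : ℕ) : Type u := (Fin (q+1) → ι) → ∀ T : Opens X, P.obj (op T)

end Gen

noncomputable section Main
variable {X : TopCat.{u}} {ι : Type u} {P : (Opens X)ᵒᵖ ⥤ AddCommGrpCat.{u}}

/-- the formal differential -/
def dd {q : ℕ} (s : GC ι P q) : GC ι P (q+1) :=
  fun b T => ∑ j : Fin (q+1+1), (-1:ℤ)^(j:ℕ) • s (b ∘ j.succAbove) T

lemma dd_dd {q : ℕ} (s : GC ι P q) (c : Fin (q+1+1+1) → ι) (T : Opens X) :
    dd (dd s) c T = 0 := by
  unfold dd
  exact alt_sq (fun φ : Fin (q+1) → Fin (q+3) => s (c ∘ φ) T)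

def gsub {q : ℕ} (s u : GC ι P q) : GC ι P q := fun a T => s a T - u a T
def gadd {q : ℕ} (s u : GC ι P q) : GC ι P q := fun a T => s a T + u a T

lemma dd_gsub {q : ℕ} (s u : GC ι P q) (b : Fin (q+1+1) → ι) (T : Opens X) :
    dd (gsub s u) b T = dd s b T - dd u b T := by
  unfold dd gsub
  simp only [smul_sub, Finset.sum_sub_distrib]

lemma dd_gadd {q : ℕ} (s u : GC ι P q) (b : Fin (q+1+1) → ι) (T : Opens X) :
    dd (gadd s u) b T = dd s b T + dd u b T := by
  unfold dd gadd
  simp only [smul_add, Finset.sum_add_distrib]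

def consX (x : ι) {q : ℕ} (s : GC ι P (q+1)) : GC ι P q := fun a T => s (Fin.cons x a) T

lemma dd_cons {q : ℕ} (u : GC ι P (q+1)) (x : ι) (b : Fin (q+1+1) → ι) (T : Opens X) :
    dd u (Fin.cons x b) T = u b T - dd (consX x u) b T := by
  unfold dd consX
  rw [Fin.sum_univ_succ]
  have e0 : (Fin.cons x b : Fin (q+1+1+1) → ι) ∘ (0 : Fin (q+1+1+1)).succAbove = b := by
    funext i
    show (Fin.cons x b : Fin (q+1+1+1) → ι) (Fin.succAbove 0 i) = b i
    rw [Fin.succAbove_zero, Fin.cons_succ]
  have eS : ∀ j : Fin (q+1+1), (Fin.cons x b : Fin (q+1+1+1) → ι) ∘ j.succ.succAbove =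
      Fin.cons x (b ∘ j.succAbove) := by
    intro j
    funext i
    show (Fin.cons x b : Fin (q+1+1+1) → ι) (Fin.succAbove j.succ i) = _
    refine Fin.cases ?_ (fun i' => ?_) i
    · rw [Fin.succ_succAbove_zero, Fin.cons_zero, Fin.cons_zero]
    · rw [Fin.succ_succAbove_succ, Fin.cons_succ, Fin.cons_succ]
      rfl
  rw [e0, Fin.val_zero, pow_zero, one_smul, sub_eq_add_neg, ← Finset.sum_neg_distrib]
  congr 1
  refine Finset.sum_congr rfl fun j _ => ?_
  rw [eS j, Fin.val_succ, pow_succ, mul_neg_one, neg_smul]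

def Adm (V : ι → Opens X) {q : ℕ} (a : Fin (q+1) → ι) (T : Opens X) : Prop := ∀ k, T ≤ V (a k)
def InS (S : Finset ι) {q : ℕ} (a : Fin (q+1) → ι) : Prop := ∀ k, a k ∈ S

lemma inS_comp {S : Finset ι} {q m : ℕ} {a : Fin (q+1) → ι} (h : InS S a)
    (f : Fin (m+1) → Fin (q+1)) : InS S (a ∘ f) := fun k => h (f k)

lemma adm_comp {V : ι → Opens X} {q m : ℕ} {a : Fin (q+1) → ι} {T : Opens X} (h : Adm V a T)
    (f : Fin (m+1) → Fin (q+1)) : Adm V (a ∘ f) T := fun k => h (f k)

lemma inS_mono {S' S : Finset ι} (hsub : S' ⊆ S) {q : ℕ} {a : Fin (q+1) → ι} (h : InS S' a) :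
    InS S a := fun k => hsub (h k)

def IsCoch (S : Finset ι) (V : ι → Opens X) {q : ℕ} (s : GC ι P q) : Prop :=
  ∀ a : Fin (q+1) → ι, InS S a → ∀ (T T' : Opens X) (h : T' ≤ T), Adm V a T →
    (P.map (homOfLE h).op).hom (s a T) = s a T'

def IsCoc (S : Finset ι) (V : ι → Opens X) {q : ℕ} (s : GC ι P q) : Prop :=
  ∀ b : Fin (q+1+1) → ι, InS S b → ∀ T : Opens X, Adm V b T → dd s b T = 0

def IsCob (S : Finset ι) (V : ι → Opens X) {q : ℕ} (s : GC ι P (q+1)) (t : GC ι P q) : Prop :=
  ∀ b : Fin (q+1+1) → ι, InS S b → ∀ T : Opens X, Adm V b T → s b T = dd t b T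

lemma isCoch_dd {S : Finset ι} {V : ι → Opens X} {q : ℕ} {t : GC ι P q} (ht : IsCoch S V t) :
    IsCoch S V (dd t) := by
  intro b hb T T' h hT
  unfold dd
  rw [map_sum]
  refine Finset.sum_congr rfl fun j _ => ?_
  rw [map_zsmul]
  congr 1
  exact ht _ (inS_comp hb _) T T' h (adm_comp hT _)

lemma isCoch_gsub {S : Finset ι} {V : ι → Opens X} {q : ℕ} {s u : GC ι P q}
    (hs : IsCoch S V s) (hu : IsCoch S V u) : IsCoch S V (gsub s u) := by
  intro a ha T T' h hT
  show (P.map (homOfLE h).op).hom (s a T - u a T) = s a T' - u a T'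
  rw [map_sub, hs a ha T T' h hT, hu a ha T T' h hT]

lemma isCoch_gadd {S : Finset ι} {V : ι → Opens X} {q : ℕ} {s u : GC ι P q}
    (hs : IsCoch S V s) (hu : IsCoch S V u) : IsCoch S V (gadd s u) := by
  intro a ha T T' h hT
  show (P.map (homOfLE h).op).hom (s a T + u a T) = s a T' + u a T'
  rw [map_add, hs a ha T T' h hT, hu a ha T T' h hT]

lemma isCoch_mono {S' S : Finset ι} (hsub : S' ⊆ S) {V : ι → Opens X} {q : ℕ} {s : GC ι P q}
    (hs : IsCoch S V s) : IsCoch S' V s :=
  fun a ha => hs a (inS_mono hsub ha)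

lemma isCoc_mono {S' S : Finset ι} (hsub : S' ⊆ S) {V : ι → Opens X} {q : ℕ} {s : GC ι P q}
    (hs : IsCoc S V s) : IsCoc S' V s :=
  fun b hb => hs b (inS_mono hsub hb)

open Classical in
/-- extension by zero outside the tuples in `S'` -/
def extZ (S' : Finset ι) {q : ℕ} (t : GC ι P q) : GC ι P q :=
  fun a T => if InS S' a then t a T else 0

open Classical in
/-- cut to zero on the tuples in `S'` -/
def cutZ (S' : Finset ι) {q : ℕ} (t : GC ι P q) : GC ι P q :=
  fun a T => if InS S' a then 0 else t a T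

open Classical in
lemma extZ_pos {S' : Finset ι} {q : ℕ} (t : GC ι P q) {a : Fin (q+1) → ι} (h : InS S' a)
    (T : Opens X) : extZ S' t a T = t a T := if_pos h

open Classical in
lemma extZ_neg {S' : Finset ι} {q : ℕ} (t : GC ι P q) {a : Fin (q+1) → ι} (h : ¬ InS S' a)
    (T : Opens X) : extZ S' t a T = 0 := if_neg h

open Classical in
lemma cutZ_pos {S' : Finset ι} {q : ℕ} (t : GC ι P q) {a : Fin (q+1) → ι} (h : InS S' a)
    (T : Opens X) : cutZ S' t a T = 0 := if_pos h

open Classical in
lemma cutZ_neg {S' : Finset ι} {q : ℕ} (t : GC ι P q) {a : Fin (q+1) → ι} (h : ¬ InS S' a)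
    (T : Opens X) : cutZ S' t a T = t a T := if_neg h

lemma isCoch_extZ {S' S : Finset ι} {V : ι → Opens X} {q : ℕ} {t : GC ι P q}
    (ht : IsCoch S' V t) : IsCoch S V (extZ S' t) := by
  intro a _ T T' h hT
  by_cases ha' : InS S' a
  · rw [extZ_pos t ha', extZ_pos t ha']
    exact ht a ha' T T' h hT
  · rw [extZ_neg t ha', extZ_neg t ha']
    exact map_zero _

lemma dd_extZ_of_inS {S' : Finset ι} {q : ℕ} (t : GC ι P q) {b : Fin (q+1+1) → ι}
    (hb : InS S' b) (T : Opens X) : dd (extZ S' t) b T = dd t b T := by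
  unfold dd
  refine Finset.sum_congr rfl fun j _ => ?_
  rw [extZ_pos t (inS_comp hb _)]

/-- correcting a cochain so that it vanishes on the tuples of `S'`, without changing `dd` -/
lemma claimA {S' : Finset ι} (S : Finset ι) (hsub : S' ⊆ S)
    (IH : ∀ (V : ι → Opens X) (q : ℕ), S'.card ≤ q + 1 → ∀ s : GC ι P (q+1),
      IsCoch S' V s → IsCoc S' V s → ∃ t : GC ι P q, IsCoch S' V t ∧ IsCob S' V s t)
    (W : ι → Opens X) : ∀ (q : ℕ), S'.card ≤ q → ∀ r : GC ι P q, IsCoch S W r → IsCoc S' W r →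
      ∃ r₁ : GC ι P q, IsCoch S W r₁ ∧ (∀ (b : Fin (q+1+1) → ι) (T : Opens X),
          dd r₁ b T = dd r b T) ∧
        (∀ a : Fin (q+1) → ι, InS S' a → ∀ T : Opens X, Adm W a T → r₁ a T = 0) := by
  intro q
  rcases q with _ | q
  · intro hcard r hr _
    have hS' : S' = ∅ := Finset.card_eq_zero.1 (Nat.le_zero.1 hcard)
    refine ⟨r, hr, fun _ _ => rfl, ?_⟩
    intro a ha
    exact absurd (ha 0) (by rw [hS']; exact Finset.notMem_empty _)
  · intro hcard r hr hrc
    obtain ⟨u', hu', hru'⟩ := IH W q hcard r (isCoch_mono hsub hr) hrc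
    refine ⟨gsub r (dd (extZ S' u')), ?_, ?_, ?_⟩
    · exact isCoch_gsub hr (isCoch_dd (isCoch_extZ hu'))
    · intro b T
      rw [dd_gsub, dd_dd, sub_zero]
    · intro a ha T hT
      show r a T - dd (extZ S' u') a T = 0
      rw [hru' a ha T hT, dd_extZ_of_inS u' ha, sub_self]

theorem key (S : Finset ι) : ∀ (V : ι → Opens X) (q : ℕ), S.card ≤ q + 1 →
    ∀ s : GC ι P (q+1), IsCoch S V s → IsCoc S V s →
      ∃ t : GC ι P q, IsCoch S V t ∧ IsCob S V s t := by
  classical
  induction S using Finset.induction_on with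
  | empty =>
    intro V q _ s _ _
    refine ⟨fun _ _ => 0, ?_, ?_⟩
    · intro a ha
      exact absurd (ha 0) (Finset.notMem_empty _)
    · intro b hb
      exact absurd (hb 0) (Finset.notMem_empty _)
  | insert x S' hx IH =>
    intro V q hcard s hs hc
    have hS'card : S'.card ≤ q := by
      rw [Finset.card_insert_of_notMem hx] at hcard
      omega
    have hsub : S' ⊆ insert x S' := Finset.subset_insert x S'
    have hxS : x ∈ insert x S' := Finset.mem_insert_self x S'
    -- Step 1
    obtain ⟨t', ht', hst'⟩ := IH V q (by omega) s (isCoch_mono hsub hs) (isCoc_mono hsub hc)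
    have ht'' : IsCoch (insert x S') V (extZ S' t') := isCoch_extZ ht'
    have hs₁ : IsCoch (insert x S') V (gsub s (dd (extZ S' t'))) :=
      isCoch_gsub hs (isCoch_dd ht'')
    have hc₁ : IsCoc (insert x S') V (gsub s (dd (extZ S' t'))) := by
      intro c hcS T hT
      rw [dd_gsub, hc c hcS T hT, dd_dd, sub_zero]
    have hs₁0 : ∀ b : Fin (q+1+1) → ι, InS S' b → ∀ T : Opens X, Adm V b T →
        gsub s (dd (extZ S' t')) b T = 0 := by
      intro b hb T hT
      show s b T - dd (extZ S' t') b T = 0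
      rw [hst' b hb T hT, dd_extZ_of_inS t' hb, sub_self]
    -- Step 2
    have hWV : ∀ {m : ℕ} {a : Fin (m+1) → ι} {T : Opens X},
        Adm (fun i => V i ⊓ V x) a T → Adm V a T := fun h k => (h k).trans inf_le_left
    have hWx : ∀ {m : ℕ} {a : Fin (m+1) → ι} {T : Opens X},
        Adm (fun i => V i ⊓ V x) a T → T ≤ V x := fun h => (h 0).trans inf_le_right
    have hcons : ∀ {m : ℕ} {a : Fin (m+1) → ι}, InS (insert x S') a →
        InS (insert x S') (Fin.cons x a : Fin (m+1+1) → ι) := by
      intro m a ha k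
      refine Fin.cases ?_ (fun i => ?_) k
      · simp
      · simpa using ha i
    have hconsA : ∀ {m : ℕ} {a : Fin (m+1) → ι} {T : Opens X},
        Adm (fun i => V i ⊓ V x) a T → Adm V (Fin.cons x a : Fin (m+1+1) → ι) T := by
      intro m a T ha
      exact cons_le V x a (hWx ha) (hWV ha)
    have hr : IsCoch (insert x S') (fun i => V i ⊓ V x)
        (consX x (gsub s (dd (extZ S' t')))) := by
      intro a ha T T' h hT
      exact hs₁ _ (hcons ha) T T' h (hconsA hT)
    have hs₁r : IsCob (insert x S') (fun i => V i ⊓ V x) (gsub s (dd (extZ S' t')))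
        (consX x (gsub s (dd (extZ S' t')))) := by
      intro b hb T hT
      have h0 := hc₁ (Fin.cons x b) (hcons hb) T (hconsA hT)
      rw [dd_cons] at h0
      exact sub_eq_zero.1 h0
    have hrc : IsCoc S' (fun i => V i ⊓ V x) (consX x (gsub s (dd (extZ S' t')))) := by
      intro b hb T hT
      rw [← hs₁r b (inS_mono hsub hb) T hT]
      exact hs₁0 b hb T (hWV hT)
    obtain ⟨r₁, hr₁, hdr₁, hr₁0⟩ := claimA (insert x S') hsub IH (fun i => V i ⊓ V x) q hS'card
      (consX x (gsub s (dd (extZ S' t')))) hr hrc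
    have hs₁r₁ : IsCob (insert x S') (fun i => V i ⊓ V x) (gsub s (dd (extZ S' t'))) r₁ :=
      fun b hb T hT => (hs₁r b hb T hT).trans (hdr₁ b T).symm
    -- final primitive
    have hxin : ∀ {m : ℕ} {a : Fin (m+1) → ι}, InS (insert x S') a → ¬ InS S' a →
        ∃ k, a k = x := by
      intro m a ha hna
      by_contra hcon
      push Not at hcon
      exact hna (fun k => (Finset.mem_insert.1 (ha k)).resolve_left (hcon k))
    have hVW : ∀ {m : ℕ} {a : Fin (m+1) → ι} {T : Opens X}, (∃ k, a k = x) → Adm V a T →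
        Adm (fun i => V i ⊓ V x) a T := by
      rintro m a T ⟨k, hk⟩ hT j
      exact le_inf (hT j) (hk ▸ hT k)
    have ht₁ : IsCoch (insert x S') V (cutZ S' r₁) := by
      intro a ha T T' h hT
      by_cases ha' : InS S' a
      · rw [cutZ_pos r₁ ha', cutZ_pos r₁ ha']
        exact map_zero _
      · rw [cutZ_neg r₁ ha', cutZ_neg r₁ ha']
        exact hr₁ a ha T T' h (hVW (hxin ha ha') hT)
    have hs₁t₁ : IsCob (insert x S') V (gsub s (dd (extZ S' t'))) (cutZ S' r₁) := by
      intro b hb T hT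
      by_cases hb' : InS S' b
      · rw [hs₁0 b hb' T hT]
        unfold dd
        symm
        refine Finset.sum_eq_zero fun j _ => ?_
        rw [cutZ_pos r₁ (inS_comp hb' _), smul_zero]
      · have hTW := hVW (hxin hb hb') hT
        rw [hs₁r₁ b hb T hTW]
        unfold dd
        refine Finset.sum_congr rfl fun j _ => ?_
        congr 1
        by_cases hj : InS S' (b ∘ j.succAbove)
        · rw [cutZ_pos r₁ hj]
          exact hr₁0 _ hj T (adm_comp hTW _)
        · rw [cutZ_neg r₁ hj]
    refine ⟨gadd (cutZ S' r₁) (extZ S' t'), isCoch_gadd ht₁ ht'', ?_⟩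
    intro b hb T hT
    have h1 : s b T = gsub s (dd (extZ S' t')) b T + dd (extZ S' t') b T := by
      show s b T = (s b T - dd (extZ S' t') b T) + dd (extZ S' t') b T
      abel
    rw [h1, hs₁t₁ b hb T hT, dd_gadd]

open Classical in
/-- the generalized cochain attached to an actual cochain -/
def ofCochain (V : ι → Opens X) {q : ℕ} (x : (cech V P).X q) : GC ι P q :=
  fun a T => if h : ∀ k, T ≤ V (a k) then evT V P T a h x else 0

open Classical in
lemma ofCochain_apply (V : ι → Opens X) {q : ℕ} (x : (cech V P).X q) (a : Fin (q+1) → ι)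
    (T : Opens X) (h : ∀ k, T ≤ V (a k)) : ofCochain V x a T = evT V P T a h x := dif_pos h

theorem exists_primitive_of_card [Finite ι] (V : ι → Opens X) (q : ℕ)
    (hq : Nat.card ι ≤ q + 1)
    (x : (cech V P).X (q+1)) (hx : ((cech V P).d (q+1) (q+2)).hom x = 0) :
    ∃ y : (cech V P).X q, ((cech V P).d q (q+1)).hom y = x := by
  classical
  have := Fintype.ofFinite ι
  have hs : IsCoch Finset.univ V (ofCochain V x) := by
    intro a _ T T' h hT
    have hT' : ∀ k, T' ≤ V (a k) := fun k => h.trans (hT k)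
    rw [ofCochain_apply V x a T hT, ofCochain_apply V x a T' hT']
    exact evT_res V P h a hT x
  have hc : IsCoc Finset.univ V (ofCochain V x) := by
    intro b _ T hT
    have h1 := evT_d V P T b hT x
    rw [hx, map_zero] at h1
    unfold dd
    refine Eq.trans (Finset.sum_congr rfl fun j _ => ?_) h1.symm
    congr 1
    exact ofCochain_apply V x _ T (fun k => hT _)
  have hcard : (Finset.univ : Finset ι).card ≤ q + 1 := by
    rwa [Finset.card_univ, ← Nat.card_eq_fintype_card]
  obtain ⟨t, ht, hst⟩ := key Finset.univ V q hcard (ofCochain V x) hs hc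
  obtain ⟨y, hy⟩ := exists_cochain V P (fun a => t a (Va V a))
  refine ⟨y, ext_cochain V P _ _ fun b => ?_⟩
  rw [evT_d]
  have h2 := hst b (fun _ => Finset.mem_univ _) (Va V b) (Va_le V b)
  have h3 : ofCochain V x b (Va V b) = evT V P (Va V b) b (Va_le V b) x :=
    ofCochain_apply V x b (Va V b) (Va_le V b)
  rw [← h3, h2]
  unfold dd
  refine Finset.sum_congr rfl fun j _ => ?_
  congr 1
  have hle : Va V b ≤ Va V (b ∘ j.succAbove) := le_Va V _ (fun k => Va_le V b _)
  have e1 := evT_res V P hle (b ∘ j.succAbove) (Va_le V _) y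
  rw [hy] at e1
  refine e1.symm.trans ?_
  exact ht (b ∘ j.succAbove) (fun _ => Finset.mem_univ _) _ _ hle (Va_le V _)

theorem isZero_cechH_of_card [Finite ι] (V : ι → Opens X) (q : ℕ) (hq : Nat.card ι ≤ q) :
    IsZero (CohTop.cechH P V q) := by
  show IsZero ((cech V P).homology q)
  rcases q with _ | q
  · have hι : IsEmpty ι := by
      rw [← not_nonempty_iff]
      intro hne
      have := Finite.card_pos_iff.2 hne
      omega
    rw [← HomologicalComplex.exactAt_iff_isZero_homology]
    apply ShortComplex.exact_of_isZero_X₂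
    show IsZero ((cech V P).X 0)
    have hsub : Subsingleton ((cech V P).X 0) :=
      ⟨fun s s' => ext_cochain V P s s' (fun a => (hι.false (a 0)).elim)⟩
    exact AddCommGrpCat.isZero_of_subsingleton _
  · rw [← HomologicalComplex.exactAt_iff_isZero_homology,
      HomologicalComplex.exactAt_iff' (cech V P) q (q+1) (q+2) (by simp) (by simp),
      ShortComplex.ab_exact_iff]
    intro x hx
    exact exists_primitive_of_card V q hq x hx

end Main

end Groth.Agent.Helper25.CechCard
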