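import Mathlib
import Groth.Prelude.Def_ShStab
import Groth.Agent.Lib.Helper13.FieldBC6
import Groth.Agent.Lib.Helper5.PBT2
import Groth.Agent.Lib.Helper24.FlatPull
import Groth.Agent.Lib.Helper9.PowKill
import Groth.Agent.Lib.Helper13.FittPullback
import Groth.Agent.Lib.Helper13.PullbackLocal
import Groth.Agent.Lib.Helper13.InvTensor
import Groth.Agent.Lib.Helper13.TensorQCoh
import Groth.Agent.Lib.Helper9.QCohDesc
import Groth.Agent.Lib.Helper13.InvQCoh

/-!
# Semistability descends along a field extension (helper lemmas for S15211)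
-/

set_option autoImplicit false
universe u

open CategoryTheory CategoryTheory.Limits AlgebraicGeometry Polynomial

namespace Groth.Agent.Helper25.SSBaseChange

section HStar

variable {X : Scheme.{u}} (A : Type u) [CommRing A] [X.Over (Spec (CommRingCat.of A))]

/-- `H^p(φ)` as an `A`-linear map (copied from helper13's `PnFin.hstar` to keep imports light). -/
noncomputable def hstar' {M M' : X.Modules} (φ : M ⟶ M') (p : ℕ) :
    Coh.HH X M p →ₗ[A] Coh.HH X M' p where
  toFun y := Sheaf.H.map ((SheafOfModules.toSheaf X.ringCatSheaf).map φ) p y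
  map_add' y z := map_add _ y z
  map_smul' a y := (Groth.Agent.Helper9.PowKill.smul_Hmap φ
    (Coh.toGlobal (X ↘ Spec (CommRingCat.of A)) a) p y).symm

theorem hstar'_id (M : X.Modules) (p : ℕ) : hstar' A (𝟙 M) p = LinearMap.id := by
  ext y
  have h : (SheafOfModules.toSheaf X.ringCatSheaf).map (𝟙 M) = 𝟙 _ :=
    CategoryTheory.Functor.map_id _ _
  exact (congrArg (fun f => Sheaf.H.map f p y) h).trans (Sheaf.H.map_id_apply y)

theorem hstar'_comp {M M' M'' : X.Modules} (φ : M ⟶ M') (ψ : M' ⟶ M'') (p : ℕ) :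
    hstar' A (φ ≫ ψ) p = (hstar' A ψ p).comp (hstar' A φ p) := by
  ext y
  have h : (SheafOfModules.toSheaf X.ringCatSheaf).map (φ ≫ ψ) =
      (SheafOfModules.toSheaf X.ringCatSheaf).map φ ≫
        (SheafOfModules.toSheaf X.ringCatSheaf).map ψ := CategoryTheory.Functor.map_comp _ _ _
  exact (congrArg (fun f => Sheaf.H.map f p y) h).trans (Sheaf.H.map_comp_apply _ _ y)

/-- cohomology of isomorphic modules -/
noncomputable def hEquiv' {M M' : X.Modules} (e : M ≅ M') (p : ℕ) :
    Coh.HH X M p ≃ₗ[A] Coh.HH X M' p :=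
  LinearEquiv.ofLinear (hstar' A e.hom p) (hstar' A e.inv p)
    (by rw [← hstar'_comp, e.inv_hom_id, hstar'_id])
    (by rw [← hstar'_comp, e.hom_inv_id, hstar'_id])

end HStar

/-- the Euler characteristic only depends on the isomorphism class -/
theorem euler_congr (k : Type u) [Field k] {X : Scheme.{u}} [X.Over (Spec (CommRingCat.of k))]
    {M M' : X.Modules} (e : M ≅ M') : Curv2.euler k X M = Curv2.euler k X M' := by
  unfold Curv2.euler
  refine finsum_congr fun i => ?_
  rw [(hEquiv' k e i).finrank_eq]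

/-- polynomials over `ℚ` agreeing on the natural numbers are equal -/
theorem poly_eq_of_eval_nat {p q : ℚ[X]} (h : ∀ m : ℕ, p.eval (m : ℚ) = q.eval (m : ℚ)) : p = q := by
  apply Polynomial.eq_of_infinite_eval_eq
  refine Set.Infinite.mono ?_ (Set.infinite_range_of_injective (Nat.cast_injective (R := ℚ)))
  rintro _ ⟨m, rfl⟩
  exact h m

theorem redLE_refl (d : ℕ) (p : ℚ[X]) : StabCat.RedLE d p p :=
  ⟨0, fun _ _ => le_refl _⟩

section BC

variable (k : Type u) [Field k] (X : Scheme.{u}) [X.Over (Spec (CommRingCat.of k))]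
  [IsProper (X ↘ Spec (CommRingCat.of k))] (K : Type u) [Field K] [Algebra k K]

/-- pullback to the base change -/
noncomputable abbrev pb : X.Modules ⥤ (Curv2.bc k X K).Modules :=
  Scheme.Modules.pullback (Curv2.bcFst k X K)

instance : Flat (Curv2.bcFst k X K) := inferInstanceAs (Flat (pullback.fst _ _))
instance : Surjective (Curv2.bcFst k X K) := inferInstanceAs (Surjective (pullback.fst _ _))

/-- the twist commutes with base change -/
noncomputable def twistIso (L : X.Modules) (hL : PicF.IsInvertible L) (G : X.Modules) (m : ℕ) :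
    (pb k X K).obj (ShStab.twist X L G m) ≅
      ShStab.twist (Curv2.bc k X K) ((pb k X K).obj L) ((pb k X K).obj G) m :=
  (@asIso _ _ _ _ (Groth.Agent.Helper13.PbTensor.cmp (Curv2.bcFst k X K) G (CohB1.tensorPow L m))
    (Groth.Agent.Helper5.PBT.isIso_cmp (Curv2.bcFst k X K) G (CohB1.tensorPow L m))) ≪≫
    Groth.Agent.Helper13.Tensor.mapIso (Iso.refl _)
      (Groth.Agent.Helper13.PbTensor.pullbackPowIso (Curv2.bcFst k X K) L hL m)

/-- Hilbert polynomials are invariant under base change -/
theorem isHilbPoly_bc (L : X.Modules) (hL : PicF.IsInvertible L) (G : X.Modules)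
    [G.IsQuasicoherent] (p : ℚ[X]) (hp : ShStab.IsHilbPoly k X L G p) :
    @ShStab.IsHilbPoly K _ (Curv2.bc k X K) ⟨Curv2.bcSnd k X K⟩ ((pb k X K).obj L)
      ((pb k X K).obj G) p := by
  intro m
  rw [← hp m]
  congr 1
  letI : (Curv2.bc k X K).Over (Spec (CommRingCat.of K)) := ⟨Curv2.bcSnd k X K⟩
  rw [← euler_congr K (twistIso k X K L hL G m)]
  haveI : (CohB1.tensorPow L m).IsQuasicoherent :=
    Groth.Agent.Helper13.Inv.isQuasicoherent_of_isInvertible _
      (Groth.Agent.Helper13.Inv.isInvertible_tensorPow L hL m)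
  haveI : (ShStab.twist X L G m).IsQuasicoherent := by
    unfold ShStab.twist; infer_instance
  unfold Curv2.euler
  refine finsum_congr fun i => ?_
  rw [Groth.Agent.Helper13.FieldBC.finrank_bc k X K _ i]

/-- faithfully flat pullback reflects isomorphisms among monomorphisms -/
theorem isIso_of_isIso_pb {F E : X.Modules} (ι : F ⟶ E) [Mono ι]
    (h : IsIso ((pb k X K).map ι)) : IsIso ι := by
  haveI : (pb k X K).Additive :=
    (Scheme.Modules.pullbackPushforwardAdjunction (Curv2.bcFst k X K)).left_adjoint_additive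
  haveI : PreservesColimits (pb k X K) :=
    (Scheme.Modules.pullbackPushforwardAdjunction (Curv2.bcFst k X K)).leftAdjoint_preservesColimits
  have h1 : IsZero (cokernel ((pb k X K).map ι)) := isZero_cokernel_of_epi _
  have h2 : IsZero ((pb k X K).obj (cokernel ι)) :=
    IsZero.of_iso h1 (PreservesCokernel.iso (pb k X K) ι)
  have h3 : IsZero (cokernel ι) :=
    Groth.Agent.Helper9.QCohDesc.isZero_of_isZero_pullback (Curv2.bcFst k X K) _ h2
  haveI : Epi ι := Preadditive.epi_of_isZero_cokernel _ h3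
  exact isIso_of_mono_of_epi ι

theorem main (L : X.Modules) (hL : CohB1.IsAmple L) (d : ℕ) (E : X.Modules)
    (hE : Coh.IsCoh E) (hp : ShStab.IsPure X E d)
    (hK : @ShStab.IsSemistable K _ (Curv2.bc k X K) ⟨Curv2.bcSnd k X K⟩
      ((pb k X K).obj L) ((pb k X K).obj E) d) :
    ShStab.IsSemistable k X L E d := by
  haveI : (pb k X K).Additive :=
    (Scheme.Modules.pullbackPushforwardAdjunction (Curv2.bcFst k X K)).left_adjoint_additive
  haveI := Groth.Agent.Helper24.FlatPull.preservesFiniteLimits_pullback (Curv2.bcFst k X K)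
  obtain ⟨-, hnz, -, hss⟩ := hK
  refine ⟨hE, fun hz => hnz ((pb k X K).map_isZero hz), hp, ?_⟩
  intro F ι hmono hFc hFnz hni pF pE hpF hpE
  haveI := hFc.1
  haveI := hFc.2
  haveI := hE.1
  haveI : Mono ((pb k X K).map ι) := inferInstance
  have hc : Coh.IsCoh ((pb k X K).obj F) := ⟨inferInstance, inferInstance⟩
  have hnz' : ¬ IsZero ((pb k X K).obj F) := fun hz =>
    hFnz (Groth.Agent.Helper9.QCohDesc.isZero_of_isZero_pullback (Curv2.bcFst k X K) _ hz)
  have hni' : ¬ IsIso ((pb k X K).map ι) := fun hi => hni (isIso_of_isIso_pb k X K ι hi)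
  exact hss _ ((pb k X K).map ι) inferInstance hc hnz' hni' pF pE
    (isHilbPoly_bc k X K L hL.1 F pF hpF) (isHilbPoly_bc k X K L hL.1 E pE hpE)

end BC

end Groth.Agent.Helper25.SSBaseChange
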