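import Mathlib
import Groth.Prelude.Def_ShStab
import Groth.Agent.Lib.Helper25.SSBaseChange
import Groth.Agent.Lib.Helper13.TwistSES
import Groth.Agent.Lib.Helper13.PullbackEpi
import Groth.Agent.Lib.Helper13.TensorMap

/-!
# Formal consequences of the existence of Hilbert polynomials (for S15201, S15210)

Everything here takes the conclusion of Snapper's theorem (`S1528`, one invertible module) as a
hypothesis `hs`; the statement files feed `Groth.Agent.S1528.result`.
-/

set_option autoImplicit false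
universe u

open CategoryTheory CategoryTheory.Limits AlgebraicGeometry Polynomial

namespace Groth.Agent.Helper25.ShStabFormal

open Groth.Agent.Helper25.SSBaseChange

section Poly

/-- a rational polynomial of degree `≤ e` which is eventually nonnegative on `ℕ` has nonnegative
coefficient in degree `e` -/
theorem coeff_nonneg_of_eventually_nonneg (Q : ℚ[X]) (e : ℕ) (hdeg : Q.natDegree ≤ e)
    (h : ∃ N : ℕ, ∀ m : ℕ, N ≤ m → 0 ≤ Q.eval (m : ℚ)) : 0 ≤ Q.coeff e := by
  by_contra hneg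
  rw [not_le] at hneg
  have hne : Q.coeff e ≠ 0 := hneg.ne
  have hnd : Q.natDegree = e := le_antisymm hdeg (le_natDegree_of_ne_zero hne)
  have hlc : Q.leadingCoeff < 0 := by rw [leadingCoeff, hnd]; exact hneg
  obtain ⟨N, hN⟩ := h
  rcases Nat.eq_zero_or_pos e with he | he
  · have hC : Q = C (Q.coeff 0) := eq_C_of_natDegree_eq_zero (by rw [hnd, he])
    have := hN N le_rfl
    rw [hC, eval_C] at this
    rw [he] at hneg
    exact absurd this (not_le.2 hneg)
  · have hdp : 0 < Q.degree := natDegree_pos_iff_degree_pos.1 (by rw [hnd]; exact he)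
    have ht := Q.tendsto_atBot_of_leadingCoeff_nonpos hdp hlc.le
    have ht' : Filter.Tendsto (fun m : ℕ => Q.eval (m : ℚ)) Filter.atTop Filter.atBot :=
      ht.comp tendsto_natCast_atTop_atTop
    have hev := (ht'.eventually (Filter.eventually_lt_atBot (0 : ℚ))).and
      (Filter.eventually_ge_atTop N)
    obtain ⟨m, hm1, hm2⟩ := hev.exists
    exact absurd (hN m hm2) (not_le.2 hm1)

/-- semistability inequality implies the slope inequality, for polynomials of degree `≤ d` -/
theorem hatSlope_le_of_redLE (d : ℕ) (hd : 1 ≤ d) (pF pE : ℚ[X]) (hF : pF.natDegree ≤ d)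
    (hE : pE.natDegree ≤ d) (h : StabCat.RedLE d pF pE) (h1 : 0 < StabCat.alpha d pF)
    (h2 : 0 < StabCat.alpha d pE) : StabCat.hatSlope d pF ≤ StabCat.hatSlope d pE := by
  set Q : ℚ[X] := StabCat.alpha d pF • pE - StabCat.alpha d pE • pF with hQ
  have hcoeff : ∀ n, Q.coeff n = StabCat.alpha d pF * pE.coeff n - StabCat.alpha d pE * pF.coeff n := by
    intro n
    rw [hQ, coeff_sub, coeff_smul, coeff_smul, smul_eq_mul, smul_eq_mul]
  have hQd : Q.natDegree ≤ d - 1 := by
    rw [natDegree_le_iff_coeff_eq_zero]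
    intro n hn
    rw [hcoeff]
    rcases Nat.lt_or_ge d n with hdn | hdn
    · rw [coeff_eq_zero_of_natDegree_lt (lt_of_le_of_lt hE hdn),
        coeff_eq_zero_of_natDegree_lt (lt_of_le_of_lt hF hdn)]
      ring
    · have : n = d := by omega
      subst this
      unfold StabCat.alpha
      ring
  have hev : ∃ N : ℕ, ∀ m : ℕ, N ≤ m → 0 ≤ Q.eval (m : ℚ) := by
    obtain ⟨N, hN⟩ := h
    refine ⟨N, fun m hm => ?_⟩
    have := hN m hm
    rw [hQ, eval_sub]
    exact sub_nonneg.2 this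
  have hc := coeff_nonneg_of_eventually_nonneg Q (d - 1) hQd hev
  rw [hcoeff] at hc
  unfold StabCat.hatSlope
  rw [div_le_div_iff₀ h1 h2]
  have hfac : (0 : ℚ) ≤ ((d - 1).factorial : ℚ) := by positivity
  have : StabCat.alpha (d - 1) pE * StabCat.alpha d pF - StabCat.alpha (d - 1) pF * StabCat.alpha d pE =
      ((d - 1).factorial : ℚ) * (StabCat.alpha d pF * pE.coeff (d - 1) -
        StabCat.alpha d pE * pF.coeff (d - 1)) := by
    unfold StabCat.alpha
    ring
  have h3 := mul_nonneg hfac hc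
  rw [← this] at h3
  linarith

/-- two opposite reduced inequalities give equality of reduced polynomials -/
theorem redEq_of_redLE_redLE (d : ℕ) (p q : ℚ[X]) (h1 : StabCat.RedLE d p q)
    (h2 : StabCat.RedLE d q p) : StabCat.RedEq d p q := by
  obtain ⟨N1, hN1⟩ := h1
  obtain ⟨N2, hN2⟩ := h2
  unfold StabCat.RedEq
  apply Polynomial.eq_of_infinite_eval_eq
  refine Set.infinite_of_injective_forall_mem (f := fun m : ℕ => ((m + max N1 N2 : ℕ) : ℚ)) ?_ ?_
  · intro a b hab
    have := Nat.cast_injective (R := ℚ) hab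
    omega
  · intro m
    exact le_antisymm (hN1 _ (le_trans (le_max_left _ _) (Nat.le_add_left _ _)))
      (hN2 _ (le_trans (le_max_right _ _) (Nat.le_add_left _ _)))

end Poly

section Sheaf

variable (k : Type u) [Field k] (X : Scheme.{u}) [X.Over (Spec (CommRingCat.of k))]
  (L : X.Modules)

/-- Hilbert polynomials are unique -/
theorem hilbPoly_unique (F : X.Modules) (p q : ℚ[X]) (hp : ShStab.IsHilbPoly k X L F p)
    (hq : ShStab.IsHilbPoly k X L F q) : p = q :=
  poly_eq_of_eval_nat fun m => (hp m).symm.trans (hq m)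

/-- Hilbert polynomials are invariant under isomorphism -/
theorem isHilbPoly_of_iso {F E : X.Modules} (e : F ≅ E) (p : ℚ[X])
    (hp : ShStab.IsHilbPoly k X L F p) : ShStab.IsHilbPoly k X L E p := by
  intro m
  rw [← hp m]
  congr 1
  exact (euler_congr k (Groth.Agent.Helper13.Tensor.mapIso e (Iso.refl (CohB1.tensorPow L m)))).symm

theorem isZero_twist (Z : X.Modules) (hZ : IsZero Z) (m : ℕ) :
    IsZero (ShStab.twist X L Z m) := by
  rw [IsZero.iff_id_eq_zero]
  have h := Groth.Agent.Helper13.Tensor.map_id (M := Z) (N := CohB1.tensorPow L m)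
  have h0 : (𝟙 Z : Z ⟶ Z) = 0 := hZ.eq_of_src _ _
  rw [h0, Groth.Agent.Helper13.TwistSES.map_zero_left] at h
  exact h.symm

omit [X.Over (Spec (CommRingCat.of k))] in
theorem subsingleton_HH_of_isZero (Z : X.Modules) (hz : IsZero Z) (p : ℕ) :
    Subsingleton (Coh.HH X Z p) := by
  have h0 : (𝟙 Z : Z ⟶ Z) = 0 := hz.eq_of_src _ _
  have key : ∀ y : Coh.HH X Z p, y = 0 := by
    intro y
    have h1 : Sheaf.H.map ((SheafOfModules.toSheaf X.ringCatSheaf).map (𝟙 Z)) p y = y := by
      have h : (SheafOfModules.toSheaf X.ringCatSheaf).map (𝟙 Z) = 𝟙 _ :=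
        CategoryTheory.Functor.map_id _ _
      exact (congrArg (fun f => Sheaf.H.map f p y) h).trans (Sheaf.H.map_id_apply y)
    have h2 : Sheaf.H.map ((SheafOfModules.toSheaf X.ringCatSheaf).map (0 : Z ⟶ Z)) p y = 0 := by
      have : (SheafOfModules.toSheaf X.ringCatSheaf).map (0 : Z ⟶ Z) = 0 := rfl
      rw [this]
      exact Groth.Agent.Helper9.PowKill.Hmap_zero p y
    rw [← h1, h0, h2]
  exact ⟨fun a b => (key a).trans (key b).symm⟩

theorem euler_eq_zero_of_isZero (Z : X.Modules) (hz : IsZero Z) : Curv2.euler k X Z = 0 := by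
  unfold Curv2.euler
  apply finsum_eq_zero_of_forall_eq_zero
  intro i
  haveI := subsingleton_HH_of_isZero X Z hz i
  rw [Module.finrank_zero_of_subsingleton]
  simp

theorem hilbPoly_eq_zero_of_isZero (Z : X.Modules) (hz : IsZero Z) (p : ℚ[X])
    (hp : ShStab.IsHilbPoly k X L Z p) : p = 0 := by
  apply poly_eq_of_eval_nat
  intro m
  rw [← hp m, euler_eq_zero_of_isZero k X _ (isZero_twist X L Z hz m)]
  simp

/-- the one-variable Snapper polynomial as a univariate polynomial -/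
theorem exists_hilbPoly_of_snapper (F : X.Modules) (d : ℕ)
    (hs : ∃ P : MvPolynomial (Fin 1) ℚ, P.totalDegree ≤ d ∧
      ∀ n : Fin 1 → ℕ, (Curv2.euler k X (Curv2.tensorPows F 1 (fun _ => L) n) : ℚ) =
        MvPolynomial.eval (fun i => (n i : ℚ)) P) :
    ∃ p : ℚ[X], p.natDegree ≤ d ∧ ShStab.IsHilbPoly k X L F p := by
  obtain ⟨P, hP1, hP2⟩ := hs
  refine ⟨MvPolynomial.aeval (fun _ : Fin 1 => (Polynomial.X : ℚ[X])) P, ?_, ?_⟩
  · have := MvPolynomial.aeval_natDegree_le (m := d) (n := 1) P hP1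
      (fun _ : Fin 1 => (Polynomial.X : ℚ[X])) (fun _ => by simp)
    simpa using this
  · intro m
    have h1 := hP2 (fun _ => m)
    have h2 : Curv2.tensorPows F 1 (fun _ => L) (fun _ => m) = ShStab.twist X L F m := rfl
    rw [h2] at h1
    rw [h1]
    have key : ∀ P : MvPolynomial (Fin 1) ℚ,
        (MvPolynomial.eval fun _ : Fin 1 => (m : ℚ)) P =
          Polynomial.eval (m : ℚ) (MvPolynomial.aeval (fun _ : Fin 1 => (Polynomial.X : ℚ[X])) P) := by
      intro P
      induction P using MvPolynomial.induction_on with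
      | C a => simp
      | add p q hp hq => simp [hp, hq]
      | mul_X p i hp => simp [hp]
    exact key P

end Sheaf

section Main

variable (k : Type u) [Field k] (X : Scheme.{u}) [X.Over (Spec (CommRingCat.of k))]
  (L : X.Modules)

/-- the conclusion of Snapper's theorem (`S1528`) for one invertible module, as a hypothesis -/
def Snap (d : ℕ) : Prop :=
  ∀ F : X.Modules, Coh.IsCoh F → topologicalKrullDim (CohB1.support F) ≤ (d : WithBot ℕ∞) →
    ∃ P : MvPolynomial (Fin 1) ℚ, P.totalDegree ≤ d ∧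
      ∀ n : Fin 1 → ℕ, (Curv2.euler k X (Curv2.tensorPows F 1 (fun _ => L) n) : ℚ) =
        MvPolynomial.eval (fun i => (n i : ℚ)) P

theorem natDegree_le_of_isHilbPoly (d : ℕ) (hs : Snap k X L d) (F : X.Modules)
    (hF : Coh.IsCoh F) (hdim : topologicalKrullDim (CohB1.support F) ≤ (d : WithBot ℕ∞))
    (p : ℚ[X]) (hp : ShStab.IsHilbPoly k X L F p) : p.natDegree ≤ d := by
  obtain ⟨q, hq1, hq2⟩ := exists_hilbPoly_of_snapper k X L F d (hs F hF hdim)
  rw [hilbPoly_unique k X L F p q hp hq2]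
  exact hq1

theorem krullDim_empty_add_one_ne (d : ℕ) :
    topologicalKrullDim ↥(∅ : Set X) + 1 ≠ (d : WithBot ℕ∞) := by
  have : IsEmpty (TopologicalSpace.IrreducibleCloseds ↥(∅ : Set X)) := ⟨fun s => by
    obtain ⟨x, _⟩ := s.isIrreducible.nonempty
    exact x.2⟩
  have h : topologicalKrullDim ↥(∅ : Set X) = ⊥ := by
    unfold topologicalKrullDim
    exact Order.krullDim_eq_bot
  rw [h, WithBot.bot_add]
  exact WithBot.bot_ne_natCast d

theorem natCast_add_one_ne (d : ℕ) : ((d : WithBot ℕ∞) + 1) ≠ (d : WithBot ℕ∞) := by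
  intro h
  have h1 : ((d + 1 : ℕ) : WithBot ℕ∞) = ((d : ℕ) : WithBot ℕ∞) := by
    rw [← h]; push_cast; rfl
  have h2 : (((d + 1 : ℕ) : ℕ∞) : WithBot ℕ∞) = (((d : ℕ) : ℕ∞) : WithBot ℕ∞) := h1
  have h3 := WithBot.coe_injective h2
  have h4 := Nat.cast_injective (R := ℕ∞) h3
  omega

/-- semistable implies slope-semistable, given Snapper's theorem -/
theorem main15210 (d : ℕ) (hd : 1 ≤ d) (hX : topologicalKrullDim X = (d : WithBot ℕ∞))
    (hs : Snap k X L d) (E : X.Modules) (hE : ShStab.IsSemistable k X L E d) :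
    ShStab.IsMuSemistable k X L E d := by
  obtain ⟨hcoh, hnz, hpure, hss⟩ := hE
  have hdimle : ∀ F : X.Modules,
      topologicalKrullDim (CohB1.support F) ≤ (d : WithBot ℕ∞) := fun F => by
    rw [← hX]
    exact topologicalKrullDim_subspace_le X _
  refine ⟨hcoh, hnz, hpure E (𝟙 E) inferInstance hcoh hnz, ?_, ?_⟩
  · intro F ι hm hF
    by_cases hz : IsZero F
    · rw [(Groth.Agent.Helper13.Pullback.isZero_iff_support_eq_empty F).1 hz]
      exact krullDim_empty_add_one_ne X d
    · rw [hpure F ι hm hF hz]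
      exact natCast_add_one_ne d
  · intro F ι hm hF pF pE hpF hpE h1 h2
    have hFnz : ¬ IsZero F := fun hz => by
      rw [hilbPoly_eq_zero_of_isZero k X L F hz pF hpF] at h1
      simp [StabCat.alpha] at h1
    have hni : ¬ IsIso ι := fun hi => by
      haveI := hi
      have := isHilbPoly_of_iso k X L (asIso ι) pF hpF
      rw [hilbPoly_unique k X L E pF pE this hpE] at h2
      exact lt_irrefl _ h2
    have hred := hss F ι hm hF hFnz hni pF pE hpF hpE
    exact hatSlope_le_of_redLE d hd pF pE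
      (natDegree_le_of_isHilbPoly k X L d hs F hF (hdimle F) pF hpF)
      (natDegree_le_of_isHilbPoly k X L d hs E hcoh (hdimle E) pE hpE) hred h1 (lt_trans h1 h2)

/-- uniqueness of the maximal destabilising submodule, given Snapper's theorem -/
theorem main15201 (d : ℕ) (hs : Snap k X L d) (E : X.Modules) (hp : ShStab.IsPure X E d)
    (F₁ F₂ : X.Modules) (ι₁ : F₁ ⟶ E) (ι₂ : F₂ ⟶ E) (h₁ : ShStab.IsMaxDestab k X L E d F₁ ι₁)
    (h₂ : ShStab.IsMaxDestab k X L E d F₂ ι₂) : ∃ e : F₁ ≅ F₂, e.hom ≫ ι₂ = ι₁ := by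
  obtain ⟨hm1, hc1, hz1, hmax1⟩ := h₁
  obtain ⟨hm2, hc2, hz2, hmax2⟩ := h₂
  obtain ⟨p1, -, hp1⟩ := exists_hilbPoly_of_snapper k X L F₁ d
    (hs F₁ hc1 (le_of_eq (hp F₁ ι₁ hm1 hc1 hz1)))
  obtain ⟨p2, -, hp2⟩ := exists_hilbPoly_of_snapper k X L F₂ d
    (hs F₂ hc2 (le_of_eq (hp F₂ ι₂ hm2 hc2 hz2)))
  obtain ⟨hle21, hfac21⟩ := hmax1 F₂ ι₂ hm2 hc2 hz2 p1 p2 hp1 hp2
  obtain ⟨hle12, hfac12⟩ := hmax2 F₁ ι₁ hm1 hc1 hz1 p2 p1 hp2 hp1
  obtain ⟨φ, hφ⟩ := hfac21 (redEq_of_redLE_redLE d p2 p1 hle21 hle12)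
  obtain ⟨ψ, hψ⟩ := hfac12 (redEq_of_redLE_redLE d p1 p2 hle12 hle21)
  haveI := hm1
  haveI := hm2
  refine ⟨⟨ψ, φ, ?_, ?_⟩, hψ⟩
  · rw [← cancel_mono ι₁, Category.assoc, hφ, hψ, Category.id_comp]
  · rw [← cancel_mono ι₂, Category.assoc, hψ, hφ, Category.id_comp]

end Main

end Groth.Agent.Helper25.ShStabFormal
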