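import Mathlib
import Groth.Prelude.Def_QuadSing

/-!
# The Jacobian ideal of a nondegenerate quadratic power series is the maximal ideal
-/

namespace Groth.Agent.Helper25.JacIdeal

open MvPowerSeries

open scoped Classical

universe u

variable {k : Type u} [Field k] {N : ℕ}

/-- the part of `h` made of monomials whose first variable is `X i` -/
noncomputable def part (i : Fin N) (h : MvPowerSeries (Fin N) k) : MvPowerSeries (Fin N) k :=
  fun m => if (∀ j, j < i → m j = 0) ∧ m i ≠ 0 then coeff m h else 0

theorem coeff_part (i : Fin N) (h : MvPowerSeries (Fin N) k) (m : Fin N →₀ ℕ) :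
    coeff m (part i h) = if (∀ j, j < i → m j = 0) ∧ m i ≠ 0 then coeff m h else 0 := rfl

theorem decomp (h : MvPowerSeries (Fin N) k) :
    h = C (constantCoeff h) + ∑ i, part i h := by
  ext m
  rw [map_add, map_sum, coeff_C]
  by_cases hm : m = 0
  · have hs : ∑ i, coeff m (part i h) = 0 := by
      apply Finset.sum_eq_zero
      intro i _
      rw [coeff_part, if_neg]
      rintro ⟨-, h2⟩
      exact h2 (by rw [hm]; rfl)
    rw [if_pos hm, hs, add_zero, hm, coeff_zero_eq_constantCoeff_apply]
  · rw [if_neg hm, zero_add]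
    have hne : (Finset.univ.filter (fun i : Fin N => m i ≠ 0)).Nonempty := by
      by_contra hcon
      rw [Finset.not_nonempty_iff_eq_empty] at hcon
      apply hm
      ext i
      by_contra hi
      have h1 : i ∈ Finset.univ.filter (fun i : Fin N => m i ≠ 0) :=
        Finset.mem_filter.mpr ⟨Finset.mem_univ _, hi⟩
      rw [hcon] at h1
      exact absurd h1 (Finset.notMem_empty _)
    obtain ⟨i0, hi0⟩ : ∃ i0, i0 = (Finset.univ.filter (fun i : Fin N => m i ≠ 0)).min' hne :=
      ⟨_, rfl⟩
    have hi0mem : m i0 ≠ 0 := by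
      rw [hi0]
      exact (Finset.mem_filter.mp (Finset.min'_mem _ hne)).2
    have hi0min : ∀ j, m j ≠ 0 → i0 ≤ j := by
      intro j hj
      rw [hi0]
      exact Finset.min'_le _ j (Finset.mem_filter.mpr ⟨Finset.mem_univ _, hj⟩)
    rw [Finset.sum_eq_single i0]
    · rw [coeff_part, if_pos]
      refine ⟨fun j hj => ?_, hi0mem⟩
      by_contra hj0
      exact absurd (hi0min j hj0) (not_le.mpr hj)
    · intro i _ hi
      rw [coeff_part, if_neg]
      rintro ⟨h1, h2⟩
      have hle := hi0min i h2
      have hlt : i0 < i := lt_of_le_of_ne hle (Ne.symm hi)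
      exact hi0mem (h1 i0 hlt)
    · intro h'
      exact absurd (Finset.mem_univ _) h'

theorem mem_pow (t : ℕ) : ∀ h : MvPowerSeries (Fin N) k,
    (∀ m : Fin N →₀ ℕ, m.degree < t → coeff m h = 0) →
    h ∈ (Ideal.span (Set.range (X : Fin N → MvPowerSeries (Fin N) k))) ^ t := by
  induction t with
  | zero =>
    intro h _
    rw [pow_zero, Ideal.one_eq_top]
    exact Submodule.mem_top
  | succ t ih =>
    intro h hh
    have h0 : constantCoeff h = 0 := by
      rw [← coeff_zero_eq_constantCoeff_apply]
      exact hh 0 (by rw [map_zero]; exact Nat.succ_pos t)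
    rw [decomp h, h0, map_zero, zero_add]
    refine Ideal.sum_mem _ fun i _ => ?_
    have hdvd : X i ∣ part i h := by
      rw [X_dvd_iff]
      intro m hm
      rw [coeff_part, if_neg]
      rintro ⟨-, h2⟩
      exact h2 hm
    obtain ⟨q, hq⟩ := hdvd
    have hq' : q ∈ (Ideal.span (Set.range (X : Fin N → MvPowerSeries (Fin N) k))) ^ t := by
      apply ih
      intro n hn
      have h1 : coeff (Finsupp.single i 1 + n) (part i h) = coeff n q := by
        rw [hq, X_def, coeff_add_monomial_mul, one_mul]
      rw [← h1, coeff_part]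
      split_ifs with hc
      · apply hh
        rw [map_add, Finsupp.degree_single]
        omega
      · rfl
    rw [hq, pow_succ']
    exact Ideal.mul_mem_mul (Ideal.subset_span ⟨i, rfl⟩) hq'

theorem degree_one (m : Fin N →₀ ℕ) (hm : m.degree = 1) : ∃ j, m = Finsupp.single j 1 := by
  have hne : m ≠ 0 := by
    rintro rfl
    rw [map_zero] at hm
    exact absurd hm (by norm_num)
  obtain ⟨j, hj⟩ : ∃ j, m j ≠ 0 := by
    by_contra hcon
    push Not at hcon
    exact hne (Finsupp.ext hcon)
  refine ⟨j, ?_⟩
  have hle : Finsupp.single j 1 ≤ m :=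
    Finsupp.single_le_iff.mpr (Nat.one_le_iff_ne_zero.mpr hj)
  have h1 : m = Finsupp.single j 1 + (m - Finsupp.single j 1) :=
    (add_tsub_cancel_of_le hle).symm
  have h2 : (m - Finsupp.single j 1).degree = 0 := by
    have h3 := congrArg Finsupp.degree h1
    rw [map_add, Finsupp.degree_single, hm] at h3
    omega
  rw [(Finsupp.degree_eq_zero_iff _).mp h2, add_zero] at h1
  exact h1

theorem main (f : MvPowerSeries (Fin N) k) (hf : VanCyc.NondegQuadSeries f) :
    Ideal.span (Set.range fun i : Fin N => pderiv k i f) =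
      IsLocalRing.maximalIdeal (MvPowerSeries (Fin N) k) := by
  obtain ⟨⟨hf0, hf1⟩, hnd⟩ := hf
  obtain ⟨P, hP⟩ : ∃ P, P = VanCyc.polarMatrix (VanCyc.quadPart f) := ⟨_, rfl⟩
  have hdet : IsUnit P.det := by rw [hP]; exact hnd
  have hmem_max : ∀ g : MvPowerSeries (Fin N) k,
      g ∈ IsLocalRing.maximalIdeal (MvPowerSeries (Fin N) k) ↔ constantCoeff g = 0 := by
    intro g
    rw [IsLocalRing.mem_maximalIdeal, mem_nonunits_iff, isUnit_iff_constantCoeff,
      isUnit_iff_ne_zero, not_not]
  have hmax : IsLocalRing.maximalIdeal (MvPowerSeries (Fin N) k) =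
      Ideal.span (Set.range (X : Fin N → MvPowerSeries (Fin N) k)) := by
    apply le_antisymm
    · intro g hg
      have h1 := mem_pow 1 g (fun m hm => by
        have h2 : m = 0 := (Finsupp.degree_eq_zero_iff m).mp (by omega)
        rw [h2, coeff_zero_eq_constantCoeff_apply]
        exact (hmem_max g).mp hg)
      rwa [pow_one] at h1
    · rw [Ideal.span_le]
      rintro _ ⟨i, rfl⟩
      exact (hmem_max _).mpr (constantCoeff_X i)
  -- key: linear parts
  have key : ∀ i, pderiv k i f - ∑ l, C (P i l) * X l ∈
      (Ideal.span (Set.range (X : Fin N → MvPowerSeries (Fin N) k))) ^ 2 := by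
    intro i
    apply mem_pow 2
    intro m hm
    rw [map_sub, map_sum, coeff_pderiv, sub_eq_zero]
    have hdeg : m.degree = 0 ∨ m.degree = 1 := by omega
    rcases hdeg with h0 | h1
    · have h2 : m = 0 := (Finsupp.degree_eq_zero_iff m).mp h0
      subst h2
      rw [zero_add, hf1 i, zero_mul]
      symm
      apply Finset.sum_eq_zero
      intro l _
      rw [← smul_eq_C_mul, map_smul, coeff_zero_X, smul_zero]
    · obtain ⟨j, rfl⟩ := degree_one m h1
      have hsum : ∑ l, coeff (Finsupp.single j 1) (C (P i l) * X l) = P i j := by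
        rw [Finset.sum_eq_single j]
        · rw [← smul_eq_C_mul, map_smul, coeff_index_single_self_X, smul_eq_mul, mul_one]
        · intro l _ hl
          rw [← smul_eq_C_mul, map_smul, coeff_index_single_X, if_neg (Ne.symm hl), smul_zero]
        · intro h
          exact absurd (Finset.mem_univ _) h
      rw [hsum]
      by_cases hij : i = j
      · subst hij
        have hPii : P i i = 2 * coeff (Finsupp.single i 2) f := by
          simp only [hP, VanCyc.polarMatrix, VanCyc.quadPart, ↓reduceIte]
        rw [hPii, Finsupp.single_eq_same, ← Finsupp.single_add, Nat.cast_one,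
          one_add_one_eq_two, mul_comm, one_add_one_eq_two]
      · have e1 : (Finsupp.single j 1 : Fin N →₀ ℕ) i = 0 := by
          rw [Finsupp.single_apply, if_neg (fun h => hij h.symm)]
        have hPij : P i j = coeff (Finsupp.single j 1 + Finsupp.single i 1) f := by
          rcases lt_or_gt_of_ne hij with hlt | hgt
          · simp only [hP, VanCyc.polarMatrix, VanCyc.quadPart, if_neg hij, if_pos hlt]
            rw [add_comm]
          · have hji : j ≠ i := Ne.symm hij
            simp only [hP, VanCyc.polarMatrix, VanCyc.quadPart, if_neg hij,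
              if_neg (not_lt.mpr hgt.le), if_neg hji, if_pos hgt]
        rw [hPij, e1, Nat.cast_zero, zero_add, mul_one]
  have hJle : Ideal.span (Set.range fun i : Fin N => pderiv k i f) ≤
      IsLocalRing.maximalIdeal (MvPowerSeries (Fin N) k) := by
    rw [Ideal.span_le]
    rintro _ ⟨i, rfl⟩
    apply (hmem_max _).mpr
    rw [← coeff_zero_eq_constantCoeff_apply, coeff_pderiv, zero_add, hf1 i, zero_mul]
  apply le_antisymm hJle
  have hfg : (IsLocalRing.maximalIdeal (MvPowerSeries (Fin N) k)).FG := by
    rw [hmax]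
    refine ⟨Finset.univ.image X, ?_⟩
    rw [Finset.coe_image, Finset.coe_univ, Set.image_univ]
  apply Submodule.le_of_le_smul_of_le_jacobson_bot hfg
    (IsLocalRing.jacobson_eq_maximalIdeal ⊥ bot_ne_top).ge
  conv_lhs => rw [hmax]
  rw [Ideal.span_le]
  rintro _ ⟨j, rfl⟩
  have hPinv : P⁻¹ * P = 1 := Matrix.nonsing_inv_mul P hdet
  have hX : (X j : MvPowerSeries (Fin N) k) = ∑ i, C (P⁻¹ j i) * pderiv k i f -
      ∑ i, C (P⁻¹ j i) * (pderiv k i f - ∑ l, C (P i l) * X l) := by
    rw [← Finset.sum_sub_distrib]
    simp_rw [← mul_sub, sub_sub_cancel, Finset.mul_sum]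
    rw [Finset.sum_comm]
    have h1 : ∀ l, ∑ i, C (P⁻¹ j i) * (C (P i l) * X l) =
        C ((P⁻¹ * P) j l) * (X l : MvPowerSeries (Fin N) k) := by
      intro l
      rw [Matrix.mul_apply, map_sum, Finset.sum_mul]
      refine Finset.sum_congr rfl fun i _ => ?_
      rw [map_mul, mul_assoc]
    simp_rw [h1, hPinv, Matrix.one_apply]
    rw [Finset.sum_eq_single j]
    · rw [if_pos rfl, map_one, one_mul]
    · intro l _ hl
      rw [if_neg (Ne.symm hl), map_zero, zero_mul]
    · intro h
      exact absurd (Finset.mem_univ _) h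
  rw [SetLike.mem_coe, hX]
  apply Submodule.sub_mem
  · apply le_sup_left (a := Ideal.span (Set.range fun i : Fin N => pderiv k i f))
    refine Ideal.sum_mem _ fun i _ => Ideal.mul_mem_left _ _ (Ideal.subset_span ⟨i, rfl⟩)
  · apply le_sup_right (b := IsLocalRing.maximalIdeal (MvPowerSeries (Fin N) k) •
      IsLocalRing.maximalIdeal (MvPowerSeries (Fin N) k))
    refine Ideal.sum_mem _ fun i _ => Ideal.mul_mem_left _ _ ?_
    rw [smul_eq_mul, ← pow_two, hmax]
    exact key i

end Groth.Agent.Helper25.JacIdeal
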