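import Mathlib

/-!
# Helper25: faithfully flat descent of elements of modules (single covers and finite families)
-/

set_option autoImplicit false

namespace Groth.Agent.Helper25.Desc

open TensorProduct

section Single

variable (R : Type*) [CommRing R] (S : Type*) [CommRing S] [Algebra R S]
  (T : Type*) [CommRing T] [Algebra R T] (M : Type*) [AddCommGroup M] [Module R M]

/-- `s ⊗ m ↦ (s ⊗ 1) ⊗ m` -/
noncomputable def dL : S ⊗[R] M →ₗ[R] (S ⊗[R] T) ⊗[R] M :=
  (Algebra.TensorProduct.includeLeft : S →ₐ[R] S ⊗[R] T).toLinearMap.rTensor M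

/-- `t ⊗ m ↦ (1 ⊗ t) ⊗ m` -/
noncomputable def dR : T ⊗[R] M →ₗ[R] (S ⊗[R] T) ⊗[R] M :=
  (Algebra.TensorProduct.includeRight : T →ₐ[R] S ⊗[R] T).toLinearMap.rTensor M

theorem dL_tmul (s : S) (m : M) :
    dL R S T M (s ⊗ₜ[R] m) = (s ⊗ₜ[R] (1 : T)) ⊗ₜ[R] m := rfl

theorem dR_tmul (t : T) (m : M) :
    dR R S T M (t ⊗ₜ[R] m) = ((1 : S) ⊗ₜ[R] t) ⊗ₜ[R] m := rfl

/-- `t ⊗ (a ⊗ m) ↦ (t * a) ⊗ m` -/
noncomputable def contr : T ⊗[R] (T ⊗[R] M) →ₗ[R] T ⊗[R] M :=
  (LinearMap.mul' R T).rTensor M ∘ₗ (TensorProduct.assoc R T T M).symm.toLinearMap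

theorem contr_tmul (t a : T) (m : M) :
    contr R T M (t ⊗ₜ[R] (a ⊗ₜ[R] m)) = (t * a) ⊗ₜ[R] m := by
  simp [contr]

/-- `t ⊗ ((a ⊗ b) ⊗ m) ↦ (t * a) ⊗ (b ⊗ m)` -/
noncomputable def contr' : T ⊗[R] ((T ⊗[R] T) ⊗[R] M) →ₗ[R] T ⊗[R] (T ⊗[R] M) :=
  (contr R T (T ⊗[R] M)) ∘ₗ ((TensorProduct.assoc R T T M).toLinearMap).lTensor T

theorem contr'_tmul (t a b : T) (m : M) :
    contr' R T M (t ⊗ₜ[R] ((a ⊗ₜ[R] b) ⊗ₜ[R] m)) = (t * a) ⊗ₜ[R] (b ⊗ₜ[R] m) := by
  simp [contr', contr_tmul]

theorem contr_key (y : T ⊗[R] (T ⊗[R] M)) :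
    contr' R T M ((dL R T T M - dR R T T M).lTensor T y) =
      (TensorProduct.mk R T M 1).lTensor T (contr R T M y) - y := by
  induction y using TensorProduct.induction_on with
  | zero => simp
  | tmul t z =>
    induction z using TensorProduct.induction_on with
    | zero => simp
    | tmul a m =>
      rw [LinearMap.lTensor_tmul, LinearMap.sub_apply, dL_tmul, dR_tmul, TensorProduct.tmul_sub,
        map_sub, contr'_tmul, contr'_tmul, contr_tmul, LinearMap.lTensor_tmul,
        TensorProduct.mk_apply, mul_one]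
    | add z z' hz hz' =>
      simp only [TensorProduct.tmul_add, map_add, hz, hz']
      abel
  | add y y' hy hy' =>
    simp only [map_add, hy, hy']
    abel

theorem exact_single [Module.FaithfullyFlat R T] :
    Function.Exact (TensorProduct.mk R T M 1) (dL R T T M - dR R T T M) := by
  apply Module.FaithfullyFlat.lTensor_reflects_exact R T
  intro y
  constructor
  · intro hy
    refine ⟨contr R T M y, ?_⟩
    have h := contr_key R T M y
    rw [hy, map_zero] at h
    exact sub_eq_zero.mp h.symm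
  · rintro ⟨z, rfl⟩
    rw [← LinearMap.comp_apply, ← LinearMap.lTensor_comp]
    have h0 : (dL R T T M - dR R T T M) ∘ₗ (TensorProduct.mk R T M 1) = 0 := by
      apply LinearMap.ext
      intro m
      rw [LinearMap.comp_apply, TensorProduct.mk_apply, LinearMap.sub_apply, dL_tmul, dR_tmul,
        sub_self]
      rfl
    rw [h0, LinearMap.lTensor_zero]
    rfl

/-- faithfully flat descent of elements of a module -/
theorem desc_single [Module.FaithfullyFlat R T] (x : T ⊗[R] M)
    (h : dL R T T M x = dR R T T M x) : ∃ m : M, (1 : T) ⊗ₜ[R] m = x := by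
  have h1 : (dL R T T M - dR R T T M) x = 0 := by rw [LinearMap.sub_apply, h, sub_self]
  obtain ⟨m, hm⟩ := (exact_single R T M x).mp h1
  exact ⟨m, hm⟩

end Single

section Family

variable (R : Type*) [CommRing R] {ι : Type*} [Fintype ι] [DecidableEq ι]
  (T : ι → Type*) [∀ i, CommRing (T i)] [∀ i, Algebra R (T i)]
  (M : Type*) [AddCommGroup M] [Module R M]

theorem recon1 (z : (Π i, T i) ⊗[R] M) :
    z = ∑ i, (LinearMap.single R T i).rTensor M ((LinearMap.proj i).rTensor M z) := by
  induction z using TensorProduct.induction_on with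
  | zero => simp
  | tmul p m =>
    simp only [LinearMap.rTensor_tmul, LinearMap.proj_apply, LinearMap.coe_single]
    rw [← TensorProduct.sum_tmul, LinearMap.sum_single_apply]
  | add z z' hz hz' =>
    simp only [map_add, Finset.sum_add_distrib]
    rw [← hz, ← hz']

theorem inj_family [Module.FaithfullyFlat R (Π i, T i)] (m : M)
    (h : ∀ i, (1 : T i) ⊗ₜ[R] m = 0) : m = 0 := by
  have h1 : (1 : Π i, T i) ⊗ₜ[R] m = 0 := by
    rw [recon1 R T M ((1 : Π i, T i) ⊗ₜ[R] m)]
    apply Finset.sum_eq_zero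
    intro i _
    rw [LinearMap.rTensor_tmul, LinearMap.proj_apply, Pi.one_apply, h i, map_zero]
  apply Module.FaithfullyFlat.tensorProduct_mk_injective (A := R) (B := Π i, T i) M
  rw [TensorProduct.mk_apply, h1, map_zero]

theorem recon2 (z : ((Π i, T i) ⊗[R] (Π i, T i)) ⊗[R] M) :
    z = ∑ i, ∑ j,
      (TensorProduct.map (LinearMap.single R T i) (LinearMap.single R T j)).rTensor M
        ((TensorProduct.map (LinearMap.proj i : (Π i, T i) →ₗ[R] T i)
          (LinearMap.proj j : (Π i, T i) →ₗ[R] T j)).rTensor M z) := by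
  induction z using TensorProduct.induction_on with
  | zero => simp
  | tmul w m =>
    induction w using TensorProduct.induction_on with
    | zero => simp
    | tmul p q =>
      simp only [LinearMap.rTensor_tmul, TensorProduct.map_tmul, LinearMap.proj_apply,
        LinearMap.coe_single]
      simp_rw [← TensorProduct.sum_tmul, ← TensorProduct.tmul_sum]
      rw [← TensorProduct.sum_tmul, LinearMap.sum_single_apply, LinearMap.sum_single_apply]
    | add w w' hw hw' =>
      simp only [TensorProduct.add_tmul, map_add, Finset.sum_add_distrib]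
      rw [← hw, ← hw']
  | add z z' hz hz' =>
    simp only [map_add, Finset.sum_add_distrib]
    rw [← hz, ← hz']

omit [Fintype ι] [DecidableEq ι] in
theorem proj_dL (i j : ι) (X : (Π i, T i) ⊗[R] M) :
    (TensorProduct.map (LinearMap.proj i : (Π i, T i) →ₗ[R] T i)
        (LinearMap.proj j : (Π i, T i) →ₗ[R] T j)).rTensor M
      (dL R (Π i, T i) (Π i, T i) M X) =
      dL R (T i) (T j) M ((LinearMap.proj i).rTensor M X) := by
  induction X using TensorProduct.induction_on with
  | zero => simp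
  | tmul p m =>
    rw [dL_tmul, LinearMap.rTensor_tmul, TensorProduct.map_tmul, LinearMap.rTensor_tmul, dL_tmul,
      LinearMap.proj_apply, LinearMap.proj_apply, Pi.one_apply]
  | add x y hx hy => rw [map_add, map_add, hx, hy, map_add, map_add]

omit [Fintype ι] [DecidableEq ι] in
theorem proj_dR (i j : ι) (X : (Π i, T i) ⊗[R] M) :
    (TensorProduct.map (LinearMap.proj i : (Π i, T i) →ₗ[R] T i)
        (LinearMap.proj j : (Π i, T i) →ₗ[R] T j)).rTensor M
      (dR R (Π i, T i) (Π i, T i) M X) =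
      dR R (T i) (T j) M ((LinearMap.proj j).rTensor M X) := by
  induction X using TensorProduct.induction_on with
  | zero => simp
  | tmul p m =>
    rw [dR_tmul, LinearMap.rTensor_tmul, TensorProduct.map_tmul, LinearMap.rTensor_tmul, dR_tmul,
      LinearMap.proj_apply, LinearMap.proj_apply, Pi.one_apply]
  | add x y hx hy => rw [map_add, map_add, hx, hy, map_add, map_add]

/-- descent of a compatible family of elements along a finite faithfully flat family -/
theorem desc_family [Module.FaithfullyFlat R (Π i, T i)] (x : ∀ i, T i ⊗[R] M)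
    (h : ∀ i j, dL R (T i) (T j) M (x i) = dR R (T i) (T j) M (x j)) :
    ∃ m : M, ∀ i, (1 : T i) ⊗ₜ[R] m = x i := by
  obtain ⟨X, hXdef⟩ : ∃ X : (Π i, T i) ⊗[R] M,
      X = ∑ i, (LinearMap.single R T i).rTensor M (x i) := ⟨_, rfl⟩
  have hX : ∀ j, (LinearMap.proj j).rTensor M X = x j := by
    intro j
    rw [hXdef, map_sum, Finset.sum_eq_single j]
    · rw [← LinearMap.comp_apply, ← LinearMap.rTensor_comp, LinearMap.proj_comp_single_same,
        LinearMap.rTensor_id, LinearMap.id_apply]
    · intro i _ hij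
      rw [← LinearMap.comp_apply, ← LinearMap.rTensor_comp,
        LinearMap.proj_comp_single_ne R T j i (Ne.symm hij), LinearMap.rTensor_zero,
        LinearMap.zero_apply]
    · intro hj
      exact absurd (Finset.mem_univ j) hj
  have hd : dL R (Π i, T i) (Π i, T i) M X = dR R (Π i, T i) (Π i, T i) M X := by
    rw [recon2 R T M (dL R (Π i, T i) (Π i, T i) M X),
      recon2 R T M (dR R (Π i, T i) (Π i, T i) M X)]
    refine Finset.sum_congr rfl (fun i _ => Finset.sum_congr rfl (fun j _ => ?_))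
    rw [proj_dL, proj_dR, hX, hX, h i j]
  obtain ⟨m, hm⟩ := desc_single R (Π i, T i) M X hd
  refine ⟨m, fun i => ?_⟩
  rw [← hX i, ← hm, LinearMap.rTensor_tmul, LinearMap.proj_apply, Pi.one_apply]

/-- a finite product of flat algebras which is jointly faithful is faithfully flat -/
theorem pi_faithfullyFlat [∀ i, Module.Flat R (T i)]
    (h : ∀ m : Ideal R, m.IsMaximal → ∃ i, m • (⊤ : Submodule R (T i)) ≠ ⊤) :
    Module.FaithfullyFlat R (Π i, T i) := by
  have : Module.Flat R (Π i, T i) :=
    Module.Flat.of_linearEquiv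
      (DFinsupp.linearEquivFunOnFintype : (Π₀ i, T i) ≃ₗ[R] (Π i, T i)).symm
  refine ⟨fun m hm htop => ?_⟩
  obtain ⟨i, hi⟩ := h m hm
  apply hi
  have h1 := Submodule.map_smul'' m (⊤ : Submodule R (Π i, T i))
    (LinearMap.proj i : (Π i, T i) →ₗ[R] T i)
  rw [htop, Submodule.map_top, LinearMap.range_eq_top.mpr (LinearMap.proj_surjective i)] at h1
  exact h1.symm

end Family

end Groth.Agent.Helper25.Desc
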