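import Mathlib
import Groth.Prelude.Def_HopfRep
import Groth.Agent.Lib.Helper6.MT1
import Groth.Agent.Lib.Helper22.MultType1
import Groth.Agent.Lib.Helper22.MultType2Old

/-!
# Helper25: descent of homomorphisms of groups of multiplicative type along purely inseparable
field extensions (rigidity modulo nilpotents + faithfully flat descent).
-/

set_option autoImplicit false

namespace Groth.Agent.Helper25.PIDescent

open TensorProduct

universe u

section Rigid

variable {T : Type*} [CommRing T] {C : Type*} [AddCommGroup C] [Module T C] [Coalgebra T C]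
  {D : Type*} [CommRing D] [Bialgebra T D] {M : Type*} [Monoid M]
  (β : Module.Basis M T D) (hβ : ∀ g, IsGroupLikeElem T (β g))

/-- the linear equivalence with the monoid algebra determined by a basis -/
noncomputable def toMA : D ≃ₗ[T] MonoidAlgebra T M :=
  β.equiv (MonoidAlgebra.basis M T) (Equiv.refl M)

theorem toMA_basis (g : M) : toMA β (β g) = MonoidAlgebra.single g (1 : T) := by
  unfold toMA
  rw [Module.Basis.equiv_apply, Equiv.refl_apply, MonoidAlgebra.basis_apply]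

include hβ in
theorem toMA_counit :
    Coalgebra.counit ∘ₗ (toMA β).toLinearMap = (Coalgebra.counit : D →ₗ[T] T) := by
  apply β.ext
  intro g
  rw [LinearMap.comp_apply, LinearEquiv.coe_coe, toMA_basis, (hβ g).counit_eq_one]
  exact (MonoidAlgebra.isGroupLikeElem_single_one (R := T) (A := T) g).counit_eq_one

include hβ in
theorem toMA_comul :
    TensorProduct.map (toMA β).toLinearMap (toMA β).toLinearMap ∘ₗ Coalgebra.comul =
      Coalgebra.comul ∘ₗ (toMA β).toLinearMap := by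
  apply β.ext
  intro g
  rw [LinearMap.comp_apply, LinearMap.comp_apply, LinearEquiv.coe_coe, toMA_basis,
    (hβ g).comul_eq_tmul_self, TensorProduct.map_tmul, LinearEquiv.coe_coe, toMA_basis]
  exact ((MonoidAlgebra.isGroupLikeElem_single_one (R := T) (A := T) g).comul_eq_tmul_self).symm

/-- `toMA` as a coalgebra map -/
noncomputable def toMAc : D →ₗc[T] MonoidAlgebra T M :=
  { (toMA β).toLinearMap with
    counit_comp := toMA_counit β hβ
    map_comp_comul := toMA_comul β hβ }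

theorem toMAc_apply (x : D) : toMAc β hβ x = toMA β x := rfl

theorem apply_mem_of_mem_smul_top {J : Ideal T} {X : Type*} [AddCommGroup X] [Module T X]
    (ℓ : X →ₗ[T] T) {x : X} (hx : x ∈ J • (⊤ : Submodule T X)) : ℓ x ∈ J := by
  refine Submodule.smul_induction_on hx ?_ ?_
  · intro r hr n _
    rw [map_smul, smul_eq_mul]
    exact J.mul_mem_right _ hr
  · intro x y hx hy
    rw [map_add]
    exact J.add_mem hx hy

include hβ in
/-- rigidity: coalgebra maps into a bialgebra with a basis of group-like elements which agree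
modulo a nilpotent ideal are equal -/
theorem rigid [Coalgebra.IsCocomm T C] {J : Ideal T} (hJ : IsNilpotent J) (Ψ₁ Ψ₂ : C →ₗc[T] D)
    (h : ∀ c, Ψ₁ c - Ψ₂ c ∈ J • (⊤ : Submodule T D)) (c : C) : Ψ₁ c = Ψ₂ c := by
  apply (toMA β).injective
  have key := Groth.Agent.Helper22.MultType.coalgHom_eq_of_nilpotent hJ
    ((toMAc β hβ).comp Ψ₁) ((toMAc β hβ).comp Ψ₂) ?_ c
  · exact key
  · intro c m
    show (toMA β (Ψ₁ c)).coeff m - (toMA β (Ψ₂ c)).coeff m ∈ J
    have h1 := apply_mem_of_mem_smul_top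
      ((Groth.Agent.Helper22.MultType.pi m) ∘ₗ (toMA β).toLinearMap) (h c)
    rw [map_sub] at h1
    exact h1

end Rigid

section GLBasis

variable {k : Type u} [Field k] (Ω : Type u) [Field Ω] [Algebra k Ω]
  {A : Type u} [CommRing A] [HopfAlgebra k A]
  (T : Type u) [CommRing T] [Algebra k T] [Algebra Ω T] [IsScalarTower k Ω T]
  (hA : HopfRep.IsDiagonalizable Ω (Ω ⊗[k] A))

/-- basis of group-likes of `Ω ⊗ A` -/
noncomputable def basis0 : Module.Basis (GroupLike Ω (Ω ⊗[k] A)) Ω (Ω ⊗[k] A) :=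
  Module.Basis.mk (linearIndep_groupLikeVal (R := Ω) (A := Ω ⊗[k] A)) (by
    have hD' : Submodule.span Ω {a : Ω ⊗[k] A | IsGroupLikeElem Ω a} = ⊤ := hA
    rw [← hD']
    apply Submodule.span_mono
    intro a ha
    exact ⟨⟨a, ha⟩, rfl⟩)

theorem basis0_apply (g : GroupLike Ω (Ω ⊗[k] A)) : basis0 Ω hA g = g.val :=
  Module.Basis.mk_apply _ _ g

/-- the induced basis of group-likes of `T ⊗ A` -/
noncomputable def basisT : Module.Basis (GroupLike Ω (Ω ⊗[k] A)) T (T ⊗[k] A) :=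
  ((basis0 Ω hA).baseChange T).map
    (Algebra.TensorProduct.cancelBaseChange k Ω T T A).toLinearEquiv

theorem basisT_apply (g : GroupLike Ω (Ω ⊗[k] A)) :
    basisT Ω T hA g =
      Groth.Agent.Helper6.MT.cancelBC k Ω T A ((1 : T) ⊗ₜ[Ω] g.val) := by
  unfold basisT
  rw [Module.Basis.map_apply, Module.Basis.baseChange_apply, basis0_apply]
  rfl

theorem basisT_groupLike (g : GroupLike Ω (Ω ⊗[k] A)) :
    IsGroupLikeElem T (basisT Ω T hA g) := by
  rw [basisT_apply]
  exact (Groth.Agent.Helper6.MT.isGroupLikeElem_one_tmul g.isGroupLikeElem_val).map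
    (Groth.Agent.Helper6.MT.cancelBC k Ω T A)

end GLBasis

section BC

variable {k : Type u} [CommRing k] {K : Type u} [CommRing K] [Algebra k K]
  {A B : Type u} [CommRing A] [Bialgebra k A] [CommRing B] [Bialgebra k B]
  (T : Type u) [CommRing T] [Algebra k T] [Algebra K T] [IsScalarTower k K T]

/-- base change of a `K`-bialgebra map `K ⊗ B → K ⊗ A` to a `K`-algebra `T` -/
noncomputable def bcHom (φ : K ⊗[k] B →ₐc[K] K ⊗[k] A) : T ⊗[k] B →ₐc[T] T ⊗[k] A :=
  ((Groth.Agent.Helper6.MT.cancelBC k K T A).toBialgHom).comp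
    ((Bialgebra.TensorProduct.map (BialgHom.id T T) φ).comp
      ((Groth.Agent.Helper6.MT.cancelBC k K T B).symm.toBialgHom))

theorem cancelBC_one_tmul (x : K ⊗[k] A) :
    Groth.Agent.Helper6.MT.cancelBC k K T A ((1 : T) ⊗ₜ[K] x) =
      Algebra.TensorProduct.map (IsScalarTower.toAlgHom k K T) (AlgHom.id k A) x := by
  induction x using TensorProduct.induction_on with
  | zero => rw [TensorProduct.tmul_zero, map_zero, map_zero]
  | tmul c a =>
    show Algebra.TensorProduct.cancelBaseChange k K T T A ((1 : T) ⊗ₜ[K] (c ⊗ₜ[k] a)) = _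
    rw [Algebra.TensorProduct.cancelBaseChange_tmul, Algebra.TensorProduct.map_tmul,
      IsScalarTower.coe_toAlgHom', AlgHom.coe_id, id_eq, Algebra.algebraMap_eq_smul_one]
  | add x y hx hy => rw [TensorProduct.tmul_add, map_add, map_add, hx, hy]

theorem bcHom_one_tmul (φ : K ⊗[k] B →ₐc[K] K ⊗[k] A) (b : B) :
    bcHom T φ ((1 : T) ⊗ₜ[k] b) =
      Algebra.TensorProduct.map (IsScalarTower.toAlgHom k K T) (AlgHom.id k A)
        (φ ((1 : K) ⊗ₜ[k] b)) := by
  have h1 : (Groth.Agent.Helper6.MT.cancelBC k K T B).symm ((1 : T) ⊗ₜ[k] b) =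
      (1 : T) ⊗ₜ[K] ((1 : K) ⊗ₜ[k] b) := by
    have h0 : Groth.Agent.Helper6.MT.cancelBC k K T B ((1 : T) ⊗ₜ[K] ((1 : K) ⊗ₜ[k] b)) =
        (1 : T) ⊗ₜ[k] b := by
      show Algebra.TensorProduct.cancelBaseChange k K T T B
        ((1 : T) ⊗ₜ[K] ((1 : K) ⊗ₜ[k] b)) = _
      rw [Algebra.TensorProduct.cancelBaseChange_tmul, one_smul]
    rw [← h0, BialgEquiv.symm_apply_apply]
  show Groth.Agent.Helper6.MT.cancelBC k K T A
    (Bialgebra.TensorProduct.map (BialgHom.id T T) φ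
      ((Groth.Agent.Helper6.MT.cancelBC k K T B).symm ((1 : T) ⊗ₜ[k] b))) = _
  rw [h1]
  show Groth.Agent.Helper6.MT.cancelBC k K T A ((1 : T) ⊗ₜ[K] φ ((1 : K) ⊗ₜ[k] b)) = _
  rw [cancelBC_one_tmul]

end BC

section ViaSec

/-- the ring `T` regarded as a `K`-algebra through `j` -/
def Via {k K T : Type u} [CommRing k] [CommRing K] [Algebra k K] [CommRing T] [Algebra k T]
    (_j : K →ₐ[k] T) : Type u := T

variable {k K T : Type u} [CommRing k] [CommRing K] [Algebra k K] [CommRing T] [Algebra k T]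
  (j : K →ₐ[k] T)

noncomputable instance : CommRing (Via j) := inferInstanceAs (CommRing T)
noncomputable instance : Algebra k (Via j) := inferInstanceAs (Algebra k T)
noncomputable instance : Algebra K (Via j) := j.toRingHom.toAlgebra
instance : IsScalarTower k K (Via j) :=
  ⟨fun r c t => by
    have h : ∀ t' : T, j (r • c) * t' = r • (j c * t') := fun t' => by
      rw [map_smul, smul_mul_assoc]
    exact h t⟩

variable {A B : Type u} [CommRing A] [Bialgebra k A] [CommRing B] [Bialgebra k B]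

/-- base change of `φ` along `j` -/
noncomputable def bcVia (φ : K ⊗[k] B →ₐc[K] K ⊗[k] A) : T ⊗[k] B →ₐc[T] T ⊗[k] A :=
  let Φ : Via j ⊗[k] B →ₐc[Via j] Via j ⊗[k] A := bcHom (Via j) φ
  Φ

theorem bcVia_one_tmul (φ : K ⊗[k] B →ₐc[K] K ⊗[k] A) (b : B) :
    bcVia j φ ((1 : T) ⊗ₜ[k] b) =
      Algebra.TensorProduct.map j (AlgHom.id k A) (φ ((1 : K) ⊗ₜ[k] b)) := by
  have h := bcHom_one_tmul (Via j) φ b
  have hj : IsScalarTower.toAlgHom k K (Via j) = j := by
    apply AlgHom.ext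
    intro c
    rfl
  rw [hj] at h
  exact h

end ViaSec

section Generic

variable {k : Type u} [Field k] {K : Type u} [Field K] [Algebra k K]
  {A B : Type u} [CommRing A] [HopfAlgebra k A] [CommRing B] [HopfAlgebra k B]
  (Ω : Type u) [Field Ω] [Algebra k Ω]
  {T : Type u} [CommRing T] [Algebra k T] [Algebra Ω T] [IsScalarTower k Ω T]
  (j₁ j₂ : K →ₐ[k] T) (hnil : ∀ c : K, IsNilpotent (j₁ c - j₂ c))

include hnil in
/-- the difference of the two base changes of an element lies in a nilpotent ideal -/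
theorem exists_nilp_diff (x : K ⊗[k] A) :
    ∃ N₀ : Ideal T, IsNilpotent N₀ ∧
      Algebra.TensorProduct.map j₁ (AlgHom.id k A) x -
        Algebra.TensorProduct.map j₂ (AlgHom.id k A) x ∈
          N₀.map (algebraMap T (T ⊗[k] A)) := by
  induction x using TensorProduct.induction_on with
  | zero =>
    refine ⟨⊥, ⟨1, by rw [pow_one, Ideal.zero_eq_bot]⟩, ?_⟩
    rw [map_zero, map_zero, sub_zero]
    exact Ideal.zero_mem _
  | tmul c a =>
    refine ⟨Ideal.span {j₁ c - j₂ c}, ?_, ?_⟩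
    · obtain ⟨n, hn⟩ := hnil c
      refine ⟨n, ?_⟩
      rw [Ideal.span_singleton_pow, hn, Ideal.zero_eq_bot]
      exact Ideal.span_singleton_eq_bot.2 rfl
    · rw [Algebra.TensorProduct.map_tmul, Algebra.TensorProduct.map_tmul, AlgHom.coe_id, id_eq,
        ← TensorProduct.sub_tmul]
      have e1 : ((j₁ c - j₂ c) ⊗ₜ[k] a : T ⊗[k] A) =
          algebraMap T (T ⊗[k] A) (j₁ c - j₂ c) * ((1 : T) ⊗ₜ[k] a) := by
        rw [Algebra.TensorProduct.algebraMap_apply, Algebra.TensorProduct.tmul_mul_tmul, mul_one,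
          one_mul]
        rfl
      rw [e1]
      exact Ideal.mul_mem_right _ _ (Ideal.mem_map_of_mem _ (Ideal.subset_span rfl))
  | add x y hx hy =>
    obtain ⟨N₁, h1, h1'⟩ := hx
    obtain ⟨N₂, h2, h2'⟩ := hy
    refine ⟨N₁ ⊔ N₂, ?_, ?_⟩
    · rw [← Ideal.add_eq_sup]
      exact Commute.isNilpotent_add (Commute.all _ _) h1 h2
    · rw [map_add, map_add, add_sub_add_comm]
      exact Ideal.add_mem _ (Ideal.map_mono le_sup_left h1') (Ideal.map_mono le_sup_right h2')

include hnil in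
theorem exists_nilp_diff_finset (s : Finset (K ⊗[k] A)) :
    ∃ N₀ : Ideal T, IsNilpotent N₀ ∧ ∀ x ∈ s,
      Algebra.TensorProduct.map j₁ (AlgHom.id k A) x -
        Algebra.TensorProduct.map j₂ (AlgHom.id k A) x ∈
          N₀.map (algebraMap T (T ⊗[k] A)) := by
  classical
  induction s using Finset.induction_on with
  | empty =>
    exact ⟨⊥, ⟨1, by rw [pow_one, Ideal.zero_eq_bot]⟩,
      fun x hx => absurd hx (Finset.notMem_empty x)⟩
  | insert a s _ ih =>
    obtain ⟨N₁, h1, h1'⟩ := ih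
    obtain ⟨N₂, h2, h2'⟩ := exists_nilp_diff (A := A) j₁ j₂ hnil a
    refine ⟨N₁ ⊔ N₂, ?_, ?_⟩
    · rw [← Ideal.add_eq_sup]
      exact Commute.isNilpotent_add (Commute.all _ _) h1 h2
    · intro x hx
      rcases Finset.mem_insert.1 hx with rfl | hx
      · exact Ideal.map_mono le_sup_right h2'
      · exact Ideal.map_mono le_sup_left (h1' x hx)

include hnil in
/-- the two base changes of `φ (1 ⊗ b)` agree -/
theorem map_eq_of_nilp [Algebra.FiniteType k B] [Coalgebra.IsCocomm k B]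
    (hA : HopfRep.IsDiagonalizable Ω (Ω ⊗[k] A)) (φ : K ⊗[k] B →ₐc[K] K ⊗[k] A) (b : B) :
    Algebra.TensorProduct.map j₁ (AlgHom.id k A) (φ ((1 : K) ⊗ₜ[k] b)) =
      Algebra.TensorProduct.map j₂ (AlgHom.id k A) (φ ((1 : K) ⊗ₜ[k] b)) := by
  classical
  obtain ⟨s, hs⟩ := (Algebra.FiniteType.out : (⊤ : Subalgebra k B).FG)
  obtain ⟨N₀, hN₀, hdiff⟩ := exists_nilp_diff_finset (A := A) j₁ j₂ hnil
    (s.image (fun b => φ ((1 : K) ⊗ₜ[k] b)))
  let F : (K →ₐ[k] T) → (B →ₐ[k] T ⊗[k] A) := fun j =>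
    (Algebra.TensorProduct.map j (AlgHom.id k A)).comp
      (((φ : K ⊗[k] B →ₐ[K] K ⊗[k] A).restrictScalars k).comp
        (Algebra.TensorProduct.includeRight : B →ₐ[k] K ⊗[k] B))
  have hF : ∀ j b, F j b =
      Algebra.TensorProduct.map j (AlgHom.id k A) (φ ((1 : K) ⊗ₜ[k] b)) := fun _ _ => rfl
  let I' : Ideal (T ⊗[k] A) := N₀.map (algebraMap T (T ⊗[k] A))
  have hG : (Ideal.Quotient.mkₐ k I').comp (F j₁) = (Ideal.Quotient.mkₐ k I').comp (F j₂) := by
    apply AlgHom.ext_of_adjoin_eq_top hs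
    intro b hb
    show Ideal.Quotient.mk I' (F j₁ b) = Ideal.Quotient.mk I' (F j₂ b)
    rw [Ideal.Quotient.eq, hF, hF]
    exact hdiff _ (Finset.mem_image_of_mem _ (Finset.mem_coe.1 hb))
  have hFI : ∀ b, F j₁ b - F j₂ b ∈ I' := by
    intro b
    rw [← Ideal.Quotient.eq]
    exact AlgHom.congr_fun hG b
  have hz : ∀ z : T ⊗[k] B,
      bcVia j₁ φ z - bcVia j₂ φ z ∈ N₀ • (⊤ : Submodule T (T ⊗[k] A)) := by
    intro z
    rw [Ideal.smul_top_eq_map]
    show bcVia j₁ φ z - bcVia j₂ φ z ∈ I'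
    induction z using TensorProduct.induction_on with
    | zero =>
      rw [map_zero, map_zero, sub_zero]
      exact I'.zero_mem
    | tmul t b =>
      have e1 : (t ⊗ₜ[k] b : T ⊗[k] B) = t • ((1 : T) ⊗ₜ[k] b) := by
        rw [TensorProduct.smul_tmul', smul_eq_mul, mul_one]
      rw [e1, map_smul, map_smul, ← smul_sub, bcVia_one_tmul, bcVia_one_tmul, Algebra.smul_def]
      exact I'.mul_mem_left _ (hFI b)
    | add x y hx hy =>
      rw [map_add, map_add, add_sub_add_comm]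
      exact I'.add_mem hx hy
  have key := rigid (basisT Ω T hA) (basisT_groupLike Ω T hA) hN₀
    (bcVia j₁ φ).toCoalgHom (bcVia j₂ φ).toCoalgHom hz ((1 : T) ⊗ₜ[k] b)
  have key' : bcVia j₁ φ ((1 : T) ⊗ₜ[k] b) = bcVia j₂ φ ((1 : T) ⊗ₜ[k] b) := key
  rw [bcVia_one_tmul, bcVia_one_tmul] at key'
  exact key'

end Generic

section Main

variable {k : Type u} [Field k] {K : Type u} [Field K] [Algebra k K]
  {A B : Type u} [CommRing A] [HopfAlgebra k A] [CommRing B] [HopfAlgebra k B]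
  (Ω : Type u) [Field Ω] [Algebra k Ω]

/-- first embedding of `K` into the test ring -/
noncomputable def j1 : K →ₐ[k] Ω ⊗[k] (K ⊗[k] K) :=
  (Algebra.TensorProduct.includeRight : K ⊗[k] K →ₐ[k] Ω ⊗[k] (K ⊗[k] K)).comp
    (Algebra.TensorProduct.includeLeft : K →ₐ[k] K ⊗[k] K)

/-- second embedding of `K` into the test ring -/
noncomputable def j2 : K →ₐ[k] Ω ⊗[k] (K ⊗[k] K) :=
  (Algebra.TensorProduct.includeRight : K ⊗[k] K →ₐ[k] Ω ⊗[k] (K ⊗[k] K)).comp
    (Algebra.TensorProduct.includeRight : K →ₐ[k] K ⊗[k] K)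

theorem j1_apply (c : K) :
    j1 (k := k) (K := K) Ω c = (1 : Ω) ⊗ₜ[k] (c ⊗ₜ[k] (1 : K)) := rfl

theorem j2_apply (c : K) :
    j2 (k := k) (K := K) Ω c = (1 : Ω) ⊗ₜ[k] ((1 : K) ⊗ₜ[k] c) := rfl

theorem isNilpotent_j_sub [IsPurelyInseparable k K] (c : K) :
    IsNilpotent (j1 (k := k) (K := K) Ω c - j2 (k := k) (K := K) Ω c) := by
  rcases subsingleton_or_nontrivial (Ω ⊗[k] (K ⊗[k] K)) with hs | hn
  · rw [Subsingleton.elim (j1 (k := k) (K := K) Ω c - j2 (k := k) (K := K) Ω c) 0]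
    exact IsNilpotent.zero
  · let p := ringExpChar k
    haveI : ExpChar k p := ringExpChar.expChar k
    haveI : ExpChar (Ω ⊗[k] (K ⊗[k] K)) p :=
      expChar_of_injective_algebraMap (algebraMap k (Ω ⊗[k] (K ⊗[k] K))).injective p
    obtain ⟨n, r, hr⟩ := IsPurelyInseparable.pow_mem k p c
    refine ⟨p ^ n, ?_⟩
    rw [sub_pow_expChar_pow, ← map_pow, ← map_pow, ← hr, AlgHom.commutes, AlgHom.commutes,
      sub_self]

/-- a retraction of the test ring onto `K` -/
noncomputable def rho0 (πK : K →ₗ[k] k) (πΩ : Ω →ₗ[k] k) : Ω ⊗[k] (K ⊗[k] K) →ₗ[k] K :=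
  (TensorProduct.lid k K).toLinearMap ∘ₗ
    TensorProduct.map πΩ
      ((TensorProduct.rid k K).toLinearMap ∘ₗ TensorProduct.map LinearMap.id πK)

theorem rho0_tmul (πK : K →ₗ[k] k) (πΩ : Ω →ₗ[k] k) (ω : Ω) (c c' : K) :
    rho0 Ω πK πΩ (ω ⊗ₜ[k] (c ⊗ₜ[k] c')) = πΩ ω • (πK c' • c) := by
  simp [rho0]
  rw [smul_comm]

/-- descent of elements along `k → K` -/
theorem exists_of_map_eq (x : K ⊗[k] A)
    (h : Algebra.TensorProduct.map (j1 (k := k) (K := K) Ω) (AlgHom.id k A) x =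
      Algebra.TensorProduct.map (j2 (k := k) (K := K) Ω) (AlgHom.id k A) x) :
    ∃ a : A, x = (1 : K) ⊗ₜ[k] a := by
  obtain ⟨πK, hπK⟩ := LinearMap.exists_leftInverse_of_injective (Algebra.linearMap k K)
    (LinearMap.ker_eq_bot.2 (algebraMap k K).injective)
  obtain ⟨πΩ, hπΩ⟩ := LinearMap.exists_leftInverse_of_injective (Algebra.linearMap k Ω)
    (LinearMap.ker_eq_bot.2 (algebraMap k Ω).injective)
  have hK1 : πK 1 = 1 := by
    have := LinearMap.congr_fun hπK 1
    simpa using this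
  have hΩ1 : πΩ 1 = 1 := by
    have := LinearMap.congr_fun hπΩ 1
    simpa using this
  let ρ : (Ω ⊗[k] (K ⊗[k] K)) ⊗[k] A →ₗ[k] K ⊗[k] A :=
    TensorProduct.map (rho0 Ω πK πΩ) LinearMap.id
  have h1 : ∀ y : K ⊗[k] A,
      ρ (Algebra.TensorProduct.map (j1 (k := k) (K := K) Ω) (AlgHom.id k A) y) = y := by
    intro y
    induction y using TensorProduct.induction_on with
    | zero => simp
    | tmul c a =>
      rw [Algebra.TensorProduct.map_tmul, j1_apply]
      show (rho0 Ω πK πΩ ((1 : Ω) ⊗ₜ[k] (c ⊗ₜ[k] (1 : K)))) ⊗ₜ[k] a = c ⊗ₜ[k] a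
      rw [rho0_tmul, hK1, hΩ1, one_smul, one_smul]
    | add y z hy hz => rw [map_add, map_add, hy, hz]
  have h2 : ∀ y : K ⊗[k] A,
      ρ (Algebra.TensorProduct.map (j2 (k := k) (K := K) Ω) (AlgHom.id k A) y) =
        (1 : K) ⊗ₜ[k] (TensorProduct.lid k A (TensorProduct.map πK LinearMap.id y)) := by
    intro y
    induction y using TensorProduct.induction_on with
    | zero => simp
    | tmul c a =>
      rw [Algebra.TensorProduct.map_tmul, j2_apply]
      show (rho0 Ω πK πΩ ((1 : Ω) ⊗ₜ[k] ((1 : K) ⊗ₜ[k] c))) ⊗ₜ[k] a = _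
      rw [rho0_tmul, hΩ1, one_smul, TensorProduct.map_tmul, TensorProduct.lid_tmul,
        LinearMap.id_apply, TensorProduct.smul_tmul]
    | add y z hy hz => rw [map_add, map_add, hy, hz, map_add, map_add, TensorProduct.tmul_add]
  exact ⟨_, ((h1 x).symm.trans (by rw [h])).trans (h2 x)⟩

open Groth.Agent.Helper28.IntegralDescent in
/-- a `K`-bialgebra map `K ⊗ B → K ⊗ A` preserving the `k`-forms descends -/
theorem exists_bialgHom (φ : K ⊗[k] B →ₐc[K] K ⊗[k] A)
    (h : ∀ b : B, ∃ a : A, φ ((1 : K) ⊗ₜ[k] b) = (1 : K) ⊗ₜ[k] a) :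
    ∃ f : B →ₐc[k] A, ∀ b, φ ((1 : K) ⊗ₜ[k] b) = (1 : K) ⊗ₜ[k] f b := by
  choose f₀ hf₀ using h
  have hinj : Function.Injective (fun a : A => (1 : K) ⊗ₜ[k] a) :=
    Groth.Agent.Helper22.MultType.one_tmul_injective (k := k) (K := K) (A := A)
  have hmul : ∀ b b', f₀ (b * b') = f₀ b * f₀ b' := by
    intro b b'
    apply hinj
    show (1 : K) ⊗ₜ[k] f₀ (b * b') = (1 : K) ⊗ₜ[k] (f₀ b * f₀ b')
    have e : ((1 : K) ⊗ₜ[k] (b * b') : K ⊗[k] B) =
        ((1 : K) ⊗ₜ[k] b) * ((1 : K) ⊗ₜ[k] b') := by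
      rw [Algebra.TensorProduct.tmul_mul_tmul, mul_one]
    rw [← hf₀, e, map_mul, hf₀, hf₀, Algebra.TensorProduct.tmul_mul_tmul, mul_one]
  have hadd : ∀ b b', f₀ (b + b') = f₀ b + f₀ b' := by
    intro b b'
    apply hinj
    show (1 : K) ⊗ₜ[k] f₀ (b + b') = (1 : K) ⊗ₜ[k] (f₀ b + f₀ b')
    rw [← hf₀, TensorProduct.tmul_add, map_add, hf₀, hf₀, TensorProduct.tmul_add]
  have hone : f₀ 1 = 1 := by
    apply hinj
    show (1 : K) ⊗ₜ[k] f₀ 1 = (1 : K) ⊗ₜ[k] (1 : A)
    rw [← hf₀]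
    exact map_one φ
  have hzero : f₀ 0 = 0 := by
    apply hinj
    show (1 : K) ⊗ₜ[k] f₀ 0 = (1 : K) ⊗ₜ[k] (0 : A)
    rw [← hf₀, TensorProduct.tmul_zero, TensorProduct.tmul_zero, map_zero]
  have hsmul : ∀ (r : k) b, f₀ (r • b) = r • f₀ b := by
    intro r b
    apply hinj
    show (1 : K) ⊗ₜ[k] f₀ (r • b) = (1 : K) ⊗ₜ[k] (r • f₀ b)
    rw [← hf₀, TensorProduct.tmul_smul, TensorProduct.tmul_smul, ← hf₀,
      ← algebraMap_smul K r ((1 : K) ⊗ₜ[k] b), map_smul, algebraMap_smul]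
  let fa : B →ₐ[k] A :=
    { toFun := f₀
      map_one' := hone
      map_mul' := hmul
      map_zero' := hzero
      map_add' := hadd
      commutes' := fun r => by
        rw [Algebra.algebraMap_eq_smul_one, hsmul, hone, ← Algebra.algebraMap_eq_smul_one] }
  have hfa : ∀ b, fa b = f₀ b := fun _ => rfl
  have hc : (Bialgebra.counitAlgHom k A).comp fa = Bialgebra.counitAlgHom k B := by
    apply AlgHom.ext
    intro b
    apply (algebraMap k K).injective
    show algebraMap k K (Coalgebra.counit (R := k) (f₀ b)) =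
      algebraMap k K (Coalgebra.counit (R := k) b)
    have e1 : ∀ (X : Type u) [CommRing X] [Bialgebra k X] (x : X),
        Coalgebra.counit (R := K) ((1 : K) ⊗ₜ[k] x : K ⊗[k] X) =
          algebraMap k K (Coalgebra.counit (R := k) x) := by
      intro X _ _ x
      rw [TensorProduct.counit_tmul, Algebra.algebraMap_eq_smul_one]
      rfl
    rw [← e1 A, ← e1 B, ← hf₀, CoalgHomClass.counit_comp_apply]
  have hm : (Algebra.TensorProduct.map fa fa).comp (Bialgebra.comulAlgHom k B) =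
      (Bialgebra.comulAlgHom k A).comp fa := by
    apply AlgHom.ext
    intro b
    apply Groth.Agent.Helper22.MultType.Ψ_injective (k := k) (K := K)
    show Ψ (k := k) (K := K) (Algebra.TensorProduct.map fa fa (Coalgebra.comul (R := k) b)) =
      Ψ (k := k) (K := K) (Coalgebra.comul (R := k) (f₀ b))
    have e2 : ∀ (L : K ⊗[k] B →ₗ[K] K ⊗[k] A),
        (∀ b, L ((1 : K) ⊗ₜ[k] b) = (1 : K) ⊗ₜ[k] f₀ b) → ∀ w : B ⊗[k] B,
        TensorProduct.map L L (Ψ (k := k) (K := K) w) =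
          Ψ (k := k) (K := K) (Algebra.TensorProduct.map fa fa w) := by
      intro L hL w
      induction w using TensorProduct.induction_on with
      | zero => simp
      | tmul x y =>
        rw [Algebra.TensorProduct.map_tmul, Ψ_tmul, Ψ_tmul, TensorProduct.map_tmul, hL, hL, hfa,
          hfa]
      | add x y hx hy => rw [map_add, map_add, hx, hy, map_add, map_add]
    have key := CoalgHomClass.map_comp_comul_apply φ ((1 : K) ⊗ₜ[k] b)
    rw [comul_one_tmul, hf₀, comul_one_tmul] at key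
    rw [← key]
    exact (e2 _ (fun b => hf₀ b) _).symm
  exact ⟨BialgHom.ofAlgHom fa hc hm, fun b => hf₀ b⟩

/-- homomorphisms between groups of multiplicative type descend along purely inseparable
extensions -/
theorem main (k k' A B : Type u) [Field k] [Field k'] [Algebra k k'] [IsPurelyInseparable k k']
    [CommRing A] [HopfAlgebra k A] [CommRing B] [HopfAlgebra k B] [Algebra.FiniteType k B]
    (Ω : Type u) [Field Ω] [Algebra k Ω]
    (hA : HopfRep.IsDiagonalizable Ω (Ω ⊗[k] A))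
    (hB : HopfRep.IsDiagonalizable Ω (Ω ⊗[k] B))
    (φ : k' ⊗[k] B →ₐc[k'] k' ⊗[k] A) :
    ∃! f : B →ₐc[k] A, ∀ (c : k') (b : B), φ (c ⊗ₜ[k] b) = c ⊗ₜ[k] f b := by
  have : Coalgebra.IsCocomm k B :=
    Groth.Agent.Helper22.MultType.isCocomm_of_isDiagonalizable hB
  have h1 : ∀ b : B, ∃ a : A, φ ((1 : k') ⊗ₜ[k] b) = (1 : k') ⊗ₜ[k] a := fun b =>
    exists_of_map_eq Ω _ (map_eq_of_nilp Ω (j1 (k := k) (K := k') Ω) (j2 (k := k) (K := k') Ω)
      (isNilpotent_j_sub (k := k) (K := k') Ω) hA φ b)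
  obtain ⟨f, hf⟩ := exists_bialgHom φ h1
  refine ⟨f, ?_, ?_⟩
  · intro c b
    have e1 : (c ⊗ₜ[k] b : k' ⊗[k] B) = c • ((1 : k') ⊗ₜ[k] b) := by
      rw [TensorProduct.smul_tmul', smul_eq_mul, mul_one]
    rw [e1, map_smul, hf, TensorProduct.smul_tmul', smul_eq_mul, mul_one]
  · intro f' hf'
    apply DFunLike.ext
    intro b
    apply Groth.Agent.Helper22.MultType.one_tmul_injective (k := k) (K := k') (A := A)
    show (1 : k') ⊗ₜ[k] f' b = (1 : k') ⊗ₜ[k] f b
    rw [← hf' 1 b, ← hf b]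

end Main

end Groth.Agent.Helper25.PIDescent
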