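import Mathlib
import Groth.Prelude.Def_HopfRep
import Groth.Agent.Lib.Helper25.PIDescent

/-!
# Helper25: group-like elements descend along purely inseparable extensions (universe-polymorphic
variants of parts of `PIDescent`), and diagonalizability over separably closed fields.
-/

set_option autoImplicit false

namespace Groth.Agent.Helper25.PIDescentU

open TensorProduct
open Groth.Agent.Helper25.PIDescent

universe u v

section GLBasisU

variable {k : Type u} [Field k] (Ω : Type u) [Field Ω] [Algebra k Ω]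
  {A : Type v} [CommRing A] [HopfAlgebra k A]
  (T : Type u) [CommRing T] [Algebra k T] [Algebra Ω T] [IsScalarTower k Ω T]
  (hA : HopfRep.IsDiagonalizable Ω (Ω ⊗[k] A))

/-- basis of group-likes of `Ω ⊗ A` -/
noncomputable def basis0U : Module.Basis (GroupLike Ω (Ω ⊗[k] A)) Ω (Ω ⊗[k] A) :=
  Module.Basis.mk (linearIndep_groupLikeVal (R := Ω) (A := Ω ⊗[k] A)) (by
    have hD' : Submodule.span Ω {a : Ω ⊗[k] A | IsGroupLikeElem Ω a} = ⊤ := hA
    rw [← hD']
    apply Submodule.span_mono
    intro a ha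
    exact ⟨⟨a, ha⟩, rfl⟩)

theorem basis0U_apply (g : GroupLike Ω (Ω ⊗[k] A)) : basis0U Ω hA g = g.val :=
  Module.Basis.mk_apply _ _ g

/-- the induced basis of group-likes of `T ⊗ A` -/
noncomputable def basisTU : Module.Basis (GroupLike Ω (Ω ⊗[k] A)) T (T ⊗[k] A) :=
  ((basis0U Ω hA).baseChange T).map
    (Algebra.TensorProduct.cancelBaseChange k Ω T T A).toLinearEquiv

theorem basisTU_apply (g : GroupLike Ω (Ω ⊗[k] A)) :
    basisTU Ω T hA g =
      Groth.Agent.Helper6.MT.cancelBC k Ω T A ((1 : T) ⊗ₜ[Ω] g.val) := by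
  unfold basisTU
  rw [Module.Basis.map_apply, Module.Basis.baseChange_apply, basis0U_apply]
  rfl

theorem basisTU_groupLike (g : GroupLike Ω (Ω ⊗[k] A)) :
    IsGroupLikeElem T (basisTU Ω T hA g) := by
  rw [basisTU_apply]
  exact (Groth.Agent.Helper6.MT.isGroupLikeElem_one_tmul g.isGroupLikeElem_val).map
    (Groth.Agent.Helper6.MT.cancelBC k Ω T A)

end GLBasisU

section BCU

variable {k : Type u} [CommRing k] {K : Type u} [CommRing K] [Algebra k K]
  {A : Type v} [CommRing A] [Bialgebra k A]
  (T : Type u) [CommRing T] [Algebra k T] [Algebra K T] [IsScalarTower k K T]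

theorem cancelBC_one_tmulU (x : K ⊗[k] A) :
    Groth.Agent.Helper6.MT.cancelBC k K T A ((1 : T) ⊗ₜ[K] x) =
      Algebra.TensorProduct.map (IsScalarTower.toAlgHom k K T) (AlgHom.id k A) x := by
  induction x using TensorProduct.induction_on with
  | zero => rw [TensorProduct.tmul_zero, map_zero, map_zero]
  | tmul c a =>
    show Algebra.TensorProduct.cancelBaseChange k K T T A ((1 : T) ⊗ₜ[K] (c ⊗ₜ[k] a)) = _
    rw [Algebra.TensorProduct.cancelBaseChange_tmul, Algebra.TensorProduct.map_tmul,
      IsScalarTower.coe_toAlgHom', AlgHom.coe_id, id_eq, Algebra.algebraMap_eq_smul_one]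
  | add x y hx hy => rw [TensorProduct.tmul_add, map_add, map_add, hx, hy]

theorem isGroupLikeElem_map_toAlgHom {g : K ⊗[k] A} (hg : IsGroupLikeElem K g) :
    IsGroupLikeElem T
      (Algebra.TensorProduct.map (IsScalarTower.toAlgHom k K T) (AlgHom.id k A) g) := by
  rw [← cancelBC_one_tmulU]
  exact (Groth.Agent.Helper6.MT.isGroupLikeElem_one_tmul hg).map
    (Groth.Agent.Helper6.MT.cancelBC k K T A)

end BCU

section ViaU

variable {k K T : Type u} [CommRing k] [CommRing K] [Algebra k K] [CommRing T] [Algebra k T]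
  (j : K →ₐ[k] T) {A : Type v} [CommRing A] [Bialgebra k A]

theorem isGroupLikeElem_map_via {g : K ⊗[k] A} (hg : IsGroupLikeElem K g) :
    IsGroupLikeElem T (Algebra.TensorProduct.map j (AlgHom.id k A) g) := by
  have h := isGroupLikeElem_map_toAlgHom (Via j) hg
  have hj : IsScalarTower.toAlgHom k K (Via j) = j := by
    apply AlgHom.ext
    intro c
    rfl
  rw [hj] at h
  exact h

end ViaU

section OfGL

variable {T : Type*} [CommRing T] {D : Type*} [CommRing D] [Bialgebra T D]

/-- the coalgebra map from the base ring attached to a group-like element -/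
noncomputable def ofGL (g : D) (hg : IsGroupLikeElem T g) : T →ₗc[T] D :=
  { LinearMap.toSpanSingleton T D g with
    counit_comp := by
      apply LinearMap.ext_ring
      show Coalgebra.counit (R := T) ((1 : T) • g) = Coalgebra.counit (R := T) (1 : T)
      rw [one_smul, hg.counit_eq_one]
      rfl
    map_comp_comul := by
      apply LinearMap.ext_ring
      show TensorProduct.map (LinearMap.toSpanSingleton T D g) (LinearMap.toSpanSingleton T D g)
        ((1 : T) ⊗ₜ[T] (1 : T)) = Coalgebra.comul (R := T) ((1 : T) • g)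
      rw [one_smul, hg.comul_eq_tmul_self, TensorProduct.map_tmul,
        LinearMap.toSpanSingleton_apply, one_smul] }

theorem ofGL_apply (g : D) (hg : IsGroupLikeElem T g) (t : T) : ofGL g hg t = t • g := rfl

end OfGL

section GenericU

variable {k : Type u} [Field k] {K : Type u} [Field K] [Algebra k K]
  {A : Type v} [CommRing A] [HopfAlgebra k A]
  (Ω : Type u) [Field Ω] [Algebra k Ω]
  {T : Type u} [CommRing T] [Algebra k T] [Algebra Ω T] [IsScalarTower k Ω T]
  (j₁ j₂ : K →ₐ[k] T) (hnil : ∀ c : K, IsNilpotent (j₁ c - j₂ c))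

include hnil in
/-- the difference of the two base changes of an element lies in a nilpotent ideal -/
theorem exists_nilp_diffU (x : K ⊗[k] A) :
    ∃ N₀ : Ideal T, IsNilpotent N₀ ∧
      Algebra.TensorProduct.map j₁ (AlgHom.id k A) x -
        Algebra.TensorProduct.map j₂ (AlgHom.id k A) x ∈
          N₀.map (algebraMap T (T ⊗[k] A)) := by
  induction x using TensorProduct.induction_on with
  | zero =>
    refine ⟨⊥, ⟨1, by rw [pow_one, Ideal.zero_eq_bot]⟩, ?_⟩
    rw [map_zero, map_zero, sub_zero]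
    exact Ideal.zero_mem _
  | tmul c a =>
    refine ⟨Ideal.span {j₁ c - j₂ c}, ?_, ?_⟩
    · obtain ⟨n, hn⟩ := hnil c
      refine ⟨n, ?_⟩
      rw [Ideal.span_singleton_pow, hn, Ideal.zero_eq_bot]
      exact Ideal.span_singleton_eq_bot.2 rfl
    · rw [Algebra.TensorProduct.map_tmul, Algebra.TensorProduct.map_tmul, AlgHom.coe_id, id_eq,
        ← TensorProduct.sub_tmul]
      have e1 : ((j₁ c - j₂ c) ⊗ₜ[k] a : T ⊗[k] A) =
          algebraMap T (T ⊗[k] A) (j₁ c - j₂ c) * ((1 : T) ⊗ₜ[k] a) := by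
        rw [Algebra.TensorProduct.algebraMap_apply, Algebra.TensorProduct.tmul_mul_tmul, mul_one,
          one_mul]
        rfl
      rw [e1]
      exact Ideal.mul_mem_right _ _ (Ideal.mem_map_of_mem _ (Ideal.subset_span rfl))
  | add x y hx hy =>
    obtain ⟨N₁, h1, h1'⟩ := hx
    obtain ⟨N₂, h2, h2'⟩ := hy
    refine ⟨N₁ ⊔ N₂, ?_, ?_⟩
    · rw [← Ideal.add_eq_sup]
      exact Commute.isNilpotent_add (Commute.all _ _) h1 h2
    · rw [map_add, map_add, add_sub_add_comm]
      exact Ideal.add_mem _ (Ideal.map_mono le_sup_left h1') (Ideal.map_mono le_sup_right h2')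

include hnil in
/-- the two base changes of a group-like element agree -/
theorem gl_map_eq (hA : HopfRep.IsDiagonalizable Ω (Ω ⊗[k] A)) {g : K ⊗[k] A}
    (hg : IsGroupLikeElem K g) :
    Algebra.TensorProduct.map j₁ (AlgHom.id k A) g =
      Algebra.TensorProduct.map j₂ (AlgHom.id k A) g := by
  obtain ⟨N₀, hN₀, hdiff⟩ := exists_nilp_diffU (A := A) j₁ j₂ hnil g
  have h1 := isGroupLikeElem_map_via j₁ hg
  have h2 := isGroupLikeElem_map_via j₂ hg
  have hz : ∀ t : T, ofGL _ h1 t - ofGL _ h2 t ∈
      N₀ • (⊤ : Submodule T (T ⊗[k] A)) := by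
    intro t
    rw [ofGL_apply, ofGL_apply, ← smul_sub]
    apply Submodule.smul_mem
    rw [Ideal.smul_top_eq_map]
    exact hdiff
  have key := rigid (basisTU Ω T hA) (basisTU_groupLike Ω T hA) hN₀ (ofGL _ h1) (ofGL _ h2) hz 1
  rw [ofGL_apply, ofGL_apply, one_smul, one_smul] at key
  exact key

end GenericU

section MainU

variable {k : Type u} [Field k] {K : Type u} [Field K] [Algebra k K]
  {A : Type v} [CommRing A] [HopfAlgebra k A]
  (Ω : Type u) [Field Ω] [Algebra k Ω]

/-- descent of elements along `k → K` -/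
theorem exists_of_map_eqU (x : K ⊗[k] A)
    (h : Algebra.TensorProduct.map (j1 (k := k) (K := K) Ω) (AlgHom.id k A) x =
      Algebra.TensorProduct.map (j2 (k := k) (K := K) Ω) (AlgHom.id k A) x) :
    ∃ a : A, x = (1 : K) ⊗ₜ[k] a := by
  obtain ⟨πK, hπK⟩ := LinearMap.exists_leftInverse_of_injective (Algebra.linearMap k K)
    (LinearMap.ker_eq_bot.2 (algebraMap k K).injective)
  obtain ⟨πΩ, hπΩ⟩ := LinearMap.exists_leftInverse_of_injective (Algebra.linearMap k Ω)
    (LinearMap.ker_eq_bot.2 (algebraMap k Ω).injective)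
  have hK1 : πK 1 = 1 := by
    have := LinearMap.congr_fun hπK 1
    simpa using this
  have hΩ1 : πΩ 1 = 1 := by
    have := LinearMap.congr_fun hπΩ 1
    simpa using this
  let ρ : (Ω ⊗[k] (K ⊗[k] K)) ⊗[k] A →ₗ[k] K ⊗[k] A :=
    TensorProduct.map (rho0 Ω πK πΩ) LinearMap.id
  have h1 : ∀ y : K ⊗[k] A,
      ρ (Algebra.TensorProduct.map (j1 (k := k) (K := K) Ω) (AlgHom.id k A) y) = y := by
    intro y
    induction y using TensorProduct.induction_on with
    | zero => simp
    | tmul c a =>
      rw [Algebra.TensorProduct.map_tmul, j1_apply]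
      show (rho0 Ω πK πΩ ((1 : Ω) ⊗ₜ[k] (c ⊗ₜ[k] (1 : K)))) ⊗ₜ[k] a = c ⊗ₜ[k] a
      rw [rho0_tmul, hK1, hΩ1, one_smul, one_smul]
    | add y z hy hz => rw [map_add, map_add, hy, hz]
  have h2 : ∀ y : K ⊗[k] A,
      ρ (Algebra.TensorProduct.map (j2 (k := k) (K := K) Ω) (AlgHom.id k A) y) =
        (1 : K) ⊗ₜ[k] (TensorProduct.lid k A (TensorProduct.map πK LinearMap.id y)) := by
    intro y
    induction y using TensorProduct.induction_on with
    | zero => simp
    | tmul c a =>
      rw [Algebra.TensorProduct.map_tmul, j2_apply]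
      show (rho0 Ω πK πΩ ((1 : Ω) ⊗ₜ[k] ((1 : K) ⊗ₜ[k] c))) ⊗ₜ[k] a = _
      rw [rho0_tmul, hΩ1, one_smul, TensorProduct.map_tmul, TensorProduct.lid_tmul,
        LinearMap.id_apply, TensorProduct.smul_tmul]
    | add y z hy hz => rw [map_add, map_add, hy, hz, map_add, map_add, TensorProduct.tmul_add]
  exact ⟨_, ((h1 x).symm.trans (by rw [h])).trans (h2 x)⟩

open Groth.Agent.Helper28.IntegralDescent in
/-- group-like elements descend along purely inseparable extensions -/
theorem exists_groupLike [IsPurelyInseparable k K]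
    (hA : HopfRep.IsDiagonalizable Ω (Ω ⊗[k] A)) {g : K ⊗[k] A} (hg : IsGroupLikeElem K g) :
    ∃ a : A, IsGroupLikeElem k a ∧ g = (1 : K) ⊗ₜ[k] a := by
  obtain ⟨a, ha⟩ := exists_of_map_eqU Ω g
    (gl_map_eq Ω (j1 (k := k) (K := K) Ω) (j2 (k := k) (K := K) Ω)
      (isNilpotent_j_sub (k := k) (K := K) Ω) hA hg)
  refine ⟨a, ⟨?_, ?_⟩, ha⟩
  · apply (algebraMap k K).injective
    rw [map_one]
    have h1 := hg.counit_eq_one
    rw [ha, TensorProduct.counit_tmul] at h1
    rw [Algebra.algebraMap_eq_smul_one]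
    exact h1
  · apply Groth.Agent.Helper22.MultType.Ψ_injective (k := k) (K := K)
    rw [← comul_one_tmul, Ψ_tmul, ← ha]
    exact hg.comul_eq_tmul_self

/-- diagonalizability descends along purely inseparable extensions -/
theorem isDiagonalizable_of_purelyInseparable [IsPurelyInseparable k K]
    (hA : HopfRep.IsDiagonalizable Ω (Ω ⊗[k] A))
    (hK : HopfRep.IsDiagonalizable K (K ⊗[k] A)) :
    HopfRep.IsDiagonalizable k A := by
  unfold HopfRep.IsDiagonalizable
  obtain ⟨W, hW⟩ : ∃ W : Submodule k A, W = Submodule.span k {a : A | IsGroupLikeElem k a} :=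
    ⟨_, rfl⟩
  rw [← hW]
  have h0 : ∀ z : K ⊗[k] A, (W.mkQ.baseChange K) z = 0 := by
    intro z
    have hK' : Submodule.span K {a : K ⊗[k] A | IsGroupLikeElem K a} = ⊤ := hK
    have hz : z ∈ Submodule.span K {a : K ⊗[k] A | IsGroupLikeElem K a} := by
      rw [hK']
      trivial
    induction hz using Submodule.span_induction with
    | mem x hx =>
      obtain ⟨a, ha, rfl⟩ := exists_groupLike Ω hA hx
      rw [LinearMap.baseChange_tmul]
      have h3 : W.mkQ a = 0 := by
        rw [Submodule.mkQ_apply, Submodule.Quotient.mk_eq_zero, hW]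
        exact Submodule.subset_span ha
      rw [h3, TensorProduct.tmul_zero]
    | zero => exact map_zero _
    | add x y _ _ hx hy => rw [map_add, hx, hy, add_zero]
    | smul c x _ hx => rw [map_smul, hx, smul_zero]
  rw [eq_top_iff]
  intro a _
  have h1 := h0 ((1 : K) ⊗ₜ[k] a)
  rw [LinearMap.baseChange_tmul] at h1
  have hinj := Module.Flat.tensorProduct_mk_injective (R := k) (S := K) (M := A ⧸ W)
  have h2 : W.mkQ a = 0 := by
    apply hinj
    show (1 : K) ⊗ₜ[k] W.mkQ a = (1 : K) ⊗ₜ[k] (0 : A ⧸ W)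
    rw [h1, TensorProduct.tmul_zero]
  rwa [Submodule.mkQ_apply, Submodule.Quotient.mk_eq_zero] at h2

/-- over a separably closed field: diagonalizable iff no nonzero primitive elements -/
theorem sepClosed_diag_iff (k : Type u) [Field k] [IsSepClosed k] (A : Type v)
    [CommRing A] [HopfAlgebra k A] [Coalgebra.IsCocomm k A] :
    HopfRep.IsDiagonalizable k A ↔
      ∀ f : A, CoalgebraStruct.comul (R := k) f = f ⊗ₜ[k] (1 : A) + (1 : A) ⊗ₜ[k] f → f = 0 := by
  constructor
  · intro hD f hf
    exact Groth.Agent.Helper22.MultType.prim_eq_zero_of_isDiagonalizable hD f hf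
  · intro hP
    have hD : HopfRep.IsDiagonalizable (AlgebraicClosure k) (AlgebraicClosure k ⊗[k] A) := by
      apply Groth.Agent.Helper22.GLBasis.isDiagonalizable_of_span_eigen
      intro V _ _ _ hfin
      haveI := hfin
      exact Groth.Agent.Helper22.MultType.span_eigen_eq_top
        (Groth.Agent.Helper22.MultType.prim_baseChange hP) _ V rfl
    exact isDiagonalizable_of_purelyInseparable (K := AlgebraicClosure k) (AlgebraicClosure k)
      hD hD

end MainU

end Groth.Agent.Helper25.PIDescentU
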