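import Mathlib
import Groth.Prelude.Def_SGA3b
import Groth.Agent.Lib.Helper25.Desc
import Groth.Agent.Lib.Helper25.PIDescentU
import Groth.Agent.Lib.Helper22.MultType2

/-!
# Helper25: lifting of group-like elements of Hopf algebras of multiplicative type along nil
ideals; a group of multiplicative type which is diagonalisable modulo a nil ideal is diagonalisable.
-/

set_option autoImplicit false

namespace Groth.Agent.Helper25.NilLift

open TensorProduct SGA3b
open Groth.Agent.Helper25.Desc Groth.Agent.Helper25.PIDescent Groth.Agent.Helper25.PIDescentU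

universe u

section Bridge

variable {R : Type*} [CommRing R] (I : Ideal R)

theorem map_mem_smulTop {X Y : Type*} [AddCommGroup X] [Module R X] [AddCommGroup Y] [Module R Y]
    (f : X →ₗ[R] Y) {x : X} (hx : x ∈ I • (⊤ : Submodule R X)) :
    f x ∈ I • (⊤ : Submodule R Y) := by
  refine Submodule.smul_induction_on hx ?_ ?_
  · intro r hr n _
    rw [map_smul]
    exact Submodule.smul_mem_smul hr Submodule.mem_top
  · intro x y hx hy
    rw [map_add]
    exact Submodule.add_mem _ hx hy

theorem smulTop_bridge (T : Type*) [CommRing T] [Algebra R T] {X : Type*} [AddCommGroup X]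
    [Module R X] [Module T X] [IsScalarTower R T X] (x : X) :
    x ∈ I • (⊤ : Submodule R X) ↔ x ∈ (I.map (algebraMap R T)) • (⊤ : Submodule T X) := by
  have h := Ideal.smul_restrictScalars (R := R) (S := T) (M := X) I (⊤ : Submodule T X)
  rw [Submodule.restrictScalars_top] at h
  rw [← h]
  exact Iff.rfl

theorem map_nil (T : Type*) [CommRing T] [Algebra R T] (hI : ∀ x ∈ I, IsNilpotent x) :
    ∀ x ∈ I.map (algebraMap R T), IsNilpotent x := by
  have h : I.map (algebraMap R T) ≤ nilradical T := by
    rw [Ideal.map_le_iff_le_comap]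
    intro x hx
    rw [Ideal.mem_comap, mem_nilradical]
    exact (hI x hx).map _
  intro x hx
  exact mem_nilradical.mp (h hx)

theorem one_tmul_surjective {X : Type*} [AddCommGroup X] [Module R X] (z : (R ⧸ I) ⊗[R] X) :
    ∃ x : X, (1 : R ⧸ I) ⊗ₜ[R] x = z := by
  induction z using TensorProduct.induction_on with
  | zero => exact ⟨0, TensorProduct.tmul_zero _ _⟩
  | tmul r x =>
    obtain ⟨r, rfl⟩ := Ideal.Quotient.mk_surjective r
    refine ⟨r • x, ?_⟩
    have h1 : r • (1 : R ⧸ I) = Ideal.Quotient.mk I r := by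
      rw [Algebra.smul_def, mul_one, Ideal.Quotient.algebraMap_eq]
    rw [← h1, TensorProduct.smul_tmul]
  | add z z' hz hz' =>
    obtain ⟨x, rfl⟩ := hz
    obtain ⟨y, rfl⟩ := hz'
    exact ⟨x + y, TensorProduct.tmul_add _ _ _⟩

theorem tmul_eq_of_mem {X : Type*} [AddCommGroup X] [Module R X] {x y : X}
    (h : x - y ∈ I • (⊤ : Submodule R X)) :
    (1 : R ⧸ I) ⊗ₜ[R] x = (1 : R ⧸ I) ⊗ₜ[R] y := by
  apply (TensorProduct.quotTensorEquivQuotSMul X I).injective
  rw [TensorProduct.quotTensorEquivQuotSMul_mk_one_tmul,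
    TensorProduct.quotTensorEquivQuotSMul_mk_one_tmul]
  exact (Submodule.Quotient.eq _).mpr h

/-- `I` kills `T ⊗ (R ⧸ I)` -/
theorem smul_tmul_quot_eq_zero (T : Type*) [AddCommGroup T] [Module R T] {r : R} (hr : r ∈ I)
    (w : T ⊗[R] (R ⧸ I)) : r • w = 0 := by
  induction w using TensorProduct.induction_on with
  | zero => rw [smul_zero]
  | tmul t q =>
    rw [← TensorProduct.tmul_smul]
    have h1 : r • q = 0 := by
      rw [Algebra.smul_def, Ideal.Quotient.algebraMap_eq,
        Ideal.Quotient.eq_zero_iff_mem.mpr hr, zero_mul]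
    rw [h1, TensorProduct.tmul_zero]
  | add v v' hv hv' => rw [smul_add, hv, hv', add_zero]

theorem mem_map_of_tmul_one_eq_zero (T : Type*) [CommRing T] [Algebra R T] (t : T)
    (h : t ⊗ₜ[R] (1 : R ⧸ I) = 0) : t ∈ I.map (algebraMap R T) := by
  have h1 := congrArg (TensorProduct.tensorQuotEquivQuotSMul T I) h
  rw [← map_one (Ideal.Quotient.mk I), TensorProduct.tensorQuotEquivQuotSMul_tmul_mk, one_smul,
    map_zero, Submodule.Quotient.mk_eq_zero, Ideal.smul_top_eq_map] at h1
  exact h1

end Bridge

section AbsCoalg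

variable {T : Type*} [CommRing T] {D : Type*} [AddCommGroup D] [Module T D] [Coalgebra T D]
  {N : Type*} (β : Module.Basis N T D) (hβ : ∀ n, IsGroupLikeElem T (β n))

/-- the functional `x ⊗ y ↦ (coefficient of x at n) * (coefficient of y at n')` -/
noncomputable def Lam (n n' : N) : D ⊗[T] D →ₗ[T] T :=
  LinearMap.mul' T T ∘ₗ TensorProduct.map (β.coord n) (β.coord n')

omit [Coalgebra T D] in
theorem Lam_tmul (n n' : N) (x y : D) :
    Lam β n n' (x ⊗ₜ[T] y) = β.repr x n * β.repr y n' := by
  simp [Lam]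

include hβ in
theorem Lam_comul [DecidableEq N] (n n' : N) (x : D) :
    Lam β n n' (Coalgebra.comul (R := T) x) = if n = n' then β.repr x n else 0 := by
  have key : Lam β n n' ∘ₗ Coalgebra.comul = (if n = n' then β.coord n else 0) := by
    apply β.ext
    intro k
    rw [LinearMap.comp_apply, (hβ k).comul_eq_tmul_self, Lam_tmul, Module.Basis.repr_self]
    simp only [Finsupp.single_apply]
    split_ifs with h1 h2 h3 h4 <;> simp_all
  have h := congrArg (fun f : D →ₗ[T] T => f x) key
  simp only [LinearMap.comp_apply] at h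
  rw [h]
  split_ifs
  · rfl
  · rfl

include hβ in
theorem repr_mul_repr [DecidableEq N] {g : D} (hg : IsGroupLikeElem T g) (n n' : N) :
    β.repr g n * β.repr g n' = if n = n' then β.repr g n else 0 := by
  rw [← Lam_tmul, ← hg.comul_eq_tmul_self, Lam_comul β hβ]

include hβ in
theorem counit_eq_sum (x : D) :
    Coalgebra.counit (R := T) x = (β.repr x).sum (fun _ c => c) := by
  conv_lhs => rw [← β.linearCombination_repr x]
  rw [Finsupp.linearCombination_apply, Finsupp.sum, map_sum, Finsupp.sum]
  refine Finset.sum_congr rfl (fun k _ => ?_)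
  rw [map_smul, (hβ k).counit_eq_one, smul_eq_mul, mul_one]

include hβ in
/-- group-like elements which are congruent modulo a nil ideal are equal -/
theorem gl_unique {J : Ideal T} (hJ : ∀ x ∈ J, IsNilpotent x) {g g' : D}
    (hg : IsGroupLikeElem T g) (hg' : IsGroupLikeElem T g')
    (h : g - g' ∈ J • (⊤ : Submodule T D)) : g = g' := by
  classical
  apply β.repr.injective
  ext n
  have h1 : IsIdempotentElem (β.repr g n) := by
    have := repr_mul_repr β hβ hg n n
    rwa [if_pos rfl] at this
  have h2 : IsIdempotentElem (β.repr g' n) := by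
    have := repr_mul_repr β hβ hg' n n
    rwa [if_pos rfl] at this
  apply eq_of_isNilpotent_sub_of_isIdempotentElem h1 h2
  apply hJ
  have h3 := apply_mem_of_mem_smul_top (β.coord n) h
  rw [map_sub] at h3
  exact h3

include hβ in
/-- approximate group-like elements lift to group-like elements, modulo a nil ideal -/
theorem gl_exists {J : Ideal T} (hJ : ∀ x ∈ J, IsNilpotent x) (x : D)
    (h1 : Coalgebra.counit (R := T) x - 1 ∈ J)
    (h2 : Coalgebra.comul (R := T) x - x ⊗ₜ[T] x ∈ J • (⊤ : Submodule T (D ⊗[T] D))) :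
    ∃ g : D, IsGroupLikeElem T g ∧ g - x ∈ J • (⊤ : Submodule T D) := by
  classical
  obtain ⟨c, hc⟩ : ∃ c : N →₀ T, c = β.repr x := ⟨_, rfl⟩
  obtain ⟨F, hF⟩ : ∃ F : Finset N, F = c.support := ⟨_, rfl⟩
  have hcc : ∀ n n', c n * c n' - (if n = n' then c n else 0) ∈ J := by
    intro n n'
    have h3 := apply_mem_of_mem_smul_top (Lam β n n') h2
    rw [map_sub, Lam_comul β hβ, Lam_tmul, ← hc] at h3
    have h4 := J.neg_mem h3
    rwa [neg_sub] at h4
  have hsum : (∑ n ∈ F, c n) - 1 ∈ J := by
    rw [counit_eq_sum β hβ x, ← hc, Finsupp.sum, ← hF] at h1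
    exact h1
  have he : CompleteOrthogonalIdempotents (fun n : F => Ideal.Quotient.mk J (c n)) := by
    refine ⟨⟨fun n => ?_, fun n n' hnn' => ?_⟩, ?_⟩
    · show Ideal.Quotient.mk J (c n) * Ideal.Quotient.mk J (c n) = Ideal.Quotient.mk J (c n)
      rw [← map_mul, Ideal.Quotient.eq]
      have := hcc n n
      rwa [if_pos rfl] at this
    · show Ideal.Quotient.mk J (c n) * Ideal.Quotient.mk J (c n') = 0
      rw [← map_mul, Ideal.Quotient.eq_zero_iff_mem]
      have := hcc n n'
      rw [if_neg (fun h => hnn' (Subtype.ext h)), sub_zero] at this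
      exact this
    · show ∑ n : F, Ideal.Quotient.mk J (c n) = 1
      rw [← map_sum, ← map_one (Ideal.Quotient.mk J), Ideal.Quotient.eq, Finset.sum_coe_sort F c]
      exact hsum
  obtain ⟨e', he', hee⟩ := CompleteOrthogonalIdempotents.lift_of_isNilpotent_ker
    (Ideal.Quotient.mk J) (by
      intro y hy
      rw [Ideal.mk_ker] at hy
      exact hJ y hy) he (fun i => ⟨c i, rfl⟩)
  have hee' : ∀ n : F, e' n - c n ∈ J := fun n => by
    rw [← Ideal.Quotient.eq]
    exact congrFun hee n
  refine ⟨∑ n : F, e' n • β n, ⟨?_, ?_⟩, ?_⟩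
  · rw [map_sum]
    have h3 : ∀ n : F, Coalgebra.counit (R := T) (e' n • β n) = e' n := fun n => by
      rw [map_smul, (hβ n).counit_eq_one, smul_eq_mul, mul_one]
    rw [Finset.sum_congr rfl (fun n _ => h3 n)]
    exact he'.complete
  · rw [map_sum]
    have h3 : ∀ n : F, Coalgebra.comul (R := T) (e' n • β n) = e' n • (β n ⊗ₜ[T] β n) := fun n => by
      rw [map_smul, (hβ n).comul_eq_tmul_self]
    rw [Finset.sum_congr rfl (fun n _ => h3 n), TensorProduct.sum_tmul]
    refine Finset.sum_congr rfl (fun n _ => ?_)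
    rw [TensorProduct.tmul_sum, Finset.sum_eq_single n]
    · rw [TensorProduct.smul_tmul_smul, he'.idem n]
    · intro n' _ hne
      rw [TensorProduct.smul_tmul_smul, he'.ortho (Ne.symm hne), zero_smul]
    · intro h
      exact absurd (Finset.mem_univ n) h
  · have hx : x = ∑ n : F, c n • β n := by
      conv_lhs => rw [← β.linearCombination_repr x]
      rw [Finsupp.linearCombination_apply, Finsupp.sum, ← hc, ← hF,
        ← Finset.sum_coe_sort F (fun n => c n • β n)]
    rw [hx, ← Finset.sum_sub_distrib]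
    refine Submodule.sum_mem _ (fun n _ => ?_)
    rw [← sub_smul]
    exact Submodule.smul_mem_smul (hee' n) Submodule.mem_top

include hβ in
/-- a family of group-likes which is a basis modulo a nil ideal is a basis -/
theorem iso_abs {J : Ideal T} (hJ : ∀ x ∈ J, IsNilpotent x) {M : Type*} (γ : M → D)
    (hγ : ∀ m, IsGroupLikeElem T (γ m))
    (hsurj : ∀ n, β n ∈ Submodule.span T (Set.range γ) ⊔ J • (⊤ : Submodule T D))
    (hinj : ∀ m m', m ≠ m' → ∀ t : T, t • γ m - t • γ m' ∈ J • (⊤ : Submodule T D) → t ∈ J) :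
    LinearIndependent T γ ∧ Submodule.span T (Set.range γ) = ⊤ := by
  classical
  obtain ⟨e, he⟩ : ∃ e : M → N → T, e = fun m n => β.repr (γ m) n := ⟨_, rfl⟩
  have hcoord : ∀ m n, β.coord n (γ m) = e m n := fun m n => by
    rw [he, Module.Basis.coord_apply]
  have hrow : ∀ m n n', e m n * e m n' = if n = n' then e m n else 0 := fun m n n' => by
    rw [he]
    exact repr_mul_repr β hβ (hγ m) n n'
  have hidem : ∀ m n, e m n * e m n = e m n := fun m n => by
    have := hrow m n n
    rwa [if_pos rfl] at this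
  have hrowsum : ∀ m, (β.repr (γ m)).sum (fun _ c => c) = 1 := fun m => by
    rw [← counit_eq_sum β hβ, (hγ m).counit_eq_one]
  have hkey : ∀ m n, e m n • γ m = e m n • β n := by
    intro m n
    apply β.repr.injective
    ext k
    rw [map_smul, map_smul, Finsupp.smul_apply, Finsupp.smul_apply, Module.Basis.repr_self,
      smul_eq_mul, smul_eq_mul, Finsupp.single_apply]
    have h1 : β.repr (γ m) k = e m k := by rw [he]
    rw [h1, hrow]
    split_ifs <;> simp
  have hA : ∀ m m' n, m ≠ m' → e m n * e m' n = 0 := by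
    intro m m' n hmm'
    have hε : IsIdempotentElem (e m n * e m' n) := by
      show (e m n * e m' n) * (e m n * e m' n) = e m n * e m' n
      calc (e m n * e m' n) * (e m n * e m' n)
          = (e m n * e m n) * (e m' n * e m' n) := by ring
        _ = e m n * e m' n := by rw [hidem, hidem]
    have e1 : (e m n * e m' n) • γ m = (e m n * e m' n) • β n := by
      rw [mul_comm, mul_smul, mul_smul, hkey]
    have e2 : (e m n * e m' n) • γ m' = (e m n * e m' n) • β n := by
      rw [mul_smul, mul_smul, hkey]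
    have h4 : e m n * e m' n ∈ J := hinj m m' hmm' _ (by
      rw [e1, e2, sub_self]
      exact Submodule.zero_mem _)
    exact eq_of_isNilpotent_sub_of_isIdempotentElem hε IsIdempotentElem.zero (by
      rw [sub_zero]
      exact hJ _ h4)
  have hB : ∀ n, ∃ F : Finset M, ∑ m ∈ F, e m n = 1 := by
    intro n
    obtain ⟨p, hp, q, hq, hpq⟩ := Submodule.mem_sup.mp (hsurj n)
    obtain ⟨l, hl⟩ := Finsupp.mem_span_range_iff_exists_finsupp.mp hp
    refine ⟨l.support, ?_⟩
    obtain ⟨E, hE⟩ : ∃ E : T, E = ∑ m ∈ l.support, e m n := ⟨_, rfl⟩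
    have hEe : ∀ m ∈ l.support, E * e m n = e m n := by
      intro m hm
      rw [hE, Finset.sum_mul, Finset.sum_eq_single m]
      · exact hidem m n
      · intro m' _ hne
        exact hA m' m n hne
      · intro h
        exact absurd hm h
    have hEidem : IsIdempotentElem E := by
      show E * E = E
      conv_lhs => rw [hE, Finset.mul_sum]
      rw [hE]
      refine Finset.sum_congr rfl (fun m hm => ?_)
      rw [← hE]
      exact hEe m hm
    have hcp : β.coord n p = ∑ m ∈ l.support, l m * e m n := by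
      rw [← hl, Finsupp.sum, map_sum]
      refine Finset.sum_congr rfl (fun m _ => ?_)
      rw [map_smul, smul_eq_mul, hcoord]
    have h1 : (1 : T) = ∑ m ∈ l.support, l m * e m n + β.coord n q := by
      rw [← hcp, ← map_add, hpq, Module.Basis.coord_apply, Module.Basis.repr_self,
        Finsupp.single_eq_same]
    have hq' : β.coord n q ∈ J := apply_mem_of_mem_smul_top (β.coord n) hq
    have h2 : 1 - E = (1 - E) * β.coord n q := by
      have h5 : (1 - E) * ∑ m ∈ l.support, l m * e m n = 0 := by
        rw [Finset.mul_sum]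
        refine Finset.sum_eq_zero (fun m hm => ?_)
        have h6 : (1 - E) * (l m * e m n) = l m * (e m n - E * e m n) := by ring
        rw [h6, hEe m hm, sub_self, mul_zero]
      calc 1 - E = (1 - E) * 1 := (mul_one _).symm
        _ = (1 - E) * (∑ m ∈ l.support, l m * e m n + β.coord n q) := by rw [← h1]
        _ = (1 - E) * β.coord n q := by rw [mul_add, h5, zero_add]
    have h3 : 1 - E ∈ J := by
      rw [h2]
      exact J.mul_mem_left _ hq'
    have h4 : 1 - E = 0 :=
      eq_of_isNilpotent_sub_of_isIdempotentElem hEidem.one_sub IsIdempotentElem.zero (by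
        rw [sub_zero]
        exact hJ _ h3)
    rw [← hE]
    exact (sub_eq_zero.mp h4).symm
  have hspan : Submodule.span T (Set.range γ) = ⊤ := by
    rw [eq_top_iff, ← β.span_eq, Submodule.span_le]
    rintro _ ⟨n, rfl⟩
    obtain ⟨F, hF⟩ := hB n
    have h1 : β n = ∑ m ∈ F, e m n • γ m := by
      calc β n = (1 : T) • β n := (one_smul _ _).symm
        _ = (∑ m ∈ F, e m n) • β n := by rw [hF]
        _ = ∑ m ∈ F, e m n • β n := Finset.sum_smul
        _ = ∑ m ∈ F, e m n • γ m := Finset.sum_congr rfl (fun m _ => (hkey m n).symm)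
    rw [SetLike.mem_coe, h1]
    exact Submodule.sum_mem _
      (fun m _ => Submodule.smul_mem _ _ (Submodule.subset_span ⟨m, rfl⟩))
  have hind : LinearIndependent T γ := by
    rw [linearIndependent_iff']
    intro s g hg m₀ hm₀
    have h1 : ∀ n, g m₀ * e m₀ n = 0 := by
      intro n
      have h2 := congrArg (β.coord n) hg
      rw [map_sum, map_zero] at h2
      have h3 : ∑ m ∈ s, g m * e m n = 0 := by
        rw [← h2]
        refine Finset.sum_congr rfl (fun m _ => ?_)
        rw [map_smul, smul_eq_mul, hcoord]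
      have h4 : ∑ m ∈ s, g m * e m n * e m₀ n = 0 := by
        rw [← Finset.sum_mul, h3, zero_mul]
      rw [Finset.sum_eq_single m₀] at h4
      · rw [mul_assoc, hidem] at h4
        exact h4
      · intro m _ hne
        rw [mul_assoc, hA m m₀ n hne, mul_zero]
      · intro h
        exact absurd hm₀ h
    have h5 := hrowsum m₀
    calc g m₀ = g m₀ * 1 := (mul_one _).symm
      _ = g m₀ * (β.repr (γ m₀)).sum (fun _ c => c) := by rw [h5]
      _ = 0 := by
        rw [Finsupp.sum, Finset.mul_sum]
        refine Finset.sum_eq_zero (fun n _ => ?_)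
        have h6 : β.repr (γ m₀) n = e m₀ n := by rw [he]
        rw [h6]
        exact h1 n
  exact ⟨hind, hspan⟩

end AbsCoalg

section BC

variable {R : Type u} [CommRing R] {A : Type u} [CommRing A] [Bialgebra R A] (I : Ideal R)

open Groth.Agent.Helper28.IntegralDescent

theorem Psi_eq (T : Type u) [CommRing T] [Algebra R T] (x : A ⊗[R] A) :
    Ψ (k := R) (K := T) x =
      TensorProduct.AlgebraTensorModule.distribBaseChange R T A A ((1 : T) ⊗ₜ[R] x) := by
  induction x using TensorProduct.induction_on with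
  | zero => simp
  | tmul a b => rw [Ψ_tmul]; rfl
  | add x y hx hy => rw [map_add, hx, hy, TensorProduct.tmul_add, map_add]

theorem approx_bc (T : Type u) [CommRing T] [Algebra R T] (a : A)
    (h1 : Coalgebra.counit (R := R) a - 1 ∈ I)
    (h2 : Coalgebra.comul (R := R) a - a ⊗ₜ[R] a ∈ I • (⊤ : Submodule R (A ⊗[R] A))) :
    Coalgebra.counit (R := T) ((1 : T) ⊗ₜ[R] a) - 1 ∈ I.map (algebraMap R T) ∧
    Coalgebra.comul (R := T) ((1 : T) ⊗ₜ[R] a) - ((1 : T) ⊗ₜ[R] a) ⊗ₜ[T] ((1 : T) ⊗ₜ[R] a) ∈
      (I.map (algebraMap R T)) • (⊤ : Submodule T ((T ⊗[R] A) ⊗[T] (T ⊗[R] A))) := by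
  constructor
  · have e : Coalgebra.counit (R := T) ((1 : T) ⊗ₜ[R] a) - 1 =
        algebraMap R T (Coalgebra.counit (R := R) a - 1) := by
      rw [TensorProduct.counit_tmul, RingHom.map_sub, RingHom.map_one,
        Algebra.algebraMap_eq_smul_one]
      rfl
    rw [e]
    exact Ideal.mem_map_of_mem _ h1
  · rw [comul_one_tmul, ← Ψ_tmul, ← map_sub]
    exact (smulTop_bridge I T _).mp (map_mem_smulTop I (Ψ (k := R) (K := T) (A := A)) h2)

theorem approx_of_quot (a : A) (h : IsGroupLikeElem (R ⧸ I) ((1 : R ⧸ I) ⊗ₜ[R] a)) :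
    Coalgebra.counit (R := R) a - 1 ∈ I ∧
      Coalgebra.comul (R := R) a - a ⊗ₜ[R] a ∈ I • (⊤ : Submodule R (A ⊗[R] A)) := by
  constructor
  · have h1 := h.counit_eq_one
    rw [TensorProduct.counit_tmul] at h1
    have h2 : Ideal.Quotient.mk I (Coalgebra.counit (R := R) a) = Ideal.Quotient.mk I 1 := by
      rw [map_one, ← h1, Algebra.smul_def, Ideal.Quotient.algebraMap_eq]
      show _ = _ * (1 : R ⧸ I)
      rw [mul_one]
    exact Ideal.Quotient.eq.mp h2
  · have h1 : Ψ (k := R) (K := R ⧸ I) (Coalgebra.comul (R := R) a - a ⊗ₜ[R] a) = 0 := by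
      rw [map_sub, ← comul_one_tmul, Ψ_tmul, h.comul_eq_tmul_self, sub_self]
    rw [Psi_eq] at h1
    have h2 := (TensorProduct.AlgebraTensorModule.distribBaseChange R (R ⧸ I) A A).injective
      (h1.trans (map_zero _).symm)
    have h3 : (1 : R ⧸ I) ⊗ₜ[R] (Coalgebra.comul (R := R) a - a ⊗ₜ[R] a) =
        (1 : R ⧸ I) ⊗ₜ[R] (0 : A ⊗[R] A) := by
      rw [h2, TensorProduct.tmul_zero]
    have h4 := Groth.Agent.Helper22.MultType.mem_of_tmul_eq I h3
    rwa [sub_zero] at h4

section Fam

variable {ι : Type u} [Fintype ι] [DecidableEq ι] (T : ι → Type u) [∀ i, CommRing (T i)]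
  [∀ i, Algebra R (T i)] [Module.FaithfullyFlat R (Π i, T i)]

theorem isGroupLike_of_family (a : A)
    (h : ∀ i, IsGroupLikeElem (T i) ((1 : T i) ⊗ₜ[R] a)) : IsGroupLikeElem R a := by
  refine ⟨?_, ?_⟩
  · have hinj : Function.Injective (algebraMap R (Π i, T i)) :=
      FaithfulSMul.algebraMap_injective R (Π i, T i)
    apply hinj
    funext i
    rw [Pi.algebraMap_apply, map_one, Pi.one_apply]
    have h1 := (h i).counit_eq_one
    rw [TensorProduct.counit_tmul] at h1
    rw [Algebra.algebraMap_eq_smul_one]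
    exact h1
  · rw [← sub_eq_zero]
    apply inj_family R T (A ⊗[R] A)
    intro i
    apply (TensorProduct.AlgebraTensorModule.distribBaseChange R (T i) A A).injective
    rw [map_zero, ← Psi_eq, map_sub, ← comul_one_tmul, Ψ_tmul, (h i).comul_eq_tmul_self, sub_self]

theorem mem_smulTop_of_family (X : Type u) [AddCommGroup X] [Module R X] (x : X)
    (h : ∀ i, (1 : T i) ⊗ₜ[R] x ∈ I • (⊤ : Submodule R (T i ⊗[R] X))) :
    x ∈ I • (⊤ : Submodule R X) := by
  rw [← Submodule.Quotient.mk_eq_zero (I • (⊤ : Submodule R X))]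
  apply inj_family R T (X ⧸ (I • (⊤ : Submodule R X)))
  intro i
  have hkill : ∀ z ∈ I • (⊤ : Submodule R (T i ⊗[R] X)),
      ((I • (⊤ : Submodule R X)).mkQ).lTensor (T i) z = 0 := by
    intro z hz
    refine Submodule.smul_induction_on hz ?_ ?_
    · intro r hr w _
      rw [map_smul]
      generalize ((I • (⊤ : Submodule R X)).mkQ).lTensor (T i) w = v
      induction v using TensorProduct.induction_on with
      | zero => rw [smul_zero]
      | tmul t q =>
        obtain ⟨y, rfl⟩ := (I • (⊤ : Submodule R X)).mkQ_surjective q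
        rw [← TensorProduct.tmul_smul, ← map_smul, Submodule.mkQ_apply,
          (Submodule.Quotient.mk_eq_zero _).mpr (Submodule.smul_mem_smul hr Submodule.mem_top),
          TensorProduct.tmul_zero]
      | add v v' hv hv' => rw [smul_add, hv, hv', add_zero]
    · intro z z' hz hz'
      rw [map_add, hz, hz', add_zero]
  have h1 := hkill _ (h i)
  rw [LinearMap.lTensor_tmul, Submodule.mkQ_apply] at h1
  exact h1

end Fam

end BC

/-- `T ⊗ A` has a `T`-basis consisting of group-like elements -/
def HasGL (R : Type u) [CommRing R] (A : Type u) [CommRing A] [Bialgebra R A] (T : Type u)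
    [CommRing T] [Algebra R T] : Prop :=
  ∃ (N : Type u) (β : Module.Basis N T (T ⊗[R] A)), ∀ n, IsGroupLikeElem T (β n)

section HasGLSec

variable {R : Type u} [CommRing R] {A : Type u} [CommRing A] [Bialgebra R A]

theorem hasGL_via {T₁ T₂ : Type u} [CommRing T₁] [Algebra R T₁] [CommRing T₂] [Algebra R T₂]
    (j : T₁ →ₐ[R] T₂) (h : HasGL R A T₁) : HasGL R A T₂ := by
  obtain ⟨N, β, hβ⟩ := h
  let b : Module.Basis N (Via j) (Via j ⊗[R] A) :=
    (β.baseChange (Via j)).map
      (Algebra.TensorProduct.cancelBaseChange R T₁ (Via j) (Via j) A).toLinearEquiv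
  have key : ∀ n, IsGroupLikeElem (Via j) (b n) := by
    intro n
    have h1 : b n = Groth.Agent.Helper6.MT.cancelBC R T₁ (Via j) A ((1 : Via j) ⊗ₜ[T₁] β n) := by
      show ((β.baseChange (Via j)).map _) n = _
      rw [Module.Basis.map_apply, Module.Basis.baseChange_apply]
      rfl
    rw [h1]
    exact (Groth.Agent.Helper6.MT.isGroupLikeElem_one_tmul (hβ n)).map
      (Groth.Agent.Helper6.MT.cancelBC R T₁ (Via j) A)
  exact ⟨N, b, key⟩

theorem map_eq_dL {S T : Type u} [CommRing S] [Algebra R S] [CommRing T] [Algebra R T]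
    (x : S ⊗[R] A) :
    Algebra.TensorProduct.map (Algebra.TensorProduct.includeLeft : S →ₐ[R] S ⊗[R] T)
      (AlgHom.id R A) x = dL R S T A x := by
  induction x using TensorProduct.induction_on with
  | zero => rw [map_zero, map_zero]
  | tmul s a => rw [Algebra.TensorProduct.map_tmul, dL_tmul]; rfl
  | add x y hx hy => rw [map_add, map_add, hx, hy]

theorem map_eq_dR {S T : Type u} [CommRing S] [Algebra R S] [CommRing T] [Algebra R T]
    (x : T ⊗[R] A) :
    Algebra.TensorProduct.map (Algebra.TensorProduct.includeRight : T →ₐ[R] S ⊗[R] T)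
      (AlgHom.id R A) x = dR R S T A x := by
  induction x using TensorProduct.induction_on with
  | zero => rw [map_zero, map_zero]
  | tmul s a => rw [Algebra.TensorProduct.map_tmul, dR_tmul]; rfl
  | add x y hx hy => rw [map_add, map_add, hx, hy]

end HasGLSec

section Cover0

variable {R : Type u} [CommRing R] {A : Type u} [CommRing A] [HopfAlgebra R A]

theorem local_data (f : R)
    (h : IsMultTypeConst (Localization.Away f) (Localization.Away f ⊗[R] A)) :
    ∃ (T : Type u) (_ : CommRing T) (_ : Algebra R T), Module.Flat R T ∧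
      (∀ m : Ideal R, m.IsMaximal → f ∉ m → m • (⊤ : Submodule R T) ≠ ⊤) ∧ HasGL R A T := by
  obtain ⟨R', _, _, hff, N, _, ⟨e⟩⟩ := h
  let _ : Algebra R R' :=
    ((algebraMap (Localization.Away f) R').comp (algebraMap R (Localization.Away f))).toAlgebra
  have : IsScalarTower R (Localization.Away f) R' :=
    IsScalarTower.of_algebraMap_eq (fun x => rfl)
  refine ⟨R', inferInstance, inferInstance, ?_, ?_, ?_⟩
  · have : Module.Flat R (Localization.Away f) := IsLocalization.flat _ (Submonoid.powers f)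
    exact Module.Flat.trans R (Localization.Away f) R'
  · intro m hm hfm htop
    have hdisj : Disjoint (Submonoid.powers f : Set R) (m : Set R) := by
      rw [Set.disjoint_left]
      rintro x ⟨n, rfl⟩ hx
      exact hfm (hm.isPrime.mem_of_pow_mem n hx)
    have hne : m.map (algebraMap R (Localization.Away f)) ≠ ⊤ :=
      (IsLocalization.map_algebraMap_ne_top_iff_disjoint (Submonoid.powers f)
        (Localization.Away f) m).mpr hdisj
    obtain ⟨m'', hm'', hle⟩ := Ideal.exists_le_maximal _ hne
    apply hff.submodule_ne_top hm''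
    rw [eq_top_iff]
    intro y _
    have hy : y ∈ m • (⊤ : Submodule R R') := by
      rw [htop]
      trivial
    refine Submodule.smul_induction_on hy ?_ ?_
    · intro r hr z _
      rw [← algebraMap_smul (Localization.Away f) r z]
      exact Submodule.smul_mem_smul (hle (Ideal.mem_map_of_mem _ hr)) Submodule.mem_top
    · intro x y hx hy
      exact Submodule.add_mem _ hx hy
  · let L : MonoidAlgebra R' N ≃ₗ[R'] R' ⊗[R] A :=
      e.symm.toCoalgEquiv.toLinearEquiv ≪≫ₗ
        (Groth.Agent.Helper6.MT.cancelBC R (Localization.Away f) R' A).toCoalgEquiv.toLinearEquiv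
    refine ⟨N, (MonoidAlgebra.basis N R').map L, fun n => ?_⟩
    rw [Module.Basis.map_apply, MonoidAlgebra.basis_apply]
    show IsGroupLikeElem R' (Groth.Agent.Helper6.MT.cancelBC R (Localization.Away f) R' A
      (e.symm (MonoidAlgebra.single n 1)))
    exact ((MonoidAlgebra.isGroupLikeElem_single_one (R := R') (A := R') n).map e.symm).map _

theorem exists_cover (hA : IsMultType R A) :
    ∃ (ι : Type u) (_ : Fintype ι) (_ : DecidableEq ι) (T : ι → Type u)
      (_ : ∀ i, CommRing (T i)) (_ : ∀ i, Algebra R (T i)),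
      Module.FaithfullyFlat R (Π i, T i) ∧ ∀ i, HasGL R A (T i) := by
  classical
  obtain ⟨s, hs, hsf⟩ := hA
  obtain ⟨s', hs's, hs'⟩ := (Ideal.span_eq_top_iff_finite s).mp hs
  choose T iCR iAlg hflat hfaith hgl using
    fun i : s' => local_data (A := A) i.1 (hsf i.1 (hs's (Finset.mem_coe.mpr i.2)))
  refine ⟨s', inferInstance, inferInstance, T, iCR, iAlg, ?_, hgl⟩
  apply pi_faithfullyFlat R T
  intro m hm
  have hnot : ¬ ((s' : Set R) ⊆ (m : Set R)) := by
    intro hsm
    have h1 : Ideal.span (s' : Set R) ≤ m := Ideal.span_le.mpr hsm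
    rw [hs'] at h1
    exact hm.ne_top (top_le_iff.mp h1)
  obtain ⟨f, hfs, hfm⟩ := Set.not_subset.mp hnot
  exact ⟨⟨f, Finset.mem_coe.mp hfs⟩, hfaith _ m hm hfm⟩

end Cover0

section Cover

variable {R : Type u} [CommRing R] {A : Type u} [CommRing A] [HopfAlgebra R A] {I : Ideal R}
  (hI : ∀ x ∈ I, IsNilpotent x)
  {ι : Type u} [Fintype ι] [DecidableEq ι] (T : ι → Type u) [∀ i, CommRing (T i)]
  [∀ i, Algebra R (T i)] [Module.FaithfullyFlat R (Π i, T i)] (hgl : ∀ i, HasGL R A (T i))

include hI hgl in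
/-- uniqueness of group-like lifts modulo a nil ideal -/
theorem lift_unique_cover {g g' : A} (hg : IsGroupLikeElem R g) (hg' : IsGroupLikeElem R g')
    (h : g - g' ∈ I • (⊤ : Submodule R A)) : g = g' := by
  rw [← sub_eq_zero]
  apply inj_family R T A
  intro i
  obtain ⟨N, β, hβ⟩ := hgl i
  rw [TensorProduct.tmul_sub, sub_eq_zero]
  apply gl_unique β hβ (map_nil I (T i) hI)
    (Groth.Agent.Helper6.MT.isGroupLikeElem_one_tmul hg)
    (Groth.Agent.Helper6.MT.isGroupLikeElem_one_tmul hg')
  rw [← TensorProduct.tmul_sub]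
  exact (smulTop_bridge I (T i) _).mp (map_mem_smulTop I (TensorProduct.mk R (T i) A 1) h)

include hI hgl in
/-- existence of group-like lifts modulo a nil ideal -/
theorem lift_exists_cover (a : A) (h1 : Coalgebra.counit (R := R) a - 1 ∈ I)
    (h2 : Coalgebra.comul (R := R) a - a ⊗ₜ[R] a ∈ I • (⊤ : Submodule R (A ⊗[R] A))) :
    ∃ g : A, IsGroupLikeElem R g ∧ g - a ∈ I • (⊤ : Submodule R A) := by
  have hloc : ∀ i, ∃ g : T i ⊗[R] A, IsGroupLikeElem (T i) g ∧
      g - (1 : T i) ⊗ₜ[R] a ∈
        (I.map (algebraMap R (T i))) • (⊤ : Submodule (T i) (T i ⊗[R] A)) := by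
    intro i
    obtain ⟨N, β, hβ⟩ := hgl i
    obtain ⟨hc, hd⟩ := approx_bc I (T i) a h1 h2
    exact gl_exists β hβ (map_nil I (T i) hI) _ hc hd
  choose g hg hga using hloc
  have hcompat : ∀ i j, dL R (T i) (T j) A (g i) = dR R (T i) (T j) A (g j) := by
    intro i j
    obtain ⟨N, β, hβ⟩ := hasGL_via (A := A)
      (Algebra.TensorProduct.includeLeft : T i →ₐ[R] T i ⊗[R] T j) (hgl i)
    rw [← map_eq_dL, ← map_eq_dR]
    apply gl_unique β hβ (map_nil I (T i ⊗[R] T j) hI)
      (isGroupLikeElem_map_via _ (hg i)) (isGroupLikeElem_map_via _ (hg j))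
    have e1 : Algebra.TensorProduct.map (Algebra.TensorProduct.includeLeft : T i →ₐ[R] T i ⊗[R] T j)
        (AlgHom.id R A) (g i) - (1 : T i ⊗[R] T j) ⊗ₜ[R] a ∈
          I • (⊤ : Submodule R ((T i ⊗[R] T j) ⊗[R] A)) := by
      have h3 := map_mem_smulTop I
        (Algebra.TensorProduct.map (Algebra.TensorProduct.includeLeft : T i →ₐ[R] T i ⊗[R] T j)
          (AlgHom.id R A)).toLinearMap ((smulTop_bridge I (T i) _).mpr (hga i))
      rw [AlgHom.toLinearMap_apply, map_sub, Algebra.TensorProduct.map_tmul, map_one] at h3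
      exact h3
    have e2 : Algebra.TensorProduct.map
        (Algebra.TensorProduct.includeRight : T j →ₐ[R] T i ⊗[R] T j)
        (AlgHom.id R A) (g j) - (1 : T i ⊗[R] T j) ⊗ₜ[R] a ∈
          I • (⊤ : Submodule R ((T i ⊗[R] T j) ⊗[R] A)) := by
      have h3 := map_mem_smulTop I
        (Algebra.TensorProduct.map (Algebra.TensorProduct.includeRight : T j →ₐ[R] T i ⊗[R] T j)
          (AlgHom.id R A)).toLinearMap ((smulTop_bridge I (T j) _).mpr (hga j))
      rw [AlgHom.toLinearMap_apply, map_sub, Algebra.TensorProduct.map_tmul, map_one] at h3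
      exact h3
    have e3 := Submodule.sub_mem _ e1 e2
    rw [sub_sub_sub_cancel_right] at e3
    exact (smulTop_bridge I (T i ⊗[R] T j) _).mp e3
  obtain ⟨a', ha'⟩ := desc_family R T A g hcompat
  refine ⟨a', isGroupLike_of_family T a' (fun i => by rw [ha' i]; exact hg i), ?_⟩
  apply mem_smulTop_of_family I T A
  intro i
  rw [TensorProduct.tmul_sub, ha' i]
  exact (smulTop_bridge I (T i) _).mpr (hga i)

include hI hgl in
/-- a family of group-likes which is a basis modulo a nil ideal is a basis -/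
theorem basis_of_cover {M : Type u} [DecidableEq M] (γ : M → A)
    (hγ : ∀ m, IsGroupLikeElem R (γ m))
    (hsurj : Submodule.span R (Set.range γ) ⊔ I • (⊤ : Submodule R A) = ⊤)
    (hfun : ∀ m, ∃ c : A →ₗ[R] R ⧸ I, ∀ m', c (γ m') = if m' = m then 1 else 0) :
    LinearIndependent R γ ∧ Submodule.span R (Set.range γ) = ⊤ := by
  have hloc : ∀ i, LinearIndependent (T i) (fun m => (1 : T i) ⊗ₜ[R] γ m) ∧
      Submodule.span (T i) (Set.range (fun m => (1 : T i) ⊗ₜ[R] γ m)) = ⊤ := by
    intro i
    obtain ⟨N, β, hβ⟩ := hgl i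
    apply iso_abs β hβ (map_nil I (T i) hI) _
      (fun m => Groth.Agent.Helper6.MT.isGroupLikeElem_one_tmul (hγ m))
    · intro n
      have hspanT : ∀ (t : T i) (p : A), p ∈ Submodule.span R (Set.range γ) →
          t ⊗ₜ[R] p ∈ Submodule.span (T i) (Set.range fun m => (1 : T i) ⊗ₜ[R] γ m) := by
        intro t p hp
        induction hp using Submodule.span_induction with
        | mem x hx =>
          obtain ⟨m, rfl⟩ := hx
          have h3 : t ⊗ₜ[R] γ m = t • ((1 : T i) ⊗ₜ[R] γ m) := by
            rw [TensorProduct.smul_tmul', smul_eq_mul, mul_one]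
          rw [h3]
          exact Submodule.smul_mem _ _ (Submodule.subset_span ⟨m, rfl⟩)
        | zero =>
          rw [TensorProduct.tmul_zero]
          exact Submodule.zero_mem _
        | add x y _ _ hx hy =>
          rw [TensorProduct.tmul_add]
          exact Submodule.add_mem _ hx hy
        | smul r x _ hx =>
          rw [TensorProduct.tmul_smul, ← algebraMap_smul (T i) r (t ⊗ₜ[R] x)]
          exact Submodule.smul_mem _ _ hx
      have hall : ∀ d : T i ⊗[R] A,
          d ∈ Submodule.span (T i) (Set.range fun m => (1 : T i) ⊗ₜ[R] γ m) ⊔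
            (I.map (algebraMap R (T i))) • (⊤ : Submodule (T i) (T i ⊗[R] A)) := by
        intro d
        induction d using TensorProduct.induction_on with
        | zero => exact Submodule.zero_mem _
        | tmul t a =>
          have ha : a ∈ Submodule.span R (Set.range γ) ⊔ I • (⊤ : Submodule R A) := by
            rw [hsurj]
            trivial
          obtain ⟨p, hp, q, hq, rfl⟩ := Submodule.mem_sup.mp ha
          rw [TensorProduct.tmul_add]
          refine Submodule.add_mem_sup (hspanT t p hp) ?_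
          exact (smulTop_bridge I (T i) _).mp
            (map_mem_smulTop I (TensorProduct.mk R (T i) A t) hq)
        | add x y hx hy => exact Submodule.add_mem _ hx hy
      exact hall (β n)
    · intro m m' hmm' t ht
      obtain ⟨c, hc⟩ := hfun m
      have h1 : c.baseChange (T i) (t • ((1 : T i) ⊗ₜ[R] γ m) - t • ((1 : T i) ⊗ₜ[R] γ m')) =
          t ⊗ₜ[R] (1 : R ⧸ I) := by
        rw [map_sub, map_smul, map_smul, LinearMap.baseChange_tmul, LinearMap.baseChange_tmul,
          hc m, hc m', if_pos rfl, if_neg (fun h => hmm' h.symm), TensorProduct.tmul_zero,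
          smul_zero, sub_zero, TensorProduct.smul_tmul', smul_eq_mul, mul_one]
      have h2 : ∀ z ∈ (I.map (algebraMap R (T i))) • (⊤ : Submodule (T i) (T i ⊗[R] A)),
          c.baseChange (T i) z = 0 := by
        intro z hz
        have hz' := (smulTop_bridge I (T i) z).mpr hz
        refine Submodule.smul_induction_on hz' ?_ ?_
        · intro r hr w _
          rw [← algebraMap_smul (T i) r w, map_smul, algebraMap_smul]
          exact smul_tmul_quot_eq_zero I (T i) hr _
        · intro x y hx hy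
          rw [map_add, hx, hy, add_zero]
      apply mem_map_of_tmul_one_eq_zero I (T i) t
      rw [← h1]
      exact h2 _ ht
  constructor
  · rw [linearIndependent_iff']
    intro s g hg m hm
    have hinj : Function.Injective (algebraMap R (Π i, T i)) :=
      FaithfulSMul.algebraMap_injective R (Π i, T i)
    apply hinj
    rw [map_zero]
    funext i
    rw [Pi.algebraMap_apply, Pi.zero_apply]
    have h1 : ∑ m ∈ s, algebraMap R (T i) (g m) • ((1 : T i) ⊗ₜ[R] γ m) = 0 := by
      have h2 : ∀ m, algebraMap R (T i) (g m) • ((1 : T i) ⊗ₜ[R] γ m) =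
          (1 : T i) ⊗ₜ[R] (g m • γ m) := fun m => by
        rw [algebraMap_smul, TensorProduct.tmul_smul]
      rw [Finset.sum_congr rfl (fun m _ => h2 m), ← TensorProduct.tmul_sum, hg,
        TensorProduct.tmul_zero]
    exact (linearIndependent_iff'.mp (hloc i).1) s (fun m => algebraMap R (T i) (g m)) h1 m hm
  · rw [eq_top_iff]
    intro a _
    rw [← Submodule.Quotient.mk_eq_zero (Submodule.span R (Set.range γ))]
    apply inj_family R T (A ⧸ Submodule.span R (Set.range γ))
    intro i
    have h1 : ∀ d ∈ Submodule.span (T i) (Set.range fun m => (1 : T i) ⊗ₜ[R] γ m),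
        ((Submodule.span R (Set.range γ)).mkQ).baseChange (T i) d = 0 := by
      intro d hd
      induction hd using Submodule.span_induction with
      | mem x hx =>
        obtain ⟨m, rfl⟩ := hx
        rw [LinearMap.baseChange_tmul, Submodule.mkQ_apply,
          (Submodule.Quotient.mk_eq_zero (Submodule.span R (Set.range γ))).mpr
            (Submodule.subset_span ⟨m, rfl⟩),
          TensorProduct.tmul_zero]
      | zero => rw [map_zero]
      | add x y _ _ hx hy => rw [map_add, hx, hy, add_zero]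
      | smul r x _ hx => rw [map_smul, hx, smul_zero]
    have h2 := h1 ((1 : T i) ⊗ₜ[R] a) (by
      rw [(hloc i).2]
      trivial)
    rw [LinearMap.baseChange_tmul, Submodule.mkQ_apply] at h2
    exact h2

end Cover

section Main

variable {R : Type u} [CommRing R] {A : Type u} [CommRing A] [HopfAlgebra R A] {I : Ideal R}

/-- lifting of group-like elements along a nil ideal, for groups of multiplicative type -/
theorem lift_exists (hI : ∀ x ∈ I, IsNilpotent x) (hA : IsMultType R A) (a : A)
    (h1 : Coalgebra.counit (R := R) a - 1 ∈ I)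
    (h2 : Coalgebra.comul (R := R) a - a ⊗ₜ[R] a ∈ I • (⊤ : Submodule R (A ⊗[R] A))) :
    ∃ g : A, IsGroupLikeElem R g ∧ g - a ∈ I • (⊤ : Submodule R A) := by
  obtain ⟨ι, _, _, T, _, _, hff, hgl⟩ := exists_cover hA
  exact lift_exists_cover hI T hgl a h1 h2

theorem lift_unique (hI : ∀ x ∈ I, IsNilpotent x) (hA : IsMultType R A) {g g' : A}
    (hg : IsGroupLikeElem R g) (hg' : IsGroupLikeElem R g')
    (h : g - g' ∈ I • (⊤ : Submodule R A)) : g = g' := by
  obtain ⟨ι, _, _, T, _, _, hff, hgl⟩ := exists_cover hA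
  exact lift_unique_cover hI T hgl hg hg' h

/-- a group of multiplicative type which is diagonalisable modulo a nil ideal is
diagonalisable -/
theorem main (R : Type u) [CommRing R] (A : Type u) [CommRing A] [HopfAlgebra R A] (I : Ideal R)
    (hI : ∀ x ∈ I, IsNilpotent x) (h : IsMultType R A)
    (h0 : IsDiag (R ⧸ I) ((R ⧸ I) ⊗[R] A)) : IsDiag R A := by
  classical
  obtain ⟨M, _, ⟨e₀⟩⟩ := h0
  obtain ⟨ι, _, _, T, _, _, hff, hgl⟩ := exists_cover h
  -- the basis of group-likes of the reduction
  obtain ⟨bb, hbb⟩ : ∃ bb : Module.Basis M (R ⧸ I) ((R ⧸ I) ⊗[R] A),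
      ∀ m, bb m = e₀.symm (MonoidAlgebra.single m 1) := by
    refine ⟨(MonoidAlgebra.basis M (R ⧸ I)).map e₀.symm.toCoalgEquiv.toLinearEquiv, fun m => ?_⟩
    rw [Module.Basis.map_apply, MonoidAlgebra.basis_apply]
    rfl
  have hbbgl : ∀ m, IsGroupLikeElem (R ⧸ I) (bb m) := fun m => by
    rw [hbb]
    exact (MonoidAlgebra.isGroupLikeElem_single_one (R := R ⧸ I) (A := R ⧸ I) m).map e₀.symm
  choose a₀ ha₀ using fun m => one_tmul_surjective I (bb m)
  have happ : ∀ m, Coalgebra.counit (R := R) (a₀ m) - 1 ∈ I ∧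
      Coalgebra.comul (R := R) (a₀ m) - a₀ m ⊗ₜ[R] a₀ m ∈ I • (⊤ : Submodule R (A ⊗[R] A)) :=
    fun m => approx_of_quot I (a₀ m) (by rw [ha₀]; exact hbbgl m)
  choose g hg hga using fun m => lift_exists_cover hI T hgl (a₀ m) (happ m).1 (happ m).2
  have hgb : ∀ m, (1 : R ⧸ I) ⊗ₜ[R] g m = bb m := fun m => by
    rw [← ha₀ m]
    exact tmul_eq_of_mem I (hga m)
  -- the monoid homomorphism
  have hone : g 1 = 1 := by
    apply lift_unique_cover hI T hgl (hg 1) IsGroupLikeElem.one
    apply Groth.Agent.Helper22.MultType.mem_of_tmul_eq I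
    rw [hgb, hbb, ← MonoidAlgebra.one_def, map_one, Algebra.TensorProduct.one_def]
  have hmul : ∀ m m', g (m * m') = g m * g m' := by
    intro m m'
    apply lift_unique_cover hI T hgl (hg _) ((hg m).mul (hg m'))
    apply Groth.Agent.Helper22.MultType.mem_of_tmul_eq I
    have h3 : (1 : R ⧸ I) ⊗ₜ[R] (g m * g m') =
        ((1 : R ⧸ I) ⊗ₜ[R] g m) * ((1 : R ⧸ I) ⊗ₜ[R] g m') := by
      rw [Algebra.TensorProduct.tmul_mul_tmul, one_mul]
    rw [h3, hgb, hgb, hgb, hbb, hbb, hbb, ← map_mul, MonoidAlgebra.single_mul_single, one_mul]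
  let Γ : M →* GroupLike R A :=
    { toFun := fun m => ⟨g m, hg m⟩
      map_one' := GroupLike.val_injective hone
      map_mul' := fun m m' => GroupLike.val_injective (hmul m m') }
  let φ : MonoidAlgebra R M →ₐc[R] A :=
    (MonoidAlgebra.liftGroupLikeBialgHom (R := R) (A := A)).comp
      (MonoidAlgebra.mapDomainBialgHom R Γ)
  have hφ : ∀ m, φ (MonoidAlgebra.single m 1) = g m := fun m => by
    show MonoidAlgebra.liftGroupLikeBialgHom (MonoidAlgebra.mapDomainBialgHom R Γ
      (MonoidAlgebra.single m 1)) = g m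
    rw [MonoidAlgebra.mapDomainBialgHom_single]
    simp [MonoidAlgebra.liftGroupLikeBialgHom, Γ]
  -- the basis property
  have hsurjA : Submodule.span R (Set.range g) ⊔ I • (⊤ : Submodule R A) = ⊤ := by
    rw [eq_top_iff]
    intro a _
    obtain ⟨l, hl⟩ : ∃ l : M →₀ (R ⧸ I), l = bb.repr ((1 : R ⧸ I) ⊗ₜ[R] a) := ⟨_, rfl⟩
    choose r hr using fun m => Ideal.Quotient.mk_surjective (l m)
    obtain ⟨p, hp⟩ : ∃ p : A, p = ∑ m ∈ l.support, r m • g m := ⟨_, rfl⟩
    have h3 : (1 : R ⧸ I) ⊗ₜ[R] p = (1 : R ⧸ I) ⊗ₜ[R] a := by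
      have h4 : ∀ m, (1 : R ⧸ I) ⊗ₜ[R] (r m • g m) = l m • bb m := fun m => by
        rw [TensorProduct.tmul_smul, hgb, ← hr m, ← Ideal.Quotient.algebraMap_eq,
          algebraMap_smul]
      rw [hp, TensorProduct.tmul_sum, Finset.sum_congr rfl (fun m _ => h4 m)]
      have h5 := bb.linearCombination_repr ((1 : R ⧸ I) ⊗ₜ[R] a)
      rw [Finsupp.linearCombination_apply, Finsupp.sum, ← hl] at h5
      exact h5
    have h6 : a = p + (a - p) := by abel
    rw [h6]
    refine Submodule.add_mem_sup ?_ (Groth.Agent.Helper22.MultType.mem_of_tmul_eq I h3.symm)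
    rw [hp]
    exact Submodule.sum_mem _
      (fun m _ => Submodule.smul_mem _ _ (Submodule.subset_span ⟨m, rfl⟩))
  have hfun : ∀ m, ∃ c : A →ₗ[R] R ⧸ I, ∀ m', c (g m') = if m' = m then 1 else 0 := by
    intro m
    refine ⟨((bb.coord m).restrictScalars R) ∘ₗ (TensorProduct.mk R (R ⧸ I) A 1), fun m' => ?_⟩
    rw [LinearMap.comp_apply, TensorProduct.mk_apply, LinearMap.restrictScalars_apply, hgb,
      Module.Basis.coord_apply, Module.Basis.repr_self, Finsupp.single_apply]
  obtain ⟨hind, hspan⟩ := basis_of_cover hI T hgl g hg hsurjA hfun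
  -- bijectivity
  have hφlin : ∀ x : MonoidAlgebra R M,
      φ x = Finsupp.linearCombination R g ((MonoidAlgebra.basis M R).repr x) := by
    have h3 : ((φ : MonoidAlgebra R M →ₐ[R] A).toLinearMap) =
        Finsupp.linearCombination R g ∘ₗ (MonoidAlgebra.basis M R).repr.toLinearMap := by
      apply (MonoidAlgebra.basis M R).ext
      intro m
      rw [LinearMap.comp_apply, LinearEquiv.coe_coe, Module.Basis.repr_self,
        Finsupp.linearCombination_single, one_smul, MonoidAlgebra.basis_apply]
      exact hφ m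
    intro x
    exact congrArg (fun f : MonoidAlgebra R M →ₗ[R] A => f x) h3
  have hbij : Function.Bijective φ := by
    constructor
    · intro x y hxy
      rw [hφlin, hφlin] at hxy
      exact (MonoidAlgebra.basis M R).repr.injective (hind hxy)
    · intro a
      have ha : a ∈ Submodule.span R (Set.range g) := by
        rw [hspan]
        trivial
      rw [← Finsupp.range_linearCombination] at ha
      obtain ⟨l, rfl⟩ := ha
      refine ⟨(MonoidAlgebra.basis M R).repr.symm l, ?_⟩
      rw [hφlin, LinearEquiv.apply_symm_apply]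
  exact ⟨M, inferInstance, ⟨(BialgEquiv.ofBijective φ hbij).symm⟩⟩

end Main

end Groth.Agent.Helper25.NilLift
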