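import Mathlib

namespace Groth.Agent.Helper25.ASCover

open PowerSeries

variable {k : Type*} [Field k]

/-- `A = 1 + X^n W` with `W(0) = c`. -/
def Near (n : ℕ) (A : PowerSeries k) (c : k) : Prop :=
  ∃ W : PowerSeries k, A = 1 + X ^ n * W ∧ constantCoeff W = c

lemma near_one (n : ℕ) : Near n (1 : PowerSeries k) 0 :=
  ⟨0, by simp, by simp⟩

lemma near_constantCoeff {n : ℕ} (hn : 0 < n) {A : PowerSeries k} {c : k} (h : Near n A c) :
    constantCoeff A = 1 := by
  obtain ⟨W, rfl, -⟩ := h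
  simp [hn.ne']

lemma near_mul {n : ℕ} (hn : 0 < n) {A B : PowerSeries k} {c d : k} (hA : Near n A c)
    (hB : Near n B d) : Near n (A * B) (c + d) := by
  obtain ⟨W, rfl, rfl⟩ := hA
  obtain ⟨V, rfl, rfl⟩ := hB
  refine ⟨W + V + X ^ n * W * V, by ring, ?_⟩
  simp [hn.ne']

lemma near_inv {n : ℕ} (hn : 0 < n) {A B : PowerSeries k} {c : k} (hA : Near n A c)
    (hAB : A * B = 1) : Near n B (-c) := by
  have hA0 := near_constantCoeff hn hA
  have hB0 : constantCoeff B = 1 := by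
    have := congrArg constantCoeff hAB
    simpa [hA0] using this
  obtain ⟨W, rfl, rfl⟩ := hA
  refine ⟨-(W * B), ?_, by simp [hB0]⟩
  linear_combination hAB

lemma near_zpow {n : ℕ} (hn : 0 < n) (U : (PowerSeries k)ˣ) {c : k}
    (hU : Near n (U : PowerSeries k) c) (E : ℤ) :
    Near n ((U ^ E : (PowerSeries k)ˣ) : PowerSeries k) (E * c) := by
  induction E using Int.induction_on with
  | zero => simpa using near_one (k := k) n
  | succ i ih =>
    have h1 : ((U ^ ((i : ℤ) + 1) : (PowerSeries k)ˣ) : PowerSeries k)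
        = ((U ^ (i : ℤ) : (PowerSeries k)ˣ) : PowerSeries k) * U := by
      rw [zpow_add_one, Units.val_mul]
    rw [h1]
    have := near_mul hn ih hU
    convert this using 1
    push_cast; ring
  | pred i ih =>
    have hinv : Near n ((U⁻¹ : (PowerSeries k)ˣ) : PowerSeries k) (-c) :=
      near_inv hn hU (by simp)
    have h1 : ((U ^ (-(i : ℤ) - 1) : (PowerSeries k)ˣ) : PowerSeries k)
        = ((U ^ (-(i : ℤ)) : (PowerSeries k)ˣ) : PowerSeries k) * (U⁻¹ : (PowerSeries k)ˣ) := by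
      rw [zpow_sub_one, Units.val_mul]
    rw [h1]
    have := near_mul hn ih hinv
    convert this using 1
    push_cast; ring

lemma near_u {n : ℕ} (hn : 0 < n) (hnk : (n : k) ≠ 0) {u : PowerSeries k}
    (hu1 : constantCoeff u = 1) (hun : u ^ n * (1 + X ^ n) = 1) : Near n u (-(n : k)⁻¹) := by
  obtain ⟨S, hS⟩ : ∃ S : PowerSeries k, S = ∑ i ∈ Finset.range n, u ^ i := ⟨_, rfl⟩
  have hS0 : constantCoeff S = (n : k) := by
    simp [hS, map_sum, hu1]
  have hSne : constantCoeff S ≠ 0 := by rw [hS0]; exact hnk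
  have h1 : S * (u - 1) = u ^ n - 1 := by rw [hS]; exact geom_sum_mul u n
  have h2 : u ^ n - 1 = - (X ^ n * u ^ n) := by linear_combination hun
  refine ⟨-(u ^ n * S⁻¹), ?_, ?_⟩
  · have h3 : S * S⁻¹ = 1 := PowerSeries.mul_inv_cancel S hSne
    have h4 : u - 1 = S⁻¹ * (S * (u - 1)) := by
      rw [← mul_assoc, mul_comm S⁻¹ S, h3, one_mul]
    rw [h1, h2] at h4
    linear_combination h4
  · simp [PowerSeries.constantCoeff_inv, hu1, hS0]

lemma root_unique {n : ℕ} (hn : (n : k) ≠ 0) {A B : PowerSeries k} (hA : constantCoeff A = 1)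
    (hB : constantCoeff B = 1) (h : A ^ n = B ^ n) : A = B := by
  have h1 : (∑ i ∈ Finset.range n, A ^ i * B ^ (n - 1 - i)) * (A - B) = 0 := by
    rw [(Commute.all A B).geom_sum₂_mul, h, sub_self]
  have h2 : (∑ i ∈ Finset.range n, A ^ i * B ^ (n - 1 - i)) ≠ 0 := by
    intro h0
    have := congrArg constantCoeff h0
    simp [map_sum, hA, hB] at this
    exact hn this
  rcases mul_eq_zero.mp h1 with h3 | h3
  · exact absurd h3 h2
  · exact sub_eq_zero.mp h3

lemma subst_congr_mod {a b : PowerSeries k} (ha : HasSubst a) (hb : HasSubst b) (N : ℕ)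
    (h : X ^ N ∣ a - b) (G : PowerSeries k) :
    (X : PowerSeries k) ^ N ∣ (subst a G : PowerSeries k) - (subst b G : PowerSeries k) := by
  rw [X_pow_dvd_iff]
  intro j hj
  rw [map_sub, coeff_subst' ha, coeff_subst' hb,
    ← finsum_sub_distrib (coeff_subst_finite' ha G j) (coeff_subst_finite' hb G j)]
  apply finsum_eq_zero_of_forall_eq_zero
  intro d
  rw [← smul_sub, ← map_sub]
  have h2 : (X : PowerSeries k) ^ N ∣ a ^ d - b ^ d := dvd_trans h (sub_dvd_pow_sub_pow a b d)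
  rw [X_pow_dvd_iff.mp h2 j hj, smul_zero]

lemma constantCoeff_subst_of {a : PowerSeries k} (ha0 : constantCoeff a = 0) (G : PowerSeries k) :
    constantCoeff (subst a G : PowerSeries k) = constantCoeff G := by
  have ha : HasSubst a := HasSubst.of_constantCoeff_zero' ha0
  have h := subst_congr_mod ha HasSubst.X' 1 (by
    rw [pow_one, X_dvd_iff]; simp [ha0]) G
  rw [X_subst, pow_one, X_dvd_iff] at h
  rwa [map_sub, sub_eq_zero] at h

/-- substitution as an algebra hom -/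
noncomputable def sg (b : PowerSeries k) (hb : HasSubst b) : PowerSeries k →ₐ[k] PowerSeries k :=
  substAlgHom (R := k) hb

lemma sg_apply (b : PowerSeries k) (hb : HasSubst b) (f : PowerSeries k) :
    sg b hb f = subst b f := by
  show (substAlgHom (R := k) hb) f = _
  rw [coe_substAlgHom]

lemma sg_X (b : PowerSeries k) (hb : HasSubst b) : sg b hb X = b := by
  rw [sg_apply, subst_X hb]

lemma cc_smul (r : k) (f : PowerSeries k) : constantCoeff (r • f) = r * constantCoeff f := by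
  rw [smul_eq_C_mul, map_mul, constantCoeff_C]

theorem s13864 (p : ℕ) [Fact p.Prime] [CharP k p] (n : ℕ) (hn : 0 < n)
    (hpn : ¬ p ∣ n)
    (u : PowerSeries k) (hu1 : PowerSeries.constantCoeff u = 1)
    (hun : u ^ n * (1 + PowerSeries.X ^ n) = 1) (hu : IsUnit u) (a : ℤ)
    (c : ℕ → PowerSeries k)
    (hc : ∀ m : ℕ, 1 ≤ m → m ≤ n →
      PowerSeries.X ^ m * c m = ((hu.unit ^ (a - m) : (PowerSeries k)ˣ) : PowerSeries k) - 1)
    (coef : ℕ → k) (h : PowerSeries k)
    (hh : ((hu.unit ^ a : (PowerSeries k)ˣ) : PowerSeries k) *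
        PowerSeries.subst (PowerSeries.X * u) h - h =
      ∑ m ∈ (Finset.Icc 1 n).filter (fun m : ℕ => ¬ (p : ℤ) ∣ a - (m : ℤ)), coef m • c m) :
    ∀ m ∈ (Finset.Icc 1 n).filter (fun m : ℕ => ¬ (p : ℤ) ∣ a - (m : ℤ)), coef m = 0 := by
  classical
  have hnk : (n : k) ≠ 0 := fun h0 => hpn ((CharP.cast_eq_zero_iff k p n).mp h0)
  obtain ⟨U, hUdef⟩ : ∃ U : (PowerSeries k)ˣ, U = hu.unit := ⟨_, rfl⟩
  rw [← hUdef] at hh
  have hUu : (U : PowerSeries k) = u := by rw [hUdef]; exact hu.unit_spec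
  have hXu0 : constantCoeff (X * u) = 0 := by simp
  have hs : HasSubst (X * u) := HasSubst.of_constantCoeff_zero' hXu0
  obtain ⟨F, hF⟩ : ∃ F : Finset ℕ,
    F = (Finset.Icc 1 n).filter (fun m : ℕ => ¬ (p : ℤ) ∣ a - (m : ℤ)) := ⟨_, rfl⟩
  rw [← hF] at hh ⊢
  have hFmem : ∀ m ∈ F, (1 ≤ m ∧ m ≤ n) ∧ ¬ (p : ℤ) ∣ a - (m : ℤ) := by
    intro m hm
    rw [hF, Finset.mem_filter, Finset.mem_Icc] at hm
    exact hm
  have hc' : ∀ m : ℕ, 1 ≤ m → m ≤ n →
      X ^ m * c m = ((U ^ (a - m) : (PowerSeries k)ˣ) : PowerSeries k) - 1 := by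
    intro m h1 h2; rw [hUdef]; exact hc m h1 h2
  have hh' : ((U ^ a : (PowerSeries k)ˣ) : PowerSeries k) * sg (X * u) hs h
      = h + ∑ m ∈ F, coef m • c m := by
    rw [sg_apply]; linear_combination hh
  by_contra hcon
  push Not at hcon
  obtain ⟨m0, hm0F, hm0⟩ := hcon
  obtain ⟨S, hSdef⟩ : ∃ S : Finset ℕ, S = F.filter (fun m => coef m ≠ 0) := ⟨_, rfl⟩
  have hSne : S.Nonempty := ⟨m0, by rw [hSdef]; exact Finset.mem_filter.mpr ⟨hm0F, hm0⟩⟩
  obtain ⟨ms, hms⟩ : ∃ ms, ms = S.max' hSne := ⟨_, rfl⟩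
  have hmsS : ms ∈ S := by rw [hms]; exact Finset.max'_mem S hSne
  have hmsF : ms ∈ F := by rw [hSdef] at hmsS; exact (Finset.mem_filter.mp hmsS).1
  have hms0 : coef ms ≠ 0 := by rw [hSdef] at hmsS; exact (Finset.mem_filter.mp hmsS).2
  have hmsIcc : 1 ≤ ms ∧ ms ≤ n := (hFmem ms hmsF).1
  have hmsp : ¬ (p : ℤ) ∣ a - (ms : ℤ) := (hFmem ms hmsF).2
  have hbig : ∀ m ∈ F, ms < m → coef m = 0 := by
    intro m hm hlt
    by_contra hne
    have hmS : m ∈ S := by rw [hSdef]; exact Finset.mem_filter.mpr ⟨hm, hne⟩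
    have := Finset.le_max' S m hmS
    rw [← hms] at this
    omega
  obtain ⟨H, hH⟩ : ∃ H : PowerSeries k,
    H = ∑ m ∈ F, coef m • (X : PowerSeries k) ^ (n - m) - X ^ n * h := ⟨_, rfl⟩
  obtain ⟨G, hG⟩ : ∃ G : PowerSeries k,
    G = ∑ m ∈ F.filter (fun m => m ≤ ms), coef m • (X : PowerSeries k) ^ (ms - m) - X ^ ms * h :=
    ⟨_, rfl⟩
  have hHG : H = X ^ (n - ms) * G := by
    rw [hH, hG, mul_sub, Finset.mul_sum,
      ← Finset.sum_filter_add_sum_filter_not F (fun m => m ≤ ms)]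
    have h1 : ∑ m ∈ F.filter (fun m => ¬ m ≤ ms), coef m • (X : PowerSeries k) ^ (n - m) = 0 := by
      apply Finset.sum_eq_zero
      intro m hm
      rw [Finset.mem_filter] at hm
      rw [hbig m hm.1 (not_le.mp hm.2), zero_smul]
    rw [h1, add_zero]
    congr 1
    · apply Finset.sum_congr rfl
      intro m hm
      rw [Finset.mem_filter] at hm
      rw [mul_smul_comm, ← pow_add]
      congr 2
      have := (hFmem m hm.1).1
      omega
    · rw [← mul_assoc, ← pow_add]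
      congr 2
      omega
  have hG0 : constantCoeff G = coef ms := by
    rw [hG, map_sub, map_sum]
    have h1 : constantCoeff ((X : PowerSeries k) ^ ms * h) = 0 := by
      have : ms ≠ 0 := by omega
      simp [this]
    rw [h1, sub_zero, Finset.sum_eq_single ms]
    · simp [cc_smul]
    · intro m hm hne
      rw [Finset.mem_filter] at hm
      have : ms - m ≠ 0 := by omega
      simp [cc_smul, this]
    · intro hnot
      exact (hnot (Finset.mem_filter.mpr ⟨hmsF, le_rfl⟩)).elim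
  have hinv : ((U ^ (a - n) : (PowerSeries k)ˣ) : PowerSeries k) * sg (X * u) hs H = H := by
    have e1 : ∀ m ∈ F, ((U ^ (a - n) : (PowerSeries k)ˣ) : PowerSeries k) * (X * u) ^ (n - m)
        = X ^ (n - m) + X ^ n * c m := by
      intro m hm
      have hmI := (hFmem m hm).1
      have hz : U ^ (a - (m : ℤ)) = U ^ (a - n) * U ^ (n - m : ℕ) := by
        rw [← zpow_natCast, ← zpow_add]
        congr 1
        rw [Nat.cast_sub hmI.2]; ring
      have hcm := hc' m hmI.1 hmI.2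
      rw [hz, Units.val_mul, Units.val_pow_eq_pow_val, hUu] at hcm
      rw [mul_pow]
      have hXn : (X : PowerSeries k) ^ n = X ^ (n - m) * X ^ m := by
        rw [← pow_add]; congr 1; omega
      rw [hXn]
      linear_combination (-(X : PowerSeries k) ^ (n - m)) * hcm
    have e2 : ((U ^ (a - n) : (PowerSeries k)ˣ) : PowerSeries k) *
        ((X * u) ^ n * sg (X * u) hs h) = X ^ n * (h + ∑ m ∈ F, coef m • c m) := by
      have hz : U ^ a = U ^ (a - n) * U ^ n := by
        rw [← zpow_natCast, ← zpow_add]; congr 1; ring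
      have h2 := hh'
      rw [hz, Units.val_mul, Units.val_pow_eq_pow_val, hUu] at h2
      rw [mul_pow]
      linear_combination ((X : PowerSeries k) ^ n) * h2
    have e3 : ∀ m ∈ F, ((U ^ (a - n) : (PowerSeries k)ˣ) : PowerSeries k) *
        sg (X * u) hs (coef m • (X : PowerSeries k) ^ (n - m))
        = coef m • (X ^ (n - m) + X ^ n * c m) := by
      intro m hm
      rw [map_smul, map_pow, sg_X, mul_smul_comm, e1 m hm]
    rw [hH, map_sub, map_sum, mul_sub, Finset.mul_sum, Finset.sum_congr rfl e3, map_mul, map_pow,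
      sg_X, e2]
    simp only [smul_add, Finset.sum_add_distrib, mul_add, Finset.mul_sum, mul_smul_comm]
    abel
  have hinvG : ((U ^ (a - (ms : ℤ)) : (PowerSeries k)ˣ) : PowerSeries k) * sg (X * u) hs G
      = G := by
    have hz : U ^ (a - (ms : ℤ)) = U ^ (a - n) * U ^ (n - ms : ℕ) := by
      rw [← zpow_natCast, ← zpow_add]; congr 1; rw [Nat.cast_sub hmsIcc.2]; ring
    rw [hHG, map_mul, map_pow, sg_X, mul_pow] at hinv
    rw [hz, Units.val_mul, Units.val_pow_eq_pow_val, hUu]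
    have hX : (X : PowerSeries k) ^ (n - ms) ≠ 0 := pow_ne_zero _ X_ne_zero
    apply mul_left_cancel₀ hX
    linear_combination hinv
  have hnearu := near_u hn hnk hu1 hun
  have hnearU : Near n (U : PowerSeries k) (-(n : k)⁻¹) := by rw [hUu]; exact hnearu
  obtain ⟨WE, hWE, hWE0⟩ := near_zpow hn U hnearU (a - ms)
  obtain ⟨W, hW, hW0⟩ := hnearu
  have hdiff : (X : PowerSeries k) ^ (n + 1) ∣ X * u - X := ⟨W, by rw [hW]; ring⟩
  obtain ⟨Q, hQ⟩ := subst_congr_mod hs HasSubst.X' (n + 1) hdiff G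
  rw [X_subst] at hQ
  rw [sg_apply, hWE] at hinvG
  have h5 : (X : PowerSeries k) ^ n * (WE * (subst (X * u) G : PowerSeries k) + X * Q) = 0 := by
    linear_combination hinvG - hQ
  have h6 : WE * (subst (X * u) G : PowerSeries k) + X * Q = 0 := by
    rcases mul_eq_zero.mp h5 with h | h
    · exact absurd h (pow_ne_zero _ X_ne_zero)
    · exact h
  have h7 := congrArg constantCoeff h6
  rw [map_add, map_mul, map_mul, constantCoeff_X, zero_mul, add_zero,
    constantCoeff_subst_of hXu0, hWE0, hG0, map_zero] at h7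
  have h8 : ((a - (ms : ℤ) : ℤ) : k) = 0 := by
    rcases mul_eq_zero.mp h7 with h | h
    · rcases mul_eq_zero.mp h with h | h
      · exact h
      · exact absurd h (neg_ne_zero.mpr (inv_ne_zero hnk))
    · exact absurd h hms0
  exact hmsp ((CharP.intCast_eq_zero_iff k p _).mp h8)

theorem s13863 [IsAlgClosed k] (p : ℕ) [Fact p.Prime] [CharP k p] (n : ℕ) (hn : 0 < n)
    (hpn : ¬ p ∣ n)
    (u : PowerSeries k) (hu1 : PowerSeries.constantCoeff u = 1)
    (hun : u ^ n * (1 + PowerSeries.X ^ n) = 1) (hu : IsUnit u) (a : ℤ) (m : ℕ)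
    (hm1 : 1 ≤ m) (hmn : m ≤ n) (hdvd : (p : ℤ) ∣ a - m) (c : PowerSeries k)
    (hc : PowerSeries.X ^ m * c = ((hu.unit ^ (a - m) : (PowerSeries k)ˣ) : PowerSeries k) - 1) :
    ∃ h : PowerSeries k,
      ((hu.unit ^ a : (PowerSeries k)ˣ) : PowerSeries k) *
        PowerSeries.subst (PowerSeries.X * u) h - h = c := by
  classical
  have hnk : (n : k) ≠ 0 := fun h0 => hpn ((CharP.cast_eq_zero_iff k p n).mp h0)
  obtain ⟨U, hUdef⟩ : ∃ U : (PowerSeries k)ˣ, U = hu.unit := ⟨_, rfl⟩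
  rw [← hUdef] at hc ⊢
  have hUu : (U : PowerSeries k) = u := by rw [hUdef]; exact hu.unit_spec
  have hXu0 : constantCoeff (X * u) = 0 := by simp
  have hs : HasSubst (X * u) := HasSubst.of_constantCoeff_zero' hXu0
  obtain ⟨j, hj⟩ := hdvd
  have hp2 := (Fact.out : p.Prime).two_le
  obtain ⟨q, hq⟩ : ∃ q, p = q + 1 := ⟨p - 1, by omega⟩
  have hq0 : 0 < q := by omega
  obtain ⟨ζ, hζ⟩ := IsAlgClosed.exists_pow_nat_eq (-1 : k) hn
  obtain ⟨b, hb⟩ : ∃ b : PowerSeries k, b = C ζ * X ^ q := ⟨_, rfl⟩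
  have hb0 : constantCoeff b = 0 := by simp [hb, hq0.ne']
  have hsb : HasSubst b := HasSubst.of_constantCoeff_zero' hb0
  obtain ⟨T, hT⟩ : ∃ T : PowerSeries k, T = X ^ (q * n) := ⟨_, rfl⟩
  have hbn : b ^ n = -T := by
    rw [hb, hT, mul_pow, ← map_pow, hζ, ← pow_mul, map_neg, map_one, neg_one_mul]
  obtain ⟨v0, hv0⟩ : ∃ v0 : PowerSeries k, v0 = sg b hsb u := ⟨_, rfl⟩
  have hv0n : v0 ^ n * (1 - T) = 1 := by
    have := congrArg (sg b hsb) hun
    rw [map_mul, map_pow, map_add, map_one, map_pow, sg_X, hbn] at this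
    rw [hv0]; linear_combination this
  have hv00 : constantCoeff v0 = 1 := by
    rw [hv0, sg_apply, constantCoeff_subst_of hb0, hu1]
  obtain ⟨σ, hσ⟩ : ∃ σ : PowerSeries k →ₐ[k] PowerSeries k, σ = sg (X * u) hs := ⟨_, rfl⟩
  have hσX : σ X = X * u := by rw [hσ]; exact sg_X _ _
  have hσ0 : ∀ f : PowerSeries k, constantCoeff (σ f) = constantCoeff f := by
    intro f; rw [hσ, sg_apply, constantCoeff_subst_of hXu0]
  obtain ⟨y, hy⟩ : ∃ y : PowerSeries k, y = u ^ n := ⟨_, rfl⟩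
  obtain ⟨z, hz⟩ : ∃ z : PowerSeries k, z = 1 + X ^ n := ⟨_, rfl⟩
  have hyz : y * z = 1 := by rw [hy, hz]; exact hun
  have : CharP (PowerSeries k) p :=
    charP_of_injective_algebraMap (algebraMap k (PowerSeries k)).injective p
  have hzp : z ^ (q + 1) = 1 + X ^ ((q + 1) * n) := by
    rw [← hq, hz, add_pow_char, one_pow, ← pow_mul, mul_comm]
  have key : (1 - T * y ^ q) * z ^ (q + 1) = 1 - T := by
    have h1 : (1 - T * y ^ q) * z ^ (q + 1) = z ^ (q + 1) - T * (y * z) ^ q * z := by ring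
    rw [h1, hyz, hzp, hz, hT]; ring
  have hyq : y ^ (q + 1) * (1 - T) = 1 - T * y ^ q := by
    calc y ^ (q + 1) * (1 - T) = y ^ (q + 1) * ((1 - T * y ^ q) * z ^ (q + 1)) := by rw [key]
      _ = (1 - T * y ^ q) * (y * z) ^ (q + 1) := by ring
      _ = 1 - T * y ^ q := by rw [hyz, one_pow, mul_one]
  have hσT : σ T = T * y ^ q := by
    rw [hT, map_pow, hσX, mul_pow, hy, ← pow_mul]; congr 2; ring
  have hx : (σ (v0 ^ n) * y ^ (q + 1)) * (1 - T) = 1 := by
    rw [mul_assoc, hyq, ← hσT]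
    have := congrArg σ hv0n
    rw [map_mul, map_sub, map_one] at this
    exact this
  have hpow : (σ v0 * u ^ p) ^ n = v0 ^ n := by
    have h1 : (σ v0 * u ^ p) ^ n = σ (v0 ^ n) * y ^ (q + 1) := by
      rw [mul_pow, map_pow, hy, ← pow_mul, ← pow_mul, hq]; congr 2; ring
    rw [h1]
    calc σ (v0 ^ n) * y ^ (q + 1)
        = σ (v0 ^ n) * y ^ (q + 1) * (v0 ^ n * (1 - T)) := by rw [hv0n, mul_one]
      _ = v0 ^ n * (σ (v0 ^ n) * y ^ (q + 1) * (1 - T)) := by ring
      _ = v0 ^ n := by rw [hx, mul_one]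
  have hσv0 : σ v0 * u ^ p = v0 := by
    apply root_unique hnk _ hv00 hpow
    rw [map_mul, map_pow, hu1, one_pow, mul_one, hσ0, hv00]
  have hv0u : IsUnit v0 := by
    rw [isUnit_iff_constantCoeff, hv00]; exact isUnit_one
  obtain ⟨V0, hV0⟩ : ∃ V0 : (PowerSeries k)ˣ, (V0 : PowerSeries k) = v0 := ⟨hv0u.unit, hv0u.unit_spec⟩
  have hunits : Units.map (σ : PowerSeries k →* PowerSeries k) V0 * U ^ p = V0 := by
    apply Units.ext
    rw [Units.val_mul, Units.coe_map, Units.val_pow_eq_pow_val, hV0, hUu]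
    exact hσv0
  have hunitkey : U ^ (a - (m : ℤ)) * Units.map (σ : PowerSeries k →* PowerSeries k) (V0 ^ j)
      = V0 ^ j := by
    rw [hj, zpow_mul, zpow_natCast, map_zpow, ← mul_zpow, mul_comm, hunits]
  obtain ⟨W, hW, -⟩ := near_u hn hnk hu1 hun
  have hmqn : m ≤ q * n := le_trans hmn (Nat.le_mul_of_pos_left n hq0)
  have hnearv0 : Near m v0 (constantCoeff (X ^ (q * n - m) * (-(sg b hsb W)))) := by
    refine ⟨X ^ (q * n - m) * (-(sg b hsb W)), ?_, rfl⟩
    have h1 : v0 = 1 + b ^ n * sg b hsb W := by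
      rw [hv0]; conv_lhs => rw [hW]
      rw [map_add, map_one, map_mul, map_pow, sg_X]
    rw [h1, hbn, hT]
    have hX : (X : PowerSeries k) ^ (q * n) = X ^ m * X ^ (q * n - m) := by
      rw [← pow_add]; congr 1; omega
    rw [hX]; ring
  have hm0 : 0 < m := hm1
  obtain ⟨Wv, hWv, -⟩ := near_zpow hm0 V0 (by rw [hV0]; exact hnearv0) j
  refine ⟨-Wv, ?_⟩
  have hXm : (X : PowerSeries k) ^ m ≠ 0 := pow_ne_zero _ X_ne_zero
  apply mul_left_cancel₀ hXm
  rw [hc]
  have hza : U ^ a = U ^ (a - (m : ℤ)) * U ^ m := by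
    rw [← zpow_natCast, ← zpow_add]; congr 1; ring
  rw [hza, Units.val_mul, Units.val_pow_eq_pow_val, hUu, ← sg_apply (X * u) hs, ← hσ]
  have h1 : σ ((V0 ^ j : (PowerSeries k)ˣ) : PowerSeries k) = 1 + (X * u) ^ m * σ Wv := by
    rw [hWv, map_add, map_one, map_mul, map_pow, hσX]
  have h2 := congrArg Units.val hunitkey
  rw [Units.val_mul, Units.coe_map] at h2
  have h3 : ((σ : PowerSeries k →* PowerSeries k)) ((V0 ^ j : (PowerSeries k)ˣ) : PowerSeries k)
      = σ ((V0 ^ j : (PowerSeries k)ˣ) : PowerSeries k) := rfl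
  rw [h3, h1, hWv] at h2
  rw [map_neg]
  linear_combination (-1 : PowerSeries k) * h2

end Groth.Agent.Helper25.ASCover
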