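import Mathlib

/-!
# Bezout count in degree `d ≥ n + m` for two coprime forms in three variables
-/

namespace Groth.Agent.Helper25.BezoutA

open MvPolynomial

universe u

section HC

variable {k : Type u} [CommSemiring k] {σ : Type*}

theorem hc_mul_right (a f : MvPolynomial σ k) (n e : ℕ) (hf : f.IsHomogeneous n) :
    homogeneousComponent (e + n) (a * f) = homogeneousComponent e a * f := by
  classical
  conv_lhs => rw [← sum_homogeneousComponent a]
  rw [Finset.sum_mul, map_sum]
  have hterm : ∀ i ∈ Finset.range (a.totalDegree + 1),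
      homogeneousComponent (e + n) (homogeneousComponent i a * f) =
        if i = e then homogeneousComponent i a * f else 0 := by
    intro i _
    have hmem : homogeneousComponent i a * f ∈ homogeneousSubmodule σ k (i + n) :=
      (mem_homogeneousSubmodule _ _).mpr ((homogeneousComponent_isHomogeneous i a).mul hf)
    rw [homogeneousComponent_of_mem hmem]
    by_cases h : i = e
    · subst h
      simp
    · rw [if_neg h, if_neg]
      omega
  rw [Finset.sum_congr rfl hterm, Finset.sum_ite_eq']
  split_ifs with h
  · rfl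
  · rw [Finset.mem_range, not_lt] at h
    have h0 := homogeneousComponent_eq_zero (φ := a) (n := e) (by omega)
    rw [h0, zero_mul]

end HC

section Count

theorem two_mul_choose (e : ℕ) : 2 * (e + 2).choose 2 = (e + 2) * (e + 1) := by
  induction e with
  | zero => rfl
  | succ e ih =>
    have h1 : (e + 1 + 2).choose 2 = (e + 2) + (e + 2).choose 2 := by
      rw [show e + 1 + 2 = (e + 2) + 1 by ring, show (2 : ℕ) = 1 + 1 by rfl,
        Nat.choose_succ_succ, Nat.choose_one_right]
    rw [h1, mul_add, ih]
    ring

theorem bezout_count (n m c : ℕ) :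
    (n + m + c + 2).choose 2 + (c + 2).choose 2 =
      (c + m + 2).choose 2 + (c + n + 2).choose 2 + n * m := by
  have h1 := two_mul_choose (n + m + c)
  have h2 := two_mul_choose c
  have h3 := two_mul_choose (c + m)
  have h4 := two_mul_choose (c + n)
  apply Nat.eq_of_mul_eq_mul_left (two_pos)
  rw [mul_add, mul_add, mul_add, h1, h2, h3, h4]
  ring

end Count

variable {k : Type u} [Field k]

theorem setOf_degree_eq (e : ℕ) :
    {d : Fin 3 →₀ ℕ | d.degree = e} =
      ↑((Finset.univ : Finset (Fin 3)).finsuppAntidiag e) := by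
  ext α
  rw [Set.mem_setOf_eq, Finset.mem_coe, Finset.mem_finsuppAntidiag, Finsupp.degree_eq_sum]
  exact ⟨fun h => ⟨h, Finset.subset_univ _⟩, fun h => h.1⟩

theorem V_eq (e : ℕ) : homogeneousSubmodule (Fin 3) k e =
    restrictSupport k
      (↑((Finset.univ : Finset (Fin 3)).finsuppAntidiag e) : Set (Fin 3 →₀ ℕ)) := by
  rw [← setOf_degree_eq]
  exact homogeneousSubmodule_eq_finsupp_supported (Fin 3) k e

instance finite_V (e : ℕ) : Module.Finite k (homogeneousSubmodule (Fin 3) k e) := by
  rw [V_eq]
  exact Module.Finite.of_basis (basisRestrictSupport k _)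

theorem finrank_V (e : ℕ) :
    Module.finrank k (homogeneousSubmodule (Fin 3) k e) = (e + 2).choose 2 := by
  rw [V_eq, Module.finrank_eq_nat_card_basis (basisRestrictSupport k _), Nat.card_coe_set_eq,
    Set.ncard_coe_finset, Finset.card_finsuppAntidiag_nat_eq_choose, Finset.card_univ,
    Fintype.card_fin, show 3 + e - 1 = e + 2 by omega, Nat.choose_symm_add]

theorem homog {e : ℕ} (c : homogeneousSubmodule (Fin 3) k e) :
    (c : MvPolynomial (Fin 3) k).IsHomogeneous e :=
  (mem_homogeneousSubmodule e c.1).mp c.2

/-- `(a, b) ↦ a f + b g`. -/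
noncomputable def Phi (f g : MvPolynomial (Fin 3) k) (a b : ℕ) :
    (homogeneousSubmodule (Fin 3) k a × homogeneousSubmodule (Fin 3) k b) →ₗ[k]
      MvPolynomial (Fin 3) k :=
  ((LinearMap.mulRight k f).comp (homogeneousSubmodule (Fin 3) k a).subtype).coprod
    ((LinearMap.mulRight k g).comp (homogeneousSubmodule (Fin 3) k b).subtype)

theorem Phi_apply (f g : MvPolynomial (Fin 3) k) (a b : ℕ)
    (x : homogeneousSubmodule (Fin 3) k a × homogeneousSubmodule (Fin 3) k b) :
    Phi f g a b x = x.1.1 * f + x.2.1 * g := by
  simp [Phi]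

/-- `c ↦ (c g, - c f)`. -/
noncomputable def Psi (n m : ℕ) (f g : MvPolynomial (Fin 3) k) (hf : f.IsHomogeneous n)
    (hg : g.IsHomogeneous m) (e : ℕ) :
    homogeneousSubmodule (Fin 3) k e →ₗ[k]
      (homogeneousSubmodule (Fin 3) k (e + m) × homogeneousSubmodule (Fin 3) k (e + n)) where
  toFun c := (⟨c.1 * g, (homog c).mul hg⟩,
    ⟨-(c.1 * f), (homogeneousSubmodule (Fin 3) k (e + n)).neg_mem ((homog c).mul hf)⟩)
  map_add' c c' := by
    apply Prod.ext
    · apply Subtype.ext
      show (c.1 + c'.1) * g = c.1 * g + c'.1 * g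
      ring
    · apply Subtype.ext
      show -((c.1 + c'.1) * f) = -(c.1 * f) + -(c'.1 * f)
      ring
  map_smul' r c := by
    apply Prod.ext
    · apply Subtype.ext
      show (r • c.1) * g = r • (c.1 * g)
      rw [smul_mul_assoc]
    · apply Subtype.ext
      show -((r • c.1) * f) = r • -(c.1 * f)
      rw [smul_mul_assoc, smul_neg]

theorem range_Phi (n m : ℕ) (f g : MvPolynomial (Fin 3) k) (hf : f.IsHomogeneous n)
    (hg : g.IsHomogeneous m) (e : ℕ) :
    LinearMap.range (Phi f g (e + m) (e + n)) =
      (homogeneousSubmodule (Fin 3) k (n + m + e)) ⊓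
        (Ideal.span ({f, g} : Set (MvPolynomial (Fin 3) k))).restrictScalars k := by
  apply le_antisymm
  · rintro _ ⟨⟨a, b⟩, rfl⟩
    rw [Phi_apply]
    refine Submodule.mem_inf.mpr ⟨?_, ?_⟩
    · have h1 : (a.1 * f).IsHomogeneous (n + m + e) := by
        have := (homog a).mul hf
        rwa [show e + m + n = n + m + e by ring] at this
      have h2 : (b.1 * g).IsHomogeneous (n + m + e) := by
        have := (homog b).mul hg
        rwa [show e + n + m = n + m + e by ring] at this
      exact (mem_homogeneousSubmodule _ _).mpr (h1.add h2)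
    · show _ ∈ Ideal.span ({f, g} : Set (MvPolynomial (Fin 3) k))
      exact Ideal.add_mem _ (Ideal.mul_mem_left _ _ (Ideal.subset_span (by simp)))
        (Ideal.mul_mem_left _ _ (Ideal.subset_span (by simp)))
  · rintro p hp
    obtain ⟨hp1, hp2⟩ := Submodule.mem_inf.mp hp
    have hp2' : p ∈ Ideal.span ({f, g} : Set (MvPolynomial (Fin 3) k)) := hp2
    obtain ⟨a, b, hab⟩ := Ideal.mem_span_pair.mp hp2'
    have hpp : homogeneousComponent (n + m + e) p = p :=
      homogeneousComponent_eq_self ((mem_homogeneousSubmodule _ _).mp hp1)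
    refine ⟨(⟨homogeneousComponent (e + m) a, homogeneousComponent_isHomogeneous _ _⟩,
      ⟨homogeneousComponent (e + n) b, homogeneousComponent_isHomogeneous _ _⟩), ?_⟩
    rw [Phi_apply]
    show homogeneousComponent (e + m) a * f + homogeneousComponent (e + n) b * g = p
    rw [← hc_mul_right a f n (e + m) hf, ← hc_mul_right b g m (e + n) hg,
      show e + m + n = n + m + e by ring, show e + n + m = n + m + e by ring, ← map_add, hab, hpp]

theorem ker_Phi (n m : ℕ) (f g : MvPolynomial (Fin 3) k) (hf : f.IsHomogeneous n)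
    (hg : g.IsHomogeneous m) (hg0 : g ≠ 0) (hfg : IsRelPrime f g) (e : ℕ) :
    LinearMap.ker (Phi f g (e + m) (e + n)) = LinearMap.range (Psi n m f g hf hg e) := by
  apply le_antisymm
  · rintro ⟨a, b⟩ hab
    rw [LinearMap.mem_ker, Phi_apply] at hab
    simp only at hab
    have hdvd : g ∣ a.1 * f := ⟨-b.1, by linear_combination hab⟩
    obtain ⟨c, hc⟩ := hfg.symm.dvd_of_dvd_mul_right hdvd
    have ha' : a.1 = homogeneousComponent e c * g := by
      calc a.1 = homogeneousComponent (e + m) a.1 :=
            (homogeneousComponent_eq_self (homog a)).symm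
        _ = homogeneousComponent (e + m) (c * g) := by rw [hc, mul_comm]
        _ = homogeneousComponent e c * g := hc_mul_right c g m e hg
    have hb' : b.1 = -(homogeneousComponent e c * f) := by
      have h0 : g * (homogeneousComponent e c * f + b.1) = 0 := by
        rw [ha'] at hab
        linear_combination hab
      rcases mul_eq_zero.mp h0 with h | h
      · exact absurd h hg0
      · linear_combination h
    refine ⟨⟨homogeneousComponent e c, homogeneousComponent_isHomogeneous _ _⟩, ?_⟩
    apply Prod.ext <;> apply Subtype.ext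
    · exact ha'.symm
    · exact hb'.symm
  · rintro _ ⟨c, rfl⟩
    rw [LinearMap.mem_ker, Phi_apply]
    show c.1 * g * f + -(c.1 * f) * g = 0
    ring

theorem Psi_injective (n m : ℕ) (f g : MvPolynomial (Fin 3) k) (hf : f.IsHomogeneous n)
    (hg : g.IsHomogeneous m) (hg0 : g ≠ 0) (e : ℕ) :
    Function.Injective (Psi n m f g hf hg e) := by
  rw [← LinearMap.ker_eq_bot, LinearMap.ker_eq_bot']
  intro c hc
  have h1 : c.1 * g = 0 := by
    have := congrArg (fun x => (x.1.1 : MvPolynomial (Fin 3) k)) hc
    simpa [Psi] using this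
  rcases mul_eq_zero.mp h1 with h | h
  · exact Subtype.ext h
  · exact absurd h hg0

theorem main (n m e : ℕ) (f g : MvPolynomial (Fin 3) k) (hf : f.IsHomogeneous n)
    (hg : g.IsHomogeneous m) (hg0 : g ≠ 0) (hfg : IsRelPrime f g) :
    Module.finrank k
        (↥(homogeneousSubmodule (Fin 3) k (n + m + e)) ⧸
          Submodule.comap (homogeneousSubmodule (Fin 3) k (n + m + e)).subtype
            ((Ideal.span ({f, g} : Set (MvPolynomial (Fin 3) k))).restrictScalars k)) =
      n * m := by
  have hrange := range_Phi n m f g hf hg e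
  have hker := ker_Phi n m f g hf hg hg0 hfg e
  have hJ : Submodule.comap (homogeneousSubmodule (Fin 3) k (n + m + e)).subtype
        ((Ideal.span ({f, g} : Set (MvPolynomial (Fin 3) k))).restrictScalars k) =
      Submodule.comap (homogeneousSubmodule (Fin 3) k (n + m + e)).subtype
        (LinearMap.range (Phi f g (e + m) (e + n))) := by
    rw [hrange]
    ext x
    simp [Submodule.mem_comap]
  have hle : LinearMap.range (Phi f g (e + m) (e + n)) ≤
      homogeneousSubmodule (Fin 3) k (n + m + e) := by
    rw [hrange]
    exact inf_le_left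
  have h5 : Module.finrank k (Submodule.comap (homogeneousSubmodule (Fin 3) k (n + m + e)).subtype
        ((Ideal.span ({f, g} : Set (MvPolynomial (Fin 3) k))).restrictScalars k)) =
      Module.finrank k (LinearMap.range (Phi f g (e + m) (e + n))) := by
    rw [hJ]
    exact (Submodule.comapSubtypeEquivOfLe hle).finrank_eq
  have h4 := Submodule.finrank_quotient_add_finrank
    (Submodule.comap (homogeneousSubmodule (Fin 3) k (n + m + e)).subtype
        ((Ideal.span ({f, g} : Set (MvPolynomial (Fin 3) k))).restrictScalars k))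
  have h1 := LinearMap.finrank_range_add_finrank_ker (Phi f g (e + m) (e + n))
  have h2 : Module.finrank k (LinearMap.ker (Phi f g (e + m) (e + n))) =
      Module.finrank k (homogeneousSubmodule (Fin 3) k e) := by
    rw [hker]
    exact (LinearEquiv.ofInjective _ (Psi_injective n m f g hf hg hg0 e)).finrank_eq.symm
  have h3 : Module.finrank k (homogeneousSubmodule (Fin 3) k (e + m) ×
      homogeneousSubmodule (Fin 3) k (e + n)) =
      Module.finrank k (homogeneousSubmodule (Fin 3) k (e + m)) +
        Module.finrank k (homogeneousSubmodule (Fin 3) k (e + n)) := Module.finrank_prod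
  rw [finrank_V] at h4 h2
  rw [h3, finrank_V, finrank_V] at h1
  have hcount := bezout_count n m e
  omega

end Groth.Agent.Helper25.BezoutA
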