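import Mathlib
import Groth.Prelude.Def_W4c1hilbpnTgt

/-! Graded pieces of `T(I) = Hom(I, S/I)` for a monomial ideal: homomorphisms from coefficient
functions on the region `(Ĩ + α) ∖ Ĩ`, and the count by bounded connected components. -/

namespace Groth.Agent.Helper25.HilbTgt

open MvPolynomial W4c1hilbpn

variable {σ : Type*} {k : Type*} [Field k]

section basic
variable {I : Ideal (MvPolynomial σ k)}

lemma exps_add {β : σ →₀ ℕ} (h : β ∈ exps I) (δ : σ →₀ ℕ) : β + δ ∈ exps I := by
  show monomial (β + δ) (1 : k) ∈ I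
  have e : monomial (β + δ) (1 : k) = monomial β 1 * monomial δ 1 := by
    rw [monomial_mul, one_mul]
  rw [e]; exact I.mul_mem_right _ h

lemma coeff_eq_zero_of_mem (hI : IsMonomial I) {p : MvPolynomial σ k} (hp : p ∈ I)
    {γ : σ →₀ ℕ} (hγ : γ ∉ exps I) : coeff γ p = 0 := by
  by_contra h
  exact hγ (hI p hp γ (mem_support_iff.2 h))

/-- class of the monomial `x^γ` in `S/I` -/
noncomputable def q (I : Ideal (MvPolynomial σ k)) (γ : σ →₀ ℕ) : MvPolynomial σ k ⧸ I :=
  Ideal.Quotient.mk I (monomial γ 1)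

lemma q_eq_zero_iff {γ : σ →₀ ℕ} : q I γ = 0 ↔ γ ∈ exps I := Ideal.Quotient.eq_zero_iff_mem

lemma X_smul_q (i : σ) (γ : σ →₀ ℕ) :
    (X i : MvPolynomial σ k) • q I γ = q I (γ + Finsupp.single i 1) := by
  have e : monomial (γ + Finsupp.single i 1) (1 : k) = X i * monomial γ 1 := by
    rw [X, monomial_mul, one_mul, add_comm]
  unfold q; rw [e]; rfl

lemma mk_smul (c : k) (p : MvPolynomial σ k) :
    Ideal.Quotient.mk I (c • p) = c • Ideal.Quotient.mk I p :=
  map_smul (Ideal.Quotient.mkₐ k I) c p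

lemma linearIndependent_q (hI : IsMonomial I) :
    LinearIndependent k (fun γ : {γ : σ →₀ ℕ // γ ∉ exps I} => q I γ.1) := by
  classical
  rw [linearIndependent_iff']
  intro s c hc γ₀ hγ₀
  have h1 : (∑ γ ∈ s, c γ • monomial γ.1 (1 : k)) ∈ I := by
    rw [← Ideal.Quotient.eq_zero_iff_mem, map_sum, ← hc]
    exact Finset.sum_congr rfl fun γ _ => mk_smul _ _
  have h2 := coeff_eq_zero_of_mem hI h1 γ₀.2
  rw [coeff_sum] at h2
  simp only [coeff_smul, coeff_monomial, smul_eq_mul, mul_ite, mul_one, mul_zero] at h2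
  rw [Finset.sum_eq_single γ₀] at h2
  · simpa using h2
  · intro b _ hb; rw [if_neg]; intro h; exact hb (Subtype.ext h)
  · intro h; exact absurd hγ₀ h

lemma finite_compl_exps (hI : IsMonomial I) [Module.Finite k (MvPolynomial σ k ⧸ I)] :
    Finite {γ : σ →₀ ℕ // γ ∉ exps I} :=
  (linearIndependent_q hI).finite

lemma lin_ext_on (hI : IsMonomial I) {M : Type*} [AddCommGroup M] [Module k M]
    (f g : MvPolynomial σ k →ₗ[k] M) (h : ∀ β ∈ exps I, f (monomial β 1) = g (monomial β 1))
    {p : MvPolynomial σ k} (hp : p ∈ I) : f p = g p := by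
  have hs := support_sum_monomial_coeff p
  rw [← hs, map_sum, map_sum]
  refine Finset.sum_congr rfl fun β hβ => ?_
  have e : monomial β (coeff β p) = coeff β p • monomial β (1 : k) := by
    rw [smul_monomial, smul_eq_mul, mul_one]
  rw [e, map_smul, map_smul, h β (hI p hp β hβ)]

lemma tgt_ext (hI : IsMonomial I) {φ ψ : Tgt I}
    (h : ∀ β (hβ : monomial β (1 : k) ∈ I), φ ⟨monomial β 1, hβ⟩ = ψ ⟨monomial β 1, hβ⟩) :
    φ = ψ := by
  classical
  apply LinearMap.ext
  rintro ⟨p, hp⟩
  have hp' : (⟨p, hp⟩ : ↥I) = ∑ β ∈ p.support.attach,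
      (C (coeff β.1 p) : MvPolynomial σ k) • (⟨monomial β.1 1, hI p hp β.1 β.2⟩ : ↥I) := by
    apply Subtype.ext
    rw [Submodule.coe_sum]
    simp only [Submodule.coe_smul, smul_eq_mul, C_mul_monomial, mul_one]
    rw [Finset.sum_attach p.support (fun β => monomial β (coeff β p)), support_sum_monomial_coeff]
  rw [hp', map_sum, map_sum]
  exact Finset.sum_congr rfl fun β _ => by rw [map_smul, map_smul, h]

end basic

section graded
variable [Fintype σ] [DecidableEq σ] {I : Ideal (MvPolynomial σ k)} {α : σ → ℤ}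

/-- the integer vector `β + α` -/
def vec (β : σ →₀ ℕ) (α : σ → ℤ) : σ → ℤ := fun i => (β i : ℤ) + α i

/-- truncation of an integer vector to a natural exponent vector -/
noncomputable def toNatVec (γ : σ → ℤ) : σ →₀ ℕ :=
  Finsupp.equivFunOnFinite.symm fun i => (γ i).toNat

lemma shift_eq (β : σ →₀ ℕ) (α : σ → ℤ) : shift β α = toNatVec (vec β α) := rfl

@[simp] lemma toNatVec_apply (γ : σ → ℤ) (i : σ) : toNatVec γ i = (γ i).toNat := rfl

lemma mem_region_iff {γ : σ → ℤ} : γ ∈ region I α ↔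
    (∃ β ∈ exps I, γ = vec β α) ∧ ¬((∀ i, 0 ≤ γ i) ∧ toNatVec γ ∈ exps I) := Iff.rfl

lemma vec_add_single (β : σ →₀ ℕ) (α : σ → ℤ) (i : σ) :
    vec (β + Finsupp.single i 1) α = vec β α + Pi.single i 1 := by
  funext j
  by_cases h : j = i
  · subst h; simp [vec]; ring
  · simp [vec, Finsupp.single_apply, Pi.single_apply, h, Ne.symm h]

lemma toNatVec_add_single {γ : σ → ℤ} (hγ : ∀ j, 0 ≤ γ j) (i : σ) :
    toNatVec (γ + Pi.single i 1) = toNatVec γ + Finsupp.single i 1 := by
  ext j
  simp only [toNatVec_apply, Finsupp.add_apply, Pi.add_apply]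
  by_cases h : j = i
  · subst h; simp; have := hγ j; omega
  · simp [Finsupp.single_apply, Pi.single_apply, h, Ne.symm h]

lemma vec_inj {β β' : σ →₀ ℕ} (h : vec β α = vec β' α) : β = β' := by
  ext j
  have := congrFun h j
  simp only [vec] at this
  omega

lemma toNatVec_vec_of_nonneg {γ : σ → ℤ} (hγ : ∀ j, 0 ≤ γ j) (j : σ) :
    ((toNatVec γ j : ℕ) : ℤ) = γ j := by
  simp [Int.toNat_of_nonneg (hγ j)]

lemma mem_region_of_neg {β : σ →₀ ℕ} (hβ : β ∈ exps I) (h : ∃ j, vec β α j < 0) :
    vec β α ∈ region I α := by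
  refine ⟨⟨β, hβ, rfl⟩, fun hh => ?_⟩
  obtain ⟨j, hj⟩ := h
  have := hh.1 j
  omega

lemma mem_region_of_notMem {β : σ →₀ ℕ} (hβ : β ∈ exps I) (h : shift β α ∉ exps I) :
    vec β α ∈ region I α :=
  ⟨⟨β, hβ, rfl⟩, fun hh => h hh.2⟩

/-- compatibility conditions on a coefficient function -/
structure Compat (I : Ideal (MvPolynomial σ k)) (α : σ → ℤ) (F : (σ → ℤ) → k) : Prop where
  neg : ∀ γ, γ ∈ region I α → (∃ i, γ i < 0) → F γ = 0
  adj : ∀ γ, γ ∈ region I α → ∀ i, γ + Pi.single i 1 ∈ region I α → F (γ + Pi.single i 1) = F γ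

lemma compat_step {F : (σ → ℤ) → k} (hF : Compat I α F) {β : σ →₀ ℕ} (hβ : β ∈ exps I) (i : σ) :
    F (vec (β + Finsupp.single i 1) α) • q I (shift (β + Finsupp.single i 1) α) =
      F (vec β α) • ((X i : MvPolynomial σ k) • q I (shift β α)) := by
  have hβ' : β + Finsupp.single i 1 ∈ exps I := exps_add hβ _
  by_cases hpos : ∀ j, 0 ≤ vec β α j
  · have hs : shift (β + Finsupp.single i 1) α = shift β α + Finsupp.single i 1 := by
      rw [shift_eq, shift_eq, vec_add_single, toNatVec_add_single hpos]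
    rw [hs, X_smul_q]
    by_cases hin : shift β α + Finsupp.single i 1 ∈ exps I
    · rw [q_eq_zero_iff.2 hin, smul_zero, smul_zero]
    · have h1 : vec β α ∈ region I α :=
        mem_region_of_notMem hβ fun h => hin (exps_add h _)
      have h2 : vec β α + Pi.single i 1 ∈ region I α := by
        rw [← vec_add_single]
        exact mem_region_of_notMem hβ' (by rw [hs]; exact hin)
      rw [vec_add_single, hF.adj _ h1 i h2]
  · push_neg at hpos
    have h1 : vec β α ∈ region I α := mem_region_of_neg hβ hpos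
    rw [hF.neg _ h1 hpos, zero_smul]
    by_cases hpos' : ∀ j, 0 ≤ vec (β + Finsupp.single i 1) α j
    · by_cases hin : shift (β + Finsupp.single i 1) α ∈ exps I
      · rw [q_eq_zero_iff.2 hin, smul_zero]
      · have h2 : vec β α + Pi.single i 1 ∈ region I α := by
          rw [← vec_add_single]
          exact mem_region_of_notMem hβ' hin
        rw [vec_add_single, hF.adj _ h1 i h2, hF.neg _ h1 hpos, zero_smul]
    · push_neg at hpos'
      rw [hF.neg _ (mem_region_of_neg hβ' hpos') hpos', zero_smul]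

/-- the `k`-linear map `S → S/I`, `x^β ↦ F(β+α) [x^{β+α}]` -/
noncomputable def Lmap (I : Ideal (MvPolynomial σ k)) (α : σ → ℤ) (F : (σ → ℤ) → k) :
    MvPolynomial σ k →ₗ[k] (MvPolynomial σ k ⧸ I) :=
  (basisMonomials σ k).constr k (fun β => F (vec β α) • q I (shift β α))

lemma Lmap_monomial (F : (σ → ℤ) → k) (β : σ →₀ ℕ) :
    Lmap I α F (monomial β 1) = F (vec β α) • q I (shift β α) := by
  have h := (basisMonomials σ k).constr_basis k (fun β => F (vec β α) • q I (shift β α)) β
  rw [coe_basisMonomials] at h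
  exact h

lemma Lmap_X (hI : IsMonomial I) {F : (σ → ℤ) → k} (hF : Compat I α F) (i : σ)
    {p : MvPolynomial σ k} (hp : p ∈ I) :
    Lmap I α F (X i * p) = (X i : MvPolynomial σ k) • Lmap I α F p := by
  have := lin_ext_on hI ((Lmap I α F).comp (LinearMap.mulLeft k (X i)))
    (((LinearMap.lsmul (MvPolynomial σ k) (MvPolynomial σ k ⧸ I)
      (X i : MvPolynomial σ k)).restrictScalars k).comp (Lmap I α F)) ?_ hp
  · simpa only [LinearMap.comp_apply, LinearMap.mulLeft_apply, LinearMap.restrictScalars_apply,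
      LinearMap.lsmul_apply] using this
  · intro β hβ
    simp only [LinearMap.comp_apply, LinearMap.mulLeft_apply, LinearMap.restrictScalars_apply,
      LinearMap.lsmul_apply]
    have e : (X i : MvPolynomial σ k) * monomial β 1 = monomial (β + Finsupp.single i 1) 1 := by
      rw [X, monomial_mul, one_mul, add_comm]
    rw [e, Lmap_monomial, Lmap_monomial, compat_step hF hβ, smul_comm]

lemma Lmap_mul (hI : IsMonomial I) {F : (σ → ℤ) → k} (hF : Compat I α F)
    (s : MvPolynomial σ k) : ∀ p ∈ I, Lmap I α F (s * p) = s • Lmap I α F p := by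
  induction s using MvPolynomial.induction_on with
  | C a =>
    intro p _
    rw [C_mul', map_smul]
    exact (algebraMap_smul (MvPolynomial σ k) a (Lmap I α F p)).symm
  | add s t hs ht =>
    intro p hp
    rw [add_mul, map_add, hs p hp, ht p hp, add_smul]
  | mul_X s i hs =>
    intro p hp
    rw [mul_assoc, hs _ (I.mul_mem_left _ hp), Lmap_X hI hF i hp, mul_smul]

/-- the homomorphism `I → S/I` attached to a compatible coefficient function -/
noncomputable def phi (hI : IsMonomial I) (F : (σ → ℤ) → k) (hF : Compat I α F) : Tgt I where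
  toFun p := Lmap I α F p.1
  map_add' p p' := by simp
  map_smul' s p := by
    simp only [RingHom.id_apply]
    exact Lmap_mul hI hF s p.1 p.2

lemma phi_monomial (hI : IsMonomial I) (F : (σ → ℤ) → k) (hF : Compat I α F) (β : σ →₀ ℕ)
    (hβ : monomial β (1 : k) ∈ I) :
    phi hI F hF ⟨monomial β 1, hβ⟩ = F (vec β α) • q I (shift β α) :=
  Lmap_monomial F β

lemma mem_tPiece_iff {φ : Tgt I} : φ ∈ tPiece I α ↔
    ∀ (β : σ →₀ ℕ) (hβ : monomial β (1 : k) ∈ I),
      ((∀ i, 0 ≤ (β i : ℤ) + α i) →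
        φ ⟨monomial β 1, hβ⟩ ∈ Submodule.span k {Ideal.Quotient.mk I (monomial (shift β α) (1 : k))}) ∧
      ((∃ i, (β i : ℤ) + α i < 0) → φ ⟨monomial β 1, hβ⟩ = 0) := Iff.rfl

lemma phi_mem (hI : IsMonomial I) (F : (σ → ℤ) → k) (hF : Compat I α F) :
    phi hI F hF ∈ tPiece I α := by
  rw [mem_tPiece_iff]
  intro β hβ
  refine ⟨fun _ => ?_, fun h => ?_⟩
  · rw [phi_monomial]
    exact Submodule.smul_mem _ _ (Submodule.subset_span rfl)
  · rw [phi_monomial, hF.neg _ (mem_region_of_neg hβ h) h, zero_smul]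

/-! ### the step graph -/

lemma step_adj_iff {a b : σ → ℤ} : (stepGraph σ).Adj a b ↔ ∑ i, |a i - b i| = 1 := by
  unfold stepGraph
  rw [SimpleGraph.fromRel_adj]
  constructor
  · rintro ⟨-, h | h⟩
    · exact h
    · rw [← h]; exact Finset.sum_congr rfl fun i _ => abs_sub_comm _ _
  · intro h
    refine ⟨?_, Or.inl h⟩
    rintro rfl
    simp at h

lemma step_adj_single (γ : σ → ℤ) (i : σ) : (stepGraph σ).Adj γ (γ + Pi.single i 1) := by
  rw [step_adj_iff, Finset.sum_eq_single i]
  · simp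
  · intro j _ hj; simp [Pi.single_apply, hj]
  · intro h; exact absurd (Finset.mem_univ i) h

lemma exists_of_step_adj {a b : σ → ℤ} (h : (stepGraph σ).Adj a b) :
    ∃ i, b = a + Pi.single i 1 ∨ a = b + Pi.single i 1 := by
  rw [step_adj_iff] at h
  have hne : ∃ i, a i ≠ b i := by
    by_contra hcon; push_neg at hcon
    simp [hcon] at h
  obtain ⟨i, hi⟩ := hne
  have hsplit := Finset.add_sum_erase Finset.univ (fun j => |a j - b j|) (Finset.mem_univ i)
  rw [h] at hsplit
  have h1 : 1 ≤ |a i - b i| := Int.one_le_abs (sub_ne_zero.2 hi)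
  have h2 : 0 ≤ ∑ j ∈ Finset.univ.erase i, |a j - b j| :=
    Finset.sum_nonneg fun j _ => abs_nonneg _
  have h3 : ∑ j ∈ Finset.univ.erase i, |a j - b j| = 0 := by omega
  have h4 : |a i - b i| = 1 := by omega
  have h5 : ∀ j, j ≠ i → a j = b j := by
    intro j hj
    have := (Finset.sum_eq_zero_iff_of_nonneg (fun j _ => abs_nonneg (a j - b j))).1 h3 j
      (Finset.mem_erase.2 ⟨hj, Finset.mem_univ j⟩)
    exact sub_eq_zero.1 (abs_eq_zero.1 this)
  refine ⟨i, ?_⟩
  rcases (abs_eq (by norm_num : (0 : ℤ) ≤ 1)).1 h4 with h6 | h6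
  · right; funext j
    by_cases hj : j = i
    · subst hj; simp; omega
    · simp [Pi.single_apply, hj, h5 j hj]
  · left; funext j
    by_cases hj : j = i
    · subst hj; simp; omega
    · simp [Pi.single_apply, hj, h5 j hj]

/-- the region graph -/
abbrev G (I : Ideal (MvPolynomial σ k)) (α : σ → ℤ) : SimpleGraph (region I α) :=
  (stepGraph σ).induce (region I α)

lemma const_of_reachable {X : Type*} (f : region I α → X)
    (h : ∀ v w : region I α, (G I α).Adj v w → f v = f w) {v w : region I α}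
    (hr : (G I α).Reachable v w) : f v = f w := by
  obtain ⟨p⟩ := hr
  induction p with
  | nil => rfl
  | cons hadj _ ih => exact (h _ _ hadj).trans ih

lemma region_add_nsmul {γ : σ → ℤ} (hγ : γ ∈ region I α) {i : σ} (hi : γ i < 0) {j : σ}
    (hj : j ≠ i) (t : ℕ) : γ + (t : ℤ) • Pi.single j 1 ∈ region I α := by
  obtain ⟨⟨β, hβ, hγβ⟩, -⟩ := hγ
  refine ⟨⟨β + Finsupp.single j t, exps_add hβ _, ?_⟩, fun hh => ?_⟩
  · rw [hγβ]
    funext l
    by_cases hl : l = j
    · subst hl; simp [vec]; ring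
    · simp [vec, Finsupp.single_apply, Pi.single_apply, hl, Ne.symm hl]
  · have := hh.1 i
    simp [Pi.single_apply, hj.symm, hj] at this
    omega

lemma infinite_of_neg [Nontrivial σ] {γ : σ → ℤ} (hγ : γ ∈ region I α) {i : σ} (hi : γ i < 0) :
    ¬ ((G I α).connectedComponentMk ⟨γ, hγ⟩).supp.Finite := by
  obtain ⟨j, hj⟩ := exists_ne i
  let g : ℕ → region I α := fun t => ⟨γ + (t : ℤ) • Pi.single j 1, region_add_nsmul hγ hi hj t⟩
  have hreach : ∀ t, (G I α).Reachable ⟨γ, hγ⟩ (g t) := by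
    intro t
    induction t with
    | zero =>
      have : g 0 = ⟨γ, hγ⟩ := by apply Subtype.ext; simp [g]
      rw [this]
    | succ t ih =>
      refine ih.trans (SimpleGraph.Adj.reachable ?_)
      show (stepGraph σ).Adj (g t).1 (g (t + 1)).1
      have : (g (t + 1)).1 = (g t).1 + Pi.single j 1 := by
        simp only [g]; push_cast; rw [add_smul, one_smul, add_assoc]
      rw [this]; exact step_adj_single _ _
  have hinj : Function.Injective g := by
    intro t t' h
    have := congrFun (congrArg Subtype.val h) j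
    simp [g] at this
    exact this
  have hmem : ∀ t, g t ∈ ((G I α).connectedComponentMk ⟨γ, hγ⟩).supp := by
    intro t
    rw [SimpleGraph.ConnectedComponent.mem_supp_iff, SimpleGraph.ConnectedComponent.eq]
    exact (hreach t).symm
  exact (Set.infinite_of_injective_forall_mem hinj hmem)

end graded

end Groth.Agent.Helper25.HilbTgt
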