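import Mathlib
import Groth.Agent.Lib.Helper25.HilbTgt

/-! The graded piece `tPiece I α` is isomorphic to functions on bounded components. -/

namespace Groth.Agent.Helper25.HilbTgt

open MvPolynomial W4c1hilbpn

variable {σ : Type*} {k : Type*} [Field k] [Fintype σ] [DecidableEq σ]
  {I : Ideal (MvPolynomial σ k)} {α : σ → ℤ}

/-- finite ("bounded") components of the region graph -/
abbrev Bdd (I : Ideal (MvPolynomial σ k)) (α : σ → ℤ) :=
  {c : (G I α).ConnectedComponent // c.supp.Finite}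

open Classical in
/-- coefficient function attached to a function on bounded components -/
noncomputable def Fof (f : Bdd I α → k) : (σ → ℤ) → k := fun γ =>
  if h : γ ∈ region I α then
    (if hc : ((G I α).connectedComponentMk ⟨γ, h⟩).supp.Finite then f ⟨_, hc⟩ else 0)
  else 0

lemma Fof_of_finite (f : Bdd I α → k) {γ : σ → ℤ} (h : γ ∈ region I α)
    (hc : ((G I α).connectedComponentMk ⟨γ, h⟩).supp.Finite) : Fof f γ = f ⟨_, hc⟩ := by
  unfold Fof; rw [dif_pos h, dif_pos hc]

lemma Fof_of_infinite (f : Bdd I α → k) {γ : σ → ℤ} (h : γ ∈ region I α)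
    (hc : ¬ ((G I α).connectedComponentMk ⟨γ, h⟩).supp.Finite) : Fof f γ = 0 := by
  unfold Fof; rw [dif_pos h, dif_neg hc]

lemma Fof_add (f g : Bdd I α → k) (γ : σ → ℤ) : Fof (f + g) γ = Fof f γ + Fof g γ := by
  unfold Fof
  split_ifs <;> simp

lemma Fof_smul (c : k) (f : Bdd I α → k) (γ : σ → ℤ) : Fof (c • f) γ = c * Fof f γ := by
  unfold Fof
  split_ifs <;> simp

lemma comp_eq_of_add_single {γ : σ → ℤ} (h : γ ∈ region I α) (i : σ)
    (h' : γ + Pi.single i 1 ∈ region I α) :
    (G I α).connectedComponentMk ⟨γ + Pi.single i 1, h'⟩ =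
      (G I α).connectedComponentMk ⟨γ, h⟩ := by
  rw [SimpleGraph.ConnectedComponent.eq]
  refine (SimpleGraph.Adj.reachable ?_).symm
  show (stepGraph σ).Adj γ (γ + Pi.single i 1)
  exact step_adj_single γ i

lemma Fof_compat [Nontrivial σ] (f : Bdd I α → k) : Compat I α (Fof f) where
  neg := by
    rintro γ h ⟨i, hi⟩
    exact Fof_of_infinite f h (infinite_of_neg h hi)
  adj := by
    intro γ h i h'
    have hcomp := comp_eq_of_add_single h i h'
    by_cases hc : ((G I α).connectedComponentMk ⟨γ, h⟩).supp.Finite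
    · have hc' : ((G I α).connectedComponentMk ⟨γ + Pi.single i 1, h'⟩).supp.Finite := by
        rw [hcomp]; exact hc
      rw [Fof_of_finite f h hc, Fof_of_finite f h' hc']
      congr 1
      exact Subtype.ext hcomp
    · have hc' : ¬ ((G I α).connectedComponentMk ⟨γ + Pi.single i 1, h'⟩).supp.Finite := by
        rw [hcomp]; exact hc
      rw [Fof_of_infinite f h hc, Fof_of_infinite f h' hc']

/-- the linear map from functions on bounded components to the graded piece -/
noncomputable def PsiL [Nontrivial σ] (hI : IsMonomial I) : (Bdd I α → k) →ₗ[k] tPiece I α where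
  toFun f := ⟨phi hI (Fof f) (Fof_compat f), phi_mem hI _ _⟩
  map_add' f g := by
    apply Subtype.ext
    apply tgt_ext hI
    intro β hβ
    simp only [Submodule.coe_add, LinearMap.add_apply, phi_monomial, Fof_add, add_smul]
  map_smul' c f := by
    apply Subtype.ext
    apply tgt_ext hI
    intro β hβ
    simp only [Submodule.coe_smul, LinearMap.smul_apply, phi_monomial, Fof_smul, RingHom.id_apply,
      mul_smul]

lemma PsiL_apply [Nontrivial σ] (hI : IsMonomial I) (f : Bdd I α → k) (β : σ →₀ ℕ)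
    (hβ : monomial β (1 : k) ∈ I) :
    (PsiL hI f : Tgt I) ⟨monomial β 1, hβ⟩ = Fof f (vec β α) • q I (shift β α) :=
  phi_monomial hI (Fof f) (Fof_compat f) β hβ

lemma nonneg_of_finite [Nontrivial σ] {γ : σ → ℤ} (h : γ ∈ region I α)
    (hc : ((G I α).connectedComponentMk ⟨γ, h⟩).supp.Finite) (i : σ) : 0 ≤ γ i := by
  by_contra hi
  exact infinite_of_neg h (not_le.1 hi) hc

lemma PsiL_injective [Nontrivial σ] (hI : IsMonomial I) :
    Function.Injective (PsiL (α := α) hI) := by
  refine (injective_iff_map_eq_zero (PsiL (α := α) hI)).2 ?_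
  intro f hf
  funext ⟨c, hc⟩
  induction c using SimpleGraph.ConnectedComponent.ind with
  | h v =>
    obtain ⟨γ, hγ⟩ := v
    have hpos := nonneg_of_finite hγ hc
    obtain ⟨⟨β, hβ, hγβ⟩, hnot⟩ := id hγ
    have hnotin : toNatVec γ ∉ exps I := fun h => hnot ⟨hpos, h⟩
    replace hγβ : γ = vec β α := hγβ
    have h1 := PsiL_apply hI f β hβ
    rw [hf] at h1
    have hF : Fof f (vec β α) = f ⟨(G I α).connectedComponentMk ⟨γ, hγ⟩, hc⟩ := by
      rw [← Fof_of_finite f hγ hc, hγβ]
    rw [hF] at h1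
    have h2 : q I (shift β α) ≠ 0 := by
      intro h
      apply hnotin
      rw [hγβ, ← shift_eq]
      exact q_eq_zero_iff.1 h
    have h3 := h1.symm
    simp only [Submodule.coe_zero, LinearMap.zero_apply] at h3
    rcases smul_eq_zero.1 h3 with h4 | h4
    · exact h4
    · exact absurd h4 h2

/-! ### surjectivity -/

/-- `c` is the coefficient of `φ` at the lattice point `γ` -/
def Good (φ : Tgt I) (α : σ → ℤ) (γ : σ → ℤ) (c : k) : Prop :=
  ∀ (β : σ →₀ ℕ) (hβ : monomial β (1 : k) ∈ I), γ = vec β α →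
    φ ⟨monomial β 1, hβ⟩ = c • q I (shift β α)

lemma exists_good {φ : Tgt I} (hφ : φ ∈ tPiece I α) {γ : σ → ℤ} (h : γ ∈ region I α)
    (hpos : ∀ i, 0 ≤ γ i) : ∃ c, Good φ α γ c := by
  obtain ⟨⟨β₀, hβ₀, hγ⟩, -⟩ := h
  have h1 := ((mem_tPiece_iff.1 hφ) β₀ hβ₀).1 (fun i => by
    have := hpos i; rw [hγ] at this; exact this)
  obtain ⟨c, hc⟩ := Submodule.mem_span_singleton.1 h1
  refine ⟨c, fun β hβ hγ' => ?_⟩
  have : β = β₀ := vec_inj (hγ'.symm.trans hγ)
  subst this
  exact hc.symm

open Classical in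
/-- the coefficient function of an element of the graded piece -/
noncomputable def Fphi {φ : Tgt I} (hφ : φ ∈ tPiece I α) : (σ → ℤ) → k := fun γ =>
  if h : γ ∈ region I α ∧ ∀ i, 0 ≤ γ i then Classical.choose (exists_good hφ h.1 h.2) else 0

lemma Fphi_spec {φ : Tgt I} (hφ : φ ∈ tPiece I α) {γ : σ → ℤ} (h : γ ∈ region I α)
    (hpos : ∀ i, 0 ≤ γ i) : Good φ α γ (Fphi hφ γ) := by
  unfold Fphi
  rw [dif_pos ⟨h, hpos⟩]
  exact Classical.choose_spec (exists_good hφ h hpos)

lemma Fphi_neg {φ : Tgt I} (hφ : φ ∈ tPiece I α) {γ : σ → ℤ} (h : ∃ i, γ i < 0) :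
    Fphi hφ γ = 0 := by
  unfold Fphi
  rw [dif_neg]
  rintro ⟨-, hpos⟩
  obtain ⟨i, hi⟩ := h
  have := hpos i
  omega

lemma phi_X_smul (φ : Tgt I) (β : σ →₀ ℕ) (hβ : monomial β (1 : k) ∈ I) (i : σ)
    (hβ' : monomial (β + Finsupp.single i 1) (1 : k) ∈ I) :
    φ ⟨monomial (β + Finsupp.single i 1) 1, hβ'⟩ =
      (X i : MvPolynomial σ k) • φ ⟨monomial β 1, hβ⟩ := by
  rw [← map_smul]
  congr 1
  apply Subtype.ext
  show monomial (β + Finsupp.single i 1) (1 : k) = X i * monomial β 1
  rw [X, monomial_mul, one_mul, add_comm]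

lemma notMem_of_region_pos {γ : σ → ℤ} (h : γ ∈ region I α) (hpos : ∀ i, 0 ≤ γ i) :
    toNatVec γ ∉ exps I := fun hh => h.2 ⟨hpos, hh⟩

lemma Fphi_adj {φ : Tgt I} (hφ : φ ∈ tPiece I α) {γ : σ → ℤ} (h : γ ∈ region I α) (i : σ)
    (h' : γ + Pi.single i 1 ∈ region I α) : Fphi hφ (γ + Pi.single i 1) = Fphi hφ γ := by
  obtain ⟨⟨β, hβ, hγ⟩, -⟩ := id h
  replace hγ : γ = vec β α := hγ
  have hβ' : β + Finsupp.single i 1 ∈ exps I := exps_add hβ _
  have hγ' : γ + Pi.single i 1 = vec (β + Finsupp.single i 1) α := by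
    rw [vec_add_single, hγ]
  have hX := phi_X_smul φ β hβ i hβ'
  by_cases hpos : ∀ j, 0 ≤ γ j
  · have hpos' : ∀ j, 0 ≤ (γ + Pi.single i 1 : σ → ℤ) j := by
      intro j
      have := hpos j
      by_cases hj : j = i
      · subst hj; simp; omega
      · simp [Pi.single_apply, hj]; exact this
    have s1 := Fphi_spec hφ h hpos β hβ hγ
    have s2 := Fphi_spec hφ h' hpos' (β + Finsupp.single i 1) hβ' hγ'
    have hs : shift (β + Finsupp.single i 1) α = shift β α + Finsupp.single i 1 := by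
      rw [shift_eq, shift_eq, vec_add_single, ← hγ, toNatVec_add_single hpos]
    rw [s1, s2, hs, smul_comm, X_smul_q] at hX
    have hne : q I (shift β α + Finsupp.single i 1) ≠ 0 := by
      intro hq
      have := notMem_of_region_pos h' hpos'
      rw [hγ', ← shift_eq, hs] at this
      exact this (q_eq_zero_iff.1 hq)
    have : (Fphi hφ (γ + Pi.single i 1) - Fphi hφ γ) • q I (shift β α + Finsupp.single i 1) = 0 := by
      rw [sub_smul, hX, sub_self]
    rcases smul_eq_zero.1 this with h4 | h4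
    · exact sub_eq_zero.1 h4
    · exact absurd h4 hne
  · push_neg at hpos
    rw [Fphi_neg hφ hpos]
    have hz : φ ⟨monomial β 1, hβ⟩ = 0 := by
      refine ((mem_tPiece_iff.1 hφ) β hβ).2 ?_
      obtain ⟨j, hj⟩ := hpos
      exact ⟨j, by rw [hγ] at hj; exact hj⟩
    rw [hz, smul_zero] at hX
    by_cases hpos' : ∀ j, 0 ≤ (γ + Pi.single i 1 : σ → ℤ) j
    · have s2 := Fphi_spec hφ h' hpos' (β + Finsupp.single i 1) hβ' hγ'
      rw [s2] at hX
      have hne : q I (shift (β + Finsupp.single i 1) α) ≠ 0 := by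
        intro hq
        have := notMem_of_region_pos h' hpos'
        rw [hγ', ← shift_eq] at this
        exact this (q_eq_zero_iff.1 hq)
      rcases smul_eq_zero.1 hX with h4 | h4
      · exact h4
      · exact absurd h4 hne
    · push_neg at hpos'
      exact Fphi_neg hφ hpos'

lemma Fphi_const {φ : Tgt I} (hφ : φ ∈ tPiece I α) (v w : region I α)
    (hadj : (G I α).Adj v w) : Fphi hφ v.1 = Fphi hφ w.1 := by
  obtain ⟨i, hi | hi⟩ := exists_of_step_adj (show (stepGraph σ).Adj v.1 w.1 from hadj)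
  · have h' : v.1 + Pi.single i 1 ∈ region I α := hi ▸ w.2
    rw [hi]; exact (Fphi_adj hφ v.2 i h').symm
  · have h' : w.1 + Pi.single i 1 ∈ region I α := hi ▸ v.2
    rw [hi]; exact Fphi_adj hφ w.2 i h'

/-- the nonnegative points of the region form a finite set -/
lemma finite_pos [Finite {γ : σ →₀ ℕ // γ ∉ exps I}] :
    {w : region I α | ∀ i, 0 ≤ w.1 i}.Finite := by
  let ψ : {w : region I α | ∀ i, 0 ≤ w.1 i} → {γ : σ →₀ ℕ // γ ∉ exps I} :=
    fun w => ⟨toNatVec w.1.1, notMem_of_region_pos w.1.2 w.2⟩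
  have hinj : Function.Injective ψ := by
    intro w w' h
    have h1 : toNatVec w.1.1 = toNatVec w'.1.1 := congrArg Subtype.val h
    apply Subtype.ext; apply Subtype.ext
    funext j
    have h2 := DFunLike.congr_fun h1 j
    simp only [toNatVec_apply] at h2
    have := w.2 j
    have := w'.2 j
    omega
  exact Set.finite_coe_iff.1 (Finite.of_injective ψ hinj)

lemma exists_neg_of_infinite [Finite {γ : σ →₀ ℕ // γ ∉ exps I}]
    {c : (G I α).ConnectedComponent} (hc : ¬ c.supp.Finite) : ∃ w ∈ c.supp, ∃ i, w.1 i < 0 := by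
  by_contra hcon
  push_neg at hcon
  exact hc (finite_pos.subset fun w hw => hcon w hw)

lemma PsiL_surjective [Nontrivial σ] (hI : IsMonomial I)
    [Finite {γ : σ →₀ ℕ // γ ∉ exps I}] : Function.Surjective (PsiL (α := α) hI) := by
  rintro ⟨φ, hφ⟩
  let f : Bdd I α → k := fun c =>
    SimpleGraph.ConnectedComponent.lift (fun v : region I α => Fphi hφ v.1)
      (fun v w p _ => const_of_reachable _ (Fphi_const hφ) ⟨p⟩) c.1
  refine ⟨f, ?_⟩
  apply Subtype.ext
  apply tgt_ext hI
  intro β hβ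
  rw [PsiL_apply]
  show Fof f (vec β α) • q I (shift β α) = φ ⟨monomial β 1, hβ⟩
  by_cases hpos : ∀ j, 0 ≤ vec β α j
  · by_cases hin : shift β α ∈ exps I
    · rw [q_eq_zero_iff.2 hin, smul_zero]
      obtain ⟨c, hc⟩ := Submodule.mem_span_singleton.1 (((mem_tPiece_iff.1 hφ) β hβ).1 hpos)
      rw [← hc]
      have : Ideal.Quotient.mk I (monomial (shift β α) (1 : k)) = 0 := q_eq_zero_iff.2 hin
      rw [this, smul_zero]
    · have hreg : vec β α ∈ region I α := mem_region_of_notMem hβ hin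
      rw [Fphi_spec hφ hreg hpos β hβ rfl]
      congr 1
      by_cases hc : ((G I α).connectedComponentMk ⟨vec β α, hreg⟩).supp.Finite
      · rw [Fof_of_finite f hreg hc]
        simp only [f, SimpleGraph.ConnectedComponent.lift_mk]
      · rw [Fof_of_infinite f hreg hc]
        obtain ⟨w, hw, hneg⟩ := exists_neg_of_infinite hc
        rw [SimpleGraph.ConnectedComponent.mem_supp_iff, SimpleGraph.ConnectedComponent.eq] at hw
        have := const_of_reachable (fun v : region I α => Fphi hφ v.1) (Fphi_const hφ) hw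
        simp only at this
        rw [← this, Fphi_neg hφ hneg]
  · push_neg at hpos
    rw [(Fof_compat f).neg _ (mem_region_of_neg hβ hpos) hpos, zero_smul]
    exact (((mem_tPiece_iff.1 hφ) β hβ).2 hpos).symm

lemma finite_Bdd [Nontrivial σ] [Finite {γ : σ →₀ ℕ // γ ∉ exps I}] :
    Finite (Bdd I α) := by
  haveI : Finite ↥{w : region I α | ∀ i, 0 ≤ w.1 i} := Set.finite_coe_iff.2 finite_pos
  have hrep : ∀ c : Bdd I α, ∃ v : region I α, (G I α).connectedComponentMk v = c.1 :=
    fun c => c.1.exists_rep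
  let ψ : Bdd I α → {w : region I α | ∀ i, 0 ≤ w.1 i} := fun c =>
    ⟨Classical.choose (hrep c), by
      have h := Classical.choose_spec (hrep c)
      intro i
      refine nonneg_of_finite (Classical.choose (hrep c)).2 ?_ i
      have hc := c.2
      rw [← h] at hc
      exact hc⟩
  refine Finite.of_injective ψ ?_
  intro c c' h
  apply Subtype.ext
  have h1 := Classical.choose_spec (hrep c)
  have h2 := Classical.choose_spec (hrep c')
  have h3 : Classical.choose (hrep c) = Classical.choose (hrep c') := congrArg Subtype.val h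
  rw [← h1, ← h2, h3]

theorem finrank_eq_card_Bdd [Nontrivial σ] (hI : IsMonomial I)
    [Finite {γ : σ →₀ ℕ // γ ∉ exps I}] (α : σ → ℤ) :
    Module.finrank k ↥(tPiece I α) = Nat.card (Bdd I α) := by
  haveI : Finite (Bdd I α) := finite_Bdd
  haveI := Fintype.ofFinite (Bdd I α)
  have e : (Bdd I α → k) ≃ₗ[k] tPiece I α :=
    LinearEquiv.ofBijective (PsiL hI) ⟨PsiL_injective hI, PsiL_surjective hI⟩
  rw [← e.finrank_eq, Module.finrank_fintype_fun_eq_card, ← Nat.card_eq_fintype_card]

theorem finrank_tPiece [Nontrivial σ] (hI : IsMonomial I)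
    [Module.Finite k (MvPolynomial σ k ⧸ I)] (α : σ → ℤ) :
    Module.finrank k ↥(tPiece I α) = nBddComp I α := by
  haveI := finite_compl_exps hI
  exact finrank_eq_card_Bdd hI α

end Groth.Agent.Helper25.HilbTgt
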