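import Mathlib
import Groth.Agent.Lib.Helper25.HilbTgtB

/-! Graded pieces of `T(m^r)` for powers of the irrelevant ideal. -/

namespace Groth.Agent.Helper25.HilbTgt

open MvPolynomial W4c1hilbpn

variable {σ : Type*} {k : Type*} [Field k] [Fintype σ] [DecidableEq σ]

/-- coordinate sum -/
def tot (γ : σ → ℤ) : ℤ := ∑ i, γ i

lemma tot_single (i : σ) (c : ℤ) : tot (Pi.single i c : σ → ℤ) = c := by
  unfold tot
  rw [Finset.sum_eq_single i]
  · simp
  · intro j _ hj; simp [Pi.single_apply, hj]
  · intro h; exact absurd (Finset.mem_univ i) h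

lemma tot_add (γ γ' : σ → ℤ) : tot (γ + γ') = tot γ + tot γ' := by
  unfold tot; simp [Finset.sum_add_distrib]

lemma tot_sub (γ γ' : σ → ℤ) : tot (γ - γ') = tot γ - tot γ' := by
  unfold tot; simp [Finset.sum_sub_distrib]

lemma tot_nonneg {γ : σ → ℤ} (h : ∀ i, 0 ≤ γ i) : 0 ≤ tot γ := Finset.sum_nonneg fun i _ => h i

lemma degree_toNatVec {γ : σ → ℤ} (h : ∀ i, 0 ≤ γ i) : ((toNatVec γ).degree : ℤ) = tot γ := by
  rw [Finsupp.degree_eq_sum]
  unfold tot
  push_cast
  exact Finset.sum_congr rfl fun i _ => by simp [Int.toNat_of_nonneg (h i)]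

variable (k) in
/-- the `r`-th power of the irrelevant ideal -/
noncomputable abbrev mpow (σ : Type*) (r : ℕ) : Ideal (MvPolynomial σ k) :=
  (Ideal.span (Set.range (X : σ → MvPolynomial σ k))) ^ r

omit [Fintype σ] [DecidableEq σ] in
lemma mem_exps_pow {r : ℕ} {β : σ →₀ ℕ} : β ∈ exps (mpow k σ r) ↔ r ≤ β.degree :=
  monomial_mem_pow_idealOfVars_iff r β one_ne_zero

omit [Fintype σ] [DecidableEq σ] in
lemma isMonomial_pow (r : ℕ) : IsMonomial (mpow k σ r) := fun p hp β hβ =>
  mem_exps_pow.2 ((mem_pow_idealOfVars_iff r p).1 hp β hβ)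

omit [DecidableEq σ] in
lemma finite_compl_pow (r : ℕ) : Finite {γ : σ →₀ ℕ // γ ∉ exps (mpow k σ r)} := by
  have hlt : ∀ γ : {γ : σ →₀ ℕ // γ ∉ exps (mpow k σ r)}, ∀ i, γ.1 i < r := by
    intro γ i
    have h1 := γ.2
    rw [mem_exps_pow, not_le] at h1
    exact lt_of_le_of_lt (Finsupp.le_degree i γ.1) h1
  let ψ : {γ : σ →₀ ℕ // γ ∉ exps (mpow k σ r)} → (σ → Fin r) := fun γ i => ⟨γ.1 i, hlt γ i⟩
  refine Finite.of_injective ψ ?_
  intro γ γ' h
  apply Subtype.ext
  ext i
  have := congrArg Fin.val (congrFun h i)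
  exact this

variable {α : σ → ℤ} {r : ℕ}

lemma mem_region_pow {γ : σ → ℤ} : γ ∈ region (mpow k σ r) α ↔
    (∀ i, α i ≤ γ i) ∧ (r : ℤ) + tot α ≤ tot γ ∧ ¬((∀ i, 0 ≤ γ i) ∧ (r : ℤ) ≤ tot γ) := by
  rw [mem_region_iff]
  constructor
  · rintro ⟨⟨β, hβ, rfl⟩, h2⟩
    rw [mem_exps_pow, Finsupp.degree_eq_sum] at hβ
    have hβ' : (r : ℤ) ≤ ∑ i, (β i : ℤ) := by exact_mod_cast hβ
    refine ⟨fun i => by simp [vec], ?_, fun hh => h2 ⟨hh.1, ?_⟩⟩
    · unfold tot vec
      rw [Finset.sum_add_distrib]
      linarith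
    · rw [mem_exps_pow]
      have := degree_toNatVec hh.1
      have h3 := hh.2
      rw [← this] at h3
      exact_mod_cast h3
  · rintro ⟨h1, h2, h3⟩
    refine ⟨⟨toNatVec (γ - α), ?_, ?_⟩, fun hh => h3 ⟨hh.1, ?_⟩⟩
    · rw [mem_exps_pow]
      have hpos : ∀ i, 0 ≤ (γ - α) i := fun i => by simp; exact h1 i
      have := degree_toNatVec hpos
      rw [tot_sub] at this
      have h4 : (r : ℤ) ≤ ((toNatVec (γ - α)).degree : ℤ) := by rw [this]; linarith
      exact_mod_cast h4
    · funext i
      simp only [vec, toNatVec_apply, Pi.sub_apply]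
      have := h1 i
      omega
    · have h4 := hh.2
      rw [mem_exps_pow] at h4
      have := degree_toNatVec hh.1
      rw [← this]
      exact_mod_cast h4

lemma isEmpty_Bdd_of [Nontrivial σ] {I : Ideal (MvPolynomial σ k)}
    (h : ∀ v : region I α, (∀ i, 0 ≤ v.1 i) → ¬ ((G I α).connectedComponentMk v).supp.Finite) :
    IsEmpty (Bdd I α) := by
  constructor
  rintro ⟨c, hc⟩
  induction c using SimpleGraph.ConnectedComponent.ind with
  | h v => exact h v (nonneg_of_finite v.2 hc) hc

/-! ### total degree at most `-2` -/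

lemma lemmaA [Nontrivial σ] {i j : σ} (hij : j ≠ i) (hi : α i < 0) (hs : tot α ≤ -2) :
    ∀ m : ℕ, ∀ γ : σ → ℤ, ∀ hγ : γ ∈ region (mpow k σ r) α, (∀ l, 0 ≤ γ l) → γ i = m →
      (r : ℤ) + tot α < tot γ →
      ¬ ((G (mpow k σ r) α).connectedComponentMk ⟨γ, hγ⟩).supp.Finite := by
  intro m
  induction m with
  | zero =>
    intro γ hγ hpos hm hlt
    obtain ⟨h1, h2, h3⟩ := mem_region_pow.1 hγ
    have hγ' : γ - Pi.single i 1 ∈ region (mpow k σ r) α := by
      rw [mem_region_pow]
      refine ⟨fun l => ?_, ?_, fun hh => ?_⟩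
      · by_cases hl : l = i
        · subst hl; simp; omega
        · simp [Pi.single_apply, hl]; exact h1 l
      · rw [tot_sub, tot_single]; omega
      · have := hh.1 i
        simp at this
        omega
    have hadd : γ - Pi.single i 1 + Pi.single i 1 ∈ region (mpow k σ r) α := by
      rw [sub_add_cancel]; exact hγ
    have hc := comp_eq_of_add_single hγ' i hadd
    have e : (⟨γ - Pi.single i 1 + Pi.single i 1, hadd⟩ : region (mpow k σ r) α) = ⟨γ, hγ⟩ :=
      Subtype.ext (sub_add_cancel _ _)
    rw [e] at hc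
    rw [hc]
    refine infinite_of_neg hγ' (i := i) ?_
    simp; omega
  | succ m ih =>
    intro γ hγ hpos hm hlt
    obtain ⟨h1, h2, h3⟩ := mem_region_pow.1 hγ
    have hlt_r : tot γ < r := by
      by_contra hcon
      exact h3 ⟨hpos, not_lt.1 hcon⟩
    have hpos' : ∀ l, 0 ≤ (γ - Pi.single i 1 : σ → ℤ) l := by
      intro l
      by_cases hl : l = i
      · subst hl; simp; omega
      · simp [Pi.single_apply, hl]; exact hpos l
    have hγ' : γ - Pi.single i 1 ∈ region (mpow k σ r) α := by
      rw [mem_region_pow]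
      refine ⟨fun l => ?_, ?_, fun hh => ?_⟩
      · by_cases hl : l = i
        · subst hl; simp; omega
        · simp [Pi.single_apply, hl]; exact h1 l
      · rw [tot_sub, tot_single]; omega
      · have := hh.2
        rw [tot_sub, tot_single] at this
        omega
    have hadd : γ - Pi.single i 1 + Pi.single i 1 ∈ region (mpow k σ r) α := by
      rw [sub_add_cancel]; exact hγ
    have hc := comp_eq_of_add_single hγ' i hadd
    have e : (⟨γ - Pi.single i 1 + Pi.single i 1, hadd⟩ : region (mpow k σ r) α) = ⟨γ, hγ⟩ :=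
      Subtype.ext (sub_add_cancel _ _)
    rw [e] at hc
    rw [hc]
    have hm' : (γ - Pi.single i 1 : σ → ℤ) i = m := by simp; omega
    have htot' : tot (γ - Pi.single i 1) = tot γ - 1 := by rw [tot_sub, tot_single]
    by_cases hcase : (r : ℤ) + tot α < tot (γ - Pi.single i 1)
    · exact ih _ hγ' hpos' hm' hcase
    · -- go up in direction j
      have hγ'' : γ - Pi.single i 1 + Pi.single j 1 ∈ region (mpow k σ r) α := by
        rw [mem_region_pow]
        refine ⟨fun l => ?_, ?_, fun hh => ?_⟩
        · have := (mem_region_pow.1 hγ').1 l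
          by_cases hl : l = j
          · subst hl; simp at this ⊢; omega
          · simp [Pi.single_apply, hl] at this ⊢; exact this
        · rw [tot_add, tot_single, htot']; omega
        · have := hh.2
          rw [tot_add, tot_single, htot'] at this
          omega
      have hc2 := comp_eq_of_add_single hγ' j hγ''
      rw [← hc2]
      refine ih _ hγ'' (fun l => ?_) ?_ ?_
      · have := hpos' l
        by_cases hl : l = j
        · subst hl; simp at this ⊢; omega
        · simp [Pi.single_apply, hl] at this ⊢; exact this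
      · simp [Pi.single_apply, hij.symm, hij]; omega
      · rw [tot_add, tot_single, htot']; omega

lemma isEmpty_Bdd_of_le [Nontrivial σ] (hs : tot α ≤ -2) : IsEmpty (Bdd (mpow k σ r) α) := by
  apply isEmpty_Bdd_of
  rintro ⟨γ, hγ⟩ hpos
  replace hpos : ∀ l, 0 ≤ γ l := hpos
  have hi : ∃ i, α i < 0 := by
    by_contra hcon
    push_neg at hcon
    have := tot_nonneg hcon
    omega
  obtain ⟨i, hi⟩ := hi
  obtain ⟨j, hij⟩ := exists_ne i
  obtain ⟨h1, h2, h3⟩ := mem_region_pow.1 hγ
  have hlt_r : tot γ < r := by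
    by_contra hcon
    exact h3 ⟨hpos, not_lt.1 hcon⟩
  by_cases hcase : (r : ℤ) + tot α < tot γ
  · exact lemmaA hij hi hs (γ i).toNat γ hγ hpos (by simp [Int.toNat_of_nonneg (hpos i)]) hcase
  · have hγ'' : γ + Pi.single j 1 ∈ region (mpow k σ r) α := by
      rw [mem_region_pow]
      refine ⟨fun l => ?_, ?_, fun hh => ?_⟩
      · have := h1 l
        by_cases hl : l = j
        · subst hl; simp; omega
        · simp [Pi.single_apply, hl]; exact this
      · rw [tot_add, tot_single]; omega
      · have := hh.2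
        rw [tot_add, tot_single] at this
        omega
    have hc2 := comp_eq_of_add_single hγ j hγ''
    rw [← hc2]
    refine lemmaA hij hi hs (γ i).toNat _ hγ'' (fun l => ?_) ?_ ?_
    · have := hpos l
      by_cases hl : l = j
      · subst hl; simp; omega
      · simp [Pi.single_apply, hl]; exact this
    · simp [Pi.single_apply, hij.symm, hij, Int.toNat_of_nonneg (hpos i)]
    · rw [tot_add, tot_single]; omega

/-! ### total degree at least `0` -/

lemma isEmpty_Bdd_of_nonneg [Nontrivial σ] (hs : 0 ≤ tot α) : IsEmpty (Bdd (mpow k σ r) α) := by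
  apply isEmpty_Bdd_of
  rintro ⟨γ, hγ⟩ hpos
  replace hpos : ∀ l, 0 ≤ γ l := hpos
  obtain ⟨h1, h2, h3⟩ := mem_region_pow.1 hγ
  exact absurd ⟨hpos, by omega⟩ h3

/-! ### total degree `-1` -/

lemma isolated_of_neg_one (hs : tot α = -1) {γ : σ → ℤ} (hγ : γ ∈ region (mpow k σ r) α)
    (hpos : ∀ l, 0 ≤ γ l) (w : region (mpow k σ r) α) :
    ¬ (G (mpow k σ r) α).Adj ⟨γ, hγ⟩ w := by
  intro hadj
  obtain ⟨h1, h2, h3⟩ := mem_region_pow.1 hγ
  have htot : tot γ = r - 1 := by
    have : ¬ ((r : ℤ) ≤ tot γ) := fun h => h3 ⟨hpos, h⟩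
    omega
  obtain ⟨l, hl | hl⟩ := exists_of_step_adj (show (stepGraph σ).Adj γ w.1 from hadj)
  · obtain ⟨g1, g2, g3⟩ := mem_region_pow.1 w.2
    apply g3
    rw [hl, tot_add, tot_single]
    refine ⟨fun l' => ?_, by omega⟩
    have := hpos l'
    by_cases hl' : l' = l
    · subst hl'; simp; omega
    · simp [Pi.single_apply, hl']; exact this
  · obtain ⟨g1, g2, g3⟩ := mem_region_pow.1 w.2
    have : tot γ = tot w.1 + 1 := by rw [hl, tot_add, tot_single]
    omega

lemma supp_singleton {I : Ideal (MvPolynomial σ k)} {v : region I α}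
    (h : ∀ w, ¬ (G I α).Adj v w) :
    ((G I α).connectedComponentMk v).supp = {v} := by
  ext w
  rw [SimpleGraph.ConnectedComponent.mem_supp_iff, SimpleGraph.ConnectedComponent.eq,
    Set.mem_singleton_iff]
  constructor
  · rintro ⟨p⟩
    have p' := p.reverse
    cases p' with
    | nil => rfl
    | cons hadj _ => exact absurd hadj (h _)
  · rintro rfl; exact SimpleGraph.Reachable.refl _

/-- the positive part sum -/
lemma sum_toNat_sub (α : σ → ℤ) :
    (∑ i, ((α i).toNat : ℤ)) - ∑ i, ((-α i).toNat : ℤ) = tot α := by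
  unfold tot
  rw [← Finset.sum_sub_distrib]
  exact Finset.sum_congr rfl fun i _ => by omega

theorem card_Bdd_pow [Nontrivial σ] (α : σ → ℤ) (r : ℕ) :
    Nat.card (Bdd (mpow k σ r) α) =
      if (∑ i, α i = -1 ∧ ∑ i, (-α i).toNat ≤ r)
        then Nat.choose (Fintype.card σ + r - (∑ i, (-α i).toNat) - 1) (Fintype.card σ - 1)
        else 0 := by
  obtain ⟨w, hw⟩ : ∃ w : ℕ, w = ∑ i, (-α i).toNat := ⟨_, rfl⟩
  rw [← hw]
  have hw' : (w : ℤ) = ∑ i, ((-α i).toNat : ℤ) := by rw [hw]; push_cast; rfl
  have hsum := sum_toNat_sub α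
  rw [← hw'] at hsum
  change Nat.card (Bdd (mpow k σ r) α) = if (tot α = -1 ∧ w ≤ r) then _ else 0
  by_cases hs : tot α = -1
  · by_cases hwr : w ≤ r
    · rw [if_pos ⟨hs, hwr⟩]
      -- bijection with the antidiagonal
      obtain ⟨m, hm⟩ : ∃ m, m = r - w := ⟨_, rfl⟩
      have hP : (∑ i, ((α i).toNat : ℤ)) = w - 1 := by omega
      have hmem : ∀ δ : ↥((Finset.univ : Finset σ).finsuppAntidiag m),
          (fun l => ((δ.1 l : ℕ) : ℤ) + ((α l).toNat : ℤ)) ∈ region (mpow k σ r) α := by
        intro δ
        have hδ := (Finset.mem_finsuppAntidiag.1 δ.2).1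
        have hδ' : (∑ l, ((δ.1 l : ℕ) : ℤ)) = m := by exact_mod_cast hδ
        rw [mem_region_pow]
        have htot : tot (fun l => ((δ.1 l : ℕ) : ℤ) + ((α l).toNat : ℤ)) = r - 1 := by
          unfold tot
          rw [Finset.sum_add_distrib, hδ', hP]; omega
        refine ⟨fun l => by show α l ≤ ((δ.1 l : ℕ) : ℤ) + ((α l).toNat : ℤ); omega, by rw [htot]; omega, fun hh => ?_⟩
        have := hh.2
        rw [htot] at this
        omega
      have hpos : ∀ (δ : ↥((Finset.univ : Finset σ).finsuppAntidiag m)) (l : σ),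
          0 ≤ (fun l => ((δ.1 l : ℕ) : ℤ) + ((α l).toNat : ℤ)) l := by
        intro δ l; show (0 : ℤ) ≤ ((δ.1 l : ℕ) : ℤ) + ((α l).toNat : ℤ); omega
      have hsing : ∀ δ : ↥((Finset.univ : Finset σ).finsuppAntidiag m),
          ((G (mpow k σ r) α).connectedComponentMk ⟨_, hmem δ⟩).supp = {⟨_, hmem δ⟩} :=
        fun δ => supp_singleton (isolated_of_neg_one hs (hmem δ) (hpos δ))
      let f : ↥((Finset.univ : Finset σ).finsuppAntidiag m) → Bdd (mpow k σ r) α := fun δ =>
        ⟨(G (mpow k σ r) α).connectedComponentMk ⟨_, hmem δ⟩, by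
          rw [hsing δ]; exact Set.finite_singleton _⟩
      have hf : Function.Bijective f := by
        constructor
        · intro δ δ' h
          have h1 : (G (mpow k σ r) α).connectedComponentMk ⟨_, hmem δ⟩ =
              (G (mpow k σ r) α).connectedComponentMk ⟨_, hmem δ'⟩ := congrArg Subtype.val h
          have h2 : (⟨_, hmem δ'⟩ : region (mpow k σ r) α) ∈
              ((G (mpow k σ r) α).connectedComponentMk ⟨_, hmem δ⟩).supp := by
            rw [SimpleGraph.ConnectedComponent.mem_supp_iff, h1]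
          rw [hsing δ, Set.mem_singleton_iff] at h2
          have h3 := congrArg Subtype.val h2
          apply Subtype.ext
          ext l
          have := congrFun h3 l
          simp only at this
          omega
        · rintro ⟨c, hc⟩
          induction c using SimpleGraph.ConnectedComponent.ind with
          | h v =>
            obtain ⟨γ, hγ⟩ := v
            have hposγ := nonneg_of_finite hγ hc
            obtain ⟨h1, h2, h3⟩ := mem_region_pow.1 hγ
            have htot : tot γ = r - 1 := by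
              have : ¬ ((r : ℤ) ≤ tot γ) := fun h => h3 ⟨hposγ, h⟩
              omega
            have hge : ∀ l, ((α l).toNat : ℤ) ≤ γ l := fun l => by
              have := h1 l; have := hposγ l; omega
            let δ : σ →₀ ℕ := toNatVec (fun l => γ l - ((α l).toNat : ℤ))
            have hδl : ∀ l, ((δ l : ℕ) : ℤ) = γ l - ((α l).toNat : ℤ) := by
              intro l
              simp only [δ, toNatVec_apply]
              have := hge l
              omega
            have hδmem : δ ∈ (Finset.univ : Finset σ).finsuppAntidiag m := by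
              rw [Finset.mem_finsuppAntidiag]
              refine ⟨?_, Finset.subset_univ _⟩
              have : ((∑ l, δ l : ℕ) : ℤ) = m := by
                push_cast
                rw [Finset.sum_congr rfl fun l _ => hδl l, Finset.sum_sub_distrib, hP]
                unfold tot at htot
                rw [htot]; omega
              exact_mod_cast this
            refine ⟨⟨δ, hδmem⟩, ?_⟩
            apply Subtype.ext
            show (G (mpow k σ r) α).connectedComponentMk ⟨_, hmem ⟨δ, hδmem⟩⟩ =
              (G (mpow k σ r) α).connectedComponentMk ⟨γ, hγ⟩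
            congr 1
            apply Subtype.ext
            funext l
            show ((δ l : ℕ) : ℤ) + ((α l).toNat : ℤ) = γ l
            rw [hδl]; ring
      rw [← Nat.card_congr (Equiv.ofBijective f hf), Nat.card_eq_fintype_card, Fintype.card_coe,
        Finset.card_finsuppAntidiag_nat_eq_choose, Finset.card_univ]
      have hcard : 1 ≤ Fintype.card σ := Fintype.card_pos
      have e1 : Fintype.card σ + r - w - 1 = Fintype.card σ + m - 1 := by omega
      rw [e1]
      exact Nat.choose_symm_of_eq_add (by omega)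
    · rw [if_neg (fun h => hwr h.2)]
      haveI : IsEmpty (Bdd (mpow k σ r) α) := by
        apply isEmpty_Bdd_of
        rintro ⟨γ, hγ⟩ hpos
        replace hpos : ∀ l, 0 ≤ γ l := hpos
        exfalso
        obtain ⟨h1, h2, h3⟩ := mem_region_pow.1 hγ
        have htot : tot γ < r := by
          by_contra hcon
          exact h3 ⟨hpos, not_lt.1 hcon⟩
        have hge : ∑ i, ((α i).toNat : ℤ) ≤ tot γ := by
          unfold tot
          exact Finset.sum_le_sum fun l _ => by
            have := h1 l; have := hpos l; omega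
        omega
      exact Nat.card_of_isEmpty
  · rw [if_neg (fun h => hs h.1)]
    haveI : IsEmpty (Bdd (mpow k σ r) α) := by
      rcases lt_or_gt_of_ne hs with h | h
      · exact isEmpty_Bdd_of_le (by omega)
      · exact isEmpty_Bdd_of_nonneg (by omega)
    exact Nat.card_of_isEmpty

theorem finrank_tPiece_pow [Nontrivial σ] (α : σ → ℤ) (r : ℕ) :
    Module.finrank k ↥(tPiece (mpow k σ r) α) =
      if (∑ i, α i = -1 ∧ ∑ i, (-α i).toNat ≤ r)
        then Nat.choose (Fintype.card σ + r - (∑ i, (-α i).toNat) - 1) (Fintype.card σ - 1)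
        else 0 := by
  haveI := finite_compl_pow (k := k) (σ := σ) r
  rw [finrank_eq_card_Bdd (isMonomial_pow r) α, card_Bdd_pow]

end Groth.Agent.Helper25.HilbTgt
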