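import Mathlib
import Groth.Agent.Lib.Helper25.HilbPow

/-! Walking lemmas in the region graph, and vanishing criteria for graded pieces. -/

namespace Groth.Agent.Helper25.HilbTgt

open MvPolynomial W4c1hilbpn

variable {σ : Type*} {k : Type*} [Field k] [Fintype σ] [DecidableEq σ]
  {I : Ideal (MvPolynomial σ k)} {α : σ → ℤ}

omit [Fintype σ] [DecidableEq σ] in
lemma exps_mono {β β' : σ →₀ ℕ} (h : β ∈ exps I) (hle : β ≤ β') : β' ∈ exps I := by
  have : β' = β + (β' - β) := (add_tsub_cancel_of_le hle).symm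
  rw [this]; exact exps_add h _

omit [Fintype σ] [DecidableEq σ] in
lemma exists_bound [Finite {γ : σ →₀ ℕ // γ ∉ exps I}] :
    ∃ N : ℕ, ∀ δ : σ →₀ ℕ, δ ∉ exps I → ∀ i, δ i < N := by
  haveI := Fintype.ofFinite {γ : σ →₀ ℕ // γ ∉ exps I}
  refine ⟨(Finset.univ.sup fun δ : {γ : σ →₀ ℕ // γ ∉ exps I} => δ.1.degree) + 1,
    fun δ hδ i => ?_⟩
  have h1 : δ.degree ≤ Finset.univ.sup fun δ : {γ : σ →₀ ℕ // γ ∉ exps I} => δ.1.degree :=
    Finset.le_sup (f := fun δ : {γ : σ →₀ ℕ // γ ∉ exps I} => δ.1.degree)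
      (Finset.mem_univ ⟨δ, hδ⟩)
  have h2 := Finsupp.le_degree i δ
  omega

lemma tPiece_eq_bot_iff [Nontrivial σ] (hI : IsMonomial I)
    [Finite {γ : σ →₀ ℕ // γ ∉ exps I}] : tPiece I α = ⊥ ↔ IsEmpty (Bdd I α) := by
  classical
  constructor
  · intro h
    constructor
    intro c
    have h1 : (PsiL (α := α) hI (fun c' => if c' = c then 1 else 0)) = 0 := by
      have : ((PsiL (α := α) hI (fun c' => if c' = c then 1 else 0) : tPiece I α) : Tgt I) ∈
          (⊥ : Submodule k (Tgt I)) := by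
        rw [← h]; exact (PsiL (α := α) hI (fun c' => if c' = c then 1 else 0)).2
      rw [Submodule.mem_bot] at this
      exact Subtype.ext this
    have h2 := (injective_iff_map_eq_zero (PsiL (α := α) hI)).1 (PsiL_injective hI) _ h1
    have := congrFun h2 c
    simp at this
  · intro h
    rw [eq_bot_iff]
    intro φ hφ
    obtain ⟨f, hf⟩ := PsiL_surjective hI ⟨φ, hφ⟩
    have : f = 0 := Subsingleton.elim _ _
    rw [this, map_zero] at hf
    rw [Submodule.mem_bot]
    exact (congrArg Subtype.val hf).symm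

omit [DecidableEq σ] in
lemma sigPiece_eq_bot_iff {N : Set σ} :
    sigPiece I N = ⊥ ↔ ∀ α : σ → ℤ, (∀ i, α i < 0 ↔ i ∈ N) → tPiece I α = ⊥ := by
  unfold sigPiece
  rw [iSup_eq_bot]
  exact ⟨fun h α hα => h ⟨α, hα⟩, fun h α => h α.1 α.2⟩

lemma add_single_apply (γ : σ → ℤ) (u : σ) (c : ℤ) (l : σ) :
    (γ + Pi.single u c : σ → ℤ) l = γ l + if l = u then c else 0 := by
  by_cases h : l = u
  · subst h; simp
  · simp [Pi.single_apply, h]

lemma sub_single_apply (γ : σ → ℤ) (u : σ) (c : ℤ) (l : σ) :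
    (γ - Pi.single u c : σ → ℤ) l = γ l - if l = u then c else 0 := by
  by_cases h : l = u
  · subst h; simp
  · simp [Pi.single_apply, h]

/-- the component of `γ` in the region graph is infinite -/
def InfAt (I : Ideal (MvPolynomial σ k)) (α : σ → ℤ) (γ : σ → ℤ) : Prop :=
  ∃ h : γ ∈ region I α, ¬ ((G I α).connectedComponentMk ⟨γ, h⟩).supp.Finite

lemma infAt_of_neg [Nontrivial σ] {γ : σ → ℤ} (h : γ ∈ region I α) {i : σ} (hi : γ i < 0) :
    InfAt I α γ := ⟨h, infinite_of_neg h hi⟩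

lemma InfAt.of_add {γ : σ → ℤ} (h : γ ∈ region I α) (i : σ)
    (h' : InfAt I α (γ + Pi.single i 1)) : InfAt I α γ := by
  obtain ⟨h2, hinf⟩ := h'
  exact ⟨h, by rw [← comp_eq_of_add_single h i h2]; exact hinf⟩

lemma InfAt.of_sub {γ : σ → ℤ} (h : γ ∈ region I α) (i : σ)
    (h' : InfAt I α (γ - Pi.single i 1)) : InfAt I α γ := by
  obtain ⟨h2, hinf⟩ := h'
  have hadd : γ - Pi.single i 1 + Pi.single i 1 ∈ region I α := by rw [sub_add_cancel]; exact h
  have e := comp_eq_of_add_single h2 i hadd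
  have e2 : (⟨γ - Pi.single i 1 + Pi.single i 1, hadd⟩ : region I α) = ⟨γ, h⟩ :=
    Subtype.ext (sub_add_cancel _ _)
  rw [e2] at e
  exact ⟨h, by rw [e]; exact hinf⟩

lemma InfAt.of_add_n {γ : σ → ℤ} (i : σ) : ∀ s : ℕ,
    (∀ t : ℕ, t ≤ s → γ + Pi.single i (t : ℤ) ∈ region I α) →
    InfAt I α (γ + Pi.single i (s : ℤ)) → InfAt I α γ
  | 0, _, h' => by simpa using h'
  | s + 1, h, h' => by
    apply InfAt.of_add_n i s (fun t ht => h t (by omega))
    apply InfAt.of_add (h s (by omega)) i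
    have : γ + Pi.single i (s : ℤ) + Pi.single i 1 = γ + Pi.single i ((s + 1 : ℕ) : ℤ) := by
      rw [add_assoc, ← Pi.single_add]; push_cast; rfl
    rw [this]; exact h'

lemma InfAt.of_sub_n {γ : σ → ℤ} (i : σ) : ∀ s : ℕ,
    (∀ t : ℕ, t ≤ s → γ - Pi.single i (t : ℤ) ∈ region I α) →
    InfAt I α (γ - Pi.single i (s : ℤ)) → InfAt I α γ
  | 0, _, h' => by simpa using h'
  | s + 1, h, h' => by
    apply InfAt.of_sub_n i s (fun t ht => h t (by omega))
    apply InfAt.of_sub (h s (by omega)) i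
    have : γ - Pi.single i (s : ℤ) - Pi.single i 1 = γ - Pi.single i ((s + 1 : ℕ) : ℤ) := by
      rw [sub_sub, ← Pi.single_add]; push_cast; rfl
    rw [this]; exact h'

lemma isEmpty_Bdd_of_infAt [Nontrivial σ]
    (h : ∀ γ, γ ∈ region I α → (∀ i, 0 ≤ γ i) → InfAt I α γ) : IsEmpty (Bdd I α) := by
  apply isEmpty_Bdd_of
  rintro ⟨γ, hγ⟩ hpos
  obtain ⟨_, hinf⟩ := h γ hγ hpos
  exact hinf

lemma mem_region_of {δ : σ → ℤ} (h1 : ∀ l, 0 ≤ δ l - α l) (h2 : toNatVec (δ - α) ∈ exps I)
    (h3 : ¬((∀ i, 0 ≤ δ i) ∧ toNatVec δ ∈ exps I)) : δ ∈ region I α := by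
  refine ⟨⟨toNatVec (δ - α), h2, ?_⟩, h3⟩
  funext l
  simp only [toNatVec_apply, Pi.sub_apply]
  have := h1 l
  omega

lemma sub_nonneg_of_mem_region {γ : σ → ℤ} (h : γ ∈ region I α) (l : σ) : 0 ≤ γ l - α l := by
  obtain ⟨⟨β, _, hγ⟩, -⟩ := h
  replace hγ : γ = vec β α := hγ
  rw [hγ]; simp [vec]

lemma toNatVec_sub_mem {γ : σ → ℤ} (h : γ ∈ region I α) : toNatVec (γ - α) ∈ exps I := by
  obtain ⟨⟨β, hβ, hγ⟩, -⟩ := h
  replace hγ : γ = vec β α := hγ
  have : toNatVec (γ - α) = β := by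
    ext l; rw [hγ]; simp [vec]
  rw [this]; exact hβ

omit [DecidableEq σ] in
lemma toNatVec_le {δ δ' : σ → ℤ} (h : ∀ l, δ l ≤ δ' l) : toNatVec δ ≤ toNatVec δ' := by
  rw [Finsupp.le_def]
  intro l
  simp only [toNatVec_apply]
  exact Int.toNat_le_toNat (h l)

lemma exists_min_nat {P : ℕ → Prop} (h : ∃ t, P t) : ∃ s, P s ∧ ∀ t < s, ¬ P t := by
  classical
  exact ⟨Nat.find h, Nat.find_spec h, fun t ht => Nat.find_min h ht⟩

/-- the walking lemma: go up in direction `u` until the ideal is hit, then down in direction `d` -/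
lemma walk_infAt [Finite {γ : σ →₀ ℕ // γ ∉ exps I}] {u d : σ} (hud : u ≠ d)
    (hu : α u < 0) (hd : α d < 0) (hrest : ∀ l, α l ≤ 0) :
    ∀ m : ℕ, ∀ γ : σ → ℤ, γ ∈ region I α → (∀ l, 0 ≤ γ l) → γ d = m → InfAt I α γ := by
  haveI : Nontrivial σ := ⟨⟨u, d, hud⟩⟩
  obtain ⟨N, hN⟩ := exists_bound (I := I)
  intro m
  induction m using Nat.strong_induction_on with
  | _ m ih =>
    intro γ hγ hpos hm
    have hγnot : toNatVec γ ∉ exps I := notMem_of_region_pos hγ hpos
    have hex : ∃ t : ℕ, toNatVec (γ + Pi.single u ((t + 1 : ℕ) : ℤ)) ∈ exps I := by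
      refine ⟨N, ?_⟩
      by_contra hcon
      have h1 := hN _ hcon u
      rw [toNatVec_apply, add_single_apply, if_pos rfl] at h1
      have := hpos u
      omega
    obtain ⟨s, hs, hmin⟩ := exists_min_nat hex
    have hnotU : ∀ t : ℕ, t ≤ s → toNatVec (γ + Pi.single u (t : ℤ)) ∉ exps I := by
      intro t ht
      rcases Nat.eq_zero_or_pos t with rfl | htpos
      · simpa using hγnot
      · obtain ⟨t', rfl⟩ : ∃ t', t = t' + 1 := ⟨t - 1, by omega⟩
        exact hmin t' (by omega)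
    have hregU : ∀ t : ℕ, t ≤ s → γ + Pi.single u (t : ℤ) ∈ region I α := by
      intro t ht
      refine mem_region_of (fun l => ?_) ?_ (fun hh => hnotU t ht hh.2)
      · have := sub_nonneg_of_mem_region hγ l
        rw [add_single_apply]
        split_ifs <;> omega
      · refine exps_mono (toNatVec_sub_mem hγ) (toNatVec_le fun l => ?_)
        simp only [Pi.sub_apply]
        rw [add_single_apply]
        split_ifs <;> omega
    apply InfAt.of_add_n u s hregU
    obtain ⟨γs, hγs⟩ : ∃ γs, γs = γ + Pi.single u (s : ℤ) := ⟨_, rfl⟩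
    rw [← hγs]
    have hγsl : ∀ l, γs l = γ l + if l = u then (s : ℤ) else 0 := fun l => by
      rw [hγs, add_single_apply]
    have hposs : ∀ l, 0 ≤ γs l := fun l => by
      rw [hγsl]; have := hpos l; split_ifs <;> omega
    have hnots : toNatVec γs ∉ exps I := by rw [hγs]; exact hnotU s le_rfl
    have hs' : toNatVec (γs + Pi.single u 1) ∈ exps I := by
      have : γs + Pi.single u 1 = γ + Pi.single u ((s + 1 : ℕ) : ℤ) := by
        rw [hγs, add_assoc, ← Pi.single_add]; push_cast; rfl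
      rw [this]; exact hs
    have hsd : γs d = m := by
      rw [hγsl, if_neg (Ne.symm hud), add_zero, hm]
    obtain ⟨b, hb⟩ : ∃ b : ℕ, (b : ℤ) = -α d := ⟨(-α d).toNat, by omega⟩
    have hb1 : 1 ≤ b := by omega
    have hregD : ∀ t : ℕ, t ≤ b → γs - Pi.single d (t : ℤ) ∈ region I α := by
      intro t ht
      refine mem_region_of (fun l => ?_) ?_ (fun hh => hnots ?_)
      · rw [sub_single_apply]
        have := hposs l
        have := hrest l
        split_ifs with hl
        · subst hl; omega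
        · omega
      · refine exps_mono hs' (toNatVec_le fun l => ?_)
        simp only [Pi.sub_apply, Pi.add_apply, Pi.single_apply]
        have := hrest l
        by_cases hlu : l = u
        · subst hlu
          rw [if_pos rfl, if_neg hud]; omega
        · rw [if_neg hlu]
          split_ifs with hl
          · subst hl; omega
          · omega
      · refine exps_mono hh.2 (toNatVec_le fun l => ?_)
        rw [sub_single_apply]
        split_ifs <;> omega
    by_cases hlt : m < b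
    · apply InfAt.of_sub_n d (m + 1) (fun t ht => hregD t (by omega))
      refine infAt_of_neg (hregD (m + 1) (by omega)) (i := d) ?_
      rw [sub_single_apply, if_pos rfl, hsd]; push_cast; omega
    · apply InfAt.of_sub_n d b (fun t ht => hregD t ht)
      refine ih (m - b) (by omega) _ (hregD b le_rfl) (fun l => ?_) ?_
      · rw [sub_single_apply]
        have := hposs l
        split_ifs with hl
        · subst hl; rw [hsd]; omega
        · omega
      · rw [sub_single_apply, if_pos rfl, hsd]; omega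

/-- all entries negative: the piece vanishes -/
lemma isEmpty_Bdd_of_all_neg [Finite {γ : σ →₀ ℕ // γ ∉ exps I}] [Nontrivial σ]
    (hα : ∀ i, α i < 0) : IsEmpty (Bdd I α) := by
  obtain ⟨u, d, hud⟩ := exists_pair_ne σ
  apply isEmpty_Bdd_of_infAt
  intro γ hγ hpos
  exact walk_infAt hud (hα u) (hα d) (fun l => (hα l).le) (γ d).toNat γ hγ hpos
    (by rw [Int.toNat_of_nonneg (hpos d)])

/-- all entries nonnegative: the piece vanishes -/
lemma isEmpty_Bdd_of_all_nonneg [Nontrivial σ] (hα : ∀ i, 0 ≤ α i) : IsEmpty (Bdd I α) := by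
  apply isEmpty_Bdd_of
  rintro ⟨γ, hγ⟩ hpos
  replace hpos : ∀ l, 0 ≤ γ l := hpos
  exfalso
  obtain ⟨⟨β, hβ, hγβ⟩, hnot⟩ := id hγ
  replace hγβ : γ = vec β α := hγβ
  apply hnot
  refine ⟨hpos, exps_mono hβ ?_⟩
  rw [Finsupp.le_def]
  intro l
  show β l ≤ (γ l).toNat
  rw [hγβ]
  simp only [vec]
  have := hα l
  omega

end Groth.Agent.Helper25.HilbTgt
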