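import Mathlib
import Groth.Agent.Lib.Helper25.HilbWalk

/-! Decomposition of `T(I)` into its multigraded pieces (monomial ideals of finite colength). -/

namespace Groth.Agent.Helper25.HilbTgt

open MvPolynomial W4c1hilbpn

variable {σ : Type*} {k : Type*} [Field k] [Fintype σ] [DecidableEq σ]
  {I : Ideal (MvPolynomial σ k)}

omit [Fintype σ] [DecidableEq σ] in
lemma mem_of_support (p : MvPolynomial σ k) (h : ∀ ε ∈ p.support, ε ∈ exps I) : p ∈ I := by
  rw [← support_sum_monomial_coeff p]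
  refine Ideal.sum_mem _ fun ε hε => ?_
  have e : monomial ε (coeff ε p) = C (coeff ε p) * monomial ε (1 : k) := by
    rw [C_mul_monomial, mul_one]
  rw [e]
  exact I.mul_mem_left _ (h ε hε)

/-- a chosen representative -/
noncomputable def rep (y : MvPolynomial σ k ⧸ I) : MvPolynomial σ k :=
  Classical.choose (Ideal.Quotient.mk_surjective y)

omit [Fintype σ] [DecidableEq σ] in
lemma mk_rep (y : MvPolynomial σ k ⧸ I) : Ideal.Quotient.mk I (rep y) = y :=
  Classical.choose_spec (Ideal.Quotient.mk_surjective y)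

/-- the coefficient of `x^γ` in an element of `S/I` (meaningful for `x^γ ∉ I`) -/
noncomputable def cf (γ : σ →₀ ℕ) (y : MvPolynomial σ k ⧸ I) : k := coeff γ (rep y)

omit [Fintype σ] [DecidableEq σ] in
lemma cf_mk (hI : IsMonomial I) {γ : σ →₀ ℕ} (hγ : γ ∉ exps I) (p : MvPolynomial σ k) :
    cf γ (Ideal.Quotient.mk I p) = coeff γ p := by
  have h : rep (Ideal.Quotient.mk I p) - p ∈ I := Ideal.Quotient.eq.1 (mk_rep _)
  have := coeff_eq_zero_of_mem hI h hγ
  rw [coeff_sub] at this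
  unfold cf
  exact sub_eq_zero.1 this

omit [Fintype σ] [DecidableEq σ] in
lemma cf_zero (hI : IsMonomial I) {γ : σ →₀ ℕ} (hγ : γ ∉ exps I) :
    cf γ (0 : MvPolynomial σ k ⧸ I) = 0 := by
  have := cf_mk hI hγ 0
  simpa using this

omit [Fintype σ] [DecidableEq σ] in
lemma X_smul_mk (i : σ) (p : MvPolynomial σ k) :
    (X i : MvPolynomial σ k) • Ideal.Quotient.mk I p = Ideal.Quotient.mk I (X i * p) := rfl

omit [Fintype σ] [DecidableEq σ] in
lemma cf_X_smul (hI : IsMonomial I) {γ : σ →₀ ℕ} {i : σ}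
    (hγ' : γ + Finsupp.single i 1 ∉ exps I) (y : MvPolynomial σ k ⧸ I) :
    cf (γ + Finsupp.single i 1) ((X i : MvPolynomial σ k) • y) = cf γ y := by
  have hγ : γ ∉ exps I := fun h => hγ' (exps_add h _)
  conv_lhs => rw [← mk_rep y]
  rw [X_smul_mk, cf_mk hI hγ', add_comm, coeff_X_mul]
  rfl

omit [Fintype σ] in
lemma cf_X_smul_of_zero (hI : IsMonomial I) {δ : σ →₀ ℕ} {i : σ} (hδ : δ ∉ exps I)
    (hi : δ i = 0) (y : MvPolynomial σ k ⧸ I) :
    cf δ ((X i : MvPolynomial σ k) • y) = 0 := by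
  conv_lhs => rw [← mk_rep y]
  rw [X_smul_mk, cf_mk hI hδ, coeff_X_mul', if_neg]
  rw [Finsupp.mem_support_iff]
  simpa using hi

omit [Fintype σ] [DecidableEq σ] in
lemma expand (hI : IsMonomial I) [Fintype {γ : σ →₀ ℕ // γ ∉ exps I}]
    (y : MvPolynomial σ k ⧸ I) :
    y = ∑ γ : {γ : σ →₀ ℕ // γ ∉ exps I}, cf γ.1 y • q I γ.1 := by
  classical
  obtain ⟨p, rfl⟩ := Ideal.Quotient.mk_surjective y
  have h1 : Ideal.Quotient.mk I p = ∑ δ ∈ p.support, coeff δ p • q I δ := by
    conv_lhs => rw [← support_sum_monomial_coeff p]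
    rw [map_sum]
    refine Finset.sum_congr rfl fun δ _ => ?_
    have e : monomial δ (coeff δ p) = coeff δ p • monomial δ (1 : k) := by
      rw [smul_monomial, smul_eq_mul, mul_one]
    rw [e, mk_smul]; rfl
  let T : Finset (σ →₀ ℕ) :=
    (Finset.univ : Finset {γ : σ →₀ ℕ // γ ∉ exps I}).image Subtype.val
  have hT : ∀ δ, δ ∈ T ↔ δ ∉ exps I := by
    intro δ
    simp only [T, Finset.mem_image, Finset.mem_univ, true_and]
    constructor
    · rintro ⟨γ, rfl⟩; exact γ.2
    · intro h; exact ⟨⟨δ, h⟩, rfl⟩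
  have h2 : ∑ γ : {γ : σ →₀ ℕ // γ ∉ exps I}, cf γ.1 (Ideal.Quotient.mk I p) • q I γ.1 =
      ∑ δ ∈ T, coeff δ p • q I δ := by
    rw [Finset.sum_image (fun a _ b _ h => Subtype.ext h)]
    exact Finset.sum_congr rfl fun γ _ => by rw [cf_mk hI γ.2]
  rw [h2, h1]
  have h3 : ∑ δ ∈ p.support, coeff δ p • q I δ = ∑ δ ∈ p.support ∪ T, coeff δ p • q I δ := by
    refine Finset.sum_subset Finset.subset_union_left fun δ _ hδ => ?_
    rw [notMem_support_iff.1 hδ, zero_smul]
  have h4 : ∑ δ ∈ T, coeff δ p • q I δ = ∑ δ ∈ p.support ∪ T, coeff δ p • q I δ := by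
    refine Finset.sum_subset Finset.subset_union_right fun δ _ hδ => ?_
    rw [hT, not_not] at hδ
    rw [q_eq_zero_iff.2 hδ, smul_zero]
  rw [h3, h4]

/-- the value of `φ` on the monomial `x^β` (zero if `x^β ∉ I`) -/
noncomputable def val (φ : Tgt I) (β : σ →₀ ℕ) : MvPolynomial σ k ⧸ I :=
  open Classical in if h : monomial β (1 : k) ∈ I then φ ⟨monomial β 1, h⟩ else 0

omit [Fintype σ] [DecidableEq σ] in
lemma val_of_mem (φ : Tgt I) {β : σ →₀ ℕ} (h : monomial β (1 : k) ∈ I) :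
    val φ β = φ ⟨monomial β 1, h⟩ := by
  unfold val; rw [dif_pos h]

lemma val_add_single (φ : Tgt I) {β : σ →₀ ℕ} (hβ : β ∈ exps I) (i : σ) :
    val φ (β + Finsupp.single i 1) = (X i : MvPolynomial σ k) • val φ β := by
  rw [val_of_mem φ (exps_add hβ _), val_of_mem φ hβ]
  exact phi_X_smul φ β hβ i _

open Classical in
/-- coefficient function of the degree-`α` component of `φ` -/
noncomputable def Fdec (φ : Tgt I) (α : σ → ℤ) : (σ → ℤ) → k := fun γ =>
  if (∀ l, 0 ≤ γ l) ∧ toNatVec γ ∉ exps I ∧ (∀ l, 0 ≤ γ l - α l) then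
    cf (toNatVec γ) (val φ (toNatVec (γ - α))) else 0

omit [DecidableEq σ] in
lemma toNatVec_vec_sub (β : σ →₀ ℕ) (α : σ → ℤ) : toNatVec (vec β α - α) = β := by
  ext l; simp [vec]

lemma Fdec_vec (φ : Tgt I) (α : σ → ℤ) {β : σ →₀ ℕ} (hpos : ∀ l, 0 ≤ vec β α l)
    (hnot : toNatVec (vec β α) ∉ exps I) :
    Fdec φ α (vec β α) = cf (toNatVec (vec β α)) (val φ β) := by
  unfold Fdec
  rw [if_pos ⟨hpos, hnot, fun l => by simp [vec]⟩, toNatVec_vec_sub]

lemma Fdec_of_neg (φ : Tgt I) (α : σ → ℤ) {γ : σ → ℤ} (h : ∃ i, γ i < 0) : Fdec φ α γ = 0 := by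
  unfold Fdec
  rw [if_neg]
  rintro ⟨hpos, -, -⟩
  obtain ⟨i, hi⟩ := h
  have := hpos i
  omega

lemma Fdec_compat (hI : IsMonomial I) (φ : Tgt I) (α : σ → ℤ) : Compat I α (Fdec φ α) where
  neg := fun γ _ h => Fdec_of_neg φ α h
  adj := by
    intro γ hγ i hγ'
    obtain ⟨⟨β, hβ, hγβ⟩, -⟩ := id hγ
    replace hγβ : γ = vec β α := hγβ
    have hγβ' : γ + Pi.single i 1 = vec (β + Finsupp.single i 1) α := by
      rw [vec_add_single, hγβ]
    by_cases hpos : ∀ l, 0 ≤ γ l
    · have hpos' : ∀ l, 0 ≤ (γ + Pi.single i 1 : σ → ℤ) l := fun l => by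
        have := hpos l
        rw [add_single_apply]; split_ifs <;> omega
      have hnot := notMem_of_region_pos hγ hpos
      have hnot' := notMem_of_region_pos hγ' hpos'
      have e1 : Fdec φ α γ = cf (toNatVec γ) (val φ β) := by
        rw [hγβ]; rw [hγβ] at hpos hnot; exact Fdec_vec φ α hpos hnot
      have e2 : Fdec φ α (γ + Pi.single i 1) =
          cf (toNatVec (γ + Pi.single i 1)) (val φ (β + Finsupp.single i 1)) := by
        rw [hγβ']; rw [hγβ'] at hpos' hnot'; exact Fdec_vec φ α hpos' hnot'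
      rw [e1, e2, val_add_single φ hβ, toNatVec_add_single hpos]
      rw [toNatVec_add_single hpos] at hnot'
      exact cf_X_smul hI hnot' _
    · push_neg at hpos
      rw [Fdec_of_neg φ α hpos]
      by_cases hpos' : ∀ l, 0 ≤ (γ + Pi.single i 1 : σ → ℤ) l
      · have hnot' := notMem_of_region_pos hγ' hpos'
        have e2 : Fdec φ α (γ + Pi.single i 1) =
            cf (toNatVec (γ + Pi.single i 1)) (val φ (β + Finsupp.single i 1)) := by
          rw [hγβ']; rw [hγβ'] at hpos' hnot'; exact Fdec_vec φ α hpos' hnot'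
        rw [e2, val_add_single φ hβ]
        refine cf_X_smul_of_zero hI hnot' ?_ _
        obtain ⟨j, hj⟩ := hpos
        have h1 := hpos' j
        rw [add_single_apply] at h1
        have hji : j = i := by
          by_contra hne
          rw [if_neg hne] at h1
          omega
        subst hji
        rw [if_pos rfl] at h1
        rw [toNatVec_apply, add_single_apply, if_pos rfl]
        omega
      · push_neg at hpos'
        exact Fdec_of_neg φ α hpos'

/-- the degree-`α` component of `φ` -/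
noncomputable def gcomp (hI : IsMonomial I) (φ : Tgt I) (α : σ → ℤ) : Tgt I :=
  phi hI (Fdec φ α) (Fdec_compat hI φ α)

lemma gcomp_mem (hI : IsMonomial I) (φ : Tgt I) (α : σ → ℤ) : gcomp hI φ α ∈ tPiece I α :=
  phi_mem hI _ _

lemma gcomp_monomial (hI : IsMonomial I) (φ : Tgt I) (α : σ → ℤ) (β : σ →₀ ℕ)
    (hβ : monomial β (1 : k) ∈ I) :
    gcomp hI φ α ⟨monomial β 1, hβ⟩ = Fdec φ α (vec β α) • q I (shift β α) :=
  phi_monomial hI _ _ β hβ

/-- `φ` kills monomials with a large exponent -/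
lemma val_eq_zero_of_large (hI : IsMonomial I) {N : ℕ}
    (hN : ∀ δ : σ →₀ ℕ, δ ∉ exps I → ∀ i, δ i < N) (φ : Tgt I) {β : σ →₀ ℕ} {i : σ}
    (hi : 2 * N ≤ β i) : val φ β = 0 := by
  have hNi : Finsupp.single i N ∈ exps I := by
    by_contra hcon
    have := hN _ hcon i
    simp at this
  have hle : Finsupp.single i N ≤ β := by
    rw [Finsupp.le_def]; intro l
    rw [Finsupp.single_apply]; split_ifs with h
    · subst h; omega
    · exact Nat.zero_le _
  have hβ : β ∈ exps I := exps_mono hNi hle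
  rw [val_of_mem φ hβ]
  have e : (⟨monomial β 1, hβ⟩ : ↥I) =
      (monomial (β - Finsupp.single i N) (1 : k)) • (⟨monomial (Finsupp.single i N) 1, hNi⟩ : ↥I) := by
    apply Subtype.ext
    show monomial β (1 : k) = monomial (β - Finsupp.single i N) 1 * monomial (Finsupp.single i N) 1
    rw [monomial_mul, one_mul, tsub_add_cancel_of_le hle]
  rw [e, map_smul]
  obtain ⟨p, hp⟩ := Ideal.Quotient.mk_surjective (φ ⟨monomial (Finsupp.single i N) 1, hNi⟩)
  rw [← hp]
  show Ideal.Quotient.mk I (monomial (β - Finsupp.single i N) (1 : k) * p) = 0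
  rw [Ideal.Quotient.eq_zero_iff_mem]
  apply mem_of_support
  intro ε hε
  rw [mem_support_iff, coeff_monomial_mul'] at hε
  by_contra hcon
  have h1 := hN ε hcon i
  split_ifs at hε with hle'
  · have := Finsupp.le_def.1 hle' i
    simp only [Finsupp.tsub_apply, Finsupp.single_eq_same] at this
    omega
  · exact hε rfl

theorem decomposition (hI : IsMonomial I) [Finite {γ : σ →₀ ℕ // γ ∉ exps I}] (φ : Tgt I) :
    ∃ A : Finset (σ → ℤ), φ = ∑ α ∈ A, gcomp hI φ α := by
  classical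
  haveI := Fintype.ofFinite {γ : σ →₀ ℕ // γ ∉ exps I}
  obtain ⟨N, hN⟩ := exists_bound (I := I)
  -- the box
  let B : Finset (σ →₀ ℕ) := (Finset.univ : Finset (σ → Fin (2 * N))).image
    (fun f => Finsupp.equivFunOnFinite.symm (fun i => (f i : ℕ)))
  have hB : ∀ β : σ →₀ ℕ, (∀ i, β i < 2 * N) → β ∈ B := by
    intro β h
    simp only [B, Finset.mem_image, Finset.mem_univ, true_and]
    exact ⟨fun i => ⟨β i, h i⟩, by ext i; simp⟩
  let dif : (σ →₀ ℕ) → (σ →₀ ℕ) → (σ → ℤ) := fun γ β l => (γ l : ℤ) - (β l : ℤ)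
  let A : Finset (σ → ℤ) :=
    ((Finset.univ : Finset {γ : σ →₀ ℕ // γ ∉ exps I}) ×ˢ B).image (fun x => dif x.1.1 x.2)
  refine ⟨A, ?_⟩
  apply tgt_ext hI
  intro β hβ
  rw [LinearMap.sum_apply]
  simp only [gcomp_monomial]
  by_cases hbox : ∀ i, β i < 2 * N
  · -- expansion
    have hval : φ ⟨monomial β 1, hβ⟩ = val φ β := (val_of_mem φ hβ).symm
    rw [hval, expand hI (val φ β)]
    -- reindex
    have hinj : ∀ a ∈ (Finset.univ : Finset {γ : σ →₀ ℕ // γ ∉ exps I}),
        ∀ b ∈ (Finset.univ : Finset {γ : σ →₀ ℕ // γ ∉ exps I}),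
        dif a.1 β = dif b.1 β → a = b := by
      intro a _ b _ h
      apply Subtype.ext; ext l
      have := congrFun h l
      simp only [dif] at this
      omega
    have hterm : ∀ γ : {γ : σ →₀ ℕ // γ ∉ exps I},
        cf γ.1 (val φ β) • q I γ.1 =
          Fdec φ (dif γ.1 β) (vec β (dif γ.1 β)) • q I (shift β (dif γ.1 β)) := by
      intro γ
      have hv : vec β (dif γ.1 β) = fun l => (γ.1 l : ℤ) := by
        funext l; simp [vec, dif]
      have hnat : toNatVec (vec β (dif γ.1 β)) = γ.1 := by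
        rw [hv]; ext l; simp
      rw [shift_eq, Fdec_vec φ _ (by rw [hv]; intro l; simp) (by rw [hnat]; exact γ.2), hnat]
    rw [Finset.sum_congr rfl fun γ _ => hterm γ]
    rw [← Finset.sum_image (f := fun α => Fdec φ α (vec β α) • q I (shift β α)) hinj]
    refine Finset.sum_subset ?_ ?_
    · intro α hα
      obtain ⟨γ, -, rfl⟩ := Finset.mem_image.1 hα
      exact Finset.mem_image.2 ⟨(γ, β), Finset.mem_product.2 ⟨Finset.mem_univ _, hB β hbox⟩, rfl⟩
    · intro α _ hα
      -- α not of the form γ - β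
      by_cases hc : (∀ l, 0 ≤ vec β α l) ∧ toNatVec (vec β α) ∉ exps I
      · exfalso
        apply hα
        refine Finset.mem_image.2 ⟨⟨toNatVec (vec β α), hc.2⟩, Finset.mem_univ _, ?_⟩
        funext l
        simp only [dif, toNatVec_apply]
        have := hc.1 l
        simp only [vec] at this ⊢
        omega
      · have : Fdec φ α (vec β α) = 0 := by
          unfold Fdec
          rw [if_neg]
          rintro ⟨h1, h2, -⟩
          exact hc ⟨h1, h2⟩
        rw [this, zero_smul]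
  · push_neg at hbox
    obtain ⟨i, hi⟩ := hbox
    have hz := val_eq_zero_of_large hI hN φ hi
    rw [val_of_mem φ hβ] at hz
    rw [hz]
    symm
    refine Finset.sum_eq_zero fun α _ => ?_
    by_cases hc : (∀ l, 0 ≤ vec β α l) ∧ toNatVec (vec β α) ∉ exps I
    · rw [Fdec_vec φ α hc.1 hc.2, val_of_mem φ hβ, hz, cf_zero hI hc.2, zero_smul]
    · have : Fdec φ α (vec β α) = 0 := by
        unfold Fdec
        rw [if_neg]
        rintro ⟨h1, h2, -⟩
        exact hc ⟨h1, h2⟩
      rw [this, zero_smul]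

theorem iSup_tPiece_eq_top (hI : IsMonomial I) [Finite {γ : σ →₀ ℕ // γ ∉ exps I}] :
    (⨆ α : σ → ℤ, tPiece I α) = ⊤ := by
  rw [eq_top_iff]
  intro φ _
  obtain ⟨A, hA⟩ := decomposition hI φ
  rw [hA]
  exact Submodule.sum_mem _ fun α _ => Submodule.mem_iSup_of_mem α (gcomp_mem hI φ α)

theorem iSup_sigPiece_eq_top [Nontrivial σ] (hI : IsMonomial I)
    [Finite {γ : σ →₀ ℕ // γ ∉ exps I}] :
    (⨆ N : {N : Set σ // N.Nonempty ∧ N ≠ Set.univ}, sigPiece I N.1) = ⊤ := by
  rw [eq_top_iff, ← iSup_tPiece_eq_top hI]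
  refine iSup_le fun α => ?_
  by_cases h1 : ∀ i, 0 ≤ α i
  · have : tPiece I α = ⊥ := (tPiece_eq_bot_iff hI).2 (isEmpty_Bdd_of_all_nonneg h1)
    rw [this]; exact bot_le
  by_cases h2 : ∀ i, α i < 0
  · have : tPiece I α = ⊥ := (tPiece_eq_bot_iff hI).2 (isEmpty_Bdd_of_all_neg h2)
    rw [this]; exact bot_le
  push_neg at h1 h2
  obtain ⟨i, hi⟩ := h1
  obtain ⟨j, hj⟩ := h2
  have hN : ({l | α l < 0} : Set σ).Nonempty ∧ ({l | α l < 0} : Set σ) ≠ Set.univ := by
    refine ⟨⟨i, hi⟩, fun h => ?_⟩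
    have : j ∈ ({l | α l < 0} : Set σ) := by rw [h]; exact Set.mem_univ j
    exact absurd this (not_lt.2 hj)
  refine le_trans ?_ (le_iSup (fun N : {N : Set σ // N.Nonempty ∧ N ≠ Set.univ} => sigPiece I N.1)
    ⟨{l | α l < 0}, hN⟩)
  unfold sigPiece
  exact le_iSup (fun α' : {α' : σ → ℤ // ∀ i, α' i < 0 ↔ i ∈ ({l | α l < 0} : Set σ)} =>
    tPiece I α'.1) ⟨α, fun l => Iff.rfl⟩

end Groth.Agent.Helper25.HilbTgt
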