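import Mathlib
import Groth.Agent.Lib.Helper25.HilbDecomp
import Groth.Agent.Lib.Helper25.HilbPow

/-! Independence of the multigraded pieces of `T(I)` and dimensions of finite sums of pieces. -/

namespace Groth.Agent.Helper25.HilbTgt

open MvPolynomial W4c1hilbpn

section lin
variable {K V ι : Type*} [Field K] [AddCommGroup V] [Module K V]

lemma finrank_finset_sup (p : ι → Submodule K V) [∀ i, FiniteDimensional K (p i)]
    (hd : ∀ (a : ι) (t : Finset ι), a ∉ t → Disjoint (p a) (t.sup p)) (s : Finset ι) :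
    Module.finrank K ↥(s.sup p) = ∑ i ∈ s, Module.finrank K ↥(p i) := by
  classical
  induction s using Finset.induction_on with
  | empty => simp
  | insert a t ha ih =>
    rw [Finset.sup_insert, Finset.sum_insert ha, ← ih]
    haveI : FiniteDimensional K ↥(t.sup p) := Submodule.finiteDimensional_finset_sup t p
    have h := Submodule.finrank_sup_add_finrank_inf_eq (p a) (t.sup p)
    rw [(hd a t ha).eq_bot, finrank_bot, add_zero] at h
    exact h

end lin

section indep
variable {σ : Type*} {k : Type*} [Field k] [Fintype σ] [DecidableEq σ]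
  {I : Ideal (MvPolynomial σ k)}

omit [Fintype σ] [DecidableEq σ] in
lemma cf_add (hI : IsMonomial I) {γ : σ →₀ ℕ} (hγ : γ ∉ exps I)
    (y z : MvPolynomial σ k ⧸ I) : cf γ (y + z) = cf γ y + cf γ z := by
  have h : cf γ (Ideal.Quotient.mk I (rep y + rep z)) = coeff γ (rep y + rep z) := cf_mk hI hγ _
  rw [map_add, mk_rep, mk_rep, coeff_add] at h
  exact h

omit [Fintype σ] [DecidableEq σ] in
lemma cf_smul (hI : IsMonomial I) {γ : σ →₀ ℕ} (hγ : γ ∉ exps I) (c : k)
    (y : MvPolynomial σ k ⧸ I) : cf γ (c • y) = c * cf γ y := by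
  have h : cf γ (Ideal.Quotient.mk I (c • rep y)) = coeff γ (c • rep y) := cf_mk hI hγ _
  rw [mk_smul, mk_rep, coeff_smul, smul_eq_mul] at h
  exact h

/-- the coefficient functional on `S/I` -/
noncomputable def cfL (hI : IsMonomial I) (γ : σ →₀ ℕ) (hγ : γ ∉ exps I) :
    (MvPolynomial σ k ⧸ I) →ₗ[k] k where
  toFun := cf γ
  map_add' := cf_add hI hγ
  map_smul' := fun c y => by simp [cf_smul hI hγ]

/-- evaluation at the monomial `x^β` -/
noncomputable def evL (β : σ →₀ ℕ) (hβ : monomial β (1 : k) ∈ I) :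
    Tgt I →ₗ[k] (MvPolynomial σ k ⧸ I) where
  toFun φ := φ ⟨monomial β 1, hβ⟩
  map_add' _ _ := rfl
  map_smul' _ _ := rfl

lemma cf_apply_eq_zero (hI : IsMonomial I) {α : σ → ℤ} {φ : Tgt I} (hφ : φ ∈ tPiece I α)
    {β : σ →₀ ℕ} (hβ : monomial β (1 : k) ∈ I) {γ : σ →₀ ℕ} (hγ : γ ∉ exps I)
    (hne : ¬ ∀ l, (γ l : ℤ) = vec β α l) : cf γ (φ ⟨monomial β 1, hβ⟩) = 0 := by
  have h := (mem_tPiece_iff.1 hφ) β hβ
  by_cases hpos : ∀ i, 0 ≤ (β i : ℤ) + α i
  · obtain ⟨c, hc⟩ := Submodule.mem_span_singleton.1 (h.1 hpos)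
    rw [← hc, cf_smul hI hγ, cf_mk hI hγ, coeff_monomial, if_neg, mul_zero]
    intro hsh
    apply hne
    intro l
    have h1 := hpos l
    rw [← hsh]
    have e : (shift β α) l = ((β l : ℤ) + α l).toNat := rfl
    rw [e]
    simp only [vec]
    omega
  · push_neg at hpos
    rw [h.2 hpos, cf_zero hI hγ]

theorem iSupIndep_tPiece (hI : IsMonomial I) : iSupIndep (fun α : σ → ℤ => tPiece I α) := by
  intro α₀
  rw [Submodule.disjoint_def]
  intro φ h0 h1
  apply tgt_ext hI
  intro β hβ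
  rw [LinearMap.zero_apply]
  have h := (mem_tPiece_iff.1 h0) β hβ
  by_cases hpos : ∀ i, 0 ≤ (β i : ℤ) + α₀ i
  · obtain ⟨c, hc⟩ := Submodule.mem_span_singleton.1 (h.1 hpos)
    by_cases hγ : shift β α₀ ∈ exps I
    · rw [← hc]
      have h0' : Ideal.Quotient.mk I (monomial (shift β α₀) (1 : k)) = 0 :=
        Ideal.Quotient.eq_zero_iff_mem.2 hγ
      rw [h0', smul_zero]
    · have hker : (⨆ (α : σ → ℤ) (_ : α ≠ α₀), tPiece I α) ≤
          LinearMap.ker ((cfL hI _ hγ).comp (evL β hβ)) := by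
        refine iSup_le fun α => iSup_le fun hα => ?_
        intro ψ hψ
        rw [LinearMap.mem_ker]
        show cf (shift β α₀) (ψ ⟨monomial β 1, hβ⟩) = 0
        apply cf_apply_eq_zero hI hψ hβ hγ
        intro hall
        apply hα
        funext l
        have h1 := hall l
        have h2 := hpos l
        have e : (shift β α₀) l = ((β l : ℤ) + α₀ l).toNat := rfl
        rw [e] at h1
        simp only [vec] at h1
        omega
      have h2 := hker h1
      rw [LinearMap.mem_ker] at h2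
      have h3 : ((cfL hI _ hγ).comp (evL β hβ)) φ = c := by
        show cf (shift β α₀) (φ ⟨monomial β 1, hβ⟩) = c
        rw [← hc, cf_smul hI hγ, cf_mk hI hγ, coeff_monomial, if_pos rfl, mul_one]
      rw [← hc, ← h3, h2, zero_smul]
  · push_neg at hpos
    exact h.2 hpos

lemma finite_tPiece [Nontrivial σ] (hI : IsMonomial I) [Finite {γ : σ →₀ ℕ // γ ∉ exps I}]
    (α : σ → ℤ) : Module.Finite k ↥(tPiece I α) := by
  haveI : Finite (Bdd I α) := finite_Bdd
  exact Module.Finite.of_surjective (PsiL (α := α) hI) (PsiL_surjective hI)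

theorem finrank_sup_tPiece [Nontrivial σ] (hI : IsMonomial I)
    [Finite {γ : σ →₀ ℕ // γ ∉ exps I}] (A : Finset (σ → ℤ)) :
    Module.finrank k ↥(A.sup (fun α => tPiece I α)) =
      ∑ α ∈ A, Module.finrank k ↥(tPiece I α) := by
  haveI : ∀ α : σ → ℤ, FiniteDimensional k ↥(tPiece I α) := fun α => finite_tPiece hI α
  apply finrank_finset_sup
  intro a t ha
  refine ((iSupIndep_tPiece hI) a).mono_right ?_
  refine Finset.sup_le fun b hb => ?_
  exact le_iSup₂_of_le b (fun h => ha (h ▸ hb)) le_rfl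

omit [Fintype σ] [DecidableEq σ] in
lemma iSup_subtype_eq_finset_sup [Finite σ] (A : Finset (σ → ℤ)) (P : (σ → ℤ) → Prop)
    (hA : ∀ α ∈ A, P α) (hbot : ∀ α, P α → α ∉ A → tPiece I α = ⊥) :
    (⨆ α : {α : σ → ℤ // P α}, tPiece I α.1) = A.sup (fun α => tPiece I α) := by
  classical
  apply le_antisymm
  · refine iSup_le fun α => ?_
    by_cases h : α.1 ∈ A
    · exact Finset.le_sup (f := fun α => tPiece I α) h
    · rw [hbot α.1 α.2 h]; exact bot_le
  · refine Finset.sup_le fun α hα => ?_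
    exact le_iSup (fun α : {α : σ → ℤ // P α} => tPiece I α.1) ⟨α, hA α hα⟩

omit [Fintype σ] [DecidableEq σ] in
lemma iSup_eq_finset_sup [Finite σ] (A : Finset (σ → ℤ))
    (hbot : ∀ α, α ∉ A → tPiece I α = ⊥) :
    (⨆ α : σ → ℤ, tPiece I α) = A.sup (fun α => tPiece I α) := by
  classical
  apply le_antisymm
  · refine iSup_le fun α => ?_
    by_cases h : α ∈ A
    · exact Finset.le_sup (f := fun α => tPiece I α) h
    · rw [hbot α h]; exact bot_le
  · exact Finset.sup_le fun α _ => le_iSup (fun α : σ → ℤ => tPiece I α) α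

lemma tPiece_pow_eq_bot [Nontrivial σ] {α : σ → ℤ} {r : ℕ}
    (h : ¬ (∑ i, α i = -1 ∧ ∑ i, (-α i).toNat ≤ r)) : tPiece (mpow k σ r) α = ⊥ := by
  haveI := finite_compl_pow (k := k) (σ := σ) r
  haveI := finite_tPiece (isMonomial_pow (k := k) (σ := σ) r) α
  have h1 := finrank_tPiece_pow (k := k) α r
  rw [if_neg h] at h1
  exact Submodule.finrank_eq_zero.1 h1

end indep

end Groth.Agent.Helper25.HilbTgt
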