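import Mathlib

set_option autoImplicit false

namespace Groth.Agent.Helper25.AdicOpen

universe u

theorem pow_le_sup (A : Type u) [CommRing A] (I J : Ideal A) (n : ℕ)
    (h : (J ^ n).map (algebraMap A (AdicCompletion J A)) ≤ I.map (algebraMap A (AdicCompletion J A))) :
    J ^ n ≤ I ⊔ J ^ (n + 1) := by
  intro x hx
  have h1 : algebraMap A (AdicCompletion J A) x ∈ I.map (algebraMap A (AdicCompletion J A)) :=
    h (Ideal.mem_map_of_mem _ hx)
  set φ : AdicCompletion J A →+* A ⧸ J ^ (n + 1) := (AdicCompletion.evalₐ J (n + 1)).toRingHom with hφ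
  have h2 : φ (algebraMap A (AdicCompletion J A) x) ∈
      (I.map (algebraMap A (AdicCompletion J A))).map φ := Ideal.mem_map_of_mem _ h1
  rw [Ideal.map_map] at h2
  have h3 : φ.comp (algebraMap A (AdicCompletion J A)) = Ideal.Quotient.mk (J ^ (n + 1)) := by
    ext y
    simp [hφ]
  rw [h3] at h2
  have h4 : φ (algebraMap A (AdicCompletion J A) x) = Ideal.Quotient.mk (J ^ (n + 1)) x := by
    rw [← h3]; rfl
  rw [h4, Ideal.mem_quotient_iff_mem_sup] at h2
  exact h2


/-- from `Jⁿ ≤ I ⊔ Jⁿ⁺¹` (Noetherian) get an element `e` idempotent mod `I` generating `Jⁿ` mod `I` -/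
theorem exists_idem (A : Type u) [CommRing A] [IsNoetherianRing A] (I J : Ideal A) (n : ℕ)
    (h : J ^ n ≤ I ⊔ J ^ (n + 1)) :
    ∃ e : A, e * (1 - e) ∈ I ∧ e ∈ J ^ n ⊔ I ∧ ∀ x ∈ J ^ n, ∃ y : A, x - y * e ∈ I := by
  set mk := Ideal.Quotient.mk I with hmk
  set Jb : Ideal (A ⧸ I) := J.map mk with hJb
  set K : Ideal (A ⧸ I) := Jb ^ n with hK
  have hKle : K ≤ Jb * K := by
    rw [hK, ← pow_succ', hJb, ← Ideal.map_pow, ← Ideal.map_pow]
    refine (Ideal.map_mono h).trans ?_
    rw [Ideal.map_sup, Ideal.map_quotient_self, bot_sup_eq]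
  have hKeq : Jb * K = K := le_antisymm Ideal.mul_le_right hKle
  have hpow : ∀ m : ℕ, Jb ^ m * K = K := by
    intro m
    induction m with
    | zero => simp
    | succ m ih => rw [pow_succ, mul_assoc, hKeq, ih]
  have hidem : IsIdempotentElem K := hpow n
  have hfg : K.FG := IsNoetherian.noetherian K
  obtain ⟨eb, heb, hKspan⟩ := (Ideal.isIdempotentElem_iff_of_fg K hfg).1 hidem
  obtain ⟨e, rfl⟩ := Ideal.Quotient.mk_surjective eb
  refine ⟨e, ?_, ?_, ?_⟩
  · rw [← Ideal.Quotient.eq_zero_iff_mem, map_mul, map_sub, map_one]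
    have : mk e * mk e = mk e := heb
    rw [mul_sub, mul_one, this, sub_self]
  · have : mk e ∈ K := by rw [hKspan]; exact Ideal.mem_span_singleton_self _
    rw [hK, hJb, ← Ideal.map_pow, Ideal.mem_quotient_iff_mem_sup] at this
    exact this
  · intro x hx
    have : mk x ∈ K := by
      rw [hK, hJb, ← Ideal.map_pow]; exact Ideal.mem_map_of_mem _ hx
    rw [hKspan, Ideal.mem_span_singleton'] at this
    obtain ⟨yb, hyb⟩ := this
    obtain ⟨y, rfl⟩ := Ideal.Quotient.mk_surjective yb
    refine ⟨y, ?_⟩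
    rw [← Ideal.Quotient.eq_zero_iff_mem, map_sub, map_mul, hyb, sub_self]

theorem isOpen_main (A : Type u) [CommRing A] [IsNoetherianRing A] (I J : Ideal A) (n : ℕ)
    (h : (J ^ n).map (algebraMap A (AdicCompletion J A)) ≤ I.map (algebraMap A (AdicCompletion J A))) :
    IsOpen ((fun x : PrimeSpectrum.zeroLocus (I : Set A) => (x : PrimeSpectrum A)) ⁻¹'
      PrimeSpectrum.zeroLocus (J : Set A)) := by
  obtain ⟨e, he1, he2, he3⟩ := exists_idem A I J n (pow_le_sup A I J n h)
  have hset : ((fun x : PrimeSpectrum.zeroLocus (I : Set A) => (x : PrimeSpectrum A)) ⁻¹'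
      PrimeSpectrum.zeroLocus (J : Set A)) =
      (fun x : PrimeSpectrum.zeroLocus (I : Set A) => (x : PrimeSpectrum A)) ⁻¹'
        (PrimeSpectrum.basicOpen (1 - e) : Set (PrimeSpectrum A)) := by
    ext ⟨p, hp⟩
    have hIp : I ≤ p.asIdeal := (PrimeSpectrum.mem_zeroLocus _ _).1 hp
    simp only [Set.mem_preimage, PrimeSpectrum.mem_zeroLocus, SetLike.coe_subset_coe,
      PrimeSpectrum.mem_basicOpen, SetLike.mem_coe]
    constructor
    · intro hJp h1e
      have hep : e ∈ p.asIdeal := by
        rcases Nat.eq_zero_or_pos n with hn | hn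
        · exfalso
          have hle := pow_le_sup A I J n h
          rw [hn, pow_zero, zero_add, pow_one] at hle
          have : (1 : A) ∈ p.asIdeal := (sup_le hIp hJp) (hle (by simp))
          exact p.2.ne_top ((Ideal.eq_top_iff_one _).2 this)
        · exact (sup_le ((Ideal.pow_le_self hn.ne').trans hJp) hIp) he2
      have : (1 : A) ∈ p.asIdeal := by
        have := p.asIdeal.add_mem h1e hep
        simpa using this
      exact p.2.ne_top ((Ideal.eq_top_iff_one _).2 this)
    · intro h1e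
      have hep : e ∈ p.asIdeal := by
        rcases p.2.mem_or_mem (hIp he1) with h' | h'
        · exact h'
        · exact (h1e h').elim
      have hJn : J ^ n ≤ p.asIdeal := by
        intro x hx
        obtain ⟨y, hy⟩ := he3 x hx
        have := p.asIdeal.add_mem (hIp hy) (p.asIdeal.mul_mem_left y hep)
        simpa using this
      exact Ideal.IsPrime.le_of_pow_le hJn
  rw [hset]
  exact (PrimeSpectrum.basicOpen (1 - e)).isOpen.preimage continuous_subtype_val

end Groth.Agent.Helper25.AdicOpen
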