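import Mathlib

set_option linter.style.haveILetI false

/-!
Isomorphisms of algebraically closed fields of equal infinite transcendence degree,
compatible with a finitely generated subring.
-/

namespace Groth.Agent.Helper25.AlgClosedTrdeg
open Cardinal TensorProduct

universe u

theorem card_aux {d t κ : Cardinal.{u}} (h : d + t = κ) (hd : d < ℵ₀) (hκ : ℵ₀ ≤ κ) : t = κ := by
  have ht : ℵ₀ ≤ t := by
    by_contra hlt
    rw [not_le] at hlt
    have h' : d + t < ℵ₀ := Cardinal.add_lt_aleph0 hd hlt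
    rw [h] at h'
    exact absurd hκ (not_le.mpr h')
  rw [← h, Cardinal.add_eq_right ht (hd.le.trans ht)]

theorem key (k₀ R₀ K L : Type u) [Field k₀] [CommRing R₀] [Algebra k₀ R₀] [Algebra.FiniteType k₀ R₀]
    [Field K] [Field L] [IsAlgClosed K] [IsAlgClosed L] [Algebra k₀ K] [Algebra k₀ L]
    [Algebra R₀ K] [Algebra R₀ L] [IsScalarTower k₀ R₀ K] [IsScalarTower k₀ R₀ L]
    (hK : Function.Injective (algebraMap R₀ K)) (hL : Function.Injective (algebraMap R₀ L))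
    (hinf : ℵ₀ ≤ Algebra.trdeg k₀ K) (heq : Algebra.trdeg k₀ L = Algebra.trdeg k₀ K) :
    ∃ e : L ≃+* K, ∀ r, e (algebraMap R₀ L r) = algebraMap R₀ K r := by
  haveI : Nontrivial R₀ := ⟨⟨0, 1, fun h => by
    have h' := congrArg (algebraMap R₀ K) h
    simp at h'⟩⟩
  haveI : FaithfulSMul R₀ K := (faithfulSMul_iff_algebraMap_injective R₀ K).mpr hK
  haveI : FaithfulSMul R₀ L := (faithfulSMul_iff_algebraMap_injective R₀ L).mpr hL
  haveI : FaithfulSMul k₀ R₀ := inferInstance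
  have hd : Algebra.trdeg k₀ R₀ < ℵ₀ := trdeg_lt_aleph0_of_finiteType
  have h1 : Algebra.trdeg k₀ R₀ + Algebra.trdeg R₀ K = Algebra.trdeg k₀ K :=
    trdeg_add_eq k₀ R₀ (A := K)
  have h2 : Algebra.trdeg k₀ R₀ + Algebra.trdeg R₀ L = Algebra.trdeg k₀ L :=
    trdeg_add_eq k₀ R₀ (A := L)
  have tK : Algebra.trdeg R₀ K = Algebra.trdeg k₀ K := card_aux h1 hd hinf
  have tL : Algebra.trdeg R₀ L = Algebra.trdeg k₀ K := card_aux (h2.trans heq) hd hinf
  obtain ⟨ι₁, x₁, hx₁⟩ := exists_isTranscendenceBasis' R₀ K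
  obtain ⟨ι₂, x₂, hx₂⟩ := exists_isTranscendenceBasis' R₀ L
  have c₁ : #ι₁ = Algebra.trdeg R₀ K := hx₁.cardinalMk_eq_trdeg
  have c₂ : #ι₂ = Algebra.trdeg R₀ L := hx₂.cardinalMk_eq_trdeg
  obtain ⟨eι⟩ : Nonempty (ι₂ ≃ ι₁) := Cardinal.eq.mp (by rw [c₁, c₂, tK, tL])
  haveI := IsAlgClosed.isAlgClosure_of_transcendence_basis x₁ hx₁
  haveI := IsAlgClosed.isAlgClosure_of_transcendence_basis x₂ hx₂
  let e₀ : Algebra.adjoin R₀ (Set.range x₂) ≃ₐ[R₀] Algebra.adjoin R₀ (Set.range x₁) :=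
    hx₂.1.aevalEquiv.symm.trans ((MvPolynomial.renameEquiv R₀ eι).trans hx₁.1.aevalEquiv)
  refine ⟨IsAlgClosure.equivOfEquiv L K e₀.toRingEquiv, fun r => ?_⟩
  have e1 : algebraMap R₀ L r =
      algebraMap (Algebra.adjoin R₀ (Set.range x₂)) L (algebraMap R₀ _ r) := rfl
  rw [e1, IsAlgClosure.equivOfEquiv_algebraMap]
  change algebraMap (Algebra.adjoin R₀ (Set.range x₁)) K (e₀ (algebraMap R₀ _ r)) = _
  rw [e₀.commutes]
  rfl

theorem main' (k₀ k : Type u) [Field k₀] [Field k] [Algebra k₀ k] [IsAlgClosed k]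
    (hinf : ∃ x : ℕ → k, AlgebraicIndependent k₀ x)
    (R₀ : Type u) [CommRing R₀] [Algebra k₀ R₀] [Algebra.FiniteType k₀ R₀] [IsDomain (k ⊗[k₀] R₀)]
    (ev : k ⊗[k₀] R₀ →ₐ[k] k) (hP : Function.Injective fun r : R₀ => ev (1 ⊗ₜ[k₀] r))
    (M : Type u) [Field M] [IsAlgClosed M] [Algebra (k ⊗[k₀] R₀) M] [Algebra k M] [Algebra k₀ M]
    [IsScalarTower k₀ k M] [IsScalarTower k (k ⊗[k₀] R₀) M] [IsScalarTower k₀ (k ⊗[k₀] R₀) M]
    [Algebra.IsAlgebraic (k ⊗[k₀] R₀) M]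
    (hRL : Function.Injective (algebraMap (k ⊗[k₀] R₀) M)) :
    ∃ e : M ≃+* k,
      ∀ r : R₀, e (algebraMap (k ⊗[k₀] R₀) M (1 ⊗ₜ[k₀] r)) = ev (1 ⊗ₜ[k₀] r) := by
  let R := k ⊗[k₀] R₀
  let inc : R₀ →ₐ[k₀] R := Algebra.TensorProduct.includeRight
  letI aK : Algebra R₀ k := ((ev : R →+* k).comp (inc : R₀ →+* R)).toAlgebra
  letI aL : Algebra R₀ M := ((algebraMap R M).comp (inc : R₀ →+* R)).toAlgebra
  haveI tK : IsScalarTower k₀ R₀ k := IsScalarTower.of_algebraMap_eq fun c => by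
    change algebraMap k₀ k c = ev (inc (algebraMap k₀ R₀ c))
    rw [inc.commutes, IsScalarTower.algebraMap_apply k₀ k R, ev.commutes]
    rfl
  haveI tL : IsScalarTower k₀ R₀ M := IsScalarTower.of_algebraMap_eq fun c => by
    change algebraMap k₀ M c = algebraMap R M (inc (algebraMap k₀ R₀ c))
    rw [inc.commutes, ← IsScalarTower.algebraMap_apply k₀ R M]
  have hK : Function.Injective (algebraMap R₀ k) := hP
  have hinc : Function.Injective inc := fun a b h =>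
    hP (by change ev (inc a) = ev (inc b); rw [h])
  have hL : Function.Injective (algebraMap R₀ M) := hRL.comp hinc
  obtain ⟨x, hx⟩ := hinf
  have hκ : ℵ₀ ≤ Algebra.trdeg k₀ k := by
    simpa using hx.lift_cardinalMk_le_trdeg
  have hfin : Algebra.trdeg k M < ℵ₀ := by
    haveI : FaithfulSMul R M := (faithfulSMul_iff_algebraMap_injective R M).mpr hRL
    have h0 : Algebra.trdeg R M = 0 := trdeg_eq_zero
    have h := trdeg_add_eq k R (A := M)
    rw [h0, add_zero] at h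
    rw [← h]
    exact trdeg_lt_aleph0_of_finiteType
  have heq : Algebra.trdeg k₀ M = Algebra.trdeg k₀ k := by
    have h := trdeg_add_eq k₀ k (A := M)
    rw [← h]
    exact Cardinal.add_eq_left hκ (hfin.le.trans hκ)
  obtain ⟨e, he⟩ := key k₀ R₀ k M hK hL hκ heq
  exact ⟨e, fun r => he r⟩

theorem main (k₀ k : Type u) [Field k₀] [Field k] [Algebra k₀ k] [IsAlgClosed k]
    (hinf : ∃ x : ℕ → k, AlgebraicIndependent k₀ x)
    (R₀ : Type u) [CommRing R₀] [Algebra k₀ R₀] [Algebra.FiniteType k₀ R₀] [IsDomain (k ⊗[k₀] R₀)]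
    (ev : k ⊗[k₀] R₀ →ₐ[k] k) (hP : Function.Injective fun r : R₀ => ev (1 ⊗ₜ[k₀] r)) :
    ∃ e : AlgebraicClosure (FractionRing (k ⊗[k₀] R₀)) ≃+* k,
      ∀ r : R₀, e (algebraMap (k ⊗[k₀] R₀) (AlgebraicClosure (FractionRing (k ⊗[k₀] R₀)))
        (1 ⊗ₜ[k₀] r)) = ev (1 ⊗ₜ[k₀] r) := by
  have hRL : Function.Injective (algebraMap (k ⊗[k₀] R₀)
      (AlgebraicClosure (FractionRing (k ⊗[k₀] R₀)))) := by
    rw [IsScalarTower.algebraMap_eq (k ⊗[k₀] R₀) (FractionRing (k ⊗[k₀] R₀))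
      (AlgebraicClosure (FractionRing (k ⊗[k₀] R₀)))]
    exact (algebraMap (FractionRing (k ⊗[k₀] R₀)) _).injective.comp
      (IsFractionRing.injective (k ⊗[k₀] R₀) (FractionRing (k ⊗[k₀] R₀)))
  haveI : Algebra.IsAlgebraic (k ⊗[k₀] R₀) (FractionRing (k ⊗[k₀] R₀)) :=
    IsLocalization.isAlgebraic _ (nonZeroDivisors (k ⊗[k₀] R₀))
  haveI : Algebra.IsAlgebraic (k ⊗[k₀] R₀) (AlgebraicClosure (FractionRing (k ⊗[k₀] R₀))) :=
    Algebra.IsAlgebraic.trans (k ⊗[k₀] R₀) (FractionRing (k ⊗[k₀] R₀)) _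
  exact main' k₀ k hinf R₀ ev hP _ hRL

end Groth.Agent.Helper25.AlgClosedTrdeg
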