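import Mathlib
import Groth.Prelude.Def_QuadGrp

set_option autoImplicit false

universe u v

namespace Groth.Agent.Helper25.AltDet

open Matrix

section Core

variable {R : Type u} [CommRing R] {n : ℕ}

theorem alt_quad_zero (Ω : Matrix (Fin n) (Fin n) R) (hT : Ωᵀ = -Ω) (hd : ∀ i, Ω i i = 0)
    (y : Fin n → R) : y ⬝ᵥ Ω *ᵥ y = 0 := by
  classical
  have hadd : ∀ x z : Fin n → R,
      (x + z) ⬝ᵥ Ω *ᵥ (x + z) = x ⬝ᵥ Ω *ᵥ x + z ⬝ᵥ Ω *ᵥ z := by
    intro x z
    have hsw : z ⬝ᵥ Ω *ᵥ x = -(x ⬝ᵥ Ω *ᵥ z) := by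
      rw [Matrix.dotProduct_mulVec, ← Matrix.mulVec_transpose, hT, Matrix.neg_mulVec,
        neg_dotProduct, dotProduct_comm]
    rw [Matrix.mulVec_add, add_dotProduct, dotProduct_add, dotProduct_add, hsw]
    ring
  let q : (Fin n → R) →+ R := AddMonoidHom.mk' (fun x => x ⬝ᵥ Ω *ᵥ x) hadd
  have hy : y = ∑ i, Pi.single i (y i) := (Finset.univ_sum_single y).symm
  have hq : q y = 0 := by
    rw [hy, map_sum]
    apply Finset.sum_eq_zero
    intro i _
    show Pi.single i (y i) ⬝ᵥ Ω *ᵥ Pi.single i (y i) = 0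
    rw [single_dotProduct, Matrix.mulVec_single]
    simp [hd]
  exact hq

theorem det_eq_one_of_alt (Ω G : Matrix (Fin n) (Fin n) R) (hT : Ωᵀ = -Ω)
    (hd : ∀ i, Ω i i = 0) (hu : IsUnit Ω.det) (hG : Gᵀ * Ω * G = Ω) : G.det = 1 := by
  classical
  set U := Ω⁻¹ with hU
  have hΩU : Ω * U = 1 := Matrix.mul_nonsing_inv Ω hu
  have hUΩ : U * Ω = 1 := Matrix.nonsing_inv_mul Ω hu
  have hUTΩ : Uᵀ * Ω = -1 := by
    have h1 : Uᵀ * Ωᵀ = 1 := by rw [← Matrix.transpose_mul, hΩU, Matrix.transpose_one]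
    rw [hT, Matrix.mul_neg] at h1
    rw [← h1, neg_neg]
  have hUT : Uᵀ = -U := by
    calc Uᵀ = Uᵀ * (Ω * U) := by rw [hΩU, Matrix.mul_one]
      _ = (Uᵀ * Ω) * U := (Matrix.mul_assoc _ _ _).symm
      _ = -U := by rw [hUTΩ, Matrix.neg_mul, Matrix.one_mul]
  have hUd : ∀ i, U i i = 0 := by
    intro i
    have h1 : U = -(U * Ω * Uᵀ) := by
      rw [hUΩ, Matrix.one_mul, hUT, neg_neg]
    have h2 : (U * Ω * Uᵀ) i i = (U i) ⬝ᵥ Ω *ᵥ (U i) := by
      rw [Matrix.mul_assoc, Matrix.mul_apply]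
      simp only [dotProduct, Matrix.mulVec, Matrix.mul_apply, Matrix.transpose_apply]
    have h3 : U i i = (-(U * Ω * Uᵀ)) i i := by rw [← h1]
    rw [h3, Matrix.neg_apply, h2, alt_quad_zero Ω hT hd, neg_zero]
  let Y : Matrix (Fin n) (Fin n) R := Matrix.of fun i j => if i < j then -U i j else 0
  have hY : Yᵀ - Y = U := by
    ext i j
    simp only [Matrix.sub_apply, Matrix.transpose_apply, Y, Matrix.of_apply]
    rcases lt_trichotomy i j with h | h | h
    · rw [if_neg (not_lt.mpr h.le), if_pos h]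
      ring
    · subst h
      rw [if_neg (lt_irrefl _), hUd]
      ring
    · rw [if_pos h, if_neg (not_lt.mpr h.le)]
      have h4 := congrFun (congrFun hUT j) i
      simp only [Matrix.transpose_apply, Matrix.neg_apply] at h4
      rw [h4]
      ring
  set X : Matrix (Fin n) (Fin n) R := Y + U with hX
  have ha : Xᵀ * Ω * X = Yᵀ * Ω * Y := by
    have h5 : Xᵀ * Ω * X = Yᵀ * Ω * Y + Yᵀ * (Ω * U) + (Uᵀ * Ω) * Y + (Uᵀ * Ω) * U := by
      simp only [hX, Matrix.transpose_add, Matrix.add_mul, Matrix.mul_add, Matrix.mul_assoc]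
      abel
    rw [h5, hΩU, hUTΩ, Matrix.mul_one, Matrix.neg_mul, Matrix.neg_mul, Matrix.one_mul,
      Matrix.one_mul]
    have h6 : Yᵀ = U + Y := by rw [← hY]; abel
    rw [h6]
    abel
  have hb : Xᵀ * Ω + -(Yᵀ * Ω) = -1 := by
    rw [hX, Matrix.transpose_add, Matrix.add_mul, hUTΩ]
    abel
  have hc : Ω * X + -(Ω * Y) = 1 := by
    rw [hX, Matrix.mul_add, hΩU]
    abel
  set Ωt : Matrix (Fin n ⊕ Fin n) (Fin n ⊕ Fin n) R := Matrix.fromBlocks Ω 0 0 (-Ω) with hΩt
  set P : Matrix (Fin n ⊕ Fin n) (Fin n ⊕ Fin n) R := Matrix.fromBlocks X 1 Y 1 with hP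
  have hJ : Pᵀ * Ωt * P = J (Fin n) R := by
    rw [hP, hΩt, Matrix.fromBlocks_transpose, Matrix.fromBlocks_multiply,
      Matrix.fromBlocks_multiply, Matrix.J]
    refine Matrix.fromBlocks_inj.mpr ⟨?_, ?_, ?_, ?_⟩
    · simp only [Matrix.mul_zero, add_zero, zero_add, Matrix.mul_neg, Matrix.neg_mul]
      rw [ha, add_neg_cancel]
    · simp only [Matrix.mul_zero, add_zero, zero_add, Matrix.mul_neg, Matrix.mul_one]
      exact hb
    · simp only [Matrix.mul_zero, add_zero, zero_add, Matrix.transpose_one, Matrix.one_mul,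
        Matrix.neg_mul]
      exact hc
    · simp only [Matrix.mul_zero, add_zero, zero_add, Matrix.transpose_one, Matrix.one_mul,
        Matrix.mul_one]
      exact add_neg_cancel _
  set Gt : Matrix (Fin n ⊕ Fin n) (Fin n ⊕ Fin n) R := Matrix.fromBlocks G 0 0 1 with hGt
  have hGt2 : Gtᵀ * Ωt * Gt = Ωt := by
    rw [hGt, hΩt, Matrix.fromBlocks_transpose, Matrix.fromBlocks_multiply,
      Matrix.fromBlocks_multiply]
    refine Matrix.fromBlocks_inj.mpr ⟨?_, ?_, ?_, ?_⟩
    · simp only [Matrix.mul_zero, add_zero, Matrix.transpose_zero, Matrix.zero_mul]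
      exact hG
    · simp
    · simp
    · simp
  have hdetGt : Gt.det = G.det := by
    rw [hGt, Matrix.det_fromBlocks_zero₂₁, Matrix.det_one, mul_one]
  have hPdet : IsUnit P.det := by
    have h7 := congrArg Matrix.det hJ
    rw [Matrix.det_mul, Matrix.det_mul, Matrix.det_transpose] at h7
    have h8 : IsUnit (P.det * Ωt.det * P.det) := by
      rw [h7]
      exact Matrix.isUnit_det_J (Fin n) R
    exact isUnit_of_mul_isUnit_right h8
  let Pu : (Matrix (Fin n ⊕ Fin n) (Fin n ⊕ Fin n) R)ˣ :=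
    ((Matrix.isUnit_iff_isUnit_det P).mpr hPdet).unit
  have hPu : (Pu : Matrix (Fin n ⊕ Fin n) (Fin n ⊕ Fin n) R) = P := IsUnit.unit_spec _
  set Pi : Matrix (Fin n ⊕ Fin n) (Fin n ⊕ Fin n) R :=
    (↑(Pu⁻¹) : Matrix (Fin n ⊕ Fin n) (Fin n ⊕ Fin n) R) with hPi
  have hPPi : P * Pi = 1 := by
    rw [← hPu, hPi]
    exact Units.mul_inv Pu
  have e1 : Piᵀ * Pᵀ = 1 := by
    rw [← Matrix.transpose_mul, hPPi, Matrix.transpose_one]
  have hA : (Pi * Gt * P)ᵀ * J (Fin n) R * (Pi * Gt * P) = J (Fin n) R := by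
    calc (Pi * Gt * P)ᵀ * J (Fin n) R * (Pi * Gt * P)
        = Pᵀ * Gtᵀ * (Piᵀ * Pᵀ) * Ωt * (P * Pi) * Gt * P := by
          rw [← hJ]
          simp only [Matrix.transpose_mul, Matrix.mul_assoc]
      _ = Pᵀ * (Gtᵀ * Ωt * Gt) * P := by
          rw [e1, hPPi]
          simp only [Matrix.mul_one, Matrix.mul_assoc]
      _ = J (Fin n) R := by rw [hGt2, hJ]
  have hdetA : (Pi * Gt * P).det = 1 :=
    SymplecticGroup.det_eq_one (SymplecticGroup.mem_iff'.mpr hA)
  have hconj : (Pi * Gt * P).det = Gt.det := by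
    have := Matrix.det_units_conj' Pu Gt
    rw [hPu] at this
    exact this
  rw [← hdetGt, ← hconj, hdetA]

end Core

section Quad

variable {R : Type u} [CommRing R] [CharP R 2]
  {M : Type v} [AddCommGroup M] [Module R M] [Module.Free R M] [Module.Finite R M]

theorem main (Q : QuadraticForm R M) (hQ : QuadGrp.IsRegular Q) :
    QuadGrp.O Q = QuadGrp.SO' Q := by
  classical
  apply le_antisymm
  · intro g hg
    refine ⟨hg, ?_⟩
    show g ∈ (LinearEquiv.det (R := R) (M := M)).ker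
    rw [MonoidHom.mem_ker]
    haveI : Nontrivial R := CharP.nontrivial_of_char_ne_one (R := R) (v := 2) (by norm_num)
    let b : Module.Basis (Fin (Module.finrank R M)) R M := Module.finBasisOfFinrankEq R M rfl
    set B : LinearMap.BilinForm R M := QuadraticMap.polarBilin Q with hB
    set Ω := LinearMap.BilinForm.toMatrix b B with hΩ
    set G := LinearMap.toMatrix b b (g : M →ₗ[R] M) with hGdef
    have hΩapp : ∀ i j, Ω i j = QuadraticMap.polar Q (b i) (b j) := by
      intro i j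
      rw [hΩ, LinearMap.BilinForm.toMatrix_apply]
      rfl
    have hneg : ∀ x : R, -x = x := fun x => CharTwo.neg_eq x
    have hT : Ωᵀ = -Ω := by
      ext i j
      rw [Matrix.transpose_apply, Matrix.neg_apply, hneg, hΩapp, hΩapp, QuadraticMap.polar_comm]
    have hd : ∀ i, Ω i i = 0 := by
      intro i
      rw [hΩapp, QuadraticMap.polar_self, two_smul]
      exact CharTwo.add_self_eq_zero _
    have hu : IsUnit Ω.det := by
      let e : M ≃ₗ[R] Module.Dual R M := LinearEquiv.ofBijective (QuadraticMap.polarBilin Q) hQ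
      have h1 := LinearEquiv.isUnit_det e b b.dualBasis
      have h2 : LinearMap.toMatrix b b.dualBasis (e : M →ₗ[R] Module.Dual R M) = Ωᵀ := by
        ext i j
        rw [LinearMap.toMatrix_apply, Module.Basis.dualBasis_repr, Matrix.transpose_apply, hΩapp]
        rfl
      rw [h2, Matrix.det_transpose] at h1
      exact h1
    have hGΩ : Gᵀ * Ω * G = Ω := by
      have h3 := LinearMap.BilinForm.toMatrix_comp b b B (g : M →ₗ[R] M) (g : M →ₗ[R] M)
      have h4 : B.comp (g : M →ₗ[R] M) (g : M →ₗ[R] M) = B := by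
        ext x y
        rw [LinearMap.BilinForm.comp_apply]
        show QuadraticMap.polar Q (g x) (g y) = QuadraticMap.polar Q x y
        unfold QuadraticMap.polar
        rw [← map_add, hg, hg, hg]
      rw [h4] at h3
      exact h3.symm
    have hdet : G.det = 1 := det_eq_one_of_alt Ω G hT hd hu hGΩ
    apply Units.ext
    rw [LinearEquiv.coe_det, ← LinearMap.det_toMatrix b, Units.val_one]
    exact hdet
  · intro g hg
    exact hg.1

end Quad

end Groth.Agent.Helper25.AltDet
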