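import Mathlib

/-!
# Helper25: the combinatorial heart of Ax's theorem

Digit rotations, Legendre's formula for multinomial coefficients, and the resulting lower bound
for the `p`-adic valuation of the multinomial coefficients occurring in the expansion of the
`(q-1) q^m`-th power of a sum of monomials of degree `d` in `N` variables.
-/

set_option autoImplicit false

namespace Groth.Agent.Helper25.Ax1

open Finset

section Rot

variable (p r : ℕ) [NeZero r]

/-- the rotated value of a list of digits: the digit of index `i` gets the weight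
`p ^ ((i + τ) mod r)`. -/
def rotL : List ℕ → ZMod r → ℕ
  | [], _ => 0
  | d :: l, τ => d * p ^ τ.val + rotL l (τ + 1)

theorem rotL_nil (τ : ZMod r) : rotL p r [] τ = 0 := rfl

theorem rotL_cons (d : ℕ) (l : List ℕ) (τ : ZMod r) :
    rotL p r (d :: l) τ = d * p ^ τ.val + rotL p r l (τ + 1) := rfl

theorem pow_r_eq_one (hp : 0 < p) : (p : ZMod (p ^ r - 1)) ^ r = 1 := by
  have h1 : ((p ^ r - 1 + 1 : ℕ) : ZMod (p ^ r - 1)) = 1 := by
    rw [Nat.cast_add, ZMod.natCast_self, zero_add, Nat.cast_one]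
  rw [Nat.sub_add_cancel (Nat.one_le_pow _ _ hp)] at h1
  rw [← h1, Nat.cast_pow]

theorem pow_mod_eq (hp : 0 < p) (m : ℕ) :
    (p : ZMod (p ^ r - 1)) ^ (m % r) = (p : ZMod (p ^ r - 1)) ^ m := by
  conv_rhs => rw [← Nat.div_add_mod m r, pow_add, pow_mul, pow_r_eq_one p r hp, one_pow, one_mul]

theorem rotL_cast (hp : 0 < p) (l : List ℕ) (τ : ZMod r) :
    ((rotL p r l τ : ℕ) : ZMod (p ^ r - 1)) =
      (p : ZMod (p ^ r - 1)) ^ τ.val * ((Nat.ofDigits p l : ℕ) : ZMod (p ^ r - 1)) := by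
  induction l generalizing τ with
  | nil => simp [rotL, Nat.ofDigits]
  | cons d l ih =>
    have h1 : (τ + 1).val = (τ.val + 1) % r := by
      rw [ZMod.val_add, ZMod.val_one_eq_one_mod, Nat.add_mod_mod]
    have h2 : Nat.ofDigits p (d :: l) = d + p * Nat.ofDigits p l := by
      rw [Nat.ofDigits_cons]
    rw [rotL_cons, h2, Nat.cast_add, Nat.cast_mul, Nat.cast_pow, ih (τ + 1), Nat.cast_add,
      Nat.cast_mul, h1, pow_mod_eq p r hp, pow_succ]
    ring

theorem ofDigits_eq_zero_of_rotL_eq_zero (hp : 0 < p) (l : List ℕ) (τ : ZMod r)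
    (h : rotL p r l τ = 0) : Nat.ofDigits p l = 0 := by
  induction l generalizing τ with
  | nil => rfl
  | cons d l ih =>
    rw [rotL_cons] at h
    have h1 : d * p ^ τ.val = 0 := by omega
    have h2 : rotL p r l (τ + 1) = 0 := by omega
    have h3 : d = 0 := by
      rcases Nat.mul_eq_zero.1 h1 with h | h
      · exact h
      · exact absurd h (pow_pos hp _).ne'
    have h4 : Nat.ofDigits p (d :: l) = d + p * Nat.ofDigits p l := by
      rw [Nat.ofDigits_cons]
    rw [h4, ih _ h2, h3, mul_zero, add_zero]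

theorem sum_rotL (l : List ℕ) :
    ∑ τ : ZMod r, rotL p r l τ = l.sum * ∑ τ : ZMod r, p ^ τ.val := by
  induction l with
  | nil => simp [rotL]
  | cons d l ih =>
    simp only [rotL_cons]
    rw [Finset.sum_add_distrib, ← Finset.mul_sum, List.sum_cons, add_mul]
    congr 1
    rw [← ih]
    exact Fintype.sum_equiv (Equiv.addRight (1 : ZMod r)) _ _ (fun _ => rfl)

theorem geom_aux (p' n : ℕ) : p' * ∑ s ∈ Finset.range n, (p' + 1) ^ s + 1 = (p' + 1) ^ n := by
  induction n with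
  | zero => simp
  | succ n ih =>
    rw [Finset.sum_range_succ, mul_add, pow_succ]
    linarith

theorem sub_one_mul_geom (hp : 0 < p) :
    (p - 1) * ∑ τ : ZMod r, p ^ τ.val = p ^ r - 1 := by
  obtain ⟨n, rfl⟩ : ∃ n, r = n + 1 := ⟨r - 1, by have := NeZero.ne r; omega⟩
  obtain ⟨p', rfl⟩ : ∃ p', p = p' + 1 := ⟨p - 1, by omega⟩
  have h1 : ∑ τ : ZMod (n + 1), (p' + 1) ^ τ.val = ∑ s ∈ Finset.range (n + 1), (p' + 1) ^ s :=
    Fin.sum_univ_eq_sum_range (fun s => (p' + 1) ^ s) (n + 1)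
  rw [h1, Nat.add_sub_cancel]
  have h2 := geom_aux p' (n + 1)
  omega

/-- the rotation of a natural number. -/
def rot (k : ℕ) (τ : ZMod r) : ℕ := rotL p r (Nat.digits p k) τ

theorem rot_cast (hp : 0 < p) (k : ℕ) (τ : ZMod r) :
    ((rot p r k τ : ℕ) : ZMod (p ^ r - 1)) =
      (p : ZMod (p ^ r - 1)) ^ τ.val * (k : ZMod (p ^ r - 1)) := by
  unfold rot
  rw [rotL_cast p r hp, Nat.ofDigits_digits]

theorem rot_ne_zero (hp : 0 < p) (k : ℕ) (hk : k ≠ 0) (τ : ZMod r) : rot p r k τ ≠ 0 := by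
  intro h
  apply hk
  have h1 := ofDigits_eq_zero_of_rotL_eq_zero p r hp _ τ h
  rwa [Nat.ofDigits_digits] at h1

theorem sum_rot (k : ℕ) :
    ∑ τ : ZMod r, rot p r k τ = (Nat.digits p k).sum * ∑ τ : ZMod r, p ^ τ.val :=
  sum_rotL p r _

end Rot

section Legendre

variable {p : ℕ} [hp : Fact p.Prime]

theorem digitSum_factorial (n : ℕ) :
    (p - 1) * padicValNat p n.factorial + (Nat.digits p n).sum = n := by
  have h := sub_one_mul_padicValNat_factorial (p := p) n
  have h2 := Nat.digit_sum_le p n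
  omega

theorem padicValNat_prod' {α : Type*} (S : Finset α) (f : α → ℕ) (hf : ∀ a ∈ S, f a ≠ 0) :
    padicValNat p (∏ a ∈ S, f a) = ∑ a ∈ S, padicValNat p (f a) := by
  classical
  induction S using Finset.induction_on with
  | empty => simp
  | insert a S ha ih =>
    rw [Finset.prod_insert ha, Finset.sum_insert ha,
      padicValNat.mul (hf a (Finset.mem_insert_self _ _))
        (Finset.prod_ne_zero_iff.2 fun b hb => hf b (Finset.mem_insert_of_mem hb)),
      ih (fun b hb => hf b (Finset.mem_insert_of_mem hb))]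

theorem multinomial_val {α : Type*} (S : Finset α) (κ : α → ℕ) :
    (p - 1) * padicValNat p (Nat.multinomial S κ) + (Nat.digits p (∑ a ∈ S, κ a)).sum =
      ∑ a ∈ S, (Nat.digits p (κ a)).sum := by
  have hspec := Nat.multinomial_spec S κ
  have hne1 : ∏ a ∈ S, (κ a).factorial ≠ 0 :=
    Finset.prod_ne_zero_iff.2 fun a _ => Nat.factorial_ne_zero _
  have hne2 : Nat.multinomial S κ ≠ 0 := (Nat.multinomial_pos S κ).ne'
  have h1 : padicValNat p (∑ a ∈ S, κ a).factorial =
      ∑ a ∈ S, padicValNat p (κ a).factorial + padicValNat p (Nat.multinomial S κ) := by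
    rw [← hspec, padicValNat.mul hne1 hne2,
      padicValNat_prod' S _ (fun a _ => Nat.factorial_ne_zero _)]
  have h2 := digitSum_factorial (p := p) (∑ a ∈ S, κ a)
  have h3 : ∑ a ∈ S, ((p - 1) * padicValNat p (κ a).factorial + (Nat.digits p (κ a)).sum) =
      ∑ a ∈ S, κ a := Finset.sum_congr rfl (fun a _ => digitSum_factorial (κ a))
  rw [Finset.sum_add_distrib, ← Finset.mul_sum] at h3
  rw [h1, mul_add] at h2
  linarith

theorem digitSum_pow_sub_one (r : ℕ) : (Nat.digits p (p ^ r - 1)).sum = r * (p - 1) := by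
  have hp1 : 1 < p := hp.out.one_lt
  induction r with
  | zero => simp
  | succ r ih =>
    have h1 : p ^ (r + 1) - 1 = (p - 1) + p * (p ^ r - 1) := by
      have h2 : 1 ≤ p ^ r := Nat.one_le_pow _ _ (by omega)
      have h3 : p ^ (r + 1) = p * p ^ r := by rw [pow_succ, mul_comm]
      have h4 : p * (p ^ r - 1) = p * p ^ r - p := by rw [Nat.mul_sub, mul_one]
      have h5 : p ≤ p * p ^ r := Nat.le_mul_of_pos_right p (by omega)
      rw [h3, h4]
      generalize p * p ^ r = X at *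
      omega
    rw [h1, Nat.digits_add p hp1 (p - 1) (p ^ r - 1) (by omega) (Or.inl (by omega)),
      List.sum_cons, ih]
    ring

theorem digitSum_e (r m : ℕ) (hr : 0 < r) :
    (Nat.digits p ((p ^ r - 1) * (p ^ r) ^ m)).sum = r * (p - 1) := by
  have hp1 : 1 < p := hp.out.one_lt
  have hpos : 0 < p ^ r - 1 := by
    have : p ^ 1 ≤ p ^ r := Nat.pow_le_pow_right (by omega) hr
    rw [pow_one] at this
    omega
  rw [mul_comm, ← pow_mul, Nat.digits_base_pow_mul hp1 hpos, List.sum_append,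
    List.sum_replicate, smul_zero, zero_add, digitSum_pow_sub_one]

end Legendre

section Main

variable {p : ℕ} [hp : Fact p.Prime] {r : ℕ} [NeZero r]

theorem ax_bound {α : Type*} [DecidableEq α] (S : Finset α) {N : ℕ} (w : α → Fin N → ℕ)
    (d : ℕ) (hd : 0 < d) (hw : ∀ a ∈ S, ∑ i, w a i = d) (κ : α → ℕ) (m : ℕ)
    (he : ∑ a ∈ S, κ a = (p ^ r - 1) * (p ^ r) ^ m)
    (hu : ∀ i, (p ^ r - 1) ∣ ∑ a ∈ S, κ a * w a i) (j : ℕ) (hj : j * d < N) :
    (p ^ r) ^ j ∣ (p ^ r) ^ (Finset.univ.filter (fun i => ∑ a ∈ S, κ a * w a i = 0)).card *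
      Nat.multinomial S κ := by
  have hp1 : 1 < p := hp.out.one_lt
  have hp0 : 0 < p := by omega
  have hr : 0 < r := Nat.pos_of_ne_zero (NeZero.ne r)
  obtain ⟨q, hq⟩ : ∃ q : ℕ, q = p ^ r := ⟨_, rfl⟩
  have hq1 : 1 < q := by
    have : p ^ 1 ≤ p ^ r := Nat.pow_le_pow_right (by omega) hr
    rw [pow_one] at this
    omega
  obtain ⟨n₀, hn₀⟩ : ∃ n₀ : ℕ,
      n₀ = (Finset.univ.filter (fun i => ∑ a ∈ S, κ a * w a i = 0)).card := ⟨_, rfl⟩
  rw [← hn₀]
  by_cases hjn : j ≤ n₀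
  · exact dvd_mul_of_dvd_left (pow_dvd_pow _ hjn) _
  push Not at hjn
  obtain ⟨j', hj'⟩ : ∃ j', j = n₀ + j' := ⟨j - n₀, by omega⟩
  rw [hj', pow_add]
  apply mul_dvd_mul_left
  rw [← pow_mul, padicValNat_dvd_iff_le (Nat.multinomial_pos S κ).ne']
  -- the digit sums
  obtain ⟨A, hA⟩ : ∃ A : ℕ, A = ∑ a ∈ S, (Nat.digits p (κ a)).sum := ⟨_, rfl⟩
  obtain ⟨G, hG⟩ : ∃ G : ℕ, G = ∑ τ : ZMod r, p ^ τ.val := ⟨_, rfl⟩
  have hGq : (p - 1) * G = q - 1 := by rw [hG, hq]; exact sub_one_mul_geom p r hp0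
  have hGpos : 0 < G := by
    rcases Nat.eq_zero_or_pos G with h | h
    · rw [h, mul_zero] at hGq
      omega
    · exact h
  -- the bound for each rotation
  have hT : ∀ τ : ZMod r, (q - 1) * (j' + 1) ≤ ∑ a ∈ S, rot p r (κ a) τ := by
    intro τ
    obtain ⟨T, hTdef⟩ : ∃ T : ℕ, T = ∑ a ∈ S, rot p r (κ a) τ := ⟨_, rfl⟩
    rw [← hTdef]
    obtain ⟨U, hU⟩ : ∃ U : Fin N → ℕ, ∀ i, U i = ∑ a ∈ S, rot p r (κ a) τ * w a i :=
      ⟨_, fun _ => rfl⟩
    have hUdvd : ∀ i, (q - 1) ∣ U i := by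
      intro i
      rw [hq, ← ZMod.natCast_eq_zero_iff, hU, Nat.cast_sum]
      have h1 : ∀ a ∈ S, ((rot p r (κ a) τ * w a i : ℕ) : ZMod (p ^ r - 1)) =
          (p : ZMod (p ^ r - 1)) ^ τ.val * ((κ a * w a i : ℕ) : ZMod (p ^ r - 1)) := by
        intro a _
        rw [Nat.cast_mul, rot_cast p r hp0, Nat.cast_mul, mul_assoc]
      rw [Finset.sum_congr rfl h1, ← Finset.mul_sum, ← Nat.cast_sum,
        (ZMod.natCast_eq_zero_iff _ _).2 (hu i), mul_zero]
    have hUpos : ∀ i, ∑ a ∈ S, κ a * w a i ≠ 0 → q - 1 ≤ U i := by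
      intro i hi
      apply Nat.le_of_dvd _ (hUdvd i)
      obtain ⟨a, ha, hne⟩ := Finset.exists_ne_zero_of_sum_ne_zero hi
      have hκ : κ a ≠ 0 := fun h => hne (by rw [h, zero_mul])
      have hwa : w a i ≠ 0 := fun h => hne (by rw [h, mul_zero])
      have h2 : rot p r (κ a) τ * w a i ≤ U i := by
        rw [hU]
        exact Finset.single_le_sum (f := fun a => rot p r (κ a) τ * w a i)
          (fun _ _ => Nat.zero_le _) ha
      have h3 : 0 < rot p r (κ a) τ * w a i :=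
        Nat.mul_pos (Nat.pos_of_ne_zero (rot_ne_zero p r hp0 _ hκ τ)) (Nat.pos_of_ne_zero hwa)
      omega
    have hsumU : ∑ i, U i = T * d := by
      have h1 : ∑ i, U i = ∑ i, ∑ a ∈ S, rot p r (κ a) τ * w a i :=
        Finset.sum_congr rfl (fun i _ => hU i)
      rw [h1, Finset.sum_comm, hTdef, Finset.sum_mul]
      apply Finset.sum_congr rfl
      intro a ha
      rw [← Finset.mul_sum, hw a ha]
    have hcard : (Finset.univ.filter (fun i => ¬ ∑ a ∈ S, κ a * w a i = 0)).card + n₀ = N := by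
      have h1 := Finset.card_filter_add_card_filter_not (s := (Finset.univ : Finset (Fin N)))
        (fun i => ∑ a ∈ S, κ a * w a i = 0)
      rw [Finset.card_univ, Fintype.card_fin] at h1
      rw [hn₀]
      omega
    have hlow : (Finset.univ.filter (fun i => ¬ ∑ a ∈ S, κ a * w a i = 0)).card * (q - 1) ≤
        ∑ i, U i := by
      calc (Finset.univ.filter (fun i => ¬ ∑ a ∈ S, κ a * w a i = 0)).card * (q - 1)
          = ∑ i ∈ Finset.univ.filter (fun i => ¬ ∑ a ∈ S, κ a * w a i = 0), (q - 1) := by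
            rw [Finset.sum_const, smul_eq_mul]
        _ ≤ ∑ i ∈ Finset.univ.filter (fun i => ¬ ∑ a ∈ S, κ a * w a i = 0), U i :=
            Finset.sum_le_sum (fun i hi => hUpos i (Finset.mem_filter.1 hi).2)
        _ ≤ ∑ i, U i :=
            Finset.sum_le_sum_of_subset_of_nonneg (Finset.filter_subset _ _)
              (fun _ _ _ => Nat.zero_le _)
    have hTdvd : (q - 1) ∣ T := by
      rw [hq, ← ZMod.natCast_eq_zero_iff, hTdef, Nat.cast_sum]
      have h1 : ∀ a ∈ S, ((rot p r (κ a) τ : ℕ) : ZMod (p ^ r - 1)) =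
          (p : ZMod (p ^ r - 1)) ^ τ.val * ((κ a : ℕ) : ZMod (p ^ r - 1)) :=
        fun a _ => rot_cast p r hp0 _ τ
      rw [Finset.sum_congr rfl h1, ← Finset.mul_sum, ← Nat.cast_sum, he, Nat.cast_mul,
        ZMod.natCast_self, zero_mul, mul_zero]
    obtain ⟨c, hc⟩ := hTdvd
    obtain ⟨n₁, hn₁⟩ : ∃ n₁ : ℕ,
        n₁ = (Finset.univ.filter (fun i => ¬ ∑ a ∈ S, κ a * w a i = 0)).card := ⟨_, rfl⟩
    rw [← hn₁] at hcard hlow
    rw [hsumU, hc] at hlow
    -- n₁ * (q-1) ≤ (q-1) * c * d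
    have h5 : n₁ ≤ c * d := by
      have h6 : (q - 1) * n₁ ≤ (q - 1) * (c * d) := by
        calc (q - 1) * n₁ = n₁ * (q - 1) := mul_comm _ _
          _ ≤ (q - 1) * c * d := hlow
          _ = (q - 1) * (c * d) := mul_assoc _ _ _
      exact Nat.le_of_mul_le_mul_left h6 (by omega)
    -- j' * d < n₁
    have h7 : j' * d < n₁ := by
      have h8 : j * d = n₀ * d + j' * d := by rw [hj', add_mul]
      have h9 : n₀ ≤ n₀ * d := Nat.le_mul_of_pos_right n₀ hd
      omega
    have h10 : j' < c := by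
      by_contra hcon
      push Not at hcon
      have : c * d ≤ j' * d := Nat.mul_le_mul_right d hcon
      omega
    rw [hc]
    exact Nat.mul_le_mul_left _ h10
  -- sum over the rotations
  have hsum : r * ((q - 1) * (j' + 1)) ≤ G * A := by
    have h1 : ∑ τ : ZMod r, ∑ a ∈ S, rot p r (κ a) τ = G * A := by
      rw [Finset.sum_comm, hA, Finset.mul_sum]
      apply Finset.sum_congr rfl
      intro a _
      rw [sum_rot, hG, mul_comm]
    rw [← h1]
    calc r * ((q - 1) * (j' + 1)) = ∑ _τ : ZMod r, (q - 1) * (j' + 1) := by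
          rw [Finset.sum_const, Finset.card_univ, ZMod.card, smul_eq_mul]
      _ ≤ ∑ τ : ZMod r, ∑ a ∈ S, rot p r (κ a) τ := Finset.sum_le_sum (fun τ _ => hT τ)
  have hA2 : r * (p - 1) * (j' + 1) ≤ A := by
    rw [← hGq] at hsum
    have h2 : G * (r * (p - 1) * (j' + 1)) ≤ G * A := by
      calc G * (r * (p - 1) * (j' + 1)) = r * ((p - 1) * G * (j' + 1)) := by ring
        _ ≤ G * A := hsum
    exact Nat.le_of_mul_le_mul_left h2 hGpos
  have hval := multinomial_val (p := p) S κ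
  rw [he, digitSum_e r m hr, ← hA] at hval
  have h11 : (p - 1) * (r * j') ≤ (p - 1) * padicValNat p (Nat.multinomial S κ) := by
    have h12 : r * (p - 1) * (j' + 1) = (p - 1) * (r * j') + r * (p - 1) := by ring
    omega
  exact Nat.le_of_mul_le_mul_left h11 (by omega)

end Main

end Groth.Agent.Helper25.Ax1
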