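import Mathlib
import Groth.Agent.Lib.Helper25.Ax1

/-!
# Helper25: Ax's theorem, ring-theoretic part

`W` is an integral domain with a ring map `c : W → k` onto a finite field, a multiplicative
section `t` (Teichmüller representatives) and `ker c = p W`.  Counting zeros of a form through
Teichmüller power sums and the multinomial expansion.
-/

set_option autoImplicit false
universe u v

namespace Groth.Agent.Helper25.Ax2

open Finset

section Abstract

variable {k : Type u} [Field k] [Fintype k] [DecidableEq k] {W : Type v} [CommRing W] [IsDomain W]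

theorem sum_pow_zero' (t : k →* W) : ∑ a : k, t a ^ 0 = (Fintype.card k : W) := by
  simp

theorem sum_pow_of_dvd (t : k →* W) (ht0 : t 0 = 0) (u : ℕ) (hu : 0 < u)
    (hdvd : (Fintype.card k - 1) ∣ u) :
    ∑ a : k, t a ^ u = ((Fintype.card k - 1 : ℕ) : W) := by
  have h1 : ∀ a : k, t a ^ u = if a = 0 then 0 else 1 := by
    intro a
    by_cases ha : a = 0
    · rw [if_pos ha, ha, ht0, zero_pow hu.ne']
    · rw [if_neg ha, ← map_pow]
      obtain ⟨v, rfl⟩ := hdvd
      rw [pow_mul, FiniteField.pow_card_sub_one_eq_one a ha, one_pow, map_one]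
  rw [Finset.sum_congr rfl (fun a _ => h1 a), Finset.sum_ite, Finset.sum_const_zero, zero_add,
    Finset.sum_const, nsmul_eq_mul, mul_one]
  congr 1
  have h2 : (Finset.univ.filter (fun x : k => ¬ x = 0)) = Finset.univ.erase 0 := by
    ext x
    simp
  rw [h2, Finset.card_erase_of_mem (Finset.mem_univ _), Finset.card_univ]

theorem sum_pow_of_not_dvd (c : W →+* k) (t : k →* W) (hct : ∀ a, c (t a) = a) (u : ℕ)
    (hdvd : ¬ (Fintype.card k - 1) ∣ u) :
    ∑ a : k, t a ^ u = 0 := by
  have h1 : ¬ ∀ x : kˣ, x ^ u = 1 := by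
    rw [FiniteField.forall_pow_eq_one_iff k]
    exact hdvd
  push Not at h1
  obtain ⟨g, hg⟩ := h1
  have h2 : ∑ a : k, t a ^ u = t (g : k) ^ u * ∑ a : k, t a ^ u := by
    rw [Finset.mul_sum]
    have h0 := Fintype.sum_equiv (Equiv.mulLeft₀ (g : k) g.ne_zero)
      (fun a => t ((g : k) * a) ^ u) (fun a => t a ^ u) (fun a => rfl)
    rw [← h0]
    apply Finset.sum_congr rfl
    intro a _
    rw [map_mul, mul_pow]
  have h3 : t (g : k) ^ u ≠ 1 := by
    intro h
    apply hg
    have h5 := congrArg c h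
    rw [← map_pow, hct, map_one] at h5
    exact Units.ext (by rw [Units.val_pow_eq_pow_val, h5, Units.val_one])
  have h4 : (1 - t (g : k) ^ u) * ∑ a : k, t a ^ u = 0 := by
    rw [sub_mul, one_mul, ← h2, sub_self]
  rcases mul_eq_zero.1 h4 with h | h
  · exact absurd (sub_eq_zero.1 h).symm h3
  · exact h

theorem indicator_congr (c : W →+* k) (p r : ℕ) [Fact p.Prime] (hcard : Fintype.card k = p ^ r)
    (hker : ∀ y : W, c y = 0 → (p : W) ∣ y) (j : ℕ) (y : W) :
    ((p : W) ^ r) ^ j ∣
      (if c y = 0 then (1 : W) else 0) - (1 - y ^ ((p ^ r - 1) * (p ^ r) ^ j)) := by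
  have hp1 : 1 < p := (Fact.out : p.Prime).one_lt
  have hq1 : 1 ≤ p ^ r - 1 := by
    have h1 : 1 < Fintype.card k := Fintype.one_lt_card
    omega
  by_cases hy : c y = 0
  · rw [if_pos hy]
    obtain ⟨y', rfl⟩ := hker y hy
    have h1 : (1 : W) - (1 - ((p : W) * y') ^ ((p ^ r - 1) * (p ^ r) ^ j)) =
        (p : W) ^ ((p ^ r - 1) * (p ^ r) ^ j) * y' ^ ((p ^ r - 1) * (p ^ r) ^ j) := by
      rw [mul_pow]
      ring
    rw [h1, ← pow_mul]
    apply dvd_mul_of_dvd_left
    apply pow_dvd_pow
    have h2 : r * j < p ^ (r * j) := Nat.lt_pow_self hp1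
    have h3 : p ^ (r * j) ≤ (p ^ r - 1) * (p ^ r) ^ j := by
      rw [← pow_mul]
      exact Nat.le_mul_of_pos_left _ hq1
    omega
  · rw [if_neg hy]
    have h1 : c (y ^ (p ^ r - 1) - 1) = 0 := by
      rw [map_sub, map_pow, map_one, ← hcard, FiniteField.pow_card_sub_one_eq_one _ hy, sub_self]
    have h2 := dvd_sub_pow_of_dvd_sub (hker _ h1) (r * j)
    rw [one_pow, ← pow_mul] at h2
    have h3 : (0 : W) - (1 - y ^ ((p ^ r - 1) * (p ^ r) ^ j)) =
        y ^ ((p ^ r - 1) * (p ^ r) ^ j) - 1 := by ring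
    have hexp : (p ^ r) ^ j = p ^ (r * j) := (pow_mul p r j).symm
    have hW : ((p : W) ^ r) ^ j = (p : W) ^ (r * j) := (pow_mul _ r j).symm
    rw [h3, hexp, hW]
    exact dvd_trans (pow_dvd_pow _ (Nat.le_succ _)) h2

theorem nat_dvd_of_dvd (c : W →+* k) (p : ℕ) [CharP k p] (hp0 : (p : W) ≠ 0) (a n : ℕ)
    (h : ((p : W) ^ a) ∣ (n : W)) : p ^ a ∣ n := by
  induction a generalizing n with
  | zero => simp
  | succ a ih =>
    have h1 : (p : W) ∣ (n : W) := dvd_trans (dvd_pow_self _ (Nat.succ_ne_zero a)) h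
    have h2 : p ∣ n := by
      obtain ⟨w, hw⟩ := h1
      have h3 := congrArg c hw
      rw [map_natCast, map_mul, map_natCast, CharP.cast_eq_zero k p, zero_mul] at h3
      exact (CharP.cast_eq_zero_iff k p n).1 h3
    obtain ⟨n', rfl⟩ := h2
    obtain ⟨w, hw⟩ := h
    have h4 : ((p : W) ^ a) ∣ (n' : W) := by
      refine ⟨w, ?_⟩
      have h5 : (p : W) * (n' : W) = (p : W) * ((p : W) ^ a * w) := by
        rw [← Nat.cast_mul, hw, pow_succ]
        ring
      exact mul_left_cancel₀ hp0 h5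
    rw [pow_succ, mul_comm]
    exact Nat.mul_dvd_mul_left p (ih n' h4)

end Abstract

section Main

variable {k : Type u} [Field k] [Fintype k] [DecidableEq k] {W : Type v} [CommRing W] [IsDomain W]

/-- the Teichmüller lift of the value of `F` at `x`. -/
noncomputable def yval (t : k →* W) {N : ℕ} (F : MvPolynomial (Fin N) k) (x : Fin N → k) : W :=
  ∑ w ∈ F.support, t (F.coeff w * ∏ i, x i ^ w i)

theorem c_yval (c : W →+* k) (t : k →* W) (hct : ∀ a, c (t a) = a) {N : ℕ}
    (F : MvPolynomial (Fin N) k) (x : Fin N → k) :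
    c (yval t F x) = MvPolynomial.eval x F := by
  unfold yval
  rw [map_sum, MvPolynomial.eval_eq']
  exact Finset.sum_congr rfl (fun w _ => hct _)

theorem prod_term (t : k →* W) {N : ℕ} (F : MvPolynomial (Fin N) k) (x : Fin N → k)
    (κ : (Fin N →₀ ℕ) → ℕ) :
    ∏ w ∈ F.support, t (F.coeff w * ∏ i, x i ^ w i) ^ κ w =
      (∏ w ∈ F.support, t (F.coeff w) ^ κ w) *
        ∏ i, t (x i) ^ (∑ w ∈ F.support, κ w * w i) := by
  have h1 : ∀ w ∈ F.support, t (F.coeff w * ∏ i, x i ^ w i) ^ κ w =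
      t (F.coeff w) ^ κ w * ∏ i, t (x i) ^ (κ w * w i) := by
    intro w _
    rw [map_mul, mul_pow, map_prod, ← Finset.prod_pow]
    congr 1
    apply Finset.prod_congr rfl
    intro i _
    rw [map_pow, ← pow_mul, mul_comm]
  rw [Finset.prod_congr rfl h1, Finset.prod_mul_distrib, Finset.prod_comm]
  congr 1
  apply Finset.prod_congr rfl
  intro i _
  rw [Finset.prod_pow_eq_pow_sum]

theorem ax_abstract (c : W →+* k) (t : k →* W) (ht0 : t 0 = 0) (hct : ∀ a, c (t a) = a)
    (p r : ℕ) [Fact p.Prime] [CharP k p] (hcard : Fintype.card k = p ^ r)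
    (hr : 0 < r) (hker : ∀ y : W, c y = 0 → (p : W) ∣ y) (hp0 : (p : W) ≠ 0)
    (N d j : ℕ) (hd : 0 < d) (F : MvPolynomial (Fin N) k) (hF : F.IsHomogeneous d)
    (hj : j * d < N) :
    (p ^ r) ^ j ∣ Fintype.card {x : Fin N → k // MvPolynomial.eval x F = 0} := by
  classical
  have : NeZero r := ⟨hr.ne'⟩
  rw [← pow_mul]
  apply nat_dvd_of_dvd c p hp0
  rw [pow_mul]
  obtain ⟨e, he⟩ : ∃ e : ℕ, e = (p ^ r - 1) * (p ^ r) ^ j := ⟨_, rfl⟩
  -- the count as a sum of indicators
  have hcount : ((Fintype.card {x : Fin N → k // MvPolynomial.eval x F = 0} : ℕ) : W) =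
      ∑ x : Fin N → k, (if c (yval t F x) = 0 then (1 : W) else 0) := by
    rw [Fintype.card_subtype, Finset.card_filter, Nat.cast_sum]
    apply Finset.sum_congr rfl
    intro x _
    rw [c_yval c t hct]
    split_ifs <;> simp
  -- the main sum is divisible
  have hmain : ((p : W) ^ r) ^ j ∣ ∑ x : Fin N → k, yval t F x ^ e := by
    have h1 : ∀ x : Fin N → k, yval t F x ^ e =
        ∑ κ ∈ Finset.piAntidiag F.support e, (Nat.multinomial F.support κ : W) *
          ((∏ w ∈ F.support, t (F.coeff w) ^ κ w) *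
            ∏ i, t (x i) ^ (∑ w ∈ F.support, κ w * w i)) := by
      intro x
      unfold yval
      rw [Finset.sum_pow_eq_sum_piAntidiag]
      apply Finset.sum_congr rfl
      intro κ _
      rw [prod_term]
    rw [Finset.sum_congr rfl (fun x _ => h1 x), Finset.sum_comm]
    apply Finset.dvd_sum
    intro κ hκ
    rw [← Finset.mul_sum, ← Finset.mul_sum]
    have h2 : ∑ x : Fin N → k, ∏ i, t (x i) ^ (∑ w ∈ F.support, κ w * w i) =
        ∏ i : Fin N, ∑ a : k, t a ^ (∑ w ∈ F.support, κ w * w i) := by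
      rw [Finset.prod_univ_sum, Fintype.piFinset_univ]
    rw [h2]
    by_cases hall : ∀ i : Fin N, (Fintype.card k - 1) ∣ ∑ w ∈ F.support, κ w * w i
    · -- all exponents divisible
      have h3 : ∀ i : Fin N, ∑ a : k, t a ^ (∑ w ∈ F.support, κ w * w i) =
          if ∑ w ∈ F.support, κ w * w i = 0 then ((p : W) ^ r) else
            ((Fintype.card k - 1 : ℕ) : W) := by
        intro i
        by_cases h0 : ∑ w ∈ F.support, κ w * w i = 0
        · rw [if_pos h0, h0, sum_pow_zero', hcard, Nat.cast_pow]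
        · rw [if_neg h0]
          exact sum_pow_of_dvd t ht0 _ (Nat.pos_of_ne_zero h0) (hall i)
      rw [Finset.prod_congr rfl (fun i _ => h3 i), Finset.prod_ite, Finset.prod_const,
        Finset.prod_const]
      have hκ' := Finset.mem_piAntidiag.1 hκ
      have h4 := Groth.Agent.Helper25.Ax1.ax_bound (p := p) (r := r) F.support
        (fun (w : Fin N →₀ ℕ) (i : Fin N) => w i) d hd
        (fun w hw => by
          have h5 : w.degree = d := by
            have h6 := hF (MvPolynomial.mem_support_iff.1 hw)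
            rw [Finsupp.degree_eq_weight_one]
            exact h6
          rw [← h5, Finsupp.degree_eq_sum])
        κ j (by rw [hκ'.1, he])
        (fun i => by
          have h7 := hall i
          rw [hcard] at h7
          exact h7) j hj
      have h8 := Nat.cast_dvd_cast (α := W) h4
      rw [Nat.cast_pow, Nat.cast_pow, Nat.cast_mul, Nat.cast_pow, Nat.cast_pow] at h8
      have h9 : ∀ a b c d : W, a * (b * (c * d)) = (c * a) * (b * d) := fun a b c d => by ring
      rw [h9]
      exact Dvd.dvd.mul_right h8 _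
    · push Not at hall
      obtain ⟨i, hi⟩ := hall
      have h3 : ∑ a : k, t a ^ (∑ w ∈ F.support, κ w * w i) = 0 :=
        sum_pow_of_not_dvd c t hct _ hi
      rw [Finset.prod_eq_zero (Finset.mem_univ i) h3, mul_zero, mul_zero]
      exact dvd_zero _
  -- assembling
  have hdiff : ((p : W) ^ r) ^ j ∣
      ∑ x : Fin N → k, ((if c (yval t F x) = 0 then (1 : W) else 0) -
        (1 - yval t F x ^ e)) := by
    apply Finset.dvd_sum
    intro x _
    rw [he]
    exact indicator_congr c p r hcard hker j _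
  rw [Finset.sum_sub_distrib, Finset.sum_sub_distrib, ← hcount] at hdiff
  have hone : ∑ _x : Fin N → k, (1 : W) = ((p : W) ^ r) ^ N := by
    rw [Finset.sum_const, Finset.card_univ, Fintype.card_fun, Fintype.card_fin, hcard,
      nsmul_eq_mul, mul_one, Nat.cast_pow, Nat.cast_pow]
  rw [hone] at hdiff
  have hjN : j ≤ N := by
    have : j ≤ j * d := Nat.le_mul_of_pos_right j hd
    omega
  have hpow : ((p : W) ^ r) ^ j ∣ ((p : W) ^ r) ^ N := pow_dvd_pow _ hjN
  have h9 := dvd_add hdiff (dvd_sub hpow hmain)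
  have h10 : ((Fintype.card {x : Fin N → k // MvPolynomial.eval x F = 0} : ℕ) : W) -
      (((p : W) ^ r) ^ N - ∑ x : Fin N → k, yval t F x ^ e) +
      (((p : W) ^ r) ^ N - ∑ x : Fin N → k, yval t F x ^ e) =
      ((Fintype.card {x : Fin N → k // MvPolynomial.eval x F = 0} : ℕ) : W) := by ring
  rw [h10] at h9
  exact h9

end Main

end Groth.Agent.Helper25.Ax2
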