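import Mathlib
import Groth.Agent.Lib.Helper25.Ax2

/-!
# Helper25: Ax's theorem for forms over a finite field

`q ^ j` divides the number of zeros in `k ^ N` of a form of degree `d > 0` when `j d < N`
(`q` the number of elements of the finite field `k`); Teichmüller representatives are taken in
the ring of Witt vectors of `k`.
-/

set_option autoImplicit false
universe u

namespace Groth.Agent.Helper25.Ax3

theorem ax_theorem (k : Type u) [Field k] [Fintype k] [DecidableEq k] (N d j : ℕ) (hd : 0 < d)
    (F : MvPolynomial (Fin N) k) (hF : F.IsHomogeneous d) (hj : j * d < N) :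
    Fintype.card k ^ j ∣ Fintype.card {x : Fin N → k // MvPolynomial.eval x F = 0} := by
  obtain ⟨p, hchar⟩ := CharP.exists k
  have := hchar
  obtain ⟨n, hp, hcard⟩ := FiniteField.card k p
  have : Fact p.Prime := ⟨hp⟩
  have hperf : PerfectRing k p := inferInstance
  rw [hcard]
  have hker : ∀ y : WittVector p k, WittVector.constantCoeff y = 0 → (p : WittVector p k) ∣ y := by
    intro y hy
    have h1 : y ∈ Ideal.span {(p : WittVector p k)} :=
      (WittVector.mem_span_p_iff_coeff_zero_eq_zero y).2 hy
    exact Ideal.mem_span_singleton.1 h1
  exact Groth.Agent.Helper25.Ax2.ax_abstract (W := WittVector p k) WittVector.constantCoeff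
    (WittVector.teichmuller p) (WittVector.teichmuller_zero p)
    (fun a => WittVector.teichmuller_coeff_zero p a) p n hcard n.pos hker
    (WittVector.p_nonzero p k) N d j hd F hF hj

end Groth.Agent.Helper25.Ax3
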