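import Groth.Prelude.Def_FibCat2
import Mathlib.CategoryTheory.Sites.Grothendieck
import Mathlib.Tactic

set_option autoImplicit false
set_option backward.isDefEq.respectTransparency false
set_option backward.isDefEq.respectTransparency.types false

universe v₅ u₅ v₄ u₄ v₃ u₃ v₂ u₂ v u

namespace Groth.Agent.Helper25.BasedLib

open CategoryTheory FibCat

variable {C : Type u} [Category.{v} C]
variable {𝒳 : BasedCategory.{v₂, u₂} C} {𝒴 : BasedCategory.{v₃, u₃} C}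
  {𝒵 : BasedCategory.{v₄, u₄} C}

/-- right whiskering of a 2-isomorphism over `C` -/
def wR {F G : 𝒳 ⥤ᵇ 𝒴} (e : F ≅ G) (H : 𝒴 ⥤ᵇ 𝒵) :
    BasedFunctor.comp F H ≅ BasedFunctor.comp G H :=
  BasedNatIso.mkNatIso
    (Functor.isoWhiskerRight ((BasedNatTrans.forgetful _ _).mapIso e) H.toFunctor)
    (fun a => (BasedCategory.whiskerRight e.hom H).isHomLift' a)

/-- left whiskering of a 2-isomorphism over `C` -/
def wL (H : 𝒳 ⥤ᵇ 𝒴) {F G : 𝒴 ⥤ᵇ 𝒵} (e : F ≅ G) :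
    BasedFunctor.comp H F ≅ BasedFunctor.comp H G :=
  BasedNatIso.mkNatIso
    (Functor.isoWhiskerLeft H.toFunctor ((BasedNatTrans.forgetful _ _).mapIso e))
    (fun a => (BasedCategory.whiskerLeft H e.hom).isHomLift' a)

/-- the functor `C/V ⥤ C/U` over `C` induced by `h : V ⟶ U` -/
abbrev ovMap {U V : C} (h : V ⟶ U) : FibCat.overCat V ⥤ᵇ FibCat.overCat U :=
  ⟨Over.map h, Over.mapForget_eq h⟩

theorem ovMap_comp {U V W : C} (k : W ⟶ V) (h : V ⟶ U) :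
    ovMap (k ≫ h) = BasedFunctor.comp (ovMap k) (ovMap h) := by
  unfold ovMap
  congr 1
  exact Over.mapComp_eq k h


/-- "covering" functor over `C` (locally every object lifts up to iso) -/
def IsCovering (J : GrothendieckTopology C) {𝒜 : BasedCategory.{v₂, u₂} C}
    {ℬ : BasedCategory.{v₃, u₃} C} (H : 𝒜 ⥤ᵇ ℬ) : Prop :=
  ∀ (U : C) (y : FibCat.overCat U ⥤ᵇ ℬ), ∃ R ∈ J U, ∀ ⦃V : C⦄ (h : V ⟶ U), R.arrows h →
    ∃ x : FibCat.overCat V ⥤ᵇ 𝒜,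
      Nonempty (BasedFunctor.comp x H ≅ BasedFunctor.comp (ovMap h) y)

theorem isCovering_comp (J : GrothendieckTopology C) (F : 𝒳 ⥤ᵇ 𝒴) (G : 𝒴 ⥤ᵇ 𝒵)
    (hF : IsCovering J F) (hG : IsCovering J G) : IsCovering J (BasedFunctor.comp F G) := by
  intro U y
  obtain ⟨R, hR, hR'⟩ := hG U y
  choose x hx using hR'
  have hS : ∀ ⦃V : C⦄ (h : V ⟶ U) (hh : R.arrows h), ∃ S ∈ J V, ∀ ⦃W : C⦄ (k : W ⟶ V),
      S.arrows k → ∃ z : FibCat.overCat W ⥤ᵇ 𝒳,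
        Nonempty (BasedFunctor.comp z F ≅ BasedFunctor.comp (ovMap k) (x h hh)) :=
    fun V h hh => hF V (x h hh)
  choose S hSJ hS' using hS
  refine ⟨Sieve.bind R.arrows (fun V h hh => S h hh), J.bind_covering hR (fun V h hh => hSJ h hh), ?_⟩
  intro W f hf
  obtain ⟨V, k, h, hh, hk, rfl⟩ := hf
  obtain ⟨z, ⟨ez⟩⟩ := hS' h hh k hk
  obtain ⟨ex⟩ := hx h hh
  refine ⟨z, ⟨?_⟩⟩
  rw [ovMap_comp]
  exact (wR ez G).trans (wL (ovMap k) ex)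


/-- the first projection of a lift is the first functor (up to the identity 2-isomorphism) -/
def fpLiftFst {𝒲 : BasedCategory.{v₅, u₅} C} {F : 𝒳 ⥤ᵇ 𝒵} {G : 𝒴 ⥤ᵇ 𝒵}
    (a : 𝒲 ⥤ᵇ 𝒳) (b : 𝒲 ⥤ᵇ 𝒴) (e : BasedFunctor.comp a F ≅ BasedFunctor.comp b G) :
    BasedFunctor.comp (FibCat.fpLift a b e) (FibCat.fpFst F G) ≅ a :=
  BasedNatIso.mkNatIso (NatIso.ofComponents (fun w => Iso.refl _) (by
    intro w w' g
    simp only [Iso.refl_hom, Category.comp_id, Category.id_comp]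
    rfl))
    (fun w => by
      simp only [NatIso.ofComponents_hom_app, Iso.refl_hom]
      exact inferInstanceAs (𝒳.p.IsHomLift (𝟙 (𝒲.p.obj w)) (𝟙 (a.obj w))))

/-- the second projection of a lift is the second functor (up to the identity 2-isomorphism) -/
def fpLiftSnd {𝒲 : BasedCategory.{v₅, u₅} C} {F : 𝒳 ⥤ᵇ 𝒵} {G : 𝒴 ⥤ᵇ 𝒵}
    (a : 𝒲 ⥤ᵇ 𝒳) (b : 𝒲 ⥤ᵇ 𝒴) (e : BasedFunctor.comp a F ≅ BasedFunctor.comp b G) :
    BasedFunctor.comp (FibCat.fpLift a b e) (FibCat.fpSnd F G) ≅ b :=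
  BasedNatIso.mkNatIso (NatIso.ofComponents (fun w => Iso.refl _) (by
    intro w w' g
    simp only [Iso.refl_hom, Category.comp_id, Category.id_comp]
    rfl))
    (fun w => by
      simp only [NatIso.ofComponents_hom_app, Iso.refl_hom]
      exact inferInstanceAs (𝒴.p.IsHomLift (𝟙 (𝒲.p.obj w)) (𝟙 (b.obj w))))

theorem isCovering_fpFst (J : GrothendieckTopology C) (F : 𝒳 ⥤ᵇ 𝒴) (G : 𝒵 ⥤ᵇ 𝒴)
    (hF : IsCovering J F) : IsCovering J (FibCat.fpFst G F) := by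
  intro U y
  obtain ⟨R, hR, hR'⟩ := hF U (BasedFunctor.comp y G)
  refine ⟨R, hR, fun V h hh => ?_⟩
  obtain ⟨x, ⟨ex⟩⟩ := hR' h hh
  exact ⟨FibCat.fpLift (BasedFunctor.comp (ovMap h) y) x ex.symm, ⟨fpLiftFst _ _ _⟩⟩

end Groth.Agent.Helper25.BasedLib
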