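import Mathlib.Tactic
import Mathlib.Data.Int.GCD
import Mathlib.RingTheory.Coprime.Lemmas

/-!
# Helper library (helper25): an elementary gcd criterion (Basic Inequality, lower extreme)
-/

set_option autoImplicit false

namespace Groth.Agent.Helper25.BasicIneqGcd

theorem gcd_eq_one_iff (g d : ℤ) (hg : 3 ≤ g) :
    Int.gcd (d - g + 1) (2 * g - 2) = 1 ↔
      ∀ gY k : ℤ, 0 < gY → gY < g - 1 → 1 ≤ k → k + 2 * gY - 2 < 2 * g - 2 →
        ¬ (2 * (g - 1) ∣ d * (2 * gY - 2 + k) - k * (g - 1)) := by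
  constructor
  · intro hgcd gY k h1 h2 h3 h4 hdvd
    have hcop : IsCoprime (2 * g - 2) (d - g + 1) := by
      rw [Int.isCoprime_iff_gcd_eq_one, Int.gcd_comm]; exact hgcd
    have e1 : d * (2 * gY - 2 + k) - k * (g - 1) =
        (d - g + 1) * (2 * gY - 2 + k) + (2 * g - 2) * (gY - 1) := by ring
    have h5 : (2 * g - 2) ∣ (d - g + 1) * (2 * gY - 2 + k) := by
      have h6 : (2 * g - 2) ∣ d * (2 * gY - 2 + k) - k * (g - 1) := by
        have : 2 * (g - 1) = 2 * g - 2 := by ring
        rwa [this] at hdvd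
      rw [e1] at h6
      exact (Int.dvd_add_left (Dvd.intro _ rfl)).mp h6
    have h7 : (2 * g - 2) ∣ (2 * gY - 2 + k) := hcop.dvd_of_dvd_mul_left h5
    have h8 := Int.le_of_dvd (by linarith) h7
    linarith
  · intro h
    by_contra hne
    set c := Int.gcd (d - g + 1) (2 * g - 2) with hc
    have hc0 : c ≠ 0 := by
      intro h0
      rw [hc, Int.gcd_eq_zero_iff] at h0
      omega
    have hc2 : 2 ≤ c := by omega
    obtain ⟨e, he⟩ : (c : ℤ) ∣ d - g + 1 := Int.gcd_dvd_left _ _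
    obtain ⟨w, hw⟩ : (c : ℤ) ∣ 2 * g - 2 := Int.gcd_dvd_right _ _
    have hcpos : (2 : ℤ) ≤ (c : ℤ) := by exact_mod_cast hc2
    have hwpos : 0 < w := by
      by_contra hw0
      have : (c : ℤ) * w ≤ 0 := mul_nonpos_of_nonneg_of_nonpos (by linarith) (by linarith)
      linarith
    have hwlt : w < 2 * g - 2 := by
      rw [hw]; nlinarith
    apply h 1 w (by norm_num) (by linarith) (by linarith) (by linarith)
    refine ⟨e, ?_⟩
    have : d * (2 * 1 - 2 + w) - w * (g - 1) = (d - g + 1) * w := by ring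
    rw [this, he]
    have h2 : 2 * (g - 1) = (c : ℤ) * w := by rw [← hw]; ring
    rw [h2]; ring

end Groth.Agent.Helper25.BasicIneqGcd
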