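import Mathlib
import Groth.Agent.Lib.Helper25.BezoutA

/-!
# Affine Bezout count: `dim k[X,Y]/(f(X,Y,1), g(X,Y,1)) = n m`
-/

namespace Groth.Agent.Helper25.BezoutB

open MvPolynomial

universe u

variable {k : Type u} [Field k]

/-- inclusion `k[X,Y] → k[X,Y,T]`. -/
noncomputable def iota : MvPolynomial (Fin 2) k →ₐ[k] MvPolynomial (Fin 3) k :=
  rename Fin.castSucc

theorem fin3_cases (i : Fin 3) : i = 0 ∨ i = 1 ∨ i = 2 := by
  revert i
  decide

theorem fin2_cases (i : Fin 2) : i = 0 ∨ i = 1 := by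
  revert i
  decide

theorem iota_X0 : iota (X 0 : MvPolynomial (Fin 2) k) = X 0 := by
  simp [iota]

theorem iota_X1 : iota (X 1 : MvPolynomial (Fin 2) k) = X 1 := by
  simp [iota]

theorem sub_mem (v : Fin 3 → MvPolynomial (Fin 2) k) (h0 : v 0 = X 0) (h1 : v 1 = X 1)
    (p : MvPolynomial (Fin 3) k) :
    p - iota (aeval v p) ∈
      Ideal.span {(X 2 : MvPolynomial (Fin 3) k) - iota (v 2)} := by
  have key : (Ideal.Quotient.mkₐ k
        (Ideal.span {(X 2 : MvPolynomial (Fin 3) k) - iota (v 2)})).comp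
        (iota.comp (aeval v)) =
      Ideal.Quotient.mkₐ k (Ideal.span {(X 2 : MvPolynomial (Fin 3) k) - iota (v 2)}) := by
    apply MvPolynomial.algHom_ext
    intro i
    rcases fin3_cases i with rfl | rfl | rfl
    · simp only [AlgHom.comp_apply, aeval_X, h0, iota_X0]
    · simp only [AlgHom.comp_apply, aeval_X, h1, iota_X1]
    · simp only [AlgHom.comp_apply, aeval_X, Ideal.Quotient.mkₐ_eq_mk]
      symm
      rw [Ideal.Quotient.eq]
      exact Ideal.subset_span rfl
  have h := AlgHom.congr_fun key p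
  simp only [AlgHom.comp_apply, Ideal.Quotient.mkₐ_eq_mk] at h
  rw [← Ideal.Quotient.eq]
  exact h.symm

theorem aeval_iota (v : Fin 3 → MvPolynomial (Fin 2) k) (h0 : v 0 = X 0) (h1 : v 1 = X 1)
    (x : MvPolynomial (Fin 2) k) : aeval v (iota x) = x := by
  unfold iota
  rw [aeval_rename]
  have hv : v ∘ Fin.castSucc = X := by
    funext i
    rcases fin2_cases i with rfl | rfl
    · simpa using h0
    · simpa using h1
  rw [hv, aeval_X_left, AlgHom.id_apply]

/-- Core lemma: a homogeneous element of `I + (T - 1)` lies in `I` when `I` is homogeneous and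
`T`-saturated. -/
theorem core (I : Ideal (MvPolynomial (Fin 3) k))
    (hI : ∀ p ∈ I, ∀ j, homogeneousComponent j p ∈ I)
    (hsat : ∀ p, X 2 * p ∈ I → p ∈ I) (d : ℕ) (p : MvPolynomial (Fin 3) k)
    (hp : p.IsHomogeneous d)
    (i q : MvPolynomial (Fin 3) k) (hi : i ∈ I) (hpq : p = i + (X 2 - 1) * q) : p ∈ I := by
  classical
  have hX : (X 2 : MvPolynomial (Fin 3) k).IsHomogeneous 1 := isHomogeneous_X _ _
  have h1 : p = i + q * X 2 - q := by
    rw [hpq]
    ring
  have E : ∀ j, homogeneousComponent (j + 1) p =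
      homogeneousComponent (j + 1) i + X 2 * homogeneousComponent j q -
        homogeneousComponent (j + 1) q := by
    intro j
    conv_lhs => rw [h1]
    rw [map_sub, map_add, BezoutA.hc_mul_right q (X 2) 1 j hX]
    ring
  have E0 : homogeneousComponent 0 p = homogeneousComponent 0 i - homogeneousComponent 0 q := by
    conv_lhs => rw [h1]
    rw [map_sub, map_add]
    have h2 : homogeneousComponent 0 (q * X 2) = 0 := by
      rw [homogeneousComponent_zero]
      simp [coeff_mul_X']
    rw [h2, add_zero]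
  have hcp : ∀ j, j ≠ d → homogeneousComponent j p = 0 := by
    intro j hj
    rw [homogeneousComponent_of_mem ((mem_homogeneousSubmodule _ _).mpr hp), if_neg hj]
  have A : ∀ j, j < d → homogeneousComponent j q ∈ I := by
    intro j
    induction j with
    | zero =>
      intro h0
      have h3 := E0
      rw [hcp 0 (by omega)] at h3
      have e : homogeneousComponent 0 q = homogeneousComponent 0 i := by
        linear_combination h3
      rw [e]
      exact hI i hi 0
    | succ j ih =>
      intro hj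
      have h3 := E j
      rw [hcp (j + 1) (by omega)] at h3
      have e : homogeneousComponent (j + 1) q =
          homogeneousComponent (j + 1) i + X 2 * homogeneousComponent j q := by
        linear_combination h3
      rw [e]
      exact I.add_mem (hI i hi _) (I.mul_mem_left _ (ih (by omega)))
  have B : ∀ r j, d ≤ j → q.totalDegree + 1 ≤ j + r → homogeneousComponent j q ∈ I := by
    intro r
    induction r with
    | zero =>
      intro j _ hj
      have h0 := homogeneousComponent_eq_zero (φ := q) (n := j) (by omega)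
      rw [h0]
      exact I.zero_mem
    | succ r ih =>
      intro j hdj hj
      have h4 := ih (j + 1) (by omega) (by omega)
      have h3 := E j
      rw [hcp (j + 1) (by omega)] at h3
      have e : X 2 * homogeneousComponent j q =
          homogeneousComponent (j + 1) q - homogeneousComponent (j + 1) i := by
        linear_combination -h3
      apply hsat
      rw [e]
      exact I.sub_mem h4 (hI i hi _)
  have hpd : homogeneousComponent d p = p := homogeneousComponent_eq_self hp
  rw [← hpd]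
  cases d with
  | zero =>
    rw [E0]
    exact I.sub_mem (hI i hi 0) (B (q.totalDegree + 1) 0 le_rfl (by omega))
  | succ d' =>
    rw [E d']
    exact I.sub_mem (I.add_mem (hI i hi _) (I.mul_mem_left _ (A d' (by omega))))
      (B (q.totalDegree + 1) (d' + 1) le_rfl (by omega))

section Homog

attribute [local instance] MvPolynomial.gradedAlgebra

theorem span_homog (n m : ℕ) (f g : MvPolynomial (Fin 3) k) (hf : f.IsHomogeneous n)
    (hg : g.IsHomogeneous m) (p : MvPolynomial (Fin 3) k)
    (hp : p ∈ Ideal.span ({f, g} : Set (MvPolynomial (Fin 3) k))) (j : ℕ) :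
    homogeneousComponent j p ∈ Ideal.span ({f, g} : Set (MvPolynomial (Fin 3) k)) := by
  have h : (Ideal.span ({f, g} : Set (MvPolynomial (Fin 3) k))).IsHomogeneous
      (homogeneousSubmodule (Fin 3) k) := by
    apply Ideal.homogeneous_span
    intro x hx
    simp only [Set.mem_insert_iff, Set.mem_singleton_iff] at hx
    rcases hx with rfl | rfl
    · exact ⟨n, (mem_homogeneousSubmodule _ _).mpr hf⟩
    · exact ⟨m, (mem_homogeneousSubmodule _ _).mpr hg⟩
  exact (mem_iff_homogeneousComponent_mem h p).mp hp j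

end Homog

theorem rho0_ne_zero (v0 : Fin 3 → MvPolynomial (Fin 2) k) (hv : ∀ i, (v0 i).IsHomogeneous 1)
    (f g : MvPolynomial (Fin 3) k) (n : ℕ) (hn : 0 < n) (hf : f.IsHomogeneous n)
    (hrel : IsRelPrime (aeval v0 f) (aeval v0 g)) : aeval v0 g ≠ 0 := by
  intro h0
  rw [h0] at hrel
  have hu : IsUnit (aeval v0 f) := isRelPrime_zero_right.mp hrel
  have hh : (aeval v0 f).IsHomogeneous n := by
    have := hf.aeval v0 hv
    rwa [one_mul] at this
  obtain ⟨u, hu'⟩ := hu.exists_right_inv
  have hc : coeff 0 (aeval v0 f) = 0 := hh.coeff_eq_zero (by simp; omega)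
  have hc' : constantCoeff (aeval v0 f) = 0 := hc
  have h1 := congrArg constantCoeff hu'
  rw [map_mul, map_one, hc', zero_mul] at h1
  exact zero_ne_one h1

theorem sat (v0 : Fin 3 → MvPolynomial (Fin 2) k) (h0 : v0 0 = X 0) (h1 : v0 1 = X 1)
    (h2 : v0 2 = 0) (f g : MvPolynomial (Fin 3) k) (hg₀ : aeval v0 g ≠ 0)
    (hrel : IsRelPrime (aeval v0 f) (aeval v0 g))
    (p : MvPolynomial (Fin 3) k)
    (h : X 2 * p ∈ Ideal.span ({f, g} : Set (MvPolynomial (Fin 3) k))) :
    p ∈ Ideal.span ({f, g} : Set (MvPolynomial (Fin 3) k)) := by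
  obtain ⟨a, b, hab⟩ := Ideal.mem_span_pair.mp h
  have e0 : aeval v0 a * aeval v0 f + aeval v0 b * aeval v0 g = 0 := by
    have h3 : aeval v0 (X 2 * p) = 0 := by rw [map_mul, aeval_X, h2, zero_mul]
    rw [← hab, map_add, map_mul, map_mul] at h3
    exact h3
  have hdvd : aeval v0 g ∣ aeval v0 a * aeval v0 f := ⟨-aeval v0 b, by linear_combination e0⟩
  obtain ⟨c₀, hc₀⟩ := hrel.symm.dvd_of_dvd_mul_right hdvd
  have hb₀ : aeval v0 b = -(c₀ * aeval v0 f) := by
    have h3 : aeval v0 g * (c₀ * aeval v0 f + aeval v0 b) = 0 := by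
      rw [hc₀] at e0
      linear_combination e0
    rcases mul_eq_zero.mp h3 with h | h
    · exact absurd h hg₀
    · linear_combination h
  have hρc : aeval v0 (iota c₀) = c₀ := aeval_iota v0 h0 h1 c₀
  have hJ : ∀ q : MvPolynomial (Fin 3) k, aeval v0 q = 0 → ∃ q', q = X 2 * q' := by
    intro q hq
    have h3 := sub_mem v0 h0 h1 q
    rw [h2, map_zero, sub_zero, hq, map_zero, sub_zero] at h3
    obtain ⟨q', hq'⟩ := Ideal.mem_span_singleton'.mp h3
    exact ⟨q', by rw [← hq', mul_comm]⟩
  obtain ⟨a', ha'⟩ := hJ (a - iota c₀ * g) (by rw [map_sub, map_mul, hρc, hc₀]; ring)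
  obtain ⟨b', hb'⟩ := hJ (b + iota c₀ * f) (by rw [map_add, map_mul, hρc, hb₀]; ring)
  have h4 : X 2 * p = X 2 * (a' * f + b' * g) := by
    rw [← hab]
    linear_combination f * ha' + g * hb'
  have hp : p = a' * f + b' * g := mul_left_cancel₀ (X_ne_zero 2) h4
  rw [hp]
  exact Ideal.add_mem _ (Ideal.mul_mem_left _ _ (Ideal.subset_span (by simp)))
    (Ideal.mul_mem_left _ _ (Ideal.subset_span (by simp)))

/-- the map `S_d → k[X,Y]/Ĩ`. -/
noncomputable def psi (It : Ideal (MvPolynomial (Fin 2) k)) (v1 : Fin 3 → MvPolynomial (Fin 2) k)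
    (d : ℕ) : homogeneousSubmodule (Fin 3) k d →ₗ[k] (MvPolynomial (Fin 2) k ⧸ It) :=
  (Ideal.Quotient.mkₐ k It).toLinearMap.comp
    ((aeval v1 : MvPolynomial (Fin 3) k →ₐ[k] MvPolynomial (Fin 2) k).toLinearMap.comp
      (homogeneousSubmodule (Fin 3) k d).subtype)

theorem psi_apply (It : Ideal (MvPolynomial (Fin 2) k)) (v1 : Fin 3 → MvPolynomial (Fin 2) k)
    (d : ℕ) (p : homogeneousSubmodule (Fin 3) k d) :
    psi It v1 d p = Ideal.Quotient.mk It (aeval v1 p.1) := rfl

theorem main' (n m : ℕ) (f g : MvPolynomial (Fin 3) k) (hf : f.IsHomogeneous n)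
    (hg : g.IsHomogeneous m) (hn : 0 < n) (hg0 : g ≠ 0) (hfg : IsRelPrime f g)
    (v0 v1 : Fin 3 → MvPolynomial (Fin 2) k)
    (h00 : v0 0 = X 0) (h01 : v0 1 = X 1) (h02 : v0 2 = 0)
    (h10 : v1 0 = X 0) (h11 : v1 1 = X 1) (h12 : v1 2 = 1)
    (hT : IsRelPrime (aeval v0 f) (aeval v0 g))
    (I : Ideal (MvPolynomial (Fin 3) k)) (hI : I = Ideal.span {f, g})
    (It : Ideal (MvPolynomial (Fin 2) k)) (hIt : It = Ideal.span {aeval v1 f, aeval v1 g}) :
    Module.finrank k (MvPolynomial (Fin 2) k ⧸ It) = n * m := by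
  classical
  have hfI : f ∈ I := by rw [hI]; exact Ideal.subset_span (by simp)
  have hgI : g ∈ I := by rw [hI]; exact Ideal.subset_span (by simp)
  have hfIt : aeval v1 f ∈ It := by rw [hIt]; exact Ideal.subset_span (by simp)
  have hgIt : aeval v1 g ∈ It := by rw [hIt]; exact Ideal.subset_span (by simp)
  have hv0 : ∀ i, (v0 i).IsHomogeneous 1 := by
    intro i
    rcases fin3_cases i with rfl | rfl | rfl
    · rw [h00]; exact isHomogeneous_X _ _
    · rw [h01]; exact isHomogeneous_X _ _
    · rw [h02]; exact (homogeneousSubmodule (Fin 2) k 1).zero_mem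
  have hg₀ : aeval v0 g ≠ 0 := rho0_ne_zero v0 hv0 f g n hn hf hT
  have hsat : ∀ p, X 2 * p ∈ I → p ∈ I := by
    intro p hp
    rw [hI] at hp ⊢
    exact sat v0 h00 h01 h02 f g hg₀ hT p hp
  have hhom : ∀ p ∈ I, ∀ j, homogeneousComponent j p ∈ I := by
    intro p hp j
    rw [hI] at hp ⊢
    exact span_homog n m f g hf hg p hp j
  have hρI : ∀ p ∈ I, aeval v1 p ∈ It := by
    intro p hp
    rw [hI] at hp
    obtain ⟨a, b, rfl⟩ := Ideal.mem_span_pair.mp hp
    rw [map_add, map_mul, map_mul]
    exact It.add_mem (It.mul_mem_left _ hfIt) (It.mul_mem_left _ hgIt)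
  have hIρ : ∀ d (p : MvPolynomial (Fin 3) k), p.IsHomogeneous d → aeval v1 p ∈ It → p ∈ I := by
    intro d p hp hmem
    rw [hIt] at hmem
    obtain ⟨a, b, hab⟩ := Ideal.mem_span_pair.mp hmem
    have hi0I : iota a * f + iota b * g ∈ I := I.add_mem (I.mul_mem_left _ hfI) (I.mul_mem_left _ hgI)
    have hρ : aeval v1 (p - (iota a * f + iota b * g)) = 0 := by
      rw [map_sub, map_add, map_mul, map_mul, aeval_iota v1 h10 h11, aeval_iota v1 h10 h11, hab,
        sub_self]
    have hmemJ := sub_mem v1 h10 h11 (p - (iota a * f + iota b * g))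
    rw [hρ, map_zero, sub_zero, h12, map_one] at hmemJ
    obtain ⟨q, hq⟩ := Ideal.mem_span_singleton'.mp hmemJ
    exact core I hhom hsat d p hp (iota a * f + iota b * g) q hi0I (by linear_combination -hq)
  have hkerψ : ∀ d, LinearMap.ker (psi It v1 d) =
      Submodule.comap (homogeneousSubmodule (Fin 3) k d).subtype (I.restrictScalars k) := by
    intro d
    ext p
    rw [LinearMap.mem_ker, psi_apply, Ideal.Quotient.eq_zero_iff_mem, Submodule.mem_comap]
    constructor
    · intro h
      exact hIρ d p.1 (BezoutA.homog p) h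
    · intro h
      exact hρI p.1 h
  have hfr : ∀ t, Module.finrank k (LinearMap.range (psi It v1 (n + m + t))) = n * m := by
    intro t
    rw [← (psi It v1 (n + m + t)).quotKerEquivRange.finrank_eq]
    have h3 := BezoutA.main n m t f g hf hg hg0 hfg
    rw [← hI, ← hkerψ (n + m + t)] at h3
    exact h3
  have hmono : ∀ d, LinearMap.range (psi It v1 d) ≤ LinearMap.range (psi It v1 (d + 1)) := by
    intro d
    rintro _ ⟨p, rfl⟩
    refine ⟨⟨p.1 * X 2, (BezoutA.homog p).mul (isHomogeneous_X _ _)⟩, ?_⟩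
    rw [psi_apply, psi_apply]
    show Ideal.Quotient.mk It (aeval v1 (p.1 * X 2)) = _
    rw [map_mul, aeval_X, h12, mul_one]
  have hconst : ∀ t, LinearMap.range (psi It v1 (n + m + t)) =
      LinearMap.range (psi It v1 (n + m)) := by
    intro t
    induction t with
    | zero => rfl
    | succ t ih =>
      rw [← ih]
      symm
      apply Submodule.eq_of_le_of_finrank_eq (hmono (n + m + t))
      rw [hfr t]
      exact (hfr (t + 1)).symm
  have hmonotone : Monotone (fun d => LinearMap.range (psi It v1 d)) :=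
    monotone_nat_of_le_succ hmono
  have hall : ∀ j, LinearMap.range (psi It v1 j) ≤ LinearMap.range (psi It v1 (n + m)) := by
    intro j
    rw [← hconst j]
    exact hmonotone (by omega : j ≤ n + m + j)
  have htop : LinearMap.range (psi It v1 (n + m)) = ⊤ := by
    rw [eq_top_iff]
    intro x _
    obtain ⟨y, rfl⟩ := Ideal.Quotient.mk_surjective x
    have hsum := sum_homogeneousComponent (iota y)
    have h1 : ∑ j ∈ Finset.range ((iota y).totalDegree + 1),
        psi It v1 j ⟨homogeneousComponent j (iota y), homogeneousComponent_isHomogeneous _ _⟩ =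
        Ideal.Quotient.mk It (aeval v1 (∑ j ∈ Finset.range ((iota y).totalDegree + 1),
          homogeneousComponent j (iota y))) := by
      rw [map_sum, map_sum]
      rfl
    rw [hsum, aeval_iota v1 h10 h11] at h1
    rw [← h1]
    exact Submodule.sum_mem _ (fun j _ => hall j (LinearMap.mem_range_self _ _))
  have hfin : Module.finrank k (MvPolynomial (Fin 2) k ⧸ It) =
      Module.finrank k (LinearMap.range (psi It v1 (n + m))) := by
    rw [htop, finrank_top]
  rw [hfin]
  exact hfr 0

theorem main (n m : ℕ) (f g : MvPolynomial (Fin 3) k) (hf : f.IsHomogeneous n)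
    (hg : g.IsHomogeneous m) (hn : 0 < n) (hg0 : g ≠ 0) (hfg : IsRelPrime f g)
    (v0 v1 : Fin 3 → MvPolynomial (Fin 2) k)
    (h00 : v0 0 = X 0) (h01 : v0 1 = X 1) (h02 : v0 2 = 0)
    (h10 : v1 0 = X 0) (h11 : v1 1 = X 1) (h12 : v1 2 = 1)
    (hT : IsRelPrime (aeval v0 f) (aeval v0 g)) :
    Module.finrank k (MvPolynomial (Fin 2) k ⧸
      Ideal.span ({aeval v1 f, aeval v1 g} : Set (MvPolynomial (Fin 2) k))) = n * m :=
  main' n m f g hf hg hn hg0 hfg v0 v1 h00 h01 h02 h10 h11 h12 hT _ rfl _ rfl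

end Groth.Agent.Helper25.BezoutB
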