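import Mathlib
import Groth.Agent.Lib.Helper27.CayleyB
set_option autoImplicit false
set_option linter.unusedSectionVars false
set_option linter.unusedVariables false
universe u
open MvPolynomial Module
open Groth.Agent.Helper27.CB

/-!
Cayley–Bacharach sets of at most `3n+1` points in `ℙ³`: they are coplanar or lie on two skew lines.
-/

namespace Groth.Agent.Helper25.CB3Skew

variable {k : Type u} [Field k]

abbrev P (k : Type u) [Field k] := Projectivization k (V k)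

lemma card_add_le {α : Type*} (Z A B : Finset α) (hA : A ⊆ Z) (hB : B ⊆ Z)
    (hd : ∀ z ∈ A, z ∉ B) : A.card + B.card ≤ Z.card := by
  classical
  rw [← Finset.card_union_of_disjoint (Finset.disjoint_left.2 hd)]
  exact Finset.card_le_card (Finset.union_subset hA hB)

lemma card_split {α : Type*} (Z A B : Finset α) (p : α → Prop)
    (hA : ∀ z, z ∈ A ↔ z ∈ Z ∧ p z) (hB : ∀ z, z ∈ B ↔ z ∈ Z ∧ ¬ p z) :
    A.card + B.card = Z.card := by
  classical
  have hd : Disjoint A B :=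
    Finset.disjoint_left.2 (fun z ha hb => ((hB z).1 hb).2 ((hA z).1 ha).2)
  have hu : A ∪ B = Z := by
    ext z
    rw [Finset.mem_union, hA, hB]
    constructor
    · rintro (h | h) <;> exact h.1
    · intro h
      by_cases hp : p z
      · exact Or.inl ⟨h, hp⟩
      · exact Or.inr ⟨h, hp⟩
  rw [← Finset.card_union_of_disjoint hd, hu]

/-- instance-free version of the residual lemma -/
lemma residual' {Z Z' : Finset (P k)} {n : ℕ} (h : CBp Z (n + 1)) (φ : Dual k (V k))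
    (hZ' : ∀ z, z ∈ Z' ↔ z ∈ Z ∧ φ z.rep ≠ 0) : CBp Z' n := by
  intro z hz p hp hvan
  have hz' := (hZ' z).1 hz
  have hq : (p * lin φ).IsHomogeneous (n + 1) := hp.mul (lin_homog φ)
  have := h z hz'.1 (p * lin φ) hq (by
    intro z' hz'' hne
    rw [map_mul, eval_lin]
    by_cases h0 : φ z'.rep = 0
    · rw [h0, mul_zero]
    · rw [hvan z' ((hZ' z').2 ⟨hz'', h0⟩) hne, zero_mul])
  rw [map_mul, eval_lin] at this
  rcases mul_eq_zero.1 this with h1 | h1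
  · exact h1
  · exact absurd h1 hz'.2

lemma exists_dual_ne_zero : ∃ φ : Dual k (V k), φ ≠ 0 := by
  obtain ⟨φ, hφ, -⟩ := exists_sep (⊥ : Submodule k (V k)) (x := (Pi.single 0 1 : V k)) (by
    rw [Submodule.mem_bot]
    intro h0
    have := congrFun h0 0
    simp at this)
  exact ⟨φ, fun h0 => hφ (by rw [h0]; rfl)⟩

lemma plane_of_finrank_le (W : Submodule k (V k)) (hW : finrank k W ≤ 3) :
    ∃ φ : Dual k (V k), φ ≠ 0 ∧ ∀ w ∈ W, φ w = 0 := by
  have hne : ∃ x, x ∉ W := by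
    by_contra hall
    push Not at hall
    have : W = ⊤ := Submodule.eq_top_iff'.2 hall
    rw [this, finrank_top, Module.finrank_fin_fun k] at hW
    omega
  obtain ⟨x, hx⟩ := hne
  obtain ⟨φ, hφ, hφ0⟩ := exists_sep W hx
  exact ⟨φ, fun h0 => hφ (by rw [h0]; rfl), hφ0⟩

lemma finrank_span_singleton_le' (x : V k) : finrank k ↥(Submodule.span k {x}) ≤ 1 := by
  by_cases hx : x = 0
  · rw [hx, Submodule.span_zero_singleton, finrank_bot]
    omega
  · rw [finrank_span_singleton hx]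

lemma plane_line_point {W : Submodule k (V k)} (hW : finrank k W = 2) (x : V k) :
    ∃ φ : Dual k (V k), φ ≠ 0 ∧ (∀ w ∈ W, φ w = 0) ∧ φ x = 0 := by
  have h1 : finrank k ↥(W ⊔ Submodule.span k {x}) ≤ 3 := by
    have := Submodule.finrank_add_le_finrank_add_finrank W (Submodule.span k {x})
    have h2 := finrank_span_singleton_le' x
    omega
  obtain ⟨φ, hφ, hφ0⟩ := plane_of_finrank_le _ h1
  exact ⟨φ, hφ, fun w hw => hφ0 _ (Submodule.mem_sup_left hw),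
    hφ0 _ (Submodule.mem_sup_right (Submodule.mem_span_singleton_self x))⟩

lemma plane_three (a b c : V k) :
    ∃ φ : Dual k (V k), φ ≠ 0 ∧ φ a = 0 ∧ φ b = 0 ∧ φ c = 0 := by
  have h1 : finrank k ↥(Submodule.span k {a} ⊔ Submodule.span k {b} ⊔ Submodule.span k {c}) ≤ 3 := by
    have hab := Submodule.finrank_add_le_finrank_add_finrank
      (Submodule.span k {a}) (Submodule.span k {b})
    have habc := Submodule.finrank_add_le_finrank_add_finrank
      (Submodule.span k {a} ⊔ Submodule.span k {b}) (Submodule.span k {c})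
    have ha := finrank_span_singleton_le' a
    have hb := finrank_span_singleton_le' b
    have hc := finrank_span_singleton_le' c
    omega
  obtain ⟨φ, hφ, hφ0⟩ := plane_of_finrank_le _ h1
  refine ⟨φ, hφ, hφ0 _ ?_, hφ0 _ ?_, hφ0 _ ?_⟩
  · exact Submodule.mem_sup_left (Submodule.mem_sup_left (Submodule.mem_span_singleton_self a))
  · exact Submodule.mem_sup_left (Submodule.mem_sup_right (Submodule.mem_span_singleton_self b))
  · exact Submodule.mem_sup_right (Submodule.mem_span_singleton_self c)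

lemma plane_two_lines {W₁ W₂ : Submodule k (V k)} (h1 : finrank k W₁ = 2)
    (h2 : finrank k W₂ = 2) (hne : W₁ ⊓ W₂ ≠ ⊥) :
    ∃ φ : Dual k (V k), φ ≠ 0 ∧ (∀ w ∈ W₁, φ w = 0) ∧ ∀ w ∈ W₂, φ w = 0 := by
  have h := Submodule.finrank_sup_add_finrank_inf_eq W₁ W₂
  have h0 : finrank k ↥(W₁ ⊓ W₂) ≠ 0 := fun e => hne (Submodule.finrank_eq_zero.1 e)
  obtain ⟨φ, hφ, hφ0⟩ := plane_of_finrank_le (W₁ ⊔ W₂) (by omega)
  exact ⟨φ, hφ, fun w hw => hφ0 _ (Submodule.mem_sup_left hw),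
    fun w hw => hφ0 _ (Submodule.mem_sup_right hw)⟩

/-- the general covering lemma: a form `q` of degree `d` times at most `N - d` planes cannot
cover all of `Z` but one point. -/
lemma no_cover' {Z : Finset (P k)} {N : ℕ} (h : CBp Z N) {y : P k} (hy : y ∈ Z)
    (q : MvPolynomial (Fin 4) k) {d : ℕ} (hq : q.IsHomogeneous d) (hqy : eval y.rep q ≠ 0)
    {ι : Type*} (S : Finset ι) (ψ : ι → Dual k (V k)) (hS : d + S.card ≤ N)
    (hψy : ∀ s ∈ S, ψ s y.rep ≠ 0)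
    (hcov : ∀ z ∈ Z, z ≠ y → eval z.rep q = 0 ∨ ∃ s ∈ S, ψ s z.rep = 0) : False := by
  obtain ⟨ψ₀, hψ₀, -⟩ := exists_sep (⊥ : Submodule k (V k)) (x := y.rep)
    (by simpa using y.rep_nonzero)
  have h1 : ((lin ψ₀) ^ (N - (d + S.card))).IsHomogeneous (N - (d + S.card)) := by
    simpa using (lin_homog ψ₀).pow (N - (d + S.card))
  have h2 : (∏ s ∈ S, lin (ψ s)).IsHomogeneous S.card := by
    have := IsHomogeneous.prod S (fun s => lin (ψ s)) (fun _ => 1) (fun s _ => lin_homog (ψ s))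
    simpa using this
  have hp : (q * (lin ψ₀) ^ (N - (d + S.card)) * ∏ s ∈ S, lin (ψ s)).IsHomogeneous N := by
    have := (hq.mul h1).mul h2
    have e : d + (N - (d + S.card)) + S.card = N := by omega
    rwa [e] at this
  have hv := h y hy _ hp (by
    intro z hz hne
    rw [map_mul, map_mul]
    rcases hcov z hz hne with h0 | ⟨s, hs, hs0⟩
    · rw [h0, zero_mul, zero_mul]
    · rw [map_prod, Finset.prod_eq_zero hs (by rw [eval_lin]; exact hs0), mul_zero])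
  rw [map_mul, map_mul, map_pow, map_prod, eval_lin] at hv
  rcases mul_eq_zero.1 hv with h3 | h3
  · rcases mul_eq_zero.1 h3 with h4 | h4
    · exact hqy h4
    · exact pow_ne_zero _ hψ₀ h4
  · obtain ⟨s, hs, hs0⟩ := Finset.prod_eq_zero_iff.1 h3
    rw [eval_lin] at hs0
    exact hψy s hs hs0

lemma cover_two {Z : Finset (P k)} {N : ℕ} (h : CBp Z N) {y : P k} (hy : y ∈ Z)
    (a b : Dual k (V k)) (ha : a y.rep ≠ 0) (hb : b y.rep ≠ 0)
    (S : Finset (P k)) (hyS : y ∉ S) (hS : S.card + 2 ≤ N)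
    (hcov : ∀ z ∈ Z, z ≠ y → a z.rep = 0 ∨ b z.rep = 0 ∨ z ∈ S) : False := by
  have hex : ∀ s : P k, ∃ ψ : Dual k (V k), s ≠ y → (ψ y.rep ≠ 0 ∧ ψ s.rep = 0) := by
    intro s
    by_cases hs : s = y
    · exact ⟨0, fun h' => absurd hs h'⟩
    · obtain ⟨ψ, hψy, hψ0⟩ := exists_sep (Submodule.span k {s.rep})
        (rep_notMem_of_ne (Ne.symm hs))
      exact ⟨ψ, fun _ => ⟨hψy, hψ0 _ (Submodule.mem_span_singleton_self _)⟩⟩
  choose ψ hψ using hex
  have hq : (lin a * lin b).IsHomogeneous (1 + 1) := (lin_homog a).mul (lin_homog b)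
  refine no_cover' h hy (lin a * lin b) hq
    (by rw [map_mul, eval_lin, eval_lin]; exact mul_ne_zero ha hb) S ψ (by omega)
    (fun s hs => (hψ s (fun e => hyS (e ▸ hs))).1) ?_
  intro z hz hzy
  rcases hcov z hz hzy with h1 | h1 | h1
  · left
    rw [map_mul, eval_lin, h1, zero_mul]
  · left
    rw [map_mul, eval_lin, eval_lin, h1, mul_zero]
  · right
    exact ⟨z, h1, (hψ z hzy).2⟩

/-- On two skew lines a Cayley–Bacharach set of degree `N` cannot have exactly `N+1` points on one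
of the lines. -/
lemma skew_count {Z : Finset (P k)} {N : ℕ} (h : CBp Z N) (hN : 1 ≤ N)
    {W₁ W₂ : Submodule k (V k)} (hinf : W₁ ⊓ W₂ = ⊥)
    (hcov : ∀ z ∈ Z, z.rep ∈ W₁ ∨ z.rep ∈ W₂)
    (B : Finset (P k)) (hB : ∀ z, z ∈ B ↔ z ∈ Z ∧ z.rep ∈ W₁) (hBc : B.card = N + 1) :
    False := by
  classical
  obtain ⟨y, hyB⟩ : B.Nonempty := Finset.card_pos.1 (by omega)
  have hyZ := ((hB y).1 hyB).1
  have hyW := ((hB y).1 hyB).2
  have hSc : (B.erase y).card = N := by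
    rw [Finset.card_erase_of_mem hyB]
    omega
  obtain ⟨s₀, hs₀⟩ : (B.erase y).Nonempty := Finset.card_pos.1 (by omega)
  have hex : ∀ s : P k, ∃ ψ : Dual k (V k), s ∈ B.erase y →
      (ψ y.rep ≠ 0 ∧ ψ s.rep = 0 ∧ ∀ w ∈ W₂, ψ w = 0) := by
    intro s
    by_cases hs : s ∈ B.erase y
    · have hsy : s ≠ y := (Finset.mem_erase.1 hs).1
      have hsW : s.rep ∈ W₁ := ((hB s).1 (Finset.mem_erase.1 hs).2).2
      have hnot : y.rep ∉ W₂ ⊔ Submodule.span k {s.rep} := by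
        intro hmem
        obtain ⟨w, hw, u, hu, hwu⟩ := Submodule.mem_sup.1 hmem
        obtain ⟨c, rfl⟩ := Submodule.mem_span_singleton.1 hu
        have hw1 : w ∈ W₁ := by
          have e : w = y.rep - c • s.rep := by
            rw [← hwu]
            abel
          rw [e]
          exact W₁.sub_mem hyW (W₁.smul_mem c hsW)
        have hw0 : w = 0 := by
          have : w ∈ W₁ ⊓ W₂ := ⟨hw1, hw⟩
          rwa [hinf, Submodule.mem_bot] at this
        rw [hw0, zero_add] at hwu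
        exact rep_notMem_of_ne hsy.symm (Submodule.mem_span_singleton.2 ⟨c, hwu⟩)
      obtain ⟨ψ, hψy, hψ0⟩ := exists_sep _ hnot
      exact ⟨ψ, fun _ => ⟨hψy,
        hψ0 _ (Submodule.mem_sup_right (Submodule.mem_span_singleton_self _)),
        fun w hw => hψ0 _ (Submodule.mem_sup_left hw)⟩⟩
    · exact ⟨0, fun h' => absurd h' hs⟩
  choose ψ hψ using hex
  refine no_cover' h hyZ 1 (isHomogeneous_one _ _) (by rw [map_one]; exact one_ne_zero)
    (B.erase y) ψ (by omega) (fun s hs => (hψ s hs).1) ?_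
  intro z hz hzy
  right
  rcases hcov z hz with h1 | h2
  · have hmem : z ∈ B.erase y := Finset.mem_erase.2 ⟨hzy, (hB z).2 ⟨hz, h1⟩⟩
    exact ⟨z, hmem, (hψ z hmem).2.1⟩
  · exact ⟨s₀, hs₀, (hψ s₀ hs₀).2.2 _ h2⟩

/-- coplanarity, expressed through a nonzero functional -/
abbrev Cop (Z : Finset (P k)) : Prop :=
  ∃ φ : Dual k (V k), φ ≠ 0 ∧ ∀ z ∈ Z, φ z.rep = 0

abbrev Concl (Z : Finset (P k)) (n : ℕ) : Prop :=
  Cop Z ∨ ∃ W₁ W₂ : Submodule k (V k), finrank k W₁ = 2 ∧ finrank k W₂ = 2 ∧ W₁ ⊓ W₂ = ⊥ ∧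
    (∀ z ∈ Z, z.rep ∈ W₁ ∨ z.rep ∈ W₂) ∧
    (∃ A : Finset (P k), A ⊆ Z ∧ (∀ z ∈ A, z.rep ∈ W₁) ∧ n + 1 ≤ A.card) ∧
    (∃ A : Finset (P k), A ⊆ Z ∧ (∀ z ∈ A, z.rep ∈ W₂) ∧ n + 1 ≤ A.card) ∧
    2 * n + 3 ≤ Z.card

lemma nonempty_of_not_cop {Z : Finset (P k)} (h : ¬ Cop Z) : Z.Nonempty := by
  rw [Finset.nonempty_iff_ne_empty]
  intro hemp
  apply h
  obtain ⟨φ, hφ⟩ := exists_dual_ne_zero (k := k)
  exact ⟨φ, hφ, fun z hz => by rw [hemp] at hz; exact absurd hz (Finset.notMem_empty z)⟩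

lemma exists_min_plane (Z : Finset (P k)) : ∃ φ : Dual k (V k), φ ≠ 0 ∧
    ∀ Z' : Finset (P k), (∀ z, z ∈ Z' ↔ z ∈ Z ∧ φ z.rep ≠ 0) →
    ∀ φ' : Dual k (V k), φ' ≠ 0 → ∀ A : Finset (P k), A ⊆ Z → (∀ z ∈ A, φ' z.rep = 0) →
      Z'.card + A.card ≤ Z.card := by
  classical
  obtain ⟨f, hf⟩ : ∃ f : Dual k (V k) → ℕ,
      ∀ φ, f φ = (Z.filter (fun z => φ z.rep ≠ 0)).card := ⟨_, fun _ => rfl⟩
  obtain ⟨φ₁, hφ₁⟩ := exists_dual_ne_zero (k := k)
  have hne : ({φ : Dual k (V k) | φ ≠ 0}).Nonempty := ⟨φ₁, hφ₁⟩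
  obtain ⟨φ, hφ0, hmin⟩ : ∃ φ : Dual k (V k), φ ≠ 0 ∧ ∀ φ', φ' ≠ 0 → f φ ≤ f φ' :=
    ⟨Function.argminOn f _ hne, Function.argminOn_mem f _ hne,
      fun φ' h' => Function.argminOn_le f _ h'⟩
  refine ⟨φ, hφ0, ?_⟩
  intro Z' hZ' φ' hφ' A hA hvan
  have h1 := hmin φ' hφ'
  rw [hf, hf] at h1
  have h2 : Z' = Z.filter (fun z => φ z.rep ≠ 0) := by
    ext z
    rw [hZ', Finset.mem_filter]
  have h3 := card_add_le Z (Z.filter (fun z => φ' z.rep ≠ 0)) A (Finset.filter_subset _ _) hA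
    (fun z hz hzA => (Finset.mem_filter.1 hz).2 (hvan z hzA))
  rw [h2]
  omega

theorem step [Infinite k] (n : ℕ)
    (ih : ∀ Z : Finset (P k), CBp Z n → Z.card ≤ 3 * n + 1 → Concl Z n)
    (Z : Finset (P k)) (h : CBp Z (n + 1)) (hcard : Z.card ≤ 3 * (n + 1) + 1) :
    Concl Z (n + 1) := by
  classical
  by_cases hcop : Cop Z
  · exact Or.inl hcop
  refine Or.inr ?_
  have hne : Z.Nonempty := nonempty_of_not_cop hcop
  have hcardge : n + 1 + 2 ≤ Z.card := card_ge h hne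
  obtain ⟨φ, hφ0, hmin⟩ := exists_min_plane Z
  obtain ⟨Z', hZ'⟩ : ∃ Z' : Finset (P k), ∀ z, z ∈ Z' ↔ z ∈ Z ∧ φ z.rep ≠ 0 :=
    ⟨Z.filter (fun z => φ z.rep ≠ 0), fun z => Finset.mem_filter⟩
  have hminA := hmin Z' hZ'
  have hZ'sub : Z' ⊆ Z := fun z hz => ((hZ' z).1 hz).1
  have hCB' : CBp Z' n := residual' h φ hZ'
  have hZ'ne : Z'.Nonempty := by
    rw [Finset.nonempty_iff_ne_empty]
    intro hemp
    apply hcop
    refine ⟨φ, hφ0, fun z hz => ?_⟩
    by_contra hz0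
    have := (hZ' z).2 ⟨hz, hz0⟩
    rw [hemp] at this
    exact Finset.notMem_empty z this
  have hZ'ge : n + 2 ≤ Z'.card := card_ge hCB' hZ'ne
  have hm3 : Z'.card + 3 ≤ Z.card := by
    obtain ⟨a, b, c, ha, hb, hc, hab, hac, hbc⟩ :=
      Finset.two_lt_card_iff.1 (by omega : 2 < Z.card)
    obtain ⟨φ', hφ', h1, h2, h3⟩ := plane_three a.rep b.rep c.rep
    have hsub : ({a, b, c} : Finset (P k)) ⊆ Z := by
      intro z hz
      simp only [Finset.mem_insert, Finset.mem_singleton] at hz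
      rcases hz with rfl | rfl | rfl <;> assumption
    have hvan : ∀ z ∈ ({a, b, c} : Finset (P k)), φ' z.rep = 0 := by
      intro z hz
      simp only [Finset.mem_insert, Finset.mem_singleton] at hz
      rcases hz with rfl | rfl | rfl <;> assumption
    have := hminA φ' hφ' _ hsub hvan
    have hc3 : ({a, b, c} : Finset (P k)).card = 3 :=
      Finset.card_eq_three.2 ⟨a, b, c, hab, hac, hbc, rfl⟩
    omega
  rcases Nat.lt_or_ge (2 * n + 1) Z'.card with hB | hA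
  · -- the residual set is large: contradiction with the choice of the plane
    exfalso
    rcases ih Z' hCB' (by omega) with ⟨φ', hφ', hvan⟩ |
      ⟨W₁, W₂, hW₁, hW₂, hinf, hcov, ⟨A₁, hA₁s, hA₁, hA₁c⟩, ⟨A₂, hA₂s, hA₂, hA₂c⟩, hc23⟩
    · have := hminA φ' hφ' Z' hZ'sub hvan
      omega
    · obtain ⟨b, hbA⟩ : A₂.Nonempty := Finset.card_pos.1 (by omega)
      have hbW₂ := hA₂ b hbA
      have hbnot : b ∉ A₁ := by
        intro hb1
        have : b.rep ∈ W₁ ⊓ W₂ := ⟨hA₁ b hb1, hbW₂⟩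
        rw [hinf, Submodule.mem_bot] at this
        exact b.rep_nonzero this
      obtain ⟨φ', hφ', hφ'W, hφ'b⟩ := plane_line_point hW₁ b.rep
      have hsub : insert b A₁ ⊆ Z := by
        intro z hz
        rcases Finset.mem_insert.1 hz with rfl | hz
        · exact hZ'sub (hA₂s hbA)
        · exact hZ'sub (hA₁s hz)
      have hvan : ∀ z ∈ insert b A₁, φ' z.rep = 0 := by
        intro z hz
        rcases Finset.mem_insert.1 hz with rfl | hz
        · exact hφ'b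
        · exact hφ'W _ (hA₁ z hz)
      have := hminA φ' hφ' _ hsub hvan
      rw [Finset.card_insert_of_notMem hbnot] at this
      omega
  · -- the residual set is small, hence collinear
    obtain ⟨W', hW', hZ'W'⟩ := collinear hCB' hA
    obtain ⟨Y, hY⟩ : ∃ Y : Finset (P k), ∀ z, z ∈ Y ↔ z ∈ Z ∧ φ z.rep = 0 :=
      ⟨Z.filter (fun z => φ z.rep = 0), fun z => Finset.mem_filter⟩
    have hYZ' : Y.card + Z'.card = Z.card :=
      card_split Z Y Z' (fun z => φ z.rep = 0) hY hZ'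
    have hYsub : Y ⊆ Z := fun z hz => ((hY z).1 hz).1
    have hy₀ : ∃ y₀ ∈ Y, y₀.rep ∉ W' := by
      by_contra hall
      push Not at hall
      apply hcop
      obtain ⟨ψ, hψ, hψ0⟩ := plane_of_finrank_le W' (by omega)
      refine ⟨ψ, hψ, fun z hz => hψ0 _ ?_⟩
      by_cases hz0 : φ z.rep = 0
      · exact hall z ((hY z).2 ⟨hz, hz0⟩)
      · exact hZ'W' z ((hZ' z).2 ⟨hz, hz0⟩)
    obtain ⟨y₀, hy₀Y, hy₀W⟩ := hy₀
    obtain ⟨ψ, hψ, hψW, hψy₀⟩ := plane_line_point hW' y₀.rep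
    obtain ⟨Y₀, hY₀⟩ : ∃ Y₀ : Finset (P k), ∀ z, z ∈ Y₀ ↔ z ∈ Z ∧ ψ z.rep ≠ 0 :=
      ⟨Z.filter (fun z => ψ z.rep ≠ 0), fun z => Finset.mem_filter⟩
    have hCB₀ : CBp Y₀ n := residual' h ψ hY₀
    have hY₀Y : Y₀ ⊆ Y := by
      intro z hz
      have hz' := (hY₀ z).1 hz
      refine (hY z).2 ⟨hz'.1, ?_⟩
      by_contra hz0
      exact hz'.2 (hψW _ (hZ'W' z ((hZ' z).2 ⟨hz'.1, hz0⟩)))
    have hy₀not : y₀ ∉ Y₀ := fun hmem => ((hY₀ y₀).1 hmem).2 hψy₀
    have hY₀c : Y₀.card + 1 ≤ Y.card := by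
      have := card_add_le Y Y₀ {y₀} hY₀Y (Finset.singleton_subset_iff.2 hy₀Y)
        (fun z hz hz1 => by
          rw [Finset.mem_singleton] at hz1
          subst hz1
          exact hy₀not hz)
      rwa [Finset.card_singleton] at this
    have hY₀ne : Y₀.Nonempty := by
      rw [Finset.nonempty_iff_ne_empty]
      intro hemp
      apply hcop
      refine ⟨ψ, hψ, fun z hz => ?_⟩
      by_contra hz0
      have := (hY₀ z).2 ⟨hz, hz0⟩
      rw [hemp] at this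
      exact Finset.notMem_empty z this
    have hY₀ge : n + 2 ≤ Y₀.card := card_ge hCB₀ hY₀ne
    obtain ⟨Wμ, hWμ, hY₀Wμ⟩ := collinear hCB₀ (by omega)
    obtain ⟨Y₁, hY₁⟩ : ∃ Y₁ : Finset (P k), ∀ z, z ∈ Y₁ ↔ z ∈ Y ∧ z.rep ∉ Wμ :=
      ⟨Y.filter (fun z => z.rep ∉ Wμ), fun z => Finset.mem_filter⟩
    have hY₁c : Y₀.card + Y₁.card ≤ Y.card :=
      card_add_le Y Y₀ Y₁ hY₀Y (fun z hz => ((hY₁ z).1 hz).1)
        (fun z hz hz1 => ((hY₁ z).1 hz1).2 (hY₀Wμ z hz))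
    have hclaim : ∀ y ∈ Y₁, y.rep ∈ W' := by
      intro y hy
      by_contra hyW'
      have hy' := (hY₁ y).1 hy
      obtain ⟨a, hay, ha0⟩ := exists_sep Wμ hy'.2
      obtain ⟨b, hby, hb0⟩ := exists_sep W' hyW'
      refine cover_two h (hYsub hy'.1) a b hay hby (Y₁.erase y) (Finset.notMem_erase y Y₁) ?_ ?_
      · have h1 := Finset.card_erase_of_mem hy
        have h2 : 0 < Y₁.card := Finset.card_pos.2 ⟨y, hy⟩
        omega
      · intro z hz hzy
        by_cases hz0 : φ z.rep = 0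
        · by_cases hzμ : z.rep ∈ Wμ
          · exact Or.inl (ha0 _ hzμ)
          · exact Or.inr (Or.inr (Finset.mem_erase.2
              ⟨hzy, (hY₁ z).2 ⟨(hY z).2 ⟨hz, hz0⟩, hzμ⟩⟩))
        · exact Or.inr (Or.inl (hb0 _ (hZ'W' z ((hZ' z).2 ⟨hz, hz0⟩))))
    have hcovZ : ∀ z ∈ Z, z.rep ∈ W' ∨ z.rep ∈ Wμ := by
      intro z hz
      by_cases hz0 : φ z.rep = 0
      · by_cases hzμ : z.rep ∈ Wμ
        · exact Or.inr hzμ
        · exact Or.inl (hclaim z ((hY₁ z).2 ⟨(hY z).2 ⟨hz, hz0⟩, hzμ⟩))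
      · exact Or.inl (hZ'W' z ((hZ' z).2 ⟨hz, hz0⟩))
    have hinf : W' ⊓ Wμ = ⊥ := by
      by_contra hne'
      apply hcop
      obtain ⟨χ, hχ, hχ1, hχ2⟩ := plane_two_lines hW' hWμ hne'
      refine ⟨χ, hχ, fun z hz => ?_⟩
      rcases hcovZ z hz with h1 | h1
      · exact hχ1 _ h1
      · exact hχ2 _ h1
    obtain ⟨B₁, hB₁⟩ : ∃ B₁ : Finset (P k), ∀ z, z ∈ B₁ ↔ z ∈ Z ∧ z.rep ∈ W' :=
      ⟨Z.filter (fun z => z.rep ∈ W'), fun z => Finset.mem_filter⟩
    obtain ⟨B₂, hB₂⟩ : ∃ B₂ : Finset (P k), ∀ z, z ∈ B₂ ↔ z ∈ Z ∧ z.rep ∈ Wμ :=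
      ⟨Z.filter (fun z => z.rep ∈ Wμ), fun z => Finset.mem_filter⟩
    have h1 : Z'.card ≤ B₁.card :=
      Finset.card_le_card (fun z hz => (hB₁ z).2 ⟨hZ'sub hz, hZ'W' z hz⟩)
    have h2 : Y₀.card ≤ B₂.card :=
      Finset.card_le_card (fun z hz => (hB₂ z).2 ⟨hYsub (hY₀Y hz), hY₀Wμ z hz⟩)
    have h3 : B₁.card ≠ n + 1 + 1 := fun e =>
      skew_count h (by omega) hinf hcovZ B₁ hB₁ e
    have h4 : B₂.card ≠ n + 1 + 1 := fun e =>
      skew_count h (by omega) (by rw [inf_comm]; exact hinf)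
        (fun z hz => (hcovZ z hz).symm) B₂ hB₂ e
    have h5 : B₁.card + B₂.card ≤ Z.card :=
      card_add_le Z B₁ B₂ (fun z hz => ((hB₁ z).1 hz).1) (fun z hz => ((hB₂ z).1 hz).1)
        (fun z hz hz2 => by
          have : z.rep ∈ W' ⊓ Wμ := ⟨((hB₁ z).1 hz).2, ((hB₂ z).1 hz2).2⟩
          rw [hinf, Submodule.mem_bot] at this
          exact z.rep_nonzero this)
    exact ⟨W', Wμ, hW', hWμ, hinf, hcovZ, ⟨Z', hZ'sub, hZ'W', by omega⟩,
      ⟨Y₀, fun z hz => hYsub (hY₀Y hz), hY₀Wμ, by omega⟩, by omega⟩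

theorem allP [Infinite k] : ∀ (n : ℕ) (Z : Finset (P k)), CBp Z n → Z.card ≤ 3 * n + 1 →
    Concl Z n := by
  intro n
  induction n with
  | zero =>
    intro Z h hcard
    refine Or.inl ?_
    have hemp : Z = ∅ := by
      by_contra hne
      have := card_ge h (Finset.nonempty_iff_ne_empty.2 hne)
      omega
    obtain ⟨φ, hφ⟩ := exists_dual_ne_zero (k := k)
    exact ⟨φ, hφ, fun z hz => by rw [hemp] at hz; exact absurd hz (Finset.notMem_empty z)⟩
  | succ n ih => exact fun Z h hcard => step n ih Z h hcard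

theorem main18042 (k : Type u) [Field k] [IsAlgClosed k] [CharZero k]
    (Z : Finset (Projectivization k (Fin 4 → k))) (n : ℕ) (hn : 1 ≤ n)
    (hCB : (∀ z ∈ Z, ∀ p : MvPolynomial (Fin 4) k, p.IsHomogeneous n →
      (∀ z' ∈ Z, z' ≠ z → MvPolynomial.eval z'.rep p = 0) → MvPolynomial.eval z.rep p = 0))
    (hcard : Z.card ≤ 3 * n + 1) :
    (∃ W : Submodule k (Fin 4 → k), Module.finrank k ↥W = 3 ∧ ∀ z ∈ Z, z.submodule ≤ W) ∨
      (∃ W₁ W₂ : Submodule k (Fin 4 → k), Module.finrank k ↥W₁ = 2 ∧ Module.finrank k ↥W₂ = 2 ∧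
        W₁ ⊓ W₂ = ⊥ ∧
        (∀ z ∈ Z, z.submodule ≤ W₁ ∨ z.submodule ≤ W₂) ∧
        n + 1 ≤ Set.ncard {z : Projectivization k (Fin 4 → k) | z ∈ Z ∧ z.submodule ≤ W₁} ∧
        n + 1 ≤ Set.ncard {z : Projectivization k (Fin 4 → k) | z ∈ Z ∧ z.submodule ≤ W₂} ∧
        2 * n + 3 ≤ Z.card) := by
  have key : ∀ (W : Submodule k (Fin 4 → k)) (z : Projectivization k (Fin 4 → k)),
      z.submodule ≤ W ↔ z.rep ∈ W := by
    intro W z
    rw [Projectivization.submodule_eq, Submodule.span_singleton_le_iff_mem]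
  rcases allP (k := k) n Z hCB hcard with ⟨φ, hφ, hvan⟩ |
    ⟨W₁, W₂, hW₁, hW₂, hinf, hcov, ⟨A₁, hA₁s, hA₁, hA₁c⟩, ⟨A₂, hA₂s, hA₂, hA₂c⟩, hc⟩
  · left
    refine ⟨LinearMap.ker φ, ?_, fun z hz => ?_⟩
    · have := Module.Dual.finrank_ker_add_one_of_ne_zero hφ
      rw [Module.finrank_fin_fun k] at this
      have h3 : finrank k ↥(LinearMap.ker φ) + 1 = 3 + 1 := this
      exact Nat.add_right_cancel h3
    · rw [key, LinearMap.mem_ker]
      exact hvan z hz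
  · right
    have hnc : ∀ (W : Submodule k (Fin 4 → k)) (A : Finset (Projectivization k (Fin 4 → k))),
        A ⊆ Z → (∀ z ∈ A, z.rep ∈ W) →
        A.card ≤ Set.ncard {z : Projectivization k (Fin 4 → k) | z ∈ Z ∧ z.submodule ≤ W} := by
      intro W A hAs hA
      have hsub : (A : Set (Projectivization k (Fin 4 → k))) ⊆
          {z | z ∈ Z ∧ z.submodule ≤ W} :=
        fun z hz => ⟨hAs (Finset.mem_coe.1 hz), (key W z).2 (hA z (Finset.mem_coe.1 hz))⟩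
      have hfin : ({z | z ∈ Z ∧ z.submodule ≤ W} :
          Set (Projectivization k (Fin 4 → k))).Finite :=
        Z.finite_toSet.subset (fun z hz => hz.1)
      rw [← Set.ncard_coe_finset A]
      exact Set.ncard_le_ncard hsub hfin
    refine ⟨W₁, W₂, hW₁, hW₂, hinf, fun z hz => ?_, hA₁c.trans (hnc W₁ A₁ hA₁s hA₁),
      hA₂c.trans (hnc W₂ A₂ hA₂s hA₂), hc⟩
    rw [key, key]
    exact hcov z hz

end Groth.Agent.Helper25.CB3Skew
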