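import Mathlib
import Groth.Prelude.Def_HopfRep
import Groth.Prelude.Def_SGA3b
import Groth.Agent.Lib.Helper25.PIDescentU
import Groth.Agent.Lib.Helper6.MT2

/-!
# Helper25: groups of multiplicative type and of finite type over a field are isotrivial
(split by a finite separable extension).
-/

set_option autoImplicit false

namespace Groth.Agent.Helper25.IsoField

open TensorProduct
open Groth.Agent.Helper25.PIDescent Groth.Agent.Helper25.PIDescentU

universe u

section Desc

variable {F : Type u} [Field F] {K : Type u} [Field K] [Algebra F K]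
  {A' : Type u} [CommRing A'] [HopfAlgebra F A']

open Groth.Agent.Helper28.IntegralDescent in
/-- descent of the group-like property along a field extension -/
theorem isGroupLikeElem_of_one_tmul {x : A'} (hx : IsGroupLikeElem K ((1 : K) ⊗ₜ[F] x)) :
    IsGroupLikeElem F x := by
  refine ⟨?_, ?_⟩
  · apply (algebraMap F K).injective
    rw [map_one]
    have h1 := hx.counit_eq_one
    rw [TensorProduct.counit_tmul] at h1
    rw [Algebra.algebraMap_eq_smul_one]
    exact h1
  · apply Groth.Agent.Helper22.MultType.Ψ_injective (k := F) (K := K)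
    rw [← comul_one_tmul, Ψ_tmul]
    exact hx.comul_eq_tmul_self

end Desc

section Fin

variable {k : Type u} [Field k] {K : Type u} [Field K] [Algebra k K]
  {A : Type u} [CommRing A] [HopfAlgebra k A]

/-- elements defined over `E` -/
def RE (E : IntermediateField k K) : Submodule k (K ⊗[k] A) :=
  Submodule.span k {z | ∃ c ∈ E, ∃ a : A, z = c ⊗ₜ[k] a}

theorem RE_mono {E E' : IntermediateField k K} (h : E ≤ E') : RE (A := A) E ≤ RE E' :=
  Submodule.span_mono (fun _ ⟨c, hc, a, hz⟩ => ⟨c, h hc, a, hz⟩)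

/-- the `E`-span of the group-likes defined over `E`, inside `K ⊗ A` -/
def VE (E : IntermediateField k K) : Submodule k (K ⊗[k] A) :=
  Submodule.span k
    {z | ∃ c ∈ E, ∃ g : K ⊗[k] A, IsGroupLikeElem K g ∧ g ∈ RE (A := A) E ∧ z = c • g}

theorem VE_mono {E E' : IntermediateField k K} (h : E ≤ E') : VE (A := A) E ≤ VE E' :=
  Submodule.span_mono
    (fun _ ⟨c, hc, g, hg, hgR, hz⟩ => ⟨c, h hc, g, hg, RE_mono h hgR, hz⟩)

theorem exists_RE [Algebra.IsAlgebraic k K] (z : K ⊗[k] A) :
    ∃ E : IntermediateField k K, FiniteDimensional k E ∧ z ∈ RE (A := A) E := by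
  induction z using TensorProduct.induction_on with
  | zero => exact ⟨⊥, inferInstance, Submodule.zero_mem _⟩
  | tmul c a =>
    refine ⟨IntermediateField.adjoin k {c},
      IntermediateField.adjoin.finiteDimensional (Algebra.IsIntegral.isIntegral c), ?_⟩
    exact Submodule.subset_span ⟨c, IntermediateField.mem_adjoin_simple_self k c, a, rfl⟩
  | add x y hx hy =>
    obtain ⟨E₁, h1, hx⟩ := hx
    obtain ⟨E₂, h2, hy⟩ := hy
    have := h1
    have := h2
    exact ⟨E₁ ⊔ E₂, inferInstance,
      Submodule.add_mem _ (RE_mono le_sup_left hx) (RE_mono le_sup_right hy)⟩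

theorem VE_smul {E E' : IntermediateField k K} {c : K} {z : K ⊗[k] A}
    (hz : z ∈ VE (A := A) E) (hEE' : E ≤ E') (hc : c ∈ E') : c • z ∈ VE (A := A) E' := by
  induction hz using Submodule.span_induction with
  | mem z hz =>
    obtain ⟨c', hc', g, hg, hgR, rfl⟩ := hz
    refine Submodule.subset_span ⟨c * c', E'.mul_mem hc (hEE' hc'), g, hg, RE_mono hEE' hgR, ?_⟩
    rw [mul_smul]
  | zero =>
    rw [smul_zero]
    exact Submodule.zero_mem _
  | add x y _ _ hx hy =>
    rw [smul_add]
    exact Submodule.add_mem _ hx hy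
  | smul r x _ hx =>
    rw [smul_comm]
    exact Submodule.smul_mem _ _ hx

theorem exists_VE [Algebra.IsAlgebraic k K] (hK : HopfRep.IsDiagonalizable K (K ⊗[k] A))
    (z : K ⊗[k] A) :
    ∃ E : IntermediateField k K, FiniteDimensional k E ∧ z ∈ VE (A := A) E := by
  have hK' : Submodule.span K {a : K ⊗[k] A | IsGroupLikeElem K a} = ⊤ := hK
  have hz : z ∈ Submodule.span K {a : K ⊗[k] A | IsGroupLikeElem K a} := by
    rw [hK']
    trivial
  induction hz using Submodule.span_induction with
  | mem g hg =>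
    obtain ⟨E, hE, hgE⟩ := exists_RE g
    exact ⟨E, hE, Submodule.subset_span ⟨1, E.one_mem, g, hg, hgE, (one_smul _ _).symm⟩⟩
  | zero => exact ⟨⊥, inferInstance, Submodule.zero_mem _⟩
  | add x y _ _ hx hy =>
    obtain ⟨E₁, h1, hx⟩ := hx
    obtain ⟨E₂, h2, hy⟩ := hy
    have := h1
    have := h2
    exact ⟨E₁ ⊔ E₂, inferInstance,
      Submodule.add_mem _ (VE_mono le_sup_left hx) (VE_mono le_sup_right hy)⟩
  | smul c x _ hx =>
    obtain ⟨E₁, h1, hx⟩ := hx
    have := h1
    have : FiniteDimensional k (IntermediateField.adjoin k {c}) :=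
      IntermediateField.adjoin.finiteDimensional (Algebra.IsIntegral.isIntegral c)
    have hc : c ∈ E₁ ⊔ IntermediateField.adjoin k {c} :=
      (le_sup_right : IntermediateField.adjoin k {c} ≤ E₁ ⊔ IntermediateField.adjoin k {c})
        (IntermediateField.mem_adjoin_simple_self k c)
    exact ⟨E₁ ⊔ IntermediateField.adjoin k {c}, inferInstance, VE_smul hx le_sup_left hc⟩

theorem exists_VE_finset [Algebra.IsAlgebraic k K]
    (hK : HopfRep.IsDiagonalizable K (K ⊗[k] A)) (s : Finset A) :
    ∃ E : IntermediateField k K, FiniteDimensional k E ∧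
      ∀ a ∈ s, (1 : K) ⊗ₜ[k] a ∈ VE (A := A) E := by
  classical
  induction s using Finset.induction_on with
  | empty => exact ⟨⊥, inferInstance, fun a ha => absurd ha (Finset.notMem_empty a)⟩
  | insert a s _ ih =>
    obtain ⟨E₁, h1, hE₁⟩ := ih
    obtain ⟨E₂, h2, hE₂⟩ := exists_VE hK ((1 : K) ⊗ₜ[k] a)
    have := h1
    have := h2
    refine ⟨E₁ ⊔ E₂, inferInstance, ?_⟩
    intro b hb
    rcases Finset.mem_insert.1 hb with rfl | hb
    · exact VE_mono le_sup_right hE₂
    · exact VE_mono le_sup_left (hE₁ b hb)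

end Fin

section Abs

variable {k : Type u} [Field k] {K : Type u} [Field K] [Algebra k K]
  {A : Type u} [CommRing A] [HopfAlgebra k A]
  (F : Type u) [Field F] [Algebra k F] [Algebra F K] [IsScalarTower k F K]

/-- the comparison map -/
noncomputable def iota : F ⊗[k] A →ₐ[k] K ⊗[k] A :=
  Algebra.TensorProduct.map (IsScalarTower.toAlgHom k F K) (AlgHom.id k A)

theorem iota_tmul (e : F) (a : A) :
    iota (K := K) F (e ⊗ₜ[k] a) = algebraMap F K e ⊗ₜ[k] a := rfl

theorem iota_eq_cancelBC (x : F ⊗[k] A) :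
    iota (K := K) F x = Groth.Agent.Helper6.MT.cancelBC k F K A ((1 : K) ⊗ₜ[F] x) :=
  (cancelBC_one_tmulU K x).symm

theorem iota_injective : Function.Injective (iota (k := k) (K := K) (A := A) F) := by
  intro x y hxy
  rw [iota_eq_cancelBC, iota_eq_cancelBC] at hxy
  have h1 := EquivLike.injective (Groth.Agent.Helper6.MT.cancelBC k F K A) hxy
  exact Groth.Agent.Helper22.MultType.one_tmul_injective (k := F) (K := K) (A := F ⊗[k] A) h1

theorem iota_smul (e : F) (x : F ⊗[k] A) :
    iota (K := K) F (e • x) = algebraMap F K e • iota (K := K) F x := by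
  induction x using TensorProduct.induction_on with
  | zero => rw [smul_zero, map_zero, smul_zero]
  | tmul e' a =>
    rw [TensorProduct.smul_tmul', iota_tmul, iota_tmul, TensorProduct.smul_tmul', smul_eq_mul,
      smul_eq_mul, map_mul]
  | add x y hx hy => rw [smul_add, map_add, hx, hy, map_add, smul_add]

theorem isGroupLikeElem_of_iota {x : F ⊗[k] A}
    (hx : IsGroupLikeElem K (iota (K := K) F x)) : IsGroupLikeElem F x := by
  apply isGroupLikeElem_of_one_tmul (K := K)
  rw [iota_eq_cancelBC] at hx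
  have h2 := hx.map (Groth.Agent.Helper6.MT.cancelBC k F K A).symm
  rwa [BialgEquiv.symm_apply_apply] at h2

/-- the image of `F` in `K` -/
noncomputable def EF : IntermediateField k K := (IsScalarTower.toAlgHom k F K).fieldRange

theorem mem_EF {c : K} (hc : c ∈ EF (k := k) (K := K) F) : ∃ e : F, algebraMap F K e = c :=
  AlgHom.mem_fieldRange.1 hc

theorem RE_le_range :
    ∀ z ∈ RE (A := A) (EF (k := k) (K := K) F), ∃ x : F ⊗[k] A, iota (K := K) F x = z := by
  intro z hz
  induction hz using Submodule.span_induction with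
  | mem z hz =>
    obtain ⟨c, hc, a, rfl⟩ := hz
    obtain ⟨e, rfl⟩ := mem_EF F hc
    exact ⟨e ⊗ₜ[k] a, rfl⟩
  | zero => exact ⟨0, map_zero _⟩
  | add x y _ _ hx hy =>
    obtain ⟨x', rfl⟩ := hx
    obtain ⟨y', rfl⟩ := hy
    exact ⟨x' + y', map_add _ _ _⟩
  | smul r x _ hx =>
    obtain ⟨x', rfl⟩ := hx
    exact ⟨r • x', map_smul _ _ _⟩

theorem VE_le : ∀ z ∈ VE (A := A) (EF (k := k) (K := K) F),
    ∃ w ∈ Submodule.span F {x : F ⊗[k] A | IsGroupLikeElem F x}, iota (K := K) F w = z := by
  intro z hz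
  induction hz using Submodule.span_induction with
  | mem z hz =>
    obtain ⟨c, hc, g, hg, hgR, rfl⟩ := hz
    obtain ⟨x, rfl⟩ := RE_le_range F g hgR
    obtain ⟨e, rfl⟩ := mem_EF F hc
    refine ⟨e • x,
      Submodule.smul_mem _ _ (Submodule.subset_span (isGroupLikeElem_of_iota F hg)), ?_⟩
    rw [iota_smul]
  | zero => exact ⟨0, Submodule.zero_mem _, map_zero _⟩
  | add x y _ _ hx hy =>
    obtain ⟨x', hx', rfl⟩ := hx
    obtain ⟨y', hy', rfl⟩ := hy
    exact ⟨x' + y', Submodule.add_mem _ hx' hy', map_add _ _ _⟩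
  | smul r x _ hx =>
    obtain ⟨x', hx', rfl⟩ := hx
    refine ⟨r • x', ?_, map_smul _ _ _⟩
    rw [← algebraMap_smul F r x']
    exact Submodule.smul_mem _ _ hx'

theorem diag_of_VE (s : Finset A) (hs : Algebra.adjoin k (s : Set A) = ⊤)
    (h : ∀ a ∈ s, (1 : K) ⊗ₜ[k] a ∈ VE (A := A) (EF (k := k) (K := K) F)) :
    HopfRep.IsDiagonalizable F (F ⊗[k] A) := by
  unfold HopfRep.IsDiagonalizable
  obtain ⟨W, hW⟩ : ∃ W : Submodule F (F ⊗[k] A),
      W = Submodule.span F {x : F ⊗[k] A | IsGroupLikeElem F x} := ⟨_, rfl⟩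
  rw [← hW]
  have h1 : (1 : F ⊗[k] A) ∈ W := by
    rw [hW]
    apply Submodule.subset_span
    show IsGroupLikeElem F (1 : F ⊗[k] A)
    exact IsGroupLikeElem.one
  have hmul : ∀ x y, x ∈ W → y ∈ W → x * y ∈ W := by
    intro x y hx hy
    rw [hW] at hx hy ⊢
    induction hx using Submodule.span_induction with
    | mem a ha =>
      induction hy using Submodule.span_induction with
      | mem b hb => exact Submodule.subset_span (ha.mul hb)
      | zero =>
        rw [mul_zero]
        exact Submodule.zero_mem _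
      | add b c _ _ hb hc =>
        rw [mul_add]
        exact Submodule.add_mem _ hb hc
      | smul r b _ hb =>
        rw [mul_smul_comm]
        exact Submodule.smul_mem _ _ hb
    | zero =>
      rw [zero_mul]
      exact Submodule.zero_mem _
    | add a b _ _ ha hb =>
      rw [add_mul]
      exact Submodule.add_mem _ ha hb
    | smul r a _ ha =>
      rw [smul_mul_assoc]
      exact Submodule.smul_mem _ _ ha
  have hgen : ∀ a ∈ s, (1 : F) ⊗ₜ[k] a ∈ W := by
    intro a ha
    obtain ⟨w, hw, hwa⟩ := VE_le F _ (h a ha)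
    have h2 : w = (1 : F) ⊗ₜ[k] a := by
      apply iota_injective (K := K) F
      rw [hwa, iota_tmul, map_one]
    rw [← h2, hW]
    exact hw
  let S : Subalgebra F (F ⊗[k] A) := Submodule.toSubalgebra W h1 hmul
  have hall : ∀ a : A, (1 : F) ⊗ₜ[k] a ∈ W := by
    intro a
    have ha : a ∈ Algebra.adjoin k (s : Set A) := by
      rw [hs]
      trivial
    have hle : Algebra.adjoin k (s : Set A) ≤
        (S.restrictScalars k).comap (Algebra.TensorProduct.includeRight : A →ₐ[k] F ⊗[k] A) := by
      apply Algebra.adjoin_le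
      intro b hb
      exact hgen b (Finset.mem_coe.1 hb)
    exact hle ha
  have key : ∀ z : F ⊗[k] A, z ∈ W := by
    intro z
    induction z using TensorProduct.induction_on with
    | zero => exact Submodule.zero_mem _
    | tmul e a =>
      have e1 : (e ⊗ₜ[k] a : F ⊗[k] A) = e • ((1 : F) ⊗ₜ[k] a) := by
        rw [TensorProduct.smul_tmul', smul_eq_mul, mul_one]
      rw [e1]
      exact Submodule.smul_mem _ _ (hall a)
    | add x y hx hy => exact Submodule.add_mem _ hx hy
  rw [eq_top_iff]
  exact fun z _ => key z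

theorem exists_abs (hF : FiniteDimensional k F) (s : Finset A)
    (hs : Algebra.adjoin k (s : Set A) = ⊤)
    (h : ∀ a ∈ s, (1 : K) ⊗ₜ[k] a ∈ VE (A := A) (EF (k := k) (K := K) F)) :
    ∃ (E₀ : Type u) (_ : Field E₀) (_ : Algebra k E₀), FiniteDimensional k E₀ ∧
      HopfRep.IsDiagonalizable E₀ (E₀ ⊗[k] A) :=
  ⟨F, inferInstance, inferInstance, hF, diag_of_VE (K := K) F s hs h⟩

end Abs

section Sep

variable {k : Type u} [Field k] {A : Type u} [CommRing A] [HopfAlgebra k A]

theorem exists_finite_diag {K : Type u} [Field K] [Algebra k K] [Algebra.IsAlgebraic k K]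
    (hft : Algebra.FiniteType k A) (hK : HopfRep.IsDiagonalizable K (K ⊗[k] A)) :
    ∃ (E₀ : Type u) (_ : Field E₀) (_ : Algebra k E₀), FiniteDimensional k E₀ ∧
      HopfRep.IsDiagonalizable E₀ (E₀ ⊗[k] A) := by
  obtain ⟨s, hs⟩ := hft.out
  obtain ⟨E, hE, h⟩ := exists_VE_finset hK s
  have hEF : EF (k := k) (K := K) ↥E = E := by
    unfold EF
    have h1 : IsScalarTower.toAlgHom k ↥E K = E.val := by
      apply AlgHom.ext
      intro c
      rfl
    rw [h1, IntermediateField.fieldRange_val]
  exact exists_abs (K := K) ↥E hE s hs (by rw [hEF]; exact h)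

theorem sep_abs {E₀ : Type u} [Field E₀] [Algebra k E₀] (F : Type u) [Field F] [Algebra k F]
    [Algebra F E₀] [IsScalarTower k F E₀] [IsPurelyInseparable F E₀]
    (hfin : Module.Finite k F) (hsep : Algebra.IsSeparable k F) (hft : Algebra.FiniteType k A)
    (hE : HopfRep.IsDiagonalizable E₀ (E₀ ⊗[k] A)) :
    ∃ (k' : Type u) (_ : Field k') (_ : Algebra k k'), Module.Finite k k' ∧
      Algebra.IsSeparable k k' ∧ SGA3b.IsDiagFT k' (k' ⊗[k] A) := by
  have h1 : HopfRep.IsDiagonalizable E₀ (E₀ ⊗[F] (F ⊗[k] A)) :=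
    Groth.Agent.Helper6.MT.span_groupLike_eq_top_of_surjective
      (Groth.Agent.Helper6.MT.cancelBC k F E₀ A).symm.toBialgHom
      (EquivLike.surjective (Groth.Agent.Helper6.MT.cancelBC k F E₀ A).symm) hE
  have hF : HopfRep.IsDiagonalizable F (F ⊗[k] A) :=
    isDiagonalizable_of_purelyInseparable (k := F) (K := E₀) E₀ h1 h1
  refine ⟨F, inferInstance, inferInstance, hfin, hsep, GroupLike F (F ⊗[k] A), inferInstance, ?_,
    ⟨Groth.Agent.Helper6.Uni.diagEquiv hF⟩⟩
  have : Algebra.FiniteType k A := hft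
  have hft' : Algebra.FiniteType F (F ⊗[k] A) := inferInstance
  have hft'' : Algebra.FiniteType F (MonoidAlgebra F (GroupLike F (F ⊗[k] A))) :=
    hft'.equiv (Groth.Agent.Helper6.Uni.diagEquiv hF).toAlgEquiv
  exact MonoidAlgebra.finiteType_iff_group_fg.1 hft''

/-- a group of multiplicative type over a field is diagonalizable over the algebraic closure -/
theorem diag_algClosure (h : SGA3b.IsMultType k A) :
    HopfRep.IsDiagonalizable (AlgebraicClosure k) (AlgebraicClosure k ⊗[k] A) := by
  obtain ⟨s, hs, hall⟩ := h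
  obtain ⟨f, hfs, hf⟩ := Groth.Agent.Helper6.MT.exists_ne_zero_of_span_eq_top s hs
  obtain ⟨R', instR', instAlg, hff, M, instM, ⟨e⟩⟩ := hall f hfs
  have hfield : IsField (Localization.Away f) := Groth.Agent.Helper6.MT.isField_away hf
  haveI : Nontrivial (Localization.Away f) := hfield.nontrivial
  haveI : Nontrivial R' :=
    (FaithfulSMul.algebraMap_injective (Localization.Away f) R').nontrivial
  obtain ⟨m, hm⟩ := Ideal.exists_maximal R'
  haveI := hm
  have hL : HopfRep.IsDiagonalizable m.ResidueField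
      (m.ResidueField ⊗[Localization.Away f] (Localization.Away f ⊗[k] A)) :=
    Groth.Agent.Helper6.MT.isDiagonalizable_of_equiv_of_surjective e (BialgHom.id _ _)
      Function.surjective_id
  letI : Algebra k m.ResidueField :=
    ((algebraMap (Localization.Away f) m.ResidueField).comp
      (algebraMap k (Localization.Away f))).toAlgebra
  haveI : IsScalarTower k (Localization.Away f) m.ResidueField :=
    IsScalarTower.of_algebraMap_eq (fun _ => rfl)
  have hL' : HopfRep.IsDiagonalizable m.ResidueField (m.ResidueField ⊗[k] A) :=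
    Groth.Agent.Helper6.MT.span_groupLike_eq_top_of_surjective
      (Groth.Agent.Helper6.MT.cancelBC k (Localization.Away f) m.ResidueField A).toBialgHom
      (Groth.Agent.Helper6.MT.cancelBC_surjective k (Localization.Away f) m.ResidueField A) hL
  haveI : Coalgebra.IsCocomm k A :=
    Groth.Agent.Helper22.MultType.isCocomm_of_isDiagonalizable hL'
  have hP : ∀ f : A, Coalgebra.comul (R := k) f = f ⊗ₜ[k] (1 : A) + (1 : A) ⊗ₜ[k] f → f = 0 :=
    fun f hf => Groth.Agent.Helper22.MultType.prim_eq_zero_of_baseChange_isDiagonalizable hL' f hf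
  apply Groth.Agent.Helper22.GLBasis.isDiagonalizable_of_span_eigen
  intro V _ _ _ hfin
  haveI := hfin
  exact Groth.Agent.Helper22.MultType.span_eigen_eq_top
    (Groth.Agent.Helper22.MultType.prim_baseChange hP) _ V rfl

/-- isotriviality over a field -/
theorem main (k : Type u) [Field k] (A : Type u) [CommRing A] [HopfAlgebra k A]
    (hft : Algebra.FiniteType k A) (h : SGA3b.IsMultType k A) :
    ∃ (k' : Type u) (_ : Field k') (_ : Algebra k k'), Module.Finite k k' ∧
      Algebra.IsSeparable k k' ∧ SGA3b.IsDiagFT k' (k' ⊗[k] A) := by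
  have hD := diag_algClosure h
  obtain ⟨E₀, iF, iA, hfin, hE⟩ := exists_finite_diag (K := AlgebraicClosure k) hft hD
  have := hfin
  exact sep_abs (E₀ := E₀) ↥(separableClosure k E₀) inferInstance inferInstance hft hE

end Sep

end Groth.Agent.Helper25.IsoField
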