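import Mathlib
import Groth.Prelude.Def_SGA3b
import Groth.Agent.Lib.Helper25.NilLift
import Groth.Agent.Lib.Helper25.EtaleNil

/-!
# Helper25: (quasi-)isotriviality of groups of multiplicative type lifts along nil ideals.
-/

set_option autoImplicit false

namespace Groth.Agent.Helper25.NilLift2

open TensorProduct SGA3b
open Groth.Agent.Helper25.Desc Groth.Agent.Helper25.PIDescent Groth.Agent.Helper25.PIDescentU
  Groth.Agent.Helper25.NilLift Groth.Agent.Helper25.EtaleNil

universe u

section GLG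

/-- a multiplicative basis of group-likes indexed by a commutative group -/
def HasGLG (T : Type u) [CommRing T] (D : Type u) [CommRing D] [Bialgebra T D] : Prop :=
  ∃ (N : Type u) (_ : CommGroup N) (β : Module.Basis N T D),
    (∀ n, IsGroupLikeElem T (β n)) ∧ β 1 = 1 ∧ ∀ n n', β (n * n') = β n * β n'

variable {T : Type u} [CommRing T] {D : Type u} [CommRing D] [HopfAlgebra T D]

theorem hasGLG_of_isDiag (h : IsDiag T D) : HasGLG T D := by
  obtain ⟨N, _, ⟨e⟩⟩ := h
  have hb : ∀ n, ((MonoidAlgebra.basis N T).map e.symm.toCoalgEquiv.toLinearEquiv) n =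
      e.symm (MonoidAlgebra.single n 1) := fun n => by
    rw [Module.Basis.map_apply, MonoidAlgebra.basis_apply]
    rfl
  refine ⟨N, inferInstance, (MonoidAlgebra.basis N T).map e.symm.toCoalgEquiv.toLinearEquiv,
    ?_, ?_, ?_⟩
  · intro n
    rw [hb]
    exact (MonoidAlgebra.isGroupLikeElem_single_one (R := T) (A := T) n).map e.symm
  · rw [hb, ← MonoidAlgebra.one_def]
    exact map_one e.symm
  · intro n n'
    rw [hb, hb, hb, ← map_mul, MonoidAlgebra.single_mul_single, one_mul]

theorem isDiag_of_hasGLG (h : HasGLG T D) : IsDiag T D := by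
  classical
  obtain ⟨N, _, β, hβ, h1, hmul⟩ := h
  let Γ : N →* GroupLike T D :=
    { toFun := fun n => ⟨β n, hβ n⟩
      map_one' := GroupLike.val_injective h1
      map_mul' := fun n n' => GroupLike.val_injective (hmul n n') }
  let φ : MonoidAlgebra T N →ₐc[T] D :=
    (MonoidAlgebra.liftGroupLikeBialgHom (R := T) (A := D)).comp
      (MonoidAlgebra.mapDomainBialgHom T Γ)
  have hφ : ∀ n, φ (MonoidAlgebra.single n 1) = β n := fun n => by
    show MonoidAlgebra.liftGroupLikeBialgHom (MonoidAlgebra.mapDomainBialgHom T Γ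
      (MonoidAlgebra.single n 1)) = β n
    rw [MonoidAlgebra.mapDomainBialgHom_single]
    simp [MonoidAlgebra.liftGroupLikeBialgHom, Γ]
  have hφlin : ∀ x : MonoidAlgebra T N,
      φ x = Finsupp.linearCombination T β ((MonoidAlgebra.basis N T).repr x) := by
    have h3 : ((φ : MonoidAlgebra T N →ₐ[T] D).toLinearMap) =
        Finsupp.linearCombination T β ∘ₗ (MonoidAlgebra.basis N T).repr.toLinearMap := by
      apply (MonoidAlgebra.basis N T).ext
      intro n
      rw [LinearMap.comp_apply, LinearEquiv.coe_coe, Module.Basis.repr_self,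
        Finsupp.linearCombination_single, one_smul, MonoidAlgebra.basis_apply]
      exact hφ n
    intro x
    exact congrArg (fun f : MonoidAlgebra T N →ₗ[T] D => f x) h3
  have hbij : Function.Bijective φ := by
    constructor
    · intro x y hxy
      rw [hφlin, hφlin] at hxy
      exact (MonoidAlgebra.basis N T).repr.injective (β.linearIndependent hxy)
    · intro a
      have ha : a ∈ Submodule.span T (Set.range β) := by
        rw [β.span_eq]
        trivial
      rw [← Finsupp.range_linearCombination] at ha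
      obtain ⟨l, rfl⟩ := ha
      refine ⟨(MonoidAlgebra.basis N T).repr.symm l, ?_⟩
      rw [hφlin, LinearEquiv.apply_symm_apply]
  exact ⟨N, inferInstance, ⟨(BialgEquiv.ofBijective φ hbij).symm⟩⟩

theorem isDiag_congr {D' : Type u} [CommRing D'] [HopfAlgebra T D'] (e : D ≃ₐc[T] D')
    (h : IsDiag T D) : IsDiag T D' := by
  obtain ⟨N, _, ⟨e₀⟩⟩ := h
  exact ⟨N, inferInstance, ⟨e.symm.trans e₀⟩⟩

end GLG

section Via

variable {R : Type u} [CommRing R] {A : Type u} [CommRing A] [HopfAlgebra R A]

/-- diagonalisability passes to any further base change -/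
theorem diag_via {S₁ S₂ : Type u} [CommRing S₁] [Algebra R S₁] [CommRing S₂] [Algebra R S₂]
    (j : S₁ →ₐ[R] S₂) (h : IsDiag S₁ (S₁ ⊗[R] A)) : IsDiag S₂ (S₂ ⊗[R] A) := by
  obtain ⟨N, _, β, hβ, h1, hmul⟩ := hasGLG_of_isDiag h
  let b : Module.Basis N (Via j) (Via j ⊗[R] A) :=
    (β.baseChange (Via j)).map
      (Algebra.TensorProduct.cancelBaseChange R S₁ (Via j) (Via j) A).toLinearEquiv
  have hb : ∀ n, b n =
      Groth.Agent.Helper6.MT.cancelBC R S₁ (Via j) A ((1 : Via j) ⊗ₜ[S₁] β n) := by
    intro n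
    show ((β.baseChange (Via j)).map _) n = _
    rw [Module.Basis.map_apply, Module.Basis.baseChange_apply]
    rfl
  have key : HasGLG (Via j) (Via j ⊗[R] A) := by
    refine ⟨N, inferInstance, b, fun n => ?_, ?_, fun n n' => ?_⟩
    · rw [hb]
      exact (Groth.Agent.Helper6.MT.isGroupLikeElem_one_tmul (hβ n)).map
        (Groth.Agent.Helper6.MT.cancelBC R S₁ (Via j) A)
    · rw [hb, h1, ← Algebra.TensorProduct.one_def, map_one]
    · rw [hb, hb, hb, hmul]
      have h3 : (1 : Via j) ⊗ₜ[S₁] (β n * β n') =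
          ((1 : Via j) ⊗ₜ[S₁] β n) * ((1 : Via j) ⊗ₜ[S₁] β n') := by
        rw [Algebra.TensorProduct.tmul_mul_tmul, one_mul]
      rw [h3, map_mul]
  exact isDiag_of_hasGLG key

end Via

section MainCover

variable {R : Type u} [CommRing R] {A : Type u} [CommRing A] [HopfAlgebra R A] {I : Ideal R}

/-- version of `NilLift.main` with an explicit cover -/
theorem main_cover (hI : ∀ x ∈ I, IsNilpotent x) {ι : Type u} [Fintype ι] [DecidableEq ι]
    (T : ι → Type u) [∀ i, CommRing (T i)] [∀ i, Algebra R (T i)]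
    [Module.FaithfullyFlat R (Π i, T i)] (hgl : ∀ i, HasGL R A (T i))
    (h0 : IsDiag (R ⧸ I) ((R ⧸ I) ⊗[R] A)) : IsDiag R A := by
  classical
  obtain ⟨M, _, bb, hbbgl, hbb1, hbbmul⟩ := hasGLG_of_isDiag h0
  choose a₀ ha₀ using fun m => one_tmul_surjective I (bb m)
  have happ : ∀ m, Coalgebra.counit (R := R) (a₀ m) - 1 ∈ I ∧
      Coalgebra.comul (R := R) (a₀ m) - a₀ m ⊗ₜ[R] a₀ m ∈ I • (⊤ : Submodule R (A ⊗[R] A)) :=
    fun m => approx_of_quot I (a₀ m) (by rw [ha₀]; exact hbbgl m)
  choose g hg hga using fun m => lift_exists_cover hI T hgl (a₀ m) (happ m).1 (happ m).2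
  have hgb : ∀ m, (1 : R ⧸ I) ⊗ₜ[R] g m = bb m := fun m => by
    rw [← ha₀ m]
    exact tmul_eq_of_mem I (hga m)
  have hone : g 1 = 1 := by
    apply lift_unique_cover hI T hgl (hg 1) IsGroupLikeElem.one
    apply Groth.Agent.Helper22.MultType.mem_of_tmul_eq I
    rw [hgb, hbb1, Algebra.TensorProduct.one_def]
  have hmul : ∀ m m', g (m * m') = g m * g m' := by
    intro m m'
    apply lift_unique_cover hI T hgl (hg _) ((hg m).mul (hg m'))
    apply Groth.Agent.Helper22.MultType.mem_of_tmul_eq I
    have h3 : (1 : R ⧸ I) ⊗ₜ[R] (g m * g m') =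
        ((1 : R ⧸ I) ⊗ₜ[R] g m) * ((1 : R ⧸ I) ⊗ₜ[R] g m') := by
      rw [Algebra.TensorProduct.tmul_mul_tmul, one_mul]
    rw [h3, hgb, hgb, hgb, hbbmul]
  have hsurjA : Submodule.span R (Set.range g) ⊔ I • (⊤ : Submodule R A) = ⊤ := by
    rw [eq_top_iff]
    intro a _
    obtain ⟨l, hl⟩ : ∃ l : M →₀ (R ⧸ I), l = bb.repr ((1 : R ⧸ I) ⊗ₜ[R] a) := ⟨_, rfl⟩
    choose r hr using fun m => Ideal.Quotient.mk_surjective (l m)
    obtain ⟨p, hp⟩ : ∃ p : A, p = ∑ m ∈ l.support, r m • g m := ⟨_, rfl⟩
    have h3 : (1 : R ⧸ I) ⊗ₜ[R] p = (1 : R ⧸ I) ⊗ₜ[R] a := by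
      have h4 : ∀ m, (1 : R ⧸ I) ⊗ₜ[R] (r m • g m) = l m • bb m := fun m => by
        rw [TensorProduct.tmul_smul, hgb, ← hr m, ← Ideal.Quotient.algebraMap_eq,
          algebraMap_smul]
      rw [hp, TensorProduct.tmul_sum, Finset.sum_congr rfl (fun m _ => h4 m)]
      have h5 := bb.linearCombination_repr ((1 : R ⧸ I) ⊗ₜ[R] a)
      rw [Finsupp.linearCombination_apply, Finsupp.sum, ← hl] at h5
      exact h5
    have h6 : a = p + (a - p) := by abel
    rw [h6]
    refine Submodule.add_mem_sup ?_ (Groth.Agent.Helper22.MultType.mem_of_tmul_eq I h3.symm)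
    rw [hp]
    exact Submodule.sum_mem _
      (fun m _ => Submodule.smul_mem _ _ (Submodule.subset_span ⟨m, rfl⟩))
  have hfun : ∀ m, ∃ c : A →ₗ[R] R ⧸ I, ∀ m', c (g m') = if m' = m then 1 else 0 := by
    intro m
    refine ⟨((bb.coord m).restrictScalars R) ∘ₗ (TensorProduct.mk R (R ⧸ I) A 1), fun m' => ?_⟩
    rw [LinearMap.comp_apply, TensorProduct.mk_apply, LinearMap.restrictScalars_apply, hgb,
      Module.Basis.coord_apply, Module.Basis.repr_self, Finsupp.single_apply]
  obtain ⟨hind, hspan⟩ := basis_of_cover hI T hgl g hg hsurjA hfun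
  apply isDiag_of_hasGLG
  refine ⟨M, inferInstance, Module.Basis.mk hind hspan.ge, fun m => ?_, ?_, fun m m' => ?_⟩
  · rw [Module.Basis.mk_apply]
    exact hg m
  · rw [Module.Basis.mk_apply]
    exact hone
  · rw [Module.Basis.mk_apply, Module.Basis.mk_apply, Module.Basis.mk_apply]
    exact hmul m m'

end MainCover

section CoverBC

variable {R : Type u} [CommRing R] {A : Type u} [CommRing A] [HopfAlgebra R A]
  (S : Type u) [CommRing S] [Algebra R S]
  {ι : Type u} [Fintype ι] [DecidableEq ι] (T : ι → Type u) [∀ i, CommRing (T i)]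
  [∀ i, Algebra R (T i)]

theorem reconL (z : S ⊗[R] (Π i, T i)) :
    z = ∑ i, (LinearMap.single R T i).baseChange S
      ((LinearMap.proj i : (Π i, T i) →ₗ[R] T i).baseChange S z) := by
  induction z using TensorProduct.induction_on with
  | zero => simp
  | tmul s p =>
    simp only [LinearMap.baseChange_tmul, LinearMap.proj_apply, LinearMap.coe_single]
    rw [← TensorProduct.tmul_sum, LinearMap.sum_single_apply]
  | add z z' hz hz' =>
    simp only [map_add, Finset.sum_add_distrib]
    rw [← hz, ← hz']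

theorem cover_bc_ff [Module.FaithfullyFlat R (Π i, T i)] :
    Module.FaithfullyFlat S (Π i, S ⊗[R] T i) := by
  have hflat : ∀ i, Module.Flat R (T i) := fun i =>
    Module.Flat.of_retract (M := Π i, T i) (LinearMap.single R T i) (LinearMap.proj i)
      (LinearMap.proj_comp_single_same R T i)
  apply pi_faithfullyFlat S (fun i => S ⊗[R] T i)
  intro m hm
  by_contra hcon
  push Not at hcon
  have hff : Module.FaithfullyFlat S (S ⊗[R] (Π i, T i)) := inferInstance
  apply hff.submodule_ne_top hm
  rw [eq_top_iff]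
  intro z _
  rw [reconL S T z]
  refine Submodule.sum_mem _ (fun i _ => ?_)
  apply map_mem_smulTop m ((LinearMap.single R T i).baseChange S)
  rw [hcon i]
  trivial

omit [Fintype ι] [DecidableEq ι] in
theorem cover_bc_gl (hgl : ∀ i, HasGL R A (T i)) (i : ι) :
    HasGL S (S ⊗[R] A) (S ⊗[R] T i) := by
  obtain ⟨N, β, hβ⟩ := hasGL_via (A := A)
    (Algebra.TensorProduct.includeRight : T i →ₐ[R] S ⊗[R] T i) (hgl i)
  refine ⟨N, β.map (Groth.Agent.Helper6.MT.cancelBC R S (S ⊗[R] T i)
    A).symm.toCoalgEquiv.toLinearEquiv, fun n => ?_⟩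
  rw [Module.Basis.map_apply]
  exact (hβ n).map (Groth.Agent.Helper6.MT.cancelBC R S (S ⊗[R] T i) A).symm

/-- if `S ⊗ A` is diagonalisable modulo a nil ideal of `S`, it is diagonalisable -/
theorem diag_of_quot [Module.FaithfullyFlat R (Π i, T i)] (hgl : ∀ i, HasGL R A (T i))
    (J : Ideal S) (hJ : ∀ x ∈ J, IsNilpotent x)
    (h0 : IsDiag (S ⧸ J) ((S ⧸ J) ⊗[R] A)) : IsDiag S (S ⊗[R] A) := by
  have := cover_bc_ff (R := R) S T
  refine main_cover (R := S) (A := S ⊗[R] A) (I := J) hJ (fun i => S ⊗[R] T i)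
    (cover_bc_gl S T hgl) ?_
  exact isDiag_congr (Groth.Agent.Helper6.MT.cancelBC R S (S ⧸ J) A).symm h0

end CoverBC

section LiftDiag

variable {R : Type u} [CommRing R] {A : Type u} [CommRing A] [HopfAlgebra R A]
  {ι : Type u} [Fintype ι] [DecidableEq ι] (T : ι → Type u) [∀ i, CommRing (T i)]
  [∀ i, Algebra R (T i)] [Module.FaithfullyFlat R (Π i, T i)] (hgl : ∀ i, HasGL R A (T i))

include hgl in
/-- lifting of a splitting étale cover along a surjection with nil kernel -/
theorem lift_diag (B : Type u) [CommRing B] [Algebra R B] (Ab : Type u) [CommRing Ab]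
    [Algebra R Ab] (π : B →ₐ[R] Ab) (hπ : Function.Surjective π)
    (hnil : ∀ x ∈ RingHom.ker π, IsNilpotent x)
    (Cb : Type u) [CommRing Cb] [Algebra Ab Cb] [Algebra R Cb] [IsScalarTower R Ab Cb]
    [Algebra.Etale Ab Cb] [Module.FaithfullyFlat Ab Cb] (hd : IsDiag Cb (Cb ⊗[R] A)) :
    ∃ (C' : Type u) (_ : CommRing C') (_ : Algebra B C'), Algebra.Etale B C' ∧
      Module.FaithfullyFlat B C' ∧ (Module.Finite Ab Cb → Module.Finite B C') ∧
      ∀ (_ : Algebra R C') (_ : IsScalarTower R B C'), IsDiag C' (C' ⊗[R] A) := by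
  have hnil' : ∀ x ∈ RingHom.ker (π : B →+* Ab), IsNilpotent x := fun x hx => hnil x hx
  obtain ⟨C', _, _, _, πC, hπCsurj, hker, hcomm⟩ :=
    exists_etale_lift_nil (π : B →+* Ab) hπ hnil' Cb
  have hKnil : ∀ x ∈ RingHom.ker πC, IsNilpotent x := by
    rw [hker]
    exact map_nil _ C' hnil'
  refine ⟨C', inferInstance, inferInstance, inferInstance, ?_, ?_, ?_⟩
  · exact ff_of_lift (π : B →+* Ab) hπ hnil' C' Cb πC hcomm
  · intro hfin
    exact finite_of_lift (π : B →+* Ab) hπ C' Cb πC hcomm hKnil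
  · intro _ _
    let πCa : C' →ₐ[R] Cb :=
      { πC with
        commutes' := fun r => by
          show πC (algebraMap R C' r) = algebraMap R Cb r
          rw [IsScalarTower.algebraMap_apply R B C', hcomm,
            IsScalarTower.algebraMap_apply R Ab Cb]
          congr 1
          exact π.commutes r }
    have hsurj : Function.Surjective πCa := hπCsurj
    have hJ : ∀ x ∈ RingHom.ker πCa, IsNilpotent x := fun x hx => hKnil x hx
    have h1 : IsDiag (C' ⧸ RingHom.ker πCa) ((C' ⧸ RingHom.ker πCa) ⊗[R] A) :=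
      diag_via ((Ideal.quotientKerAlgEquivOfSurjective hsurj).symm :
        Cb →ₐ[R] C' ⧸ RingHom.ker πCa) hd
    exact diag_of_quot C' T hgl (RingHom.ker πCa) hJ h1

end LiftDiag

section Loc

variable {R : Type u} [CommRing R] (I : Ideal R) (f : R)

/-- the map `R_f → (R/I)_f` -/
noncomputable def piF :
    Localization.Away f →+* Localization.Away (Ideal.Quotient.mk I f) :=
  IsLocalization.Away.map (Localization.Away f) (Localization.Away (Ideal.Quotient.mk I f))
    (Ideal.Quotient.mk I) f

theorem piF_algebraMap (r : R) :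
    piF I f (algebraMap R (Localization.Away f) r) =
      algebraMap R (Localization.Away (Ideal.Quotient.mk I f)) r := by
  rw [piF, IsLocalization.Away.map, IsLocalization.map_eq,
    IsScalarTower.algebraMap_apply R (R ⧸ I) (Localization.Away (Ideal.Quotient.mk I f))]
  rfl

theorem piF_surjective : Function.Surjective (piF I f) := by
  rw [piF, IsLocalization.Away.map_surjective_iff]
  intro a
  obtain ⟨b, rfl⟩ := Ideal.Quotient.mk_surjective a
  exact ⟨b, 0, by rw [pow_zero, one_mul]⟩

theorem piF_ker_nil (hI : ∀ x ∈ I, IsNilpotent x) :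
    ∀ x ∈ RingHom.ker (piF I f), IsNilpotent x := by
  have h1 : RingHom.ker (piF I f) =
      (RingHom.ker (Ideal.Quotient.mk I)).map (algebraMap R (Localization.Away f)) :=
    IsLocalization.ker_map (Localization.Away (Ideal.Quotient.mk I f)) (Ideal.Quotient.mk I)
      (Submonoid.map_powers (Ideal.Quotient.mk I) f)
  rw [h1, Ideal.mk_ker]
  exact map_nil I _ hI

/-- `piF` as an `R`-algebra map -/
noncomputable def piFa :
    Localization.Away f →ₐ[R] Localization.Away (Ideal.Quotient.mk I f) :=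
  { piF I f with commutes' := piF_algebraMap I f }

end Loc

section Main

/-- isotriviality and quasi-isotriviality lift along nil ideals -/
theorem main2971 (R : Type u) [CommRing R] (A : Type u) [CommRing A] [HopfAlgebra R A]
    (I : Ideal R) (hI : ∀ x ∈ I, IsNilpotent x) (h : IsMultType R A) :
    (IsIsotrivial (R ⧸ I) ((R ⧸ I) ⊗[R] A) → IsIsotrivial R A) ∧
    (IsQuasiIsotrivial (R ⧸ I) ((R ⧸ I) ⊗[R] A) → IsQuasiIsotrivial R A) := by
  obtain ⟨ι, _, _, T, _, _, hff, hgl⟩ := exists_cover h
  constructor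
  · rintro ⟨Rb', _, _, het, hfin, hffb, hd⟩
    let _ : Algebra R Rb' := ((algebraMap (R ⧸ I) Rb').comp (algebraMap R (R ⧸ I))).toAlgebra
    have : IsScalarTower R (R ⧸ I) Rb' := IsScalarTower.of_algebraMap_eq (fun x => rfl)
    have hd' : IsDiag Rb' (Rb' ⊗[R] A) :=
      isDiag_congr (Groth.Agent.Helper6.MT.cancelBC R (R ⧸ I) Rb' A) hd
    have hker : ∀ x ∈ RingHom.ker (Ideal.Quotient.mkₐ R I), IsNilpotent x := by
      intro x hx
      apply hI
      have hx' : Ideal.Quotient.mk I x = 0 := hx
      exact Ideal.Quotient.eq_zero_iff_mem.mp hx'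
    obtain ⟨C', _, _, hC1, hC2, hC3, hC4⟩ := lift_diag T hgl R (R ⧸ I) (Ideal.Quotient.mkₐ R I)
      (Ideal.Quotient.mkₐ_surjective R I) hker Rb' hd'
    exact ⟨C', inferInstance, inferInstance, hC1, hC3 hfin, hC2, hC4 inferInstance inferInstance⟩
  · rintro ⟨sb, hsb, hsbf⟩
    refine ⟨{f | Ideal.Quotient.mk I f ∈ sb}, ?_, ?_⟩
    · -- the lifted elements span the unit ideal
      have h1 : (Ideal.span {f | Ideal.Quotient.mk I f ∈ sb}).map (Ideal.Quotient.mk I) = ⊤ := by
        rw [Ideal.map_span, ← hsb]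
        congr 1
        ext y
        constructor
        · rintro ⟨x, hx, rfl⟩
          exact hx
        · intro hy
          obtain ⟨x, rfl⟩ := Ideal.Quotient.mk_surjective y
          exact ⟨x, hy, rfl⟩
      have h2 : (1 : R ⧸ I) ∈ (Ideal.span {f | Ideal.Quotient.mk I f ∈ sb}).map
          (Ideal.Quotient.mk I) := by
        rw [h1]
        trivial
      obtain ⟨x, hx, hx1⟩ := (Ideal.mem_map_iff_of_surjective _
        Ideal.Quotient.mk_surjective).mp h2
      have h3 : x - 1 ∈ I := by
        rw [← Ideal.Quotient.eq, hx1, map_one]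
      have h4 : IsUnit x := by
        have h5 := (hI _ h3).isUnit_add_one
        rwa [sub_add_cancel] at h5
      exact Ideal.eq_top_of_isUnit_mem _ hx h4
    · intro f hf
      obtain ⟨Rb'', _, _, het, hffb, hd⟩ := hsbf (Ideal.Quotient.mk I f) hf
      let _ : Algebra (R ⧸ I) Rb'' :=
        ((algebraMap (Localization.Away (Ideal.Quotient.mk I f)) Rb'').comp
          (algebraMap (R ⧸ I) (Localization.Away (Ideal.Quotient.mk I f)))).toAlgebra
      have : IsScalarTower (R ⧸ I) (Localization.Away (Ideal.Quotient.mk I f)) Rb'' :=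
        IsScalarTower.of_algebraMap_eq (fun x => rfl)
      let _ : Algebra R Rb'' :=
        ((algebraMap (Localization.Away (Ideal.Quotient.mk I f)) Rb'').comp
          (algebraMap R (Localization.Away (Ideal.Quotient.mk I f)))).toAlgebra
      have : IsScalarTower R (Localization.Away (Ideal.Quotient.mk I f)) Rb'' :=
        IsScalarTower.of_algebraMap_eq (fun x => rfl)
      have : IsScalarTower R (R ⧸ I) Rb'' := IsScalarTower.of_algebraMap_eq (fun x => by
        show algebraMap (Localization.Away (Ideal.Quotient.mk I f)) Rb''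
            (algebraMap R (Localization.Away (Ideal.Quotient.mk I f)) x) =
          algebraMap (Localization.Away (Ideal.Quotient.mk I f)) Rb''
            (algebraMap (R ⧸ I) (Localization.Away (Ideal.Quotient.mk I f))
              (algebraMap R (R ⧸ I) x))
        rw [← IsScalarTower.algebraMap_apply R (R ⧸ I)
          (Localization.Away (Ideal.Quotient.mk I f))])
      have hd' : IsDiag Rb'' (Rb'' ⊗[R] A) :=
        isDiag_congr
          ((Groth.Agent.Helper6.MT.cancelBC (R ⧸ I) (Localization.Away (Ideal.Quotient.mk I f))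
            Rb'' ((R ⧸ I) ⊗[R] A)).trans
            (Groth.Agent.Helper6.MT.cancelBC R (R ⧸ I) Rb'' A)) hd
      obtain ⟨C', _, _, hC1, hC2, -, hC4⟩ := lift_diag T hgl (Localization.Away f)
        (Localization.Away (Ideal.Quotient.mk I f)) (piFa I f) (piF_surjective I f)
        (piF_ker_nil I f hI) Rb'' hd'
      let _ : Algebra R C' :=
        ((algebraMap (Localization.Away f) C').comp (algebraMap R (Localization.Away f))).toAlgebra
      have : IsScalarTower R (Localization.Away f) C' :=
        IsScalarTower.of_algebraMap_eq (fun x => rfl)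
      refine ⟨C', inferInstance, inferInstance, hC1, hC2, ?_⟩
      exact isDiag_congr (Groth.Agent.Helper6.MT.cancelBC R (Localization.Away f) C' A).symm
        (hC4 inferInstance inferInstance)

end Main

end Groth.Agent.Helper25.NilLift2
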