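import Mathlib
import Groth.Prelude.Def_SGA3b
import Groth.Agent.Lib.Helper25.NilLift2
import Groth.Agent.Lib.Helper25.IsoField

/-!
# Helper25: infinitesimal deformations of diagonalisable groups.

A flat affine group over `R` which is diagonalisable modulo a nilpotent ideal is diagonalisable.
Consequences: quasi-isotriviality lifts along nilpotent ideals for flat affine groups (S2987); a flat
finite type affine group over an Artinian local ring whose closed fibre is of multiplicative type
is isotrivial (S5252).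
-/

set_option autoImplicit false

namespace Groth.Agent.Helper25.NilLift3

open TensorProduct SGA3b
open Groth.Agent.Helper25.Desc Groth.Agent.Helper25.PIDescent Groth.Agent.Helper25.PIDescentU
  Groth.Agent.Helper25.NilLift Groth.Agent.Helper25.EtaleNil Groth.Agent.Helper25.NilLift2

universe u

section SqZero

variable {R : Type u} [CommRing R] (K : Ideal R) (hK : ∀ k ∈ K, ∀ k' ∈ K, k * k' = 0)

include hK in
theorem smul_eq_zero_of_mem {X : Type*} [AddCommGroup X] [Module R X] {k : R} (hk : k ∈ K) {z : X}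
    (hz : z ∈ K • (⊤ : Submodule R X)) : k • z = 0 := by
  refine Submodule.smul_induction_on hz ?_ ?_
  · intro k' hk' w _
    rw [smul_smul, hK k hk k' hk', zero_smul]
  · intro x y hx hy
    rw [smul_add, hx, hy, add_zero]

include hK in
theorem span_eq_top_of_quot {X : Type*} [AddCommGroup X] [Module R X] {N : Type*} (a : N → X)
    (h : ∀ x : X, ∃ y ∈ Submodule.span R (Set.range a), x - y ∈ K • (⊤ : Submodule R X)) :
    Submodule.span R (Set.range a) = ⊤ := by
  rw [eq_top_iff]
  intro x _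
  obtain ⟨y, hy, hxy⟩ := h x
  have h2 : x - y ∈ Submodule.span R (Set.range a) := by
    refine Submodule.smul_induction_on hxy ?_ ?_
    · intro k hk w _
      obtain ⟨y', hy', hwy'⟩ := h w
      have h3 : k • w = k • y' := by
        have h4 := smul_eq_zero_of_mem K hK hk hwy'
        rw [smul_sub, sub_eq_zero] at h4
        exact h4
      rw [h3]
      exact Submodule.smul_mem _ _ hy'
    · intro u v hu hv
      exact Submodule.add_mem _ hu hv
  have h5 : x = y + (x - y) := by abel
  rw [h5]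
  exact Submodule.add_mem _ hy h2

include hK in
theorem linInd_of_quot {X : Type*} [AddCommGroup X] [Module R X] [Module.Flat R X] {N : Type*}
    [DecidableEq N] (a : N → X) (φ : N → (X →ₗ[R] R ⧸ K))
    (hφ : ∀ m n, φ m (a n) = if n = m then 1 else 0) : LinearIndependent R a := by
  rw [linearIndependent_iff']
  intro s c hc m hm
  -- step 1: the coefficients lie in `K`
  have h1 : ∀ n ∈ s, c n ∈ K := by
    intro n hn
    have h2 := congrArg (φ n) hc
    rw [map_sum, map_zero] at h2
    have h3 : ∀ i ∈ s, φ n (c i • a i) = if i = n then Ideal.Quotient.mk K (c i) else 0 := by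
      intro i _
      rw [map_smul, hφ]
      split_ifs with h
      · rw [Algebra.smul_def, mul_one]
        rfl
      · rw [smul_zero]
    rw [Finset.sum_congr rfl h3, Finset.sum_ite_eq' s n, if_pos hn] at h2
    exact Ideal.Quotient.eq_zero_iff_mem.mp h2
  -- step 2: the relation is trivial
  have h4 : ∑ i : s, c i • a i = 0 := by
    rw [Finset.sum_coe_sort s (fun i => c i • a i)]
    exact hc
  obtain ⟨k, r, y, hy, hr⟩ := Module.Flat.isTrivialRelation_of_sum_smul_eq_zero
    (f := fun i : s => c i) (x := fun i : s => a i) h4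
  have hy' : ∀ i : s, a i = ∑ j, r i j • y j := hy
  have hr' : ∀ j, ∑ i : s, c i * r i j = 0 := hr
  choose t ht using fun j => Ideal.Quotient.mk_surjective (φ m (y j))
  have h5 : ∀ i : s, c i * (∑ j, r i j * t j) = if (i : N) = m then c i else 0 := by
    intro i
    have h6 : Ideal.Quotient.mk K (∑ j, r i j * t j) = if (i : N) = m then 1 else 0 := by
      rw [← hφ m i, hy' i, map_sum, map_sum]
      refine Finset.sum_congr rfl (fun j _ => ?_)
      rw [map_smul, map_mul, ht, Algebra.smul_def]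
      rfl
    split_ifs with h
    · rw [if_pos h] at h6
      have h7 : (∑ j, r i j * t j) - 1 ∈ K := by
        rw [← Ideal.Quotient.eq, h6, map_one]
      have h8 := hK _ (h1 i i.2) _ h7
      rw [mul_sub, mul_one, sub_eq_zero] at h8
      exact h8
    · rw [if_neg h] at h6
      exact hK _ (h1 i i.2) _ (Ideal.Quotient.eq_zero_iff_mem.mp h6)
  have h9 : ∑ i : s, c i * (∑ j, r i j * t j) = 0 := by
    simp_rw [Finset.mul_sum, ← mul_assoc]
    rw [Finset.sum_comm]
    refine Finset.sum_eq_zero (fun j _ => ?_)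
    rw [← Finset.sum_mul, hr' j, zero_mul]
  rw [Finset.sum_congr rfl (fun i _ => h5 i),
    Finset.sum_coe_sort s (fun i => if i = m then c i else 0), Finset.sum_ite_eq' s m,
    if_pos hm] at h9
  exact h9

include hK in
theorem basis_of_quot {X : Type u} [AddCommGroup X] [Module R X] [Module.Flat R X] {N : Type u}
    (bb : Module.Basis N (R ⧸ K) ((R ⧸ K) ⊗[R] X)) (a : N → X)
    (ha : ∀ n, (1 : R ⧸ K) ⊗ₜ[R] a n = bb n) :
    ∃ α : Module.Basis N R X, ∀ n, α n = a n := by
  classical
  have hli : LinearIndependent R a := by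
    apply linInd_of_quot K hK a
      (fun m => ((bb.coord m).restrictScalars R) ∘ₗ (TensorProduct.mk R (R ⧸ K) X 1))
    intro m n
    show bb.coord m ((1 : R ⧸ K) ⊗ₜ[R] a n) = _
    rw [ha, Module.Basis.coord_apply, Module.Basis.repr_self, Finsupp.single_apply]
  have hsp : ⊤ ≤ Submodule.span R (Set.range a) := by
    rw [span_eq_top_of_quot K hK a]
    intro x
    choose ρ hρ using fun n => Ideal.Quotient.mk_surjective (bb.repr ((1 : R ⧸ K) ⊗ₜ[R] x) n)
    refine ⟨∑ n ∈ (bb.repr ((1 : R ⧸ K) ⊗ₜ[R] x)).support, ρ n • a n, ?_, ?_⟩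
    · exact Submodule.sum_mem _
        (fun n _ => Submodule.smul_mem _ _ (Submodule.subset_span ⟨n, rfl⟩))
    · apply Groth.Agent.Helper22.MultType.mem_of_tmul_eq K
      rw [TensorProduct.tmul_sum]
      conv_lhs => rw [← bb.linearCombination_repr ((1 : R ⧸ K) ⊗ₜ[R] x)]
      rw [Finsupp.linearCombination_apply, Finsupp.sum]
      refine Finset.sum_congr rfl (fun n _ => ?_)
      rw [TensorProduct.tmul_smul, ha, ← hρ n]
      show algebraMap R (R ⧸ K) (ρ n) • bb n = _
      rw [algebraMap_smul]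
  exact ⟨Module.Basis.mk hli hsp, fun n => Module.Basis.mk_apply hli hsp n⟩

end SqZero

section GLift

variable {R : Type u} [CommRing R] {A : Type u} [CommRing A] [Bialgebra R A]

/-- `x ↦ Σ ℓ(x₁) x₂` -/
noncomputable def Gm (ℓ : A →ₗ[R] R) : A →ₗ[R] A :=
  ((TensorProduct.lid R A).toLinearMap ∘ₗ ℓ.rTensor A) ∘ₗ Coalgebra.comul

theorem Gm_apply (ℓ : A →ₗ[R] R) (a : A) :
    Gm ℓ a = TensorProduct.lid R A (ℓ.rTensor A (Coalgebra.comul a)) := rfl

theorem counit_Gm (ℓ : A →ₗ[R] R) (a : A) : Coalgebra.counit (R := R) (Gm ℓ a) = ℓ a := by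
  have h : (Coalgebra.counit (R := R) (A := A)) ∘ₗ
      (TensorProduct.lid R A).toLinearMap ∘ₗ ℓ.rTensor A =
      ℓ ∘ₗ (TensorProduct.rid R A).toLinearMap ∘ₗ
        (Coalgebra.counit (R := R) (A := A)).lTensor A := by
    apply TensorProduct.ext'
    intro x y
    simp [mul_comm]
  have h2 := congrArg (fun f : A ⊗[R] A →ₗ[R] R => f (Coalgebra.comul a)) h
  simp only [LinearMap.comp_apply, LinearEquiv.coe_coe] at h2
  rw [Gm_apply, h2, Coalgebra.lTensor_counit_comul, TensorProduct.rid_tmul, one_smul]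

theorem comul_Gm (ℓ : A →ₗ[R] R) (a : A) :
    Coalgebra.comul (R := R) (Gm ℓ a) = (Gm ℓ).rTensor A (Coalgebra.comul a) := by
  have L1 : (Coalgebra.comul (R := R) (A := A)) ∘ₗ
      (TensorProduct.lid R A).toLinearMap ∘ₗ ℓ.rTensor A =
      (TensorProduct.lid R (A ⊗[R] A)).toLinearMap ∘ₗ ℓ.rTensor (A ⊗[R] A) ∘ₗ
        (Coalgebra.comul (R := R) (A := A)).lTensor A := by
    apply TensorProduct.ext'
    intro x y
    simp
  have L2 : (TensorProduct.lid R (A ⊗[R] A)).toLinearMap ∘ₗ ℓ.rTensor (A ⊗[R] A) ∘ₗ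
      (TensorProduct.assoc R A A A).toLinearMap =
      ((TensorProduct.lid R A).toLinearMap ∘ₗ ℓ.rTensor A).rTensor A := by
    apply TensorProduct.ext_threefold
    intro x y z
    simp [TensorProduct.smul_tmul']
  have h1 := congrArg (fun f : A ⊗[R] A →ₗ[R] A ⊗[R] A => f (Coalgebra.comul a)) L1
  have h2 := congrArg (fun f : (A ⊗[R] A) ⊗[R] A →ₗ[R] A ⊗[R] A =>
    f ((Coalgebra.comul (R := R) (A := A)).rTensor A (Coalgebra.comul a))) L2
  simp only [LinearMap.comp_apply, LinearEquiv.coe_coe] at h1 h2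
  rw [Gm_apply, h1, ← Coalgebra.coassoc_apply, h2, ← LinearMap.rTensor_comp_apply]
  rfl

variable (K : Ideal R) (hK : ∀ k ∈ K, ∀ k' ∈ K, k * k' = 0)

include hK in
theorem tmul_eq_zero_of_mem {d d' : A} (hd : d ∈ K • (⊤ : Submodule R A))
    (hd' : d' ∈ K • (⊤ : Submodule R A)) : d ⊗ₜ[R] d' = 0 := by
  refine Submodule.smul_induction_on hd ?_ ?_
  · intro k hk w _
    rw [TensorProduct.smul_tmul, smul_eq_zero_of_mem K hK hk hd', TensorProduct.tmul_zero]
  · intro x y hx hy
    rw [TensorProduct.add_tmul, hx, hy, add_zero]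

include hK in
/-- an approximately group-like member of a basis of approximately group-like elements can be
corrected to a group-like element, modulo a square-zero ideal -/
theorem exists_gl {N : Type*} [DecidableEq N] (α : Module.Basis N R A)
    (happ : ∀ n, Coalgebra.comul (R := R) (α n) - α n ⊗ₜ[R] α n ∈
      K • (⊤ : Submodule R (A ⊗[R] A))) (m : N) :
    ∃ g : A, IsGroupLikeElem R g ∧ g - α m ∈ K • (⊤ : Submodule R A) := by
  obtain ⟨ℓ, hℓdef⟩ : ∃ ℓ : A →ₗ[R] R, ℓ = α.coord m := ⟨_, rfl⟩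
  have hℓ : ∀ n, ℓ (α n) = if n = m then 1 else 0 := fun n => by
    rw [hℓdef, Module.Basis.coord_apply, Module.Basis.repr_self, Finsupp.single_apply]
  obtain ⟨E, hEdef⟩ : ∃ E : A →ₗ[R] A,
      E = Gm ℓ - (LinearMap.toSpanSingleton R A (α m)) ∘ₗ ℓ := ⟨_, rfl⟩
  have hE_apply : ∀ x, E x = Gm ℓ x - ℓ x • α m := fun x => by
    rw [hEdef, LinearMap.sub_apply, LinearMap.comp_apply, LinearMap.toSpanSingleton_apply]
  have hE : ∀ x, E x ∈ K • (⊤ : Submodule R A) := by
    have key : (K • (⊤ : Submodule R A)).mkQ ∘ₗ E = 0 := by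
      apply α.ext
      intro n
      rw [LinearMap.comp_apply, LinearMap.zero_apply, Submodule.mkQ_apply,
        Submodule.Quotient.mk_eq_zero]
      have h1 : E (α n) = ((TensorProduct.lid R A).toLinearMap ∘ₗ ℓ.rTensor A)
          (Coalgebra.comul (R := R) (α n) - α n ⊗ₜ[R] α n) := by
        rw [map_sub, hE_apply, Gm_apply]
        congr 1
        rw [LinearMap.comp_apply, LinearMap.rTensor_tmul, LinearEquiv.coe_coe,
          TensorProduct.lid_tmul, hℓ]
        split_ifs with h
        · rw [h]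
        · rw [zero_smul, zero_smul]
      rw [h1]
      exact map_mem_smulTop K _ (happ n)
    intro x
    have h2 := congrArg (fun f : A →ₗ[R] A ⧸ (K • (⊤ : Submodule R A)) => f x) key
    simp only [LinearMap.comp_apply, LinearMap.zero_apply, Submodule.mkQ_apply] at h2
    exact (Submodule.Quotient.mk_eq_zero _).mp h2
  have hd : Gm ℓ (α m) - α m ∈ K • (⊤ : Submodule R A) := by
    have h3 := hE (α m)
    rw [hE_apply, hℓ, if_pos rfl, one_smul] at h3
    exact h3
  refine ⟨Gm ℓ (α m), ⟨?_, ?_⟩, hd⟩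
  · rw [counit_Gm, hℓ, if_pos rfl]
  · rw [comul_Gm]
    have h4 : Gm ℓ = (LinearMap.toSpanSingleton R A (α m)) ∘ₗ ℓ + E := by
      rw [hEdef]
      abel
    have L4 : ∀ u : A ⊗[R] A, ((LinearMap.toSpanSingleton R A (α m)) ∘ₗ ℓ).rTensor A u =
        α m ⊗ₜ[R] (TensorProduct.lid R A (ℓ.rTensor A u)) := by
      intro u
      induction u using TensorProduct.induction_on with
      | zero => simp
      | tmul x y =>
        rw [LinearMap.rTensor_tmul, LinearMap.comp_apply, LinearMap.toSpanSingleton_apply,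
          LinearMap.rTensor_tmul, TensorProduct.lid_tmul, TensorProduct.smul_tmul]
      | add u v hu hv => rw [map_add, hu, hv, map_add, map_add, TensorProduct.tmul_add]
    have L5 : ∀ u : A ⊗[R] A, E.rTensor A u ∈ K • (⊤ : Submodule R (A ⊗[R] A)) := by
      intro u
      induction u using TensorProduct.induction_on with
      | zero =>
        rw [map_zero]
        exact Submodule.zero_mem _
      | tmul x y =>
        rw [LinearMap.rTensor_tmul]
        exact map_mem_smulTop K ((TensorProduct.mk R A A).flip y) (hE x)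
      | add u v hu hv =>
        rw [map_add]
        exact Submodule.add_mem _ hu hv
    have L5' : ∀ c ∈ K • (⊤ : Submodule R (A ⊗[R] A)), E.rTensor A c = 0 := by
      intro c hc
      refine Submodule.smul_induction_on hc ?_ ?_
      · intro k hk u _
        rw [map_smul]
        exact smul_eq_zero_of_mem K hK hk (L5 u)
      · intro x y hx hy
        rw [map_add, hx, hy, add_zero]
    have h6 : E.rTensor A (Coalgebra.comul (R := R) (α m)) = (Gm ℓ (α m) - α m) ⊗ₜ[R] α m := by
      have h7 : E.rTensor A (Coalgebra.comul (R := R) (α m)) =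
          E.rTensor A (α m ⊗ₜ[R] α m) +
            E.rTensor A (Coalgebra.comul (R := R) (α m) - α m ⊗ₜ[R] α m) := by
        rw [← map_add]
        congr 1
        abel
      rw [h7, L5' _ (happ m), add_zero, LinearMap.rTensor_tmul, hE_apply, hℓ, if_pos rfl,
        one_smul]
    have h8 := tmul_eq_zero_of_mem K hK hd hd
    rw [TensorProduct.sub_tmul, TensorProduct.tmul_sub, TensorProduct.tmul_sub] at h8
    have h11 : (Gm ℓ).rTensor A (Coalgebra.comul (R := R) (α m)) =
        α m ⊗ₜ[R] Gm ℓ (α m) + (Gm ℓ (α m) - α m) ⊗ₜ[R] α m := by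
      conv_lhs => rw [h4]
      rw [LinearMap.rTensor_add, LinearMap.add_apply, L4, h6, ← Gm_apply]
    rw [h11, TensorProduct.sub_tmul]
    have h10 : α m ⊗ₜ[R] Gm ℓ (α m) + (Gm ℓ (α m) ⊗ₜ[R] α m - α m ⊗ₜ[R] α m) =
        Gm ℓ (α m) ⊗ₜ[R] Gm ℓ (α m) -
          (Gm ℓ (α m) ⊗ₜ[R] Gm ℓ (α m) - Gm ℓ (α m) ⊗ₜ[R] α m -
            (α m ⊗ₜ[R] Gm ℓ (α m) - α m ⊗ₜ[R] α m)) := by abel
    rw [h10, h8, sub_zero]

end GLift

section Def

/-- square-zero deformations of diagonalisable groups are diagonalisable -/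
theorem hasGLG_of_sqzero {R : Type u} [CommRing R] {A : Type u} [CommRing A] [HopfAlgebra R A]
    [Module.Flat R A] (K : Ideal R) (hK : ∀ k ∈ K, ∀ k' ∈ K, k * k' = 0)
    (h0 : HasGLG (R ⧸ K) ((R ⧸ K) ⊗[R] A)) : HasGLG R A := by
  classical
  obtain ⟨N, _, bb, hbb, hbb1, hbbmul⟩ := h0
  choose a₀ ha₀ using fun n => one_tmul_surjective K (bb n)
  obtain ⟨α, hα⟩ := basis_of_quot K hK bb a₀ ha₀
  have happ : ∀ n, Coalgebra.comul (R := R) (α n) - α n ⊗ₜ[R] α n ∈
      K • (⊤ : Submodule R (A ⊗[R] A)) := fun n =>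
    (approx_of_quot K (α n) (by rw [hα, ha₀]; exact hbb n)).2
  choose g hg hgα using fun m => exists_gl K hK α happ m
  have hg1 : ∀ n, (1 : R ⧸ K) ⊗ₜ[R] g n = bb n := fun n => by
    rw [tmul_eq_of_mem K (hgα n), hα, ha₀]
  obtain ⟨γ, hγ⟩ := basis_of_quot K hK bb g hg1
  have hγgl : ∀ n, IsGroupLikeElem R (γ n) := fun n => by
    rw [hγ]
    exact hg n
  have hKnil : ∀ x ∈ K, IsNilpotent x := fun x hx =>
    ⟨2, by rw [pow_two]; exact hK x hx x hx⟩
  refine ⟨N, inferInstance, γ, hγgl, ?_, ?_⟩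
  · apply gl_unique γ hγgl hKnil (hγgl 1) (IsGroupLikeElem.one (R := R) (A := A))
    apply Groth.Agent.Helper22.MultType.mem_of_tmul_eq K
    rw [hγ, hg1, hbb1]
    rfl
  · intro n n'
    apply gl_unique γ hγgl hKnil (hγgl _) ((hγgl n).mul (hγgl n'))
    apply Groth.Agent.Helper22.MultType.mem_of_tmul_eq K
    rw [hγ, hγ, hγ, hg1, hbbmul, ← hg1 n, ← hg1 n', Algebra.TensorProduct.tmul_mul_tmul, one_mul]

theorem isDiag_of_nilpotent_aux (n : ℕ) : ∀ (R : Type u) [CommRing R] (A : Type u) [CommRing A]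
    [HopfAlgebra R A] [Module.Flat R A] (I : Ideal R), I ^ (n + 1) = ⊥ →
    IsDiag (R ⧸ I) ((R ⧸ I) ⊗[R] A) → IsDiag R A := by
  induction n with
  | zero =>
    intro R _ A _ _ _ I hI h0
    rw [zero_add, pow_one] at hI
    subst hI
    have h1 : IsDiag R (R ⊗[R] A) :=
      diag_via ((AlgEquiv.quotientBot R R : (R ⧸ (⊥ : Ideal R)) ≃ₐ[R] R) :
        (R ⧸ (⊥ : Ideal R)) →ₐ[R] R) h0
    exact isDiag_congr (Bialgebra.TensorProduct.lid R A) h1
  | succ n ih =>
    intro R _ A _ _ _ I hI h0
    have hK : ∀ k ∈ I ^ (n + 1), ∀ k' ∈ I ^ (n + 1), k * k' = 0 := by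
      intro k hk k' hk'
      have h1 : k * k' ∈ I ^ (n + 1) * I ^ (n + 1) := Ideal.mul_mem_mul hk hk'
      rw [← pow_add] at h1
      have h2 : I ^ (n + 1 + (n + 1)) ≤ I ^ (n + 1 + 1) := Ideal.pow_le_pow_right (by omega)
      have h3 := h2 h1
      rw [hI] at h3
      exact h3
    have hI' : (I.map (Ideal.Quotient.mk (I ^ (n + 1)))) ^ (n + 1) = ⊥ := by
      rw [← Ideal.map_pow]
      exact Ideal.map_quotient_self _
    let j : (R ⧸ I) →ₐ[R]
        ((R ⧸ I ^ (n + 1)) ⧸ I.map (Ideal.Quotient.mk (I ^ (n + 1)))) :=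
      Ideal.Quotient.liftₐ I (Algebra.ofId R _) (by
        intro x hx
        show algebraMap R ((R ⧸ I ^ (n + 1)) ⧸ I.map (Ideal.Quotient.mk (I ^ (n + 1)))) x = 0
        rw [IsScalarTower.algebraMap_apply R (R ⧸ I ^ (n + 1)), Ideal.Quotient.algebraMap_eq,
          Ideal.Quotient.algebraMap_eq, Ideal.Quotient.eq_zero_iff_mem]
        exact Ideal.mem_map_of_mem _ hx)
    have h1 := diag_via j h0
    have h2 := isDiag_congr (Groth.Agent.Helper6.MT.cancelBC R (R ⧸ I ^ (n + 1))
      ((R ⧸ I ^ (n + 1)) ⧸ I.map (Ideal.Quotient.mk (I ^ (n + 1)))) A).symm h1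
    have h3 : IsDiag (R ⧸ I ^ (n + 1)) ((R ⧸ I ^ (n + 1)) ⊗[R] A) :=
      ih (R ⧸ I ^ (n + 1)) ((R ⧸ I ^ (n + 1)) ⊗[R] A) _ hI' h2
    exact isDiag_of_hasGLG (hasGLG_of_sqzero (I ^ (n + 1)) hK (hasGLG_of_isDiag h3))

/-- a flat affine group which is diagonalisable modulo a nilpotent ideal is diagonalisable -/
theorem isDiag_of_nilpotent (R : Type u) [CommRing R] (A : Type u) [CommRing A]
    [HopfAlgebra R A] [Module.Flat R A] (I : Ideal R) (hI : IsNilpotent I)
    (h0 : IsDiag (R ⧸ I) ((R ⧸ I) ⊗[R] A)) : IsDiag R A := by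
  obtain ⟨n, hn⟩ := hI
  refine isDiag_of_nilpotent_aux n R A I ?_ h0
  rw [pow_succ, hn, zero_mul]
  rfl

end Def

section LiftDiag2

variable {R : Type u} [CommRing R] {A : Type u} [CommRing A] [HopfAlgebra R A] [Module.Flat R A]

/-- lifting of a splitting étale cover along a surjection with nilpotent kernel, for flat groups -/
theorem lift_diag2 (B : Type u) [CommRing B] [Algebra R B] (Ab : Type u) [CommRing Ab]
    [Algebra R Ab] (π : B →ₐ[R] Ab) (hπ : Function.Surjective π)
    (hnil : IsNilpotent (RingHom.ker (π : B →+* Ab)))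
    (Cb : Type u) [CommRing Cb] [Algebra Ab Cb] [Algebra R Cb] [IsScalarTower R Ab Cb]
    [Algebra.Etale Ab Cb] [Module.FaithfullyFlat Ab Cb] (hd : IsDiag Cb (Cb ⊗[R] A)) :
    ∃ (C' : Type u) (_ : CommRing C') (_ : Algebra B C'), Algebra.Etale B C' ∧
      Module.FaithfullyFlat B C' ∧ (Module.Finite Ab Cb → Module.Finite B C') ∧
      ∀ (_ : Algebra R C') (_ : IsScalarTower R B C'), IsDiag C' (C' ⊗[R] A) := by
  have hnil' : ∀ x ∈ RingHom.ker (π : B →+* Ab), IsNilpotent x := by
    intro x hx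
    obtain ⟨n, hn⟩ := hnil
    refine ⟨n, ?_⟩
    have h1 := Ideal.pow_mem_pow hx n
    rw [hn] at h1
    exact h1
  obtain ⟨C', _, _, _, πC, hπCsurj, hker, hcomm⟩ :=
    exists_etale_lift_nil (π : B →+* Ab) hπ hnil' Cb
  have hKnil : ∀ x ∈ RingHom.ker πC, IsNilpotent x := by
    rw [hker]
    exact map_nil _ C' hnil'
  have hKnilp : IsNilpotent (RingHom.ker πC) := by
    rw [hker]
    obtain ⟨n, hn⟩ := hnil
    refine ⟨n, ?_⟩
    rw [← Ideal.map_pow, hn]
    exact Ideal.map_bot
  refine ⟨C', inferInstance, inferInstance, inferInstance, ?_, ?_, ?_⟩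
  · exact ff_of_lift (π : B →+* Ab) hπ hnil' C' Cb πC hcomm
  · intro hfin
    exact finite_of_lift (π : B →+* Ab) hπ C' Cb πC hcomm hKnil
  · intro _ _
    let πCa : C' →ₐ[R] Cb :=
      { πC with
        commutes' := fun r => by
          show πC (algebraMap R C' r) = algebraMap R Cb r
          rw [IsScalarTower.algebraMap_apply R B C', hcomm,
            IsScalarTower.algebraMap_apply R Ab Cb]
          congr 1
          exact π.commutes r }
    have hsurj : Function.Surjective πCa := hπCsurj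
    have hkk : RingHom.ker πCa = RingHom.ker πC := Ideal.ext (fun x => Iff.rfl)
    have h1 : IsDiag (C' ⧸ RingHom.ker πCa) ((C' ⧸ RingHom.ker πCa) ⊗[R] A) :=
      diag_via ((Ideal.quotientKerAlgEquivOfSurjective hsurj).symm :
        Cb →ₐ[R] C' ⧸ RingHom.ker πCa) hd
    have h2 : IsDiag (C' ⧸ RingHom.ker πCa) ((C' ⧸ RingHom.ker πCa) ⊗[C'] (C' ⊗[R] A)) :=
      isDiag_congr (Groth.Agent.Helper6.MT.cancelBC R C' (C' ⧸ RingHom.ker πCa) A).symm h1
    exact isDiag_of_nilpotent C' (C' ⊗[R] A) (RingHom.ker πCa) (hkk ▸ hKnilp) h2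

end LiftDiag2

section Mains

theorem piF_ker {R : Type u} [CommRing R] (I : Ideal R) (f : R) :
    RingHom.ker (piF I f) = I.map (algebraMap R (Localization.Away f)) := by
  have h1 : RingHom.ker (piF I f) =
      (RingHom.ker (Ideal.Quotient.mk I)).map (algebraMap R (Localization.Away f)) :=
    IsLocalization.ker_map (Localization.Away (Ideal.Quotient.mk I f)) (Ideal.Quotient.mk I)
      (Submonoid.map_powers (Ideal.Quotient.mk I) f)
  rw [h1, Ideal.mk_ker]

/-- an isotrivial group is of multiplicative type -/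
theorem isMultType_of_isIsotrivial {R : Type u} [CommRing R] {A : Type u} [CommRing A]
    [HopfAlgebra R A] (h : IsIsotrivial R A) : IsMultType R A := by
  obtain ⟨R', _, _, het, hfin, hff, hd⟩ := h
  refine ⟨{1}, Ideal.span_singleton_one, ?_⟩
  intro f hf
  rw [Set.mem_singleton_iff] at hf
  subst hf
  refine ⟨Localization.Away (1 : R) ⊗[R] R', inferInstance, inferInstance, inferInstance, ?_⟩
  have h1 : IsDiag (Localization.Away (1 : R) ⊗[R] R')
      ((Localization.Away (1 : R) ⊗[R] R') ⊗[R] A) :=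
    diag_via (Algebra.TensorProduct.includeRight :
      R' →ₐ[R] Localization.Away (1 : R) ⊗[R] R') hd
  exact isDiag_congr (Groth.Agent.Helper6.MT.cancelBC R (Localization.Away (1 : R))
    (Localization.Away (1 : R) ⊗[R] R') A).symm h1

/-- S2987 -/
theorem main2987 (R : Type u) [CommRing R] (A : Type u) [CommRing A] [HopfAlgebra R A]
    [Module.Flat R A] (I : Ideal R) (hI : IsNilpotent I)
    (h0 : IsQuasiIsotrivial (R ⧸ I) ((R ⧸ I) ⊗[R] A)) : IsQuasiIsotrivial R A := by
  have hI' : ∀ x ∈ I, IsNilpotent x := by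
    intro x hx
    obtain ⟨n, hn⟩ := hI
    refine ⟨n, ?_⟩
    have h1 := Ideal.pow_mem_pow hx n
    rw [hn] at h1
    exact h1
  obtain ⟨sb, hsb, hsbf⟩ := h0
  refine ⟨{f | Ideal.Quotient.mk I f ∈ sb}, ?_, ?_⟩
  · have h1 : (Ideal.span {f | Ideal.Quotient.mk I f ∈ sb}).map (Ideal.Quotient.mk I) = ⊤ := by
      rw [Ideal.map_span, ← hsb]
      congr 1
      ext y
      constructor
      · rintro ⟨x, hx, rfl⟩
        exact hx
      · intro hy
        obtain ⟨x, rfl⟩ := Ideal.Quotient.mk_surjective y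
        exact ⟨x, hy, rfl⟩
    have h2 : (1 : R ⧸ I) ∈ (Ideal.span {f | Ideal.Quotient.mk I f ∈ sb}).map
        (Ideal.Quotient.mk I) := by
      rw [h1]
      trivial
    obtain ⟨x, hx, hx1⟩ := (Ideal.mem_map_iff_of_surjective _
      Ideal.Quotient.mk_surjective).mp h2
    have h3 : x - 1 ∈ I := by
      rw [← Ideal.Quotient.eq, hx1, map_one]
    have h4 : IsUnit x := by
      have h5 := (hI' _ h3).isUnit_add_one
      rwa [sub_add_cancel] at h5
    exact Ideal.eq_top_of_isUnit_mem _ hx h4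
  · intro f hf
    obtain ⟨Rb'', _, _, het, hffb, hd⟩ := hsbf (Ideal.Quotient.mk I f) hf
    let _ : Algebra (R ⧸ I) Rb'' :=
      ((algebraMap (Localization.Away (Ideal.Quotient.mk I f)) Rb'').comp
        (algebraMap (R ⧸ I) (Localization.Away (Ideal.Quotient.mk I f)))).toAlgebra
    have : IsScalarTower (R ⧸ I) (Localization.Away (Ideal.Quotient.mk I f)) Rb'' :=
      IsScalarTower.of_algebraMap_eq (fun x => rfl)
    let _ : Algebra R Rb'' :=
      ((algebraMap (Localization.Away (Ideal.Quotient.mk I f)) Rb'').comp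
        (algebraMap R (Localization.Away (Ideal.Quotient.mk I f)))).toAlgebra
    have : IsScalarTower R (Localization.Away (Ideal.Quotient.mk I f)) Rb'' :=
      IsScalarTower.of_algebraMap_eq (fun x => rfl)
    have : IsScalarTower R (R ⧸ I) Rb'' := IsScalarTower.of_algebraMap_eq (fun x => by
      show algebraMap (Localization.Away (Ideal.Quotient.mk I f)) Rb''
          (algebraMap R (Localization.Away (Ideal.Quotient.mk I f)) x) =
        algebraMap (Localization.Away (Ideal.Quotient.mk I f)) Rb''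
          (algebraMap (R ⧸ I) (Localization.Away (Ideal.Quotient.mk I f))
            (algebraMap R (R ⧸ I) x))
      rw [← IsScalarTower.algebraMap_apply R (R ⧸ I)
        (Localization.Away (Ideal.Quotient.mk I f))])
    have hd' : IsDiag Rb'' (Rb'' ⊗[R] A) :=
      isDiag_congr
        ((Groth.Agent.Helper6.MT.cancelBC (R ⧸ I) (Localization.Away (Ideal.Quotient.mk I f))
          Rb'' ((R ⧸ I) ⊗[R] A)).trans
          (Groth.Agent.Helper6.MT.cancelBC R (R ⧸ I) Rb'' A)) hd
    have hkn : IsNilpotent (RingHom.ker ((piFa I f : Localization.Away f →ₐ[R]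
        Localization.Away (Ideal.Quotient.mk I f)) : Localization.Away f →+*
        Localization.Away (Ideal.Quotient.mk I f))) := by
      have hkk : RingHom.ker ((piFa I f : Localization.Away f →ₐ[R]
          Localization.Away (Ideal.Quotient.mk I f)) : Localization.Away f →+*
          Localization.Away (Ideal.Quotient.mk I f)) = RingHom.ker (piF I f) :=
        Ideal.ext (fun x => Iff.rfl)
      rw [hkk, piF_ker]
      obtain ⟨n, hn⟩ := hI
      refine ⟨n, ?_⟩
      rw [← Ideal.map_pow, hn]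
      exact Ideal.map_bot
    obtain ⟨C', _, _, hC1, hC2, -, hC4⟩ := lift_diag2 (R := R) (A := A) (Localization.Away f)
      (Localization.Away (Ideal.Quotient.mk I f)) (piFa I f) (piF_surjective I f)
      hkn Rb'' hd'
    let _ : Algebra R C' :=
      ((algebraMap (Localization.Away f) C').comp (algebraMap R (Localization.Away f))).toAlgebra
    have : IsScalarTower R (Localization.Away f) C' :=
      IsScalarTower.of_algebraMap_eq (fun x => rfl)
    refine ⟨C', inferInstance, inferInstance, hC1, hC2, ?_⟩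
    exact isDiag_congr (Groth.Agent.Helper6.MT.cancelBC R (Localization.Away f) C' A).symm
      (hC4 inferInstance inferInstance)

/-- S5252 -/
theorem main5252 (A : Type u) [CommRing A] [IsArtinianRing A] [IsLocalRing A]
    (C : Type u) [CommRing C] [HopfAlgebra A C] [Module.Flat A C]
    (hft : Algebra.FiniteType A C)
    (h0 : IsMultType (IsLocalRing.ResidueField A) (IsLocalRing.ResidueField A ⊗[A] C)) :
    IsMultType A C ∧ IsIsotrivial A C := by
  have hiso : IsIsotrivial A C := by
    have hft' : Algebra.FiniteType (IsLocalRing.ResidueField A)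
        (IsLocalRing.ResidueField A ⊗[A] C) := inferInstance
    obtain ⟨k', _, _, hfin, hsep, hd⟩ := Groth.Agent.Helper25.IsoField.main
      (IsLocalRing.ResidueField A) (IsLocalRing.ResidueField A ⊗[A] C) hft' h0
    have hd0 : IsDiag k' (k' ⊗[IsLocalRing.ResidueField A] (IsLocalRing.ResidueField A ⊗[A] C)) := by
      obtain ⟨M, _, _, e⟩ := hd
      exact ⟨M, inferInstance, e⟩
    let _ : Algebra A k' :=
      ((algebraMap (IsLocalRing.ResidueField A) k').comp
        (algebraMap A (IsLocalRing.ResidueField A))).toAlgebra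
    have : IsScalarTower A (IsLocalRing.ResidueField A) k' :=
      IsScalarTower.of_algebraMap_eq (fun x => rfl)
    have hd' : IsDiag k' (k' ⊗[A] C) :=
      isDiag_congr (Groth.Agent.Helper6.MT.cancelBC A (IsLocalRing.ResidueField A) k' C) hd0
    have het : Algebra.Etale (IsLocalRing.ResidueField A) k' :=
      ⟨Algebra.FormallyEtale.of_isSeparable (IsLocalRing.ResidueField A) k',
        Algebra.FinitePresentation.of_finiteType.mp inferInstance⟩
    have hsurj : Function.Surjective (Algebra.ofId A (IsLocalRing.ResidueField A)) := by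
      intro y
      obtain ⟨x, rfl⟩ := IsLocalRing.residue_surjective y
      exact ⟨x, rfl⟩
    have hkn : IsNilpotent (RingHom.ker ((Algebra.ofId A (IsLocalRing.ResidueField A) :
        A →ₐ[A] IsLocalRing.ResidueField A) : A →+* IsLocalRing.ResidueField A)) := by
      have hkk : RingHom.ker ((Algebra.ofId A (IsLocalRing.ResidueField A) :
          A →ₐ[A] IsLocalRing.ResidueField A) : A →+* IsLocalRing.ResidueField A) =
          IsLocalRing.maximalIdeal A := by
        rw [← IsLocalRing.ker_residue]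
        exact Ideal.ext (fun x => Iff.rfl)
      rw [hkk, ← IsLocalRing.jacobson_eq_maximalIdeal (⊥ : Ideal A) bot_ne_top]
      exact IsArtinianRing.isNilpotent_jacobson_bot
    obtain ⟨C', _, _, hC1, hC2, hC3, hC4⟩ := lift_diag2 (R := A) (A := C) A
      (IsLocalRing.ResidueField A) (Algebra.ofId A (IsLocalRing.ResidueField A)) hsurj hkn k' hd'
    exact ⟨C', inferInstance, inferInstance, hC1, hC3 hfin, hC2, hC4 inferInstance inferInstance⟩
  exact ⟨isMultType_of_isIsotrivial hiso, hiso⟩

end Mains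

end Groth.Agent.Helper25.NilLift3
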