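import Mathlib
import Groth.Prelude.Def_SGA3b
import Groth.Prelude.Def_CartDual
import Groth.Agent.Lib.Helper25.NilLift3

/-!
# Helper25: the dual Hopf algebra of a finite locally free commutative group is étale iff the group
is isotrivial (connected base).
-/

set_option autoImplicit false

namespace Groth.Agent.Helper25.CartIso

open TensorProduct SGA3b
open Groth.Agent.Helper25.NilLift Groth.Agent.Helper25.NilLift2
open Groth.Agent.Helper28.IntegralDescent

universe u

section Pairing

variable (k : Type u) [CommRing k] (A : Type u) [CommRing A] [Bialgebra k A]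
variable (T : Type u) [CommRing T] [Algebra k T]

/-- the `T`-linear form on `T ⊗ A` induced by a linear form on `A` -/
noncomputable def pT (x : CartDual.D k A) : T ⊗[k] A →ₗ[T] T :=
  (Algebra.TensorProduct.rid k T T).toLinearMap ∘ₗ x.ofConv.baseChange T

theorem pT_tmul (x : CartDual.D k A) (t : T) (a : A) :
    pT k A T x (t ⊗ₜ[k] a) = x.ofConv a • t := by
  simp [pT]

/-- `pT` as a linear map -/
noncomputable def pTl : CartDual.D k A →ₗ[k] (T ⊗[k] A →ₗ[T] T) where
  toFun := pT k A T
  map_add' x y := by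
    apply TensorProduct.AlgebraTensorModule.ext
    intro t a
    rw [LinearMap.add_apply, pT_tmul, pT_tmul, pT_tmul]
    show (x.ofConv a + y.ofConv a) • t = _
    rw [add_smul]
  map_smul' c x := by
    apply TensorProduct.AlgebraTensorModule.ext
    intro t a
    rw [RingHom.id_apply, LinearMap.smul_apply, pT_tmul, pT_tmul]
    show (c • x.ofConv a) • t = c • (x.ofConv a • t)
    rw [smul_assoc]

theorem pTl_apply (x : CartDual.D k A) : pTl k A T x = pT k A T x := rfl

/-- `T ⊗ D(A) → Hom_T(T ⊗ A, T)` -/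
noncomputable def PsiT : T ⊗[k] CartDual.D k A →ₗ[T] (T ⊗[k] A →ₗ[T] T) :=
  (pTl k A T).liftBaseChange T

theorem PsiT_tmul (t : T) (x : CartDual.D k A) :
    PsiT k A T (t ⊗ₜ[k] x) = t • pT k A T x := rfl

/-- the pairing of `(T ⊗ A) ⊗_T (T ⊗ A)` with `x ⊗ y` -/
noncomputable def pair2 (x y : CartDual.D k A) : (T ⊗[k] A) ⊗[T] (T ⊗[k] A) →ₗ[T] T :=
  LinearMap.mul' T T ∘ₗ TensorProduct.map (pT k A T x) (pT k A T y)

theorem pair2_tmul (x y : CartDual.D k A) (u v : T ⊗[k] A) :
    pair2 k A T x y (u ⊗ₜ[T] v) = pT k A T x u * pT k A T y v := rfl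

theorem pair2_Psi (x y : CartDual.D k A) (z : A ⊗[k] A) :
    pair2 k A T x y (Ψ (k := k) (K := T) z) =
      algebraMap k T (LinearMap.mul' k k (TensorProduct.map x.ofConv y.ofConv z)) := by
  induction z using TensorProduct.induction_on with
  | zero => simp
  | tmul a b =>
    rw [Ψ_tmul, pair2_tmul, pT_tmul, pT_tmul, TensorProduct.map_tmul, LinearMap.mul'_apply,
      map_mul, Algebra.algebraMap_eq_smul_one, Algebra.algebraMap_eq_smul_one]
  | add z w hz hw => rw [map_add, map_add, hz, hw, map_add, map_add, map_add]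

theorem pT_mul (x y : CartDual.D k A) (g : T ⊗[k] A) :
    pT k A T (x * y) g = pair2 k A T x y (Coalgebra.comul (R := T) g) := by
  induction g using TensorProduct.induction_on with
  | zero => simp
  | tmul t a =>
    have h1 : (t ⊗ₜ[k] a : T ⊗[k] A) = t • ((1 : T) ⊗ₜ[k] a) := by
      rw [TensorProduct.smul_tmul', smul_eq_mul, mul_one]
    rw [h1, map_smul, map_smul, map_smul, comul_one_tmul, pair2_Psi, pT_tmul,
      Algebra.algebraMap_eq_smul_one]
    rfl
  | add g h hg hh => rw [map_add, map_add, map_add, hg, hh]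

theorem pT_one (g : T ⊗[k] A) : pT k A T 1 g = Coalgebra.counit (R := T) g := by
  induction g using TensorProduct.induction_on with
  | zero => simp
  | tmul t a =>
    rw [pT_tmul, TensorProduct.counit_tmul]
    rfl
  | add g h hg hh => rw [map_add, map_add, hg, hh]

/-- a group-like element of `T ⊗ A` as a character of the dual -/
noncomputable def chi0 (g : T ⊗[k] A) (hg : IsGroupLikeElem T g) : CartDual.D k A →ₐ[k] T :=
  AlgHom.ofLinearMap
    { toFun := fun x => pTl k A T x g
      map_add' := fun x y => by rw [map_add, LinearMap.add_apply]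
      map_smul' := fun c x => by rw [map_smul, LinearMap.smul_apply, RingHom.id_apply] }
    (by
      show pT k A T 1 g = 1
      rw [pT_one, hg.counit_eq_one])
    (fun x y => by
      show pT k A T (x * y) g = pT k A T x g * pT k A T y g
      rw [pT_mul, hg.comul_eq_tmul_self, pair2_tmul])

theorem chi0_apply (g : T ⊗[k] A) (hg : IsGroupLikeElem T g) (x : CartDual.D k A) :
    chi0 k A T g hg x = pT k A T x g := rfl

end Pairing

section DualBasis

variable (k : Type u) [CommRing k] (A : Type u) [CommRing A] [Bialgebra k A]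
  [Module.Finite k A] [Module.Projective k A]
variable (T : Type u) [CommRing T] [Algebra k T]

/-- a finite "dual basis" of a finite projective module -/
theorem exists_dualBasis : ∃ (n : ℕ) (a : Fin n → A) (φ : Fin n → CartDual.D k A),
    (∀ x : A, x = ∑ i, (φ i).ofConv x • a i) ∧
    (∀ y : CartDual.D k A, y = ∑ i, y.ofConv (a i) • φ i) := by
  classical
  obtain ⟨n, f, g, -, -, hfg⟩ := Module.Finite.exists_comp_eq_id_of_projective k A
  have h1 : ∀ x : A, x = ∑ i, (g x i) • f (fun j => if i = j then 1 else 0) := by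
    intro x
    have h2 : f (g x) = x := congrArg (fun l : A →ₗ[k] A => l x) hfg
    conv_lhs => rw [← h2]
    exact LinearMap.pi_apply_eq_sum_univ f (g x)
  refine ⟨n, fun i => f (fun j => if i = j then 1 else 0),
    fun i => WithConv.toConv ((LinearMap.proj i) ∘ₗ g), h1, ?_⟩
  intro y
  apply WithConv.ext
  apply LinearMap.ext
  intro x
  conv_lhs => rw [h1 x]
  rw [map_sum]
  have h3 : (∑ i, y.ofConv (f (fun j => if i = j then 1 else 0)) •
      (WithConv.toConv ((LinearMap.proj i) ∘ₗ g) : CartDual.D k A)).ofConv x =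
      ∑ i, y.ofConv (f (fun j => if i = j then 1 else 0)) * g x i := by
    rw [WithConv.ofConv_sum, LinearMap.sum_apply]
    rfl
  rw [h3]
  refine Finset.sum_congr rfl (fun i _ => ?_)
  rw [map_smul, smul_eq_mul, mul_comm]

theorem PsiT_bijective : Function.Bijective (PsiT k A T) := by
  obtain ⟨n, a, φ, h1, h2⟩ := exists_dualBasis k A
  rw [Function.bijective_iff_has_inverse]
  refine ⟨fun Λ => ∑ i, Λ ((1 : T) ⊗ₜ[k] a i) ⊗ₜ[k] φ i, ?_, ?_⟩
  · intro z
    induction z using TensorProduct.induction_on with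
    | zero => simp
    | tmul t x =>
      show ∑ i, (PsiT k A T (t ⊗ₜ[k] x)) ((1 : T) ⊗ₜ[k] a i) ⊗ₜ[k] φ i = t ⊗ₜ[k] x
      conv_rhs => rw [h2 x, TensorProduct.tmul_sum]
      refine Finset.sum_congr rfl (fun i _ => ?_)
      rw [PsiT_tmul, LinearMap.smul_apply, pT_tmul, TensorProduct.tmul_smul,
        TensorProduct.smul_tmul', smul_eq_mul, mul_comm, Algebra.smul_def, mul_one,
        ← Algebra.smul_def]
    | add z w hz hw =>
      have e : ∀ z : T ⊗[k] CartDual.D k A,
          (fun Λ : T ⊗[k] A →ₗ[T] T => ∑ i, Λ ((1 : T) ⊗ₜ[k] a i) ⊗ₜ[k] φ i) (PsiT k A T z) =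
          ∑ i, (PsiT k A T z) ((1 : T) ⊗ₜ[k] a i) ⊗ₜ[k] φ i := fun z => rfl
      rw [e] at hz hw ⊢
      rw [map_add]
      simp only [LinearMap.add_apply, TensorProduct.add_tmul, Finset.sum_add_distrib]
      rw [hz, hw]
  · intro Λ
    apply TensorProduct.AlgebraTensorModule.ext
    intro t x
    show PsiT k A T (∑ i, Λ ((1 : T) ⊗ₜ[k] a i) ⊗ₜ[k] φ i) (t ⊗ₜ[k] x) = Λ (t ⊗ₜ[k] x)
    rw [map_sum, LinearMap.sum_apply]
    have h3 : (t ⊗ₜ[k] x : T ⊗[k] A) = ∑ i, ((φ i).ofConv x • t) • ((1 : T) ⊗ₜ[k] a i) := by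
      conv_lhs => rw [h1 x, TensorProduct.tmul_sum]
      refine Finset.sum_congr rfl (fun i _ => ?_)
      rw [TensorProduct.tmul_smul, TensorProduct.smul_tmul', TensorProduct.smul_tmul',
        smul_eq_mul, mul_one]
    conv_rhs => rw [h3, map_sum]
    refine Finset.sum_congr rfl (fun i _ => ?_)
    rw [PsiT_tmul, LinearMap.smul_apply, pT_tmul, map_smul, smul_eq_mul, smul_eq_mul, mul_comm]

end DualBasis

section Theta

variable (k : Type u) [CommRing k] (A : Type u) [CommRing A] [Bialgebra k A]
  [Coalgebra.IsCocomm k A]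
variable (T : Type u) [CommRing T] [Algebra k T]

/-- a group-like element as a `T`-point of the dual -/
noncomputable def chi (g : T ⊗[k] A) (hg : IsGroupLikeElem T g) :
    T ⊗[k] CartDual.D k A →ₐ[T] T :=
  Algebra.TensorProduct.lift (Algebra.ofId T T) (chi0 k A T g hg) (fun _ _ => Commute.all _ _)

theorem chi_eq (g : T ⊗[k] A) (hg : IsGroupLikeElem T g) (z : T ⊗[k] CartDual.D k A) :
    chi k A T g hg z = PsiT k A T z g := by
  induction z using TensorProduct.induction_on with
  | zero => simp
  | tmul t x =>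
    rw [chi, Algebra.TensorProduct.lift_tmul, PsiT_tmul, LinearMap.smul_apply, chi0_apply]
    rfl
  | add z w hz hw => rw [map_add, map_add, LinearMap.add_apply, hz, hw]

/-- evaluation at a family of group-like elements -/
noncomputable def Theta {N : Type u} (β : N → T ⊗[k] A) (hβ : ∀ n, IsGroupLikeElem T (β n)) :
    T ⊗[k] CartDual.D k A →ₐ[T] (N → T) :=
  Pi.algHom T (fun _ => T) (fun n => chi k A T (β n) (hβ n))

theorem Theta_apply {N : Type u} (β : N → T ⊗[k] A) (hβ : ∀ n, IsGroupLikeElem T (β n))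
    (z : T ⊗[k] CartDual.D k A) (n : N) : Theta k A T β hβ z n = PsiT k A T z (β n) :=
  chi_eq k A T (β n) (hβ n) z

theorem Theta_bijective [Module.Finite k A] [Module.Projective k A] {N : Type u}
    (β : Module.Basis N T (T ⊗[k] A)) (hβ : ∀ n, IsGroupLikeElem T (β n)) :
    Function.Bijective (Theta k A T β hβ) := by
  constructor
  · intro z z' h
    apply (PsiT_bijective k A T).1
    apply β.ext
    intro n
    rw [← Theta_apply k A T β hβ, ← Theta_apply k A T β hβ, h]
  · intro c
    obtain ⟨z, hz⟩ := (PsiT_bijective k A T).2 (β.constr T c)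
    refine ⟨z, ?_⟩
    ext n
    rw [Theta_apply, hz, Module.Basis.constr_basis]

end Theta

section Backward

/-- an isotrivial finite locally free commutative group has étale dual -/
theorem etale_of_isIsotrivial (k : Type u) [CommRing k] [Nontrivial k] (A : Type u) [CommRing A]
    [HopfAlgebra k A] [Coalgebra.IsCocomm k A] [Module.Finite k A] [Module.Projective k A]
    (h : IsIsotrivial k A) : Algebra.Etale k (CartDual.D k A) := by
  obtain ⟨T, _, _, het, hfin, hff, hd⟩ := h
  obtain ⟨N, _, β, hβ, -, -⟩ := hasGLG_of_isDiag hd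
  have hTnt : Nontrivial T := by
    rcases subsingleton_or_nontrivial T with h | h
    · exfalso
      have h1 : Subsingleton (T ⊗[k] k) := (TensorProduct.rid k T).toEquiv.subsingleton
      have h2 : Subsingleton k := Module.FaithfullyFlat.lTensor_reflects_triviality k T k
      exact not_subsingleton k h2
    · exact h
  have hNfin : Finite N := Module.Finite.finite_basis β
  have hE : Algebra.Etale T (T ⊗[k] CartDual.D k A) :=
    Algebra.Etale.of_equiv
      (AlgEquiv.ofBijective (Theta k A T β hβ) (Theta_bijective k A T β hβ)).symm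
  exact Algebra.Etale.of_etale_tensorProduct_of_faithfullyFlat T

end Backward

section Forward

variable (k : Type u) [CommRing k] (A : Type u) [CommRing A] [Bialgebra k A]
  [Module.Finite k A] [Module.Projective k A]
variable (T : Type u) [CommRing T] [Algebra k T]

theorem eq_of_pair2 (w w' : (T ⊗[k] A) ⊗[T] (T ⊗[k] A))
    (h : ∀ x y, pair2 k A T x y w = pair2 k A T x y w') : w = w' := by
  obtain ⟨n, a, φ, h1, h2⟩ := exists_dualBasis k A
  have hU : ∀ u : T ⊗[k] A, u = ∑ i, pT k A T (φ i) u • ((1 : T) ⊗ₜ[k] a i) := by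
    intro u
    induction u using TensorProduct.induction_on with
    | zero => simp
    | tmul t x =>
      conv_lhs => rw [h1 x, TensorProduct.tmul_sum]
      refine Finset.sum_congr rfl (fun i _ => ?_)
      rw [pT_tmul, TensorProduct.tmul_smul, TensorProduct.smul_tmul', TensorProduct.smul_tmul',
        smul_eq_mul, mul_one]
    | add u v hu hv =>
      conv_lhs => rw [hu, hv, ← Finset.sum_add_distrib]
      refine Finset.sum_congr rfl (fun i _ => ?_)
      rw [map_add, add_smul]
  have hW : ∀ w : (T ⊗[k] A) ⊗[T] (T ⊗[k] A), w = ∑ i, ∑ j, pair2 k A T (φ i) (φ j) w •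
      (((1 : T) ⊗ₜ[k] a i) ⊗ₜ[T] ((1 : T) ⊗ₜ[k] a j)) := by
    intro w
    induction w using TensorProduct.induction_on with
    | zero => simp
    | tmul u v =>
      conv_lhs => rw [hU u, hU v, TensorProduct.sum_tmul]
      refine Finset.sum_congr rfl (fun i _ => ?_)
      rw [TensorProduct.tmul_sum]
      refine Finset.sum_congr rfl (fun j _ => ?_)
      rw [TensorProduct.smul_tmul_smul, pair2_tmul]
    | add w w' hw hw' =>
      conv_lhs => rw [hw, hw', ← Finset.sum_add_distrib]
      refine Finset.sum_congr rfl (fun i _ => ?_)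
      rw [← Finset.sum_add_distrib]
      refine Finset.sum_congr rfl (fun j _ => ?_)
      rw [map_add, add_smul]
  rw [hW w, hW w']
  refine Finset.sum_congr rfl (fun i _ => Finset.sum_congr rfl (fun j _ => ?_))
  rw [h]

theorem exists_gl_of_char (χ : CartDual.D k A →ₐ[k] T) :
    ∃ g : T ⊗[k] A, IsGroupLikeElem T g ∧ ∀ x, pT k A T x g = χ x := by
  obtain ⟨n, a, φ, h1, h2⟩ := exists_dualBasis k A
  have hg : ∀ x, pT k A T x (∑ j, χ (φ j) ⊗ₜ[k] a j) = χ x := by
    intro x
    conv_rhs => rw [h2 x, map_sum]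
    rw [map_sum]
    refine Finset.sum_congr rfl (fun j _ => ?_)
    rw [pT_tmul, map_smul]
  refine ⟨∑ j, χ (φ j) ⊗ₜ[k] a j, ⟨?_, ?_⟩, hg⟩
  · rw [← pT_one, hg, map_one]
  · apply eq_of_pair2 k A T
    intro x y
    rw [← pT_mul, hg, map_mul, pair2_tmul, hg, hg]

theorem exists_gl_basis [Coalgebra.IsCocomm k A] {n : ℕ}
    (e : T ⊗[k] CartDual.D k A ≃ₐ[T] (Fin n → T)) :
    ∃ β : Module.Basis (Fin n) T (T ⊗[k] A), ∀ i, IsGroupLikeElem T (β i) := by
  classical
  have hχ : ∀ i : Fin n, ∃ χ : CartDual.D k A →ₐ[k] T, ∀ x, χ x = e ((1 : T) ⊗ₜ[k] x) i := by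
    intro i
    refine ⟨(((Pi.evalAlgHom T (fun _ : Fin n => T) i).comp e.toAlgHom).restrictScalars k).comp
      Algebra.TensorProduct.includeRight, fun x => rfl⟩
  choose χ hχ using hχ
  choose g hg hgχ using fun i => exists_gl_of_char k A T (χ i)
  have hev : ∀ z i, PsiT k A T z (g i) = e z i := by
    intro z i
    induction z using TensorProduct.induction_on with
    | zero => rw [map_zero, map_zero]; rfl
    | tmul t x =>
      rw [PsiT_tmul, LinearMap.smul_apply, hgχ, hχ]
      have h3 : (t ⊗ₜ[k] x : T ⊗[k] CartDual.D k A) = t • ((1 : T) ⊗ₜ[k] x) := by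
        rw [TensorProduct.smul_tmul', smul_eq_mul, mul_one]
      rw [h3, map_smul]
      rfl
    | add z w hz hw => rw [map_add, map_add, LinearMap.add_apply, hz, hw]; rfl
  have hex : ∀ i : Fin n, ∃ Λ : T ⊗[k] A →ₗ[T] T, ∀ j, Λ (g j) = if j = i then 1 else 0 := by
    intro i
    obtain ⟨z, hz⟩ := e.surjective (Pi.single i 1)
    refine ⟨PsiT k A T z, fun j => ?_⟩
    rw [hev, hz, Pi.single_apply]
  choose Lam hLam using hex
  have hinj : ∀ Λ Λ' : T ⊗[k] A →ₗ[T] T, (∀ j, Λ (g j) = Λ' (g j)) → Λ = Λ' := by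
    intro Λ Λ' h
    obtain ⟨z, rfl⟩ := (PsiT_bijective k A T).2 Λ
    obtain ⟨z', rfl⟩ := (PsiT_bijective k A T).2 Λ'
    have hzz : z = z' := by
      apply e.injective
      ext j
      rw [← hev, ← hev, h]
    rw [hzz]
  have hli : LinearIndependent T g := by
    rw [Fintype.linearIndependent_iff]
    intro c hc j
    have h4 := congrArg (Lam j) hc
    rw [map_sum, map_zero] at h4
    have h5 : ∀ i ∈ Finset.univ, Lam j (c i • g i) = if i = j then c i else 0 := by
      intro i _
      rw [map_smul, hLam, smul_eq_mul, mul_ite, mul_one, mul_zero]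
    rw [Finset.sum_congr rfl h5, Finset.sum_ite_eq' Finset.univ j,
      if_pos (Finset.mem_univ j)] at h4
    exact h4
  have hsp : ⊤ ≤ Submodule.span T (Set.range g) := by
    intro u _
    have h6 : u = ∑ i, Lam i u • g i := by
      rw [← sub_eq_zero, ← Module.forall_dual_apply_eq_zero_iff T]
      intro Λ
      have h7 : Λ = ∑ i, Λ (g i) • Lam i := by
        apply hinj
        intro j
        rw [LinearMap.sum_apply]
        have h8 : ∀ i ∈ Finset.univ, (Λ (g i) • Lam i) (g j) =
            if j = i then Λ (g i) else 0 := by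
          intro i _
          rw [LinearMap.smul_apply, hLam, smul_eq_mul, mul_ite, mul_one, mul_zero]
        rw [Finset.sum_congr rfl h8, Finset.sum_ite_eq Finset.univ j,
          if_pos (Finset.mem_univ j)]
      rw [map_sub, map_sum, sub_eq_zero]
      conv_lhs => rw [h7, LinearMap.sum_apply]
      refine Finset.sum_congr rfl (fun i _ => ?_)
      rw [LinearMap.smul_apply, map_smul, smul_eq_mul, smul_eq_mul, mul_comm]
    rw [h6]
    exact Submodule.sum_mem _
      (fun i _ => Submodule.smul_mem _ _ (Submodule.subset_span ⟨i, rfl⟩))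
  exact ⟨Module.Basis.mk hli hsp, fun i => by rw [Module.Basis.mk_apply]; exact hg i⟩

end Forward

section Table

theorem exists_idem_split {T : Type*} [CommRing T] [Nontrivial T] [DecidableEq T] (F : Finset T)
    (hF : ∀ c ∈ F, IsIdempotentElem c) :
    ∃ e : T, IsIdempotentElem e ∧ e ≠ 0 ∧ ∀ c ∈ F, c * e = e ∨ c * e = 0 := by
  induction F using Finset.induction_on with
  | empty => exact ⟨1, IsIdempotentElem.one, one_ne_zero, by simp⟩
  | insert c F hc ih =>
    obtain ⟨e, he, he0, hF'⟩ := ih (fun c' hc' => hF c' (Finset.mem_insert_of_mem hc'))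
    have hci := hF c (Finset.mem_insert_self c F)
    by_cases h : c * e = 0
    · refine ⟨e, he, he0, ?_⟩
      intro c' hc'
      rcases Finset.mem_insert.mp hc' with rfl | hc'
      · right
        exact h
      · exact hF' c' hc'
    · refine ⟨c * e, hci.mul he, h, ?_⟩
      intro c' hc'
      rcases Finset.mem_insert.mp hc' with rfl | hc'
      · left
        rw [← mul_assoc, hci.eq]
      · rcases hF' c' hc' with h1 | h1
        · left
          rw [mul_left_comm, h1]
        · right
          rw [mul_left_comm, h1, mul_zero]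

variable {T : Type u} [CommRing T] [Nontrivial T] {D : Type u} [CommRing D] [HopfAlgebra T D]
  {N : Type*} [Finite N] (b : Module.Basis N T D) (hb : ∀ n, IsGroupLikeElem T (b n))

include hb in
theorem eq_basis_of_zero_one {h : D} (hh : IsGroupLikeElem T h)
    (h01 : ∀ l, b.repr h l = 0 ∨ b.repr h l = 1) : ∃ l, h = b l := by
  classical
  have h1 : ∃ l, b.repr h l ≠ 0 := by
    by_contra hcon
    push Not at hcon
    have h2 := counit_eq_sum b hb h
    rw [hh.counit_eq_one, Finsupp.sum, Finset.sum_eq_zero (fun l _ => hcon l)] at h2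
    exact one_ne_zero h2
  obtain ⟨l, hl⟩ := h1
  have hl1 : b.repr h l = 1 := (h01 l).resolve_left hl
  refine ⟨l, ?_⟩
  apply b.repr.injective
  rw [Module.Basis.repr_self]
  ext l'
  rw [Finsupp.single_apply]
  split_ifs with h3
  · rw [← h3]
    exact hl1
  · have h4 := repr_mul_repr b hb hh l' l
    rw [if_neg (fun h5 => h3 h5.symm), hl1, mul_one] at h4
    exact h4

include hb in
theorem hasGLG_of_table (h1 : ∀ l, b.repr 1 l = 0 ∨ b.repr 1 l = 1)
    (hmul : ∀ i j l, b.repr (b i * b j) l = 0 ∨ b.repr (b i * b j) l = 1) : HasGLG T D := by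
  classical
  obtain ⟨l₁, hl₁⟩ := eq_basis_of_zero_one b hb (IsGroupLikeElem.one (R := T) (A := D)) h1
  have hm : ∀ i j, ∃ l, b i * b j = b l := fun i j =>
    eq_basis_of_zero_one b hb ((hb i).mul (hb j)) (hmul i j)
  choose σ hσ using hm
  let γ : N → GroupLike T D := fun n => ⟨b n, hb n⟩
  have hγinj : Function.Injective γ := by
    intro n n' h
    exact b.injective (congrArg GroupLike.val h)
  have hγ1 : γ l₁ = 1 := GroupLike.val_injective hl₁.symm
  have hγmul : ∀ i j, γ i * γ j = γ (σ i j) := fun i j => GroupLike.val_injective (hσ i j)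
  have hγinv : ∀ i, ∃ l, (γ i)⁻¹ = γ l := by
    intro i
    have hinj : Function.Injective (σ i) := by
      intro l l' h
      apply hγinj
      have h2 : γ i * γ l = γ i * γ l' := by rw [hγmul, hγmul, h]
      exact mul_left_cancel h2
    obtain ⟨l, hl⟩ := (Finite.injective_iff_surjective.mp hinj) l₁
    refine ⟨l, ?_⟩
    apply inv_eq_of_mul_eq_one_right
    rw [hγmul, hl, hγ1]
  let M : Subgroup (GroupLike T D) :=
    { carrier := Set.range γ
      mul_mem' := by
        rintro _ _ ⟨i, rfl⟩ ⟨j, rfl⟩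
        exact ⟨σ i j, (hγmul i j).symm⟩
      one_mem' := ⟨l₁, hγ1⟩
      inv_mem' := by
        rintro _ ⟨i, rfl⟩
        obtain ⟨l, hl⟩ := hγinv i
        exact ⟨l, hl.symm⟩ }
  let e : N ≃ M := Equiv.ofBijective (fun n => (⟨γ n, ⟨n, rfl⟩⟩ : M))
    ⟨fun n n' h => hγinj (congrArg (fun m : M => (m : GroupLike T D)) h), fun m => by
      obtain ⟨m, ⟨n, rfl⟩⟩ := m
      exact ⟨n, rfl⟩⟩
  have hβ' : ∀ m : M, (b.reindex e) m = ((m : GroupLike T D) : D) := by
    intro m
    obtain ⟨n, rfl⟩ := e.surjective m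
    rw [Module.Basis.reindex_apply, Equiv.symm_apply_apply]
    rfl
  refine ⟨M, inferInstance, b.reindex e, fun m => ?_, ?_, fun m m' => ?_⟩
  · rw [hβ']
    exact (m : GroupLike T D).2
  · rw [hβ']
    rfl
  · rw [hβ', hβ', hβ']
    rfl

end Table

section Assemble

theorem ff_of_connected (k : Type u) [CommRing k] [ConnectedSpace (PrimeSpectrum k)] (S : Type u)
    [CommRing S] [Algebra k S] [Nontrivial S] [Module.Finite k S] [Module.Flat k S]
    [Module.FinitePresentation k S] : Module.FaithfullyFlat k S := by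
  apply Module.FaithfullyFlat.of_comap_surjective
  rw [← PrimeSpectrum.rankAtStalk_pos_iff_comap_surjective]
  obtain ⟨n, hn⟩ := (Module.isLocallyConstant_rankAtStalk (R := k) (M := S)).exists_eq_const
  intro p
  rw [hn]
  show 0 < n
  rcases Nat.eq_zero_or_pos n with h | h
  · exfalso
    subst h
    have h2 : Subsingleton S := (Module.rankAtStalk_eq_zero_iff_subsingleton (R := k)).mp hn
    exact not_subsingleton S h2
  · exact h

/-- base change of a group-like basis whose multiplication table becomes constant -/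
theorem isDiag_of_table_bc (k : Type u) [CommRing k] (A : Type u) [CommRing A] [HopfAlgebra k A]
    (T : Type u) [CommRing T] [Algebra k T] {n : ℕ} (β : Module.Basis (Fin n) T (T ⊗[k] A))
    (hβ : ∀ i, IsGroupLikeElem T (β i)) (T' : Type u) [CommRing T'] [Nontrivial T']
    [Algebra T T'] [Algebra k T'] [IsScalarTower k T T']
    (h1 : ∀ l, algebraMap T T' (β.repr 1 l) = 0 ∨ algebraMap T T' (β.repr 1 l) = 1)
    (hmul : ∀ i j l, algebraMap T T' (β.repr (β i * β j) l) = 0 ∨
      algebraMap T T' (β.repr (β i * β j) l) = 1) : IsDiag T' (T' ⊗[k] A) := by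
  have hc0 : ∀ y, (Algebra.TensorProduct.cancelBaseChange k T T' T' A).toLinearEquiv y =
      Groth.Agent.Helper6.MT.cancelBC k T T' A y := fun y => rfl
  obtain ⟨b, hbdef⟩ : ∃ b : Module.Basis (Fin n) T' (T' ⊗[k] A), b = (β.baseChange T').map
      (Algebra.TensorProduct.cancelBaseChange k T T' T' A).toLinearEquiv := ⟨_, rfl⟩
  have hb_apply : ∀ i, b i = Groth.Agent.Helper6.MT.cancelBC k T T' A ((1 : T') ⊗ₜ[T] β i) := by
    intro i
    rw [hbdef, Module.Basis.map_apply, Module.Basis.baseChange_apply, hc0]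
  have hb : ∀ i, IsGroupLikeElem T' (b i) := fun i => by
    rw [hb_apply]
    exact (Groth.Agent.Helper6.MT.isGroupLikeElem_one_tmul (hβ i)).map
      (Groth.Agent.Helper6.MT.cancelBC k T T' A)
  have hrepr : ∀ (x : T ⊗[k] A) l,
      b.repr (Groth.Agent.Helper6.MT.cancelBC k T T' A ((1 : T') ⊗ₜ[T] x)) l =
        algebraMap T T' (β.repr x l) := by
    intro x l
    rw [hbdef, Module.Basis.map_repr, LinearEquiv.trans_apply, ← hc0,
      LinearEquiv.symm_apply_apply, Module.Basis.baseChange_repr_tmul,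
      Algebra.algebraMap_eq_smul_one]
  have h1' : ∀ l, b.repr 1 l = 0 ∨ b.repr 1 l = 1 := by
    intro l
    have h2 : (1 : T' ⊗[k] A) =
        Groth.Agent.Helper6.MT.cancelBC k T T' A ((1 : T') ⊗ₜ[T] (1 : T ⊗[k] A)) := by
      rw [← Algebra.TensorProduct.one_def, map_one]
    rw [h2, hrepr]
    exact h1 l
  have hmul' : ∀ i j l, b.repr (b i * b j) l = 0 ∨ b.repr (b i * b j) l = 1 := by
    intro i j l
    have h2 : b i * b j =
        Groth.Agent.Helper6.MT.cancelBC k T T' A ((1 : T') ⊗ₜ[T] (β i * β j)) := by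
      rw [hb_apply, hb_apply, ← map_mul, Algebra.TensorProduct.tmul_mul_tmul, one_mul]
    rw [h2, hrepr]
    exact hmul i j l
  exact isDiag_of_hasGLG (hasGLG_of_table b hb h1' hmul')

/-- a finite locally free commutative group over a connected base whose dual is étale is
isotrivial -/
theorem isIsotrivial_of_etale (k : Type u) [CommRing k] [ConnectedSpace (PrimeSpectrum k)]
    (A : Type u) [CommRing A] [HopfAlgebra k A] [Coalgebra.IsCocomm k A] [Module.Finite k A]
    [Module.Projective k A] (h : Algebra.Etale k (CartDual.D k A)) : IsIsotrivial k A := by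
  classical
  have hknt : Nontrivial k := by
    obtain ⟨p⟩ := (inferInstance : Nonempty (PrimeSpectrum k))
    exact p.nontrivial
  have hfp : Module.FinitePresentation k (CartDual.D k A) :=
    Module.finitePresentation_of_projective k _
  obtain ⟨n, hn⟩ : ∃ n : ℕ, Module.rankAtStalk (R := k) (CartDual.D k A) = n := by
    obtain ⟨n, hn⟩ := (Module.isLocallyConstant_rankAtStalk (R := k)
      (M := CartDual.D k A)).exists_eq_const
    exact ⟨n, by rw [hn]; rfl⟩
  obtain ⟨T, _, _, hff, hfin, het, hsplit⟩ :=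
    Algebra.IsFiniteSplit.exists_tensorProduct_of_etale hn
  obtain ⟨n', ⟨e⟩⟩ := hsplit.1
  obtain ⟨β, hβ⟩ := exists_gl_basis k A T
    (show (T ⊗[k] CartDual.D k A) ≃ₐ[T] (Fin n' → T) from e)
  have hTnt : Nontrivial T := by
    rcases subsingleton_or_nontrivial T with h | h
    · exfalso
      have h1 : Subsingleton (T ⊗[k] k) := (TensorProduct.rid k T).toEquiv.subsingleton
      have h2 : Subsingleton k := Module.FaithfullyFlat.lTensor_reflects_triviality k T k
      exact not_subsingleton k h2
    · exact h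
  obtain ⟨F, hFdef⟩ : ∃ F : Finset T, F = (Finset.univ.image (fun l : Fin n' => β.repr 1 l)) ∪
    (Finset.univ.image (fun p : Fin n' × Fin n' × Fin n' =>
      β.repr (β p.1 * β p.2.1) p.2.2)) := ⟨_, rfl⟩
  have hF : ∀ c ∈ F, IsIdempotentElem c := by
    intro c hc
    rw [hFdef] at hc
    rcases Finset.mem_union.mp hc with hc | hc
    · obtain ⟨l, -, rfl⟩ := Finset.mem_image.mp hc
      have h3 := repr_mul_repr β hβ (IsGroupLikeElem.one (R := T) (A := T ⊗[k] A)) l l
      rwa [if_pos rfl] at h3
    · obtain ⟨p, -, rfl⟩ := Finset.mem_image.mp hc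
      have h3 := repr_mul_repr β hβ ((hβ p.1).mul (hβ p.2.1)) p.2.2 p.2.2
      rwa [if_pos rfl] at h3
  obtain ⟨e₀, he₀, he₀ne, hsp⟩ := exists_idem_split F hF
  have hloc : IsLocalization.Away e₀ (T ⧸ Ideal.span {1 - e₀}) :=
    IsLocalization.Away.quotient_of_isIdempotentElem he₀
  have hT'nt : Nontrivial (T ⧸ Ideal.span {1 - e₀}) := by
    apply Ideal.Quotient.nontrivial_iff.mpr
    intro htop
    have h1 : (1 : T) ∈ Ideal.span {1 - e₀} := by
      rw [htop]
      trivial
    obtain ⟨r, hr⟩ := Ideal.mem_span_singleton'.mp h1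
    apply he₀ne
    have h2 : e₀ = r * (1 - e₀) * e₀ := by rw [hr, one_mul]
    rw [h2, mul_assoc, sub_mul, one_mul, he₀.eq, sub_self, mul_zero]
  have hmk : Ideal.Quotient.mk (Ideal.span {1 - e₀}) e₀ = 1 := by
    rw [← map_one (Ideal.Quotient.mk (Ideal.span {1 - e₀})), Ideal.Quotient.eq]
    have h1 : e₀ - 1 = -(1 - e₀) := by ring
    rw [h1]
    exact neg_mem (Ideal.subset_span rfl)
  have h01 : ∀ c ∈ F, algebraMap T (T ⧸ Ideal.span {1 - e₀}) c = 0 ∨
      algebraMap T (T ⧸ Ideal.span {1 - e₀}) c = 1 := by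
    intro c hc
    rw [Ideal.Quotient.algebraMap_eq]
    have h1 : Ideal.Quotient.mk (Ideal.span {1 - e₀}) c =
        Ideal.Quotient.mk (Ideal.span {1 - e₀}) (c * e₀) := by
      rw [map_mul, hmk, mul_one]
    rcases hsp c hc with h2 | h2
    · right
      rw [h1, h2, hmk]
    · left
      rw [h1, h2, map_zero]
  have het' : Algebra.Etale T (T ⧸ Ideal.span {1 - e₀}) :=
    Algebra.Etale.of_isLocalizationAway e₀
  have hetk : Algebra.Etale k (T ⧸ Ideal.span {1 - e₀}) :=
    Algebra.Etale.comp k T (T ⧸ Ideal.span {1 - e₀})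
  have hfink : Module.Finite k (T ⧸ Ideal.span {1 - e₀}) :=
    Module.Finite.trans T (T ⧸ Ideal.span {1 - e₀})
  have hfpk : Module.FinitePresentation k (T ⧸ Ideal.span {1 - e₀}) :=
    Module.FinitePresentation.of_finite_of_finitePresentation k _
  have hffk : Module.FaithfullyFlat k (T ⧸ Ideal.span {1 - e₀}) :=
    ff_of_connected k (T ⧸ Ideal.span {1 - e₀})
  refine ⟨T ⧸ Ideal.span {1 - e₀}, inferInstance, inferInstance, hetk, hfink, hffk, ?_⟩
  apply isDiag_of_table_bc k A T β hβ (T ⧸ Ideal.span {1 - e₀})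
  · intro l
    apply h01
    rw [hFdef]
    exact Finset.mem_union_left _ (Finset.mem_image_of_mem _ (Finset.mem_univ l))
  · intro i j l
    apply h01
    rw [hFdef]
    exact Finset.mem_union_right _ (Finset.mem_image.mpr ⟨(i, j, l), Finset.mem_univ _, rfl⟩)

/-- S15898 -/
theorem main15898 (R : Type u) [CommRing R] [ConnectedSpace (PrimeSpectrum R)] (A : Type u)
    [CommRing A] [HopfAlgebra R A] [Coalgebra.IsCocomm R A] [Module.Finite R A]
    [Module.Projective R A] :
    Algebra.Etale R (CartDual.D R A) ↔ SGA3b.IsIsotrivial R A := by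
  have hknt : Nontrivial R := by
    obtain ⟨p⟩ := (inferInstance : Nonempty (PrimeSpectrum R))
    exact p.nontrivial
  exact ⟨isIsotrivial_of_etale R A, etale_of_isIsotrivial R A⟩

end Assemble

end Groth.Agent.Helper25.CartIso
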