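import Mathlib

/-!
# Optimal chains through a monotone point configuration (helper25)

Dynamic programming for `min_c Σ (x_{c_{j+1}} - x_{c_j}) (y_{c_{j+1}} + y_{c_j})` and the
"lower convex envelope" estimate.
-/

set_option autoImplicit false

namespace Groth.Agent.Helper25.ChainDP

open Finset

/-- cost of a step from index `a` to index `b` -/
def cost (x y : ℕ → ℝ) (a b : ℕ) : ℝ := (x b - x a) * (y b + y a)

theorem cost_self (x y : ℕ → ℝ) (a : ℕ) : cost x y a a = 0 := by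
  simp [cost]

theorem exists_dp (x y : ℕ → ℝ) (m : ℕ) :
    ∃ D : ℕ → ℝ, D 0 = 0 ∧ (∀ a b, a < b → b ≤ m → D b ≤ D a + cost x y a b) ∧
      (∀ k, 0 < k → k ≤ m → ∃ j, j < k ∧ D k = D j + cost x y j k) := by
  induction m with
  | zero =>
    refine ⟨fun _ => 0, rfl, ?_, ?_⟩
    · intro a b hab hb
      omega
    · intro k hk hk'
      omega
  | succ m ih =>
    obtain ⟨D, h0, h1, h2⟩ := ih
    obtain ⟨j₀, hj₀, hmin⟩ := Finset.exists_min_image (Finset.range (m + 1))
      (fun j => D j + cost x y j (m + 1)) ⟨0, Finset.mem_range.mpr (Nat.succ_pos m)⟩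
    have hj₀' : j₀ < m + 1 := Finset.mem_range.mp hj₀
    refine ⟨Function.update D (m + 1) (D j₀ + cost x y j₀ (m + 1)), ?_, ?_, ?_⟩
    · rw [Function.update_of_ne (by omega)]
      exact h0
    · intro a b hab hb
      have ha : a ≠ m + 1 := by omega
      rw [Function.update_of_ne ha]
      by_cases hbm : b = m + 1
      · subst hbm
        rw [Function.update_self]
        exact hmin a (Finset.mem_range.mpr hab)
      · rw [Function.update_of_ne hbm]
        exact h1 a b hab (by omega)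
    · intro k hk hkm
      by_cases hkm' : k = m + 1
      · subst hkm'
        refine ⟨j₀, hj₀', ?_⟩
        rw [Function.update_self, Function.update_of_ne (by omega)]
      · obtain ⟨j, hj, hjk⟩ := h2 k hk (by omega)
        refine ⟨j, hj, ?_⟩
        rw [Function.update_of_ne hkm', Function.update_of_ne (by omega)]
        exact hjk

/-- the hypotheses of the dynamic programme -/
structure Setup (n : ℕ) (x y D : ℕ → ℝ) : Prop where
  hx : ∀ i j, i ≤ j → j ≤ n → x i ≤ x j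
  hy : ∀ i j, i ≤ j → j ≤ n → y j ≤ y i
  hx0 : x 0 = 0
  hD0 : D 0 = 0
  hD1 : ∀ a b, a < b → b ≤ n → D b ≤ D a + cost x y a b
  hD2 : ∀ k, 0 < k → k ≤ n → ∃ j, j < k ∧ D k = D j + cost x y j k

/-- `H k = Σ_{i<k} (x_k - x_i)` -/
def H (x : ℕ → ℝ) (k : ℕ) : ℝ := ∑ i ∈ range k, (x k - x i)

/-- the slack in the hinge inequality -/
def G (x : ℕ → ℝ) (β : ℝ) (k : ℕ) : ℝ := 2 * β * H x k - x k ^ 2

/-- the inductive bound -/
def B (x y D : ℕ → ℝ) (β : ℝ) (k : ℕ) (s : ℝ) : Prop :=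
  D k ≤ 2 * β * ∑ i ∈ range k, y i + 2 * (x k - β * k) * y k - s * G x β k

/-- steepness of the segment from `j` to `k` -/
noncomputable def slope (x y : ℕ → ℝ) (j k : ℕ) : ℝ := (y j - y k) / (x k - x j)

theorem B_mono {x y D : ℕ → ℝ} {β : ℝ} {j : ℕ} {s s' : ℝ} (h : B x y D β j s) (hs : s' ≤ s)
    (hG : 0 ≤ G x β j) : B x y D β j s' := by
  unfold B at h ⊢
  nlinarith [mul_le_mul_of_nonneg_right hs hG]

namespace Setup

variable {n : ℕ} {x y D : ℕ → ℝ}

theorem x_nonneg (S : Setup n x y D) (i : ℕ) (hi : i ≤ n) : 0 ≤ x i := by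
  rw [← S.hx0]
  exact S.hx 0 i (Nat.zero_le _) hi

theorem hD1' (S : Setup n x y D) (a b : ℕ) (hab : a ≤ b) (hb : b ≤ n) :
    D b ≤ D a + cost x y a b := by
  rcases hab.lt_or_eq with h | rfl
  · exact S.hD1 a b h hb
  · rw [cost_self, add_zero]

theorem D_eq_zero (S : Setup n x y D) : ∀ k, k ≤ n → x k = 0 → D k = 0 := by
  intro k
  induction k using Nat.strong_induction_on with
  | _ k ih =>
    intro hk hxk
    rcases Nat.eq_zero_or_pos k with rfl | hpos
    · exact S.hD0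
    · obtain ⟨j, hj, hjk⟩ := S.hD2 k hpos hk
      have hxj : x j = 0 :=
        le_antisymm ((S.hx j k hj.le hk).trans hxk.le) (S.x_nonneg j (by omega))
      rw [hjk, ih j hj (by omega) hxj, cost, hxk, hxj]
      ring

theorem exists_pred (S : Setup n x y D) : ∀ k, k ≤ n → 0 < x k →
    ∃ j, j < k ∧ x j < x k ∧ D k = D j + cost x y j k := by
  intro k
  induction k using Nat.strong_induction_on with
  | _ k ih =>
    intro hk hxk
    have hpos : 0 < k := by
      rcases Nat.eq_zero_or_pos k with rfl | h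
      · rw [S.hx0] at hxk
        exact absurd hxk (lt_irrefl _)
      · exact h
    obtain ⟨j, hj, hjk⟩ := S.hD2 k hpos hk
    have hxjk : x j ≤ x k := S.hx j k hj.le hk
    rcases hxjk.lt_or_eq with hlt | heq
    · exact ⟨j, hj, hlt, hjk⟩
    · have hxj : 0 < x j := by
        rw [heq]
        exact hxk
      obtain ⟨j', hj', hxj', hjj'⟩ := ih j hj (by omega) hxj
      refine ⟨j', by omega, lt_of_lt_of_eq hxj' heq, ?_⟩
      have h1 := S.hD1 j' k (by omega) hk
      have hyk : y k ≤ y j := S.hy j k hj.le hk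
      have hw : 0 ≤ x j - x j' := by linarith
      apply le_antisymm h1
      rw [hjk, hjj']
      simp only [cost]
      rw [← heq]
      nlinarith [mul_le_mul_of_nonneg_left hyk hw]

theorem chord (S : Setup n x y D) {j i k : ℕ} (hji : j ≤ i) (hik : i ≤ k) (hk : k ≤ n)
    (hDk : D k = D j + cost x y j k) :
    cost x y j k ≤ cost x y j i + cost x y i k := by
  have h1 := S.hD1' i k hik hk
  have h2 := S.hD1' j i hji (hik.trans hk)
  linarith

theorem chord_slope (S : Setup n x y D) {j i k : ℕ} (hji : j ≤ i) (hik : i ≤ k) (hk : k ≤ n)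
    (hw : x j < x k) (hDk : D k = D j + cost x y j k) :
    y k + slope x y j k * (x k - x i) ≤ y i := by
  have hc := S.chord hji hik hk hDk
  have hw' : 0 < x k - x j := sub_pos.mpr hw
  have e1 : slope x y j k * (x k - x j) = y j - y k := div_mul_cancel₀ _ hw'.ne'
  simp only [cost] at hc
  have h3 : (x k - x j) * (y k + slope x y j k * (x k - x i)) ≤ (x k - x j) * y i := by
    have e2 : (x k - x j) * (y k + slope x y j k * (x k - x i)) =
        (x k - x j) * y k + (slope x y j k * (x k - x j)) * (x k - x i) := by ring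
    rw [e2, e1]
    nlinarith [hc]
  exact le_of_mul_le_mul_left h3 hw'

theorem slope_le (S : Setup n x y D) {j' j k : ℕ} (hj'j : j' < j) (hjk : j < k) (hk : k ≤ n)
    (hw' : x j' < x j) (hw : x j < x k) (hDj : D j = D j' + cost x y j' j)
    (hDk : D k = D j + cost x y j k) : slope x y j k ≤ slope x y j' j := by
  have h1 := S.hD1 j' k (hj'j.trans hjk) hk
  have hp' : 0 < x j - x j' := sub_pos.mpr hw'
  have hp : 0 < x k - x j := sub_pos.mpr hw
  rw [hDk, hDj] at h1
  simp only [cost] at h1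
  unfold slope
  rw [div_le_div_iff₀ hp hp']
  nlinarith [h1]

theorem G_eq_zero (S : Setup n x y D) (β : ℝ) {j : ℕ} (hj : j ≤ n) (hxj : x j = 0) :
    G x β j = 0 := by
  have hH : H x j = 0 := by
    unfold H
    apply Finset.sum_eq_zero
    intro i hi
    have hi' : i < j := Finset.mem_range.mp hi
    have h1 : x i ≤ 0 := (S.hx i j hi'.le hj).trans hxj.le
    have h2 := S.x_nonneg i (by omega)
    rw [hxj]
    linarith
  unfold G
  rw [hH, hxj]
  ring

theorem B_of_x_zero (S : Setup n x y D) {β : ℝ} (hβ : 0 ≤ β) {j : ℕ} (hj : j ≤ n)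
    (hxj : x j = 0) (s : ℝ) : B x y D β j s := by
  unfold B
  rw [S.G_eq_zero β hj hxj, S.D_eq_zero j hj hxj, hxj, mul_zero, sub_zero]
  have h1 : (j : ℝ) * y j ≤ ∑ i ∈ range j, y i := by
    have h2 : ∑ i ∈ range j, y j ≤ ∑ i ∈ range j, y i :=
      Finset.sum_le_sum (fun i hi => S.hy i j (Finset.mem_range.mp hi).le hj)
    rwa [Finset.sum_const, Finset.card_range, nsmul_eq_mul] at h2
  nlinarith [mul_le_mul_of_nonneg_left h1 hβ]

theorem step (S : Setup n x y D) {β : ℝ} (hβ : 0 ≤ β) {j k : ℕ} (hjk : j < k) (hk : k ≤ n)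
    (hw : x j < x k) (hDk : D k = D j + cost x y j k) (hB : B x y D β j (slope x y j k)) :
    B x y D β k (slope x y j k) := by
  obtain ⟨σ, hσ⟩ : ∃ σ, σ = slope x y j k := ⟨_, rfl⟩
  rw [← hσ] at hB ⊢
  have hw' : 0 < x k - x j := sub_pos.mpr hw
  have e1 : σ * (x k - x j) = y j - y k := by
    rw [hσ]
    exact div_mul_cancel₀ _ hw'.ne'
  have hchord : ∀ i ∈ Ico j k, y k + σ * (x k - x i) ≤ y i := by
    intro i hi
    rw [Finset.mem_Ico] at hi
    rw [hσ]
    exact S.chord_slope hi.1 hi.2.le hk hw hDk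
  have hsumy : ∑ i ∈ range k, y i = ∑ i ∈ range j, y i + ∑ i ∈ Ico j k, y i :=
    (Finset.sum_range_add_sum_Ico _ hjk.le).symm
  have hsum1 := Finset.sum_le_sum hchord
  have hsum2 : ∑ i ∈ Ico j k, (y k + σ * (x k - x i)) =
      ((k : ℝ) - j) * y k + σ * ∑ i ∈ Ico j k, (x k - x i) := by
    rw [Finset.sum_add_distrib, Finset.sum_const, Nat.card_Ico, ← Finset.mul_sum, nsmul_eq_mul,
      Nat.cast_sub hjk.le]
  have hH : H x k = H x j + (j : ℝ) * (x k - x j) + ∑ i ∈ Ico j k, (x k - x i) := by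
    unfold H
    rw [← Finset.sum_range_add_sum_Ico _ hjk.le]
    congr 1
    have h3 : ∀ i ∈ range j, x k - x i = (x j - x i) + (x k - x j) := fun i _ => by ring
    rw [Finset.sum_congr rfl h3, Finset.sum_add_distrib, Finset.sum_const, Finset.card_range,
      nsmul_eq_mul]
  obtain ⟨M, hM⟩ : ∃ M, M = ∑ i ∈ Ico j k, (x k - x i) := ⟨_, rfl⟩
  obtain ⟨Sj, hSj⟩ : ∃ Sj, Sj = ∑ i ∈ range j, y i := ⟨_, rfl⟩
  obtain ⟨SI, hSI⟩ : ∃ SI, SI = ∑ i ∈ Ico j k, y i := ⟨_, rfl⟩
  obtain ⟨Hj, hHj⟩ : ∃ Hj, Hj = H x j := ⟨_, rfl⟩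
  rw [← hM] at hsum2 hH
  rw [hsum2, ← hSI] at hsum1
  unfold B at hB ⊢
  unfold G at hB ⊢
  rw [hsumy, hH, ← hSj, ← hSI, ← hHj]
  rw [← hSj, ← hHj] at hB
  rw [hDk]
  simp only [cost]
  have p1 : β * (((k : ℝ) - j) * y k + σ * M) ≤ β * SI := mul_le_mul_of_nonneg_left hsum1 hβ
  have p2 : β * j * (σ * (x k - x j)) = β * j * (y j - y k) := by rw [e1]
  have p3 : σ * (x k - x j) * (x k + x j) = (y j - y k) * (x k + x j) := by rw [e1]
  nlinarith [p1, p2, p3, hB]

theorem bound (S : Setup n x y D) {β : ℝ} (hβ : 0 ≤ β) (hG : ∀ k, k ≤ n → 0 ≤ G x β k) :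
    ∀ k, k ≤ n → ∀ j, j < k → x j < x k → D k = D j + cost x y j k →
      B x y D β k (slope x y j k) := by
  intro k
  induction k using Nat.strong_induction_on with
  | _ k ih =>
    intro hk j hjk hw hDk
    apply S.step hβ hjk hk hw hDk
    have hjn : j ≤ n := by omega
    rcases (S.x_nonneg j hjn).eq_or_lt with h0 | hpos
    · exact S.B_of_x_zero hβ hjn h0.symm _
    · obtain ⟨j', hj'j, hw', hDj⟩ := S.exists_pred j hjn hpos
      have hBj := ih j hjk hjn j' hj'j hw' hDj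
      exact B_mono hBj (S.slope_le hj'j hjk hk hw' hw hDj hDk) (hG j hjn)

theorem exists_chain (S : Setup n x y D) : ∀ k, k ≤ n →
    ∃ (μ : ℕ) (c : Fin (μ + 1) → ℕ), StrictMono c ∧ c 0 = 0 ∧ c (Fin.last μ) = k ∧
      ∑ j : Fin μ, cost x y (c j.castSucc) (c j.succ) = D k := by
  intro k
  induction k using Nat.strong_induction_on with
  | _ k ih =>
    intro hk
    rcases Nat.eq_zero_or_pos k with rfl | hpos
    · have hsm : StrictMono (fun _ : Fin (0 + 1) => (0 : ℕ)) := by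
        intro a b hab
        exfalso
        have h1 := Fin.lt_def.mp hab
        have h2 := b.isLt
        omega
      refine ⟨0, fun _ => 0, hsm, rfl, rfl, ?_⟩
      rw [S.hD0]
      simp
    · obtain ⟨j, hj, hjk⟩ := S.hD2 k hpos hk
      obtain ⟨μ, c, hc, hc0, hcl, hsum⟩ := ih j hj (by omega)
      refine ⟨μ + 1, Fin.snoc c k, ?_, ?_, ?_, ?_⟩
      · rw [Fin.strictMono_iff_lt_succ]
        intro i
        induction i using Fin.lastCases with
        | last =>
          rw [Fin.snoc_castSucc, Fin.succ_last, Fin.snoc_last, hcl]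
          exact hj
        | cast i =>
          rw [Fin.snoc_castSucc, Fin.succ_castSucc, Fin.snoc_castSucc]
          exact Fin.strictMono_iff_lt_succ.mp hc i
      · rw [← Fin.castSucc_zero, Fin.snoc_castSucc]
        exact hc0
      · exact Fin.snoc_last _ _
      · rw [Fin.sum_univ_castSucc]
        simp only [Fin.succ_castSucc, Fin.snoc_castSucc, Fin.succ_last, Fin.snoc_last]
        rw [hsum, hcl, hjk]

end Setup

/-- **Main estimate.**  Under the hinge inequalities `x_k² ≤ 2β Σ_{i<k} (x_k - x_i)` there is a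
chain whose trapezoid sum is at most `2β Σ y_i + 2 (x_n - β (n+1)) y_n`. -/
theorem main (n : ℕ) (x y : ℕ → ℝ) (β : ℝ)
    (hx : ∀ i j, i ≤ j → j ≤ n → x i ≤ x j) (hy : ∀ i j, i ≤ j → j ≤ n → y j ≤ y i)
    (hx0 : x 0 = 0) (hβ : 0 ≤ β)
    (hG : ∀ k, k ≤ n → x k ^ 2 ≤ 2 * β * ∑ i ∈ range k, (x k - x i)) (hxn : 0 < x n) :
    ∃ (μ : ℕ) (c : Fin (μ + 1) → ℕ), StrictMono c ∧ c 0 = 0 ∧ c (Fin.last μ) = n ∧
      ∑ j : Fin μ, cost x y (c j.castSucc) (c j.succ) ≤
        2 * β * ∑ i ∈ range (n + 1), y i + 2 * (x n - β * (n + 1)) * y n := by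
  obtain ⟨D, hD0, hD1, hD2⟩ := exists_dp x y n
  have S : Setup n x y D := ⟨hx, hy, hx0, hD0, hD1, hD2⟩
  have hG' : ∀ k, k ≤ n → 0 ≤ G x β k := fun k hk => by
    unfold G H
    linarith [hG k hk]
  obtain ⟨μ, c, hc, hc0, hcl, hsum⟩ := S.exists_chain n le_rfl
  refine ⟨μ, c, hc, hc0, hcl, ?_⟩
  rw [hsum]
  obtain ⟨j, hjn, hw, hDn⟩ := S.exists_pred n le_rfl hxn
  have hB := S.bound hβ hG' n le_rfl j hjn hw hDn
  have hs : 0 ≤ slope x y j n :=
    div_nonneg (sub_nonneg.mpr (S.hy j n hjn.le le_rfl)) (sub_pos.mpr hw).le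
  unfold B at hB
  rw [Finset.sum_range_succ]
  nlinarith [mul_nonneg hs (hG' n le_rfl)]

end Groth.Agent.Helper25.ChainDP
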