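import Mathlib

namespace Groth.Agent.Helper25.ChevWarn

open MvPolynomial

variable {k : Type*} [Field k] [Fintype k]

local notation "q" => Fintype.card k

theorem two_le_card : 2 ≤ q := Fintype.one_lt_card

theorem sum_pow_card_sub_one : ∑ a : k, a ^ (q - 1) = -1 := by
  classical
  have h1 : ∀ a : k, a ^ (q - 1) = 1 - (if a = 0 then 1 else 0) := by
    intro a
    split_ifs with h
    · rw [h, zero_pow (by have := two_le_card (k := k); omega), sub_self]
    · rw [FiniteField.pow_card_sub_one_eq_one a h, sub_zero]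
  simp only [h1]
  rw [Finset.sum_sub_distrib, Finset.sum_const, Finset.card_univ, nsmul_eq_mul, mul_one,
    FiniteField.cast_card_eq_zero, Finset.sum_ite_eq' Finset.univ (0 : k) (fun _ => (1 : k)),
    if_pos (Finset.mem_univ _), zero_sub]

theorem sum_eval_eq (n : ℕ) (F : MvPolynomial (Fin (n + 1)) k)
    (hF : F.IsHomogeneous ((n + 1) * (q - 1))) :
    ∑ x : Fin (n + 1) → k, eval x F =
      (-1) ^ (n + 1) * coeff (Finsupp.equivFunOnFinite.symm fun _ : Fin (n + 1) => q - 1) F := by
  classical
  obtain ⟨D, hD⟩ : ∃ D : Fin (n + 1) →₀ ℕ,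
      D = Finsupp.equivFunOnFinite.symm fun _ : Fin (n + 1) => q - 1 := ⟨_, rfl⟩
  rw [← hD]
  have hDi : ∀ i, D i = q - 1 := fun i => by rw [hD]; rfl
  calc ∑ x, eval x F
      = ∑ x : Fin (n + 1) → k, ∑ d ∈ F.support, F.coeff d * ∏ i, x i ^ d i := by
        simp only [eval_eq']
    _ = ∑ d ∈ F.support, ∑ x : Fin (n + 1) → k, F.coeff d * ∏ i, x i ^ d i := Finset.sum_comm
    _ = ∑ d ∈ F.support, F.coeff d * ∏ i, ∑ a : k, a ^ d i := by
        apply Finset.sum_congr rfl
        intro d _
        rw [← Finset.mul_sum, Finset.prod_univ_sum, Fintype.piFinset_univ]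
    _ = ∑ d ∈ F.support, if d = D then F.coeff D * (-1) ^ (n + 1) else 0 := by
        apply Finset.sum_congr rfl
        intro d hd
        split_ifs with h
        · rw [h]
          simp only [hDi, sum_pow_card_sub_one, Finset.prod_const, Finset.card_univ,
            Fintype.card_fin]
        · have hsum : ∑ i, d i = (n + 1) * (q - 1) := by
            have h1 := hF.degree_eq_sum_deg_support hd
            rw [← Finsupp.degree_apply, Finsupp.degree_eq_sum] at h1
            exact h1.symm
          have hex : ∃ i, d i < q - 1 := by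
            by_contra hcon
            push Not at hcon
            apply h
            have h2 : ∑ _i : Fin (n + 1), (q - 1) = ∑ i, d i := by
              rw [hsum, Finset.sum_const, Finset.card_univ, Fintype.card_fin, smul_eq_mul]
            have h3 := (Finset.sum_eq_sum_iff_of_le (fun i _ => hcon i)).mp h2
            ext i
            rw [hDi i, ← h3 i (Finset.mem_univ i)]
          obtain ⟨i, hi⟩ := hex
          rw [Finset.prod_eq_zero (Finset.mem_univ i)
            (FiniteField.sum_pow_lt_card_sub_one k _ hi), mul_zero]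
    _ = (-1) ^ (n + 1) * F.coeff D := by
        rw [Finset.sum_ite_eq' F.support D]
        split_ifs with h
        · ring
        · rw [notMem_support_iff.mp h]; ring

theorem card_zeros_cast (p : ℕ) [CharP k p] (n : ℕ) (f : MvPolynomial (Fin (n + 1)) k)
    (hf : f.IsHomogeneous (n + 1)) :
    ((Nat.card {a : Fin (n + 1) → k // eval a f = 0} : ℕ) : k) =
      - ((-1) ^ (n + 1) *
        coeff (Finsupp.equivFunOnFinite.symm fun _ : Fin (n + 1) => q - 1) (f ^ (q - 1))) := by
  classical
  have hA := sum_eval_eq n (f ^ (q - 1)) (hf.pow (q - 1))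
  have hcard : Nat.card {a : Fin (n + 1) → k // eval a f = 0} =
      (Finset.univ.filter (fun x : Fin (n + 1) → k => eval x f = 0)).card := by
    rw [Nat.card_eq_fintype_card, Fintype.card_subtype]
  have h1 : ∀ x : Fin (n + 1) → k,
      eval x (f ^ (q - 1)) = 1 - (if eval x f = 0 then 1 else 0) := by
    intro x
    rw [map_pow]
    split_ifs with h
    · rw [h, zero_pow (by have := two_le_card (k := k); omega), sub_self]
    · rw [FiniteField.pow_card_sub_one_eq_one _ h, sub_zero]
  have h2 : ((Fintype.card (Fin (n + 1) → k) : ℕ) : k) = 0 := by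
    rw [Fintype.card_fun, Fintype.card_fin, Nat.cast_pow, FiniteField.cast_card_eq_zero,
      zero_pow (Nat.succ_ne_zero n)]
  simp only [h1] at hA
  rw [Finset.sum_sub_distrib, Finset.sum_const, Finset.card_univ, nsmul_eq_mul, mul_one,
    Finset.sum_boole, h2, zero_sub, ← hcard] at hA
  rw [← hA, neg_neg]

theorem s13065' (p : ℕ) [CharP k p] (n : ℕ) (f : MvPolynomial (Fin (n + 1)) k)
    (hf : f.IsHomogeneous (n + 1)) :
    p ∣ Nat.card {a : Fin (n + 1) → k // eval a f = 0} ↔
      coeff (Finsupp.equivFunOnFinite.symm fun _ : Fin (n + 1) => q - 1) (f ^ (q - 1)) = 0 := by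
  rw [← CharP.cast_eq_zero_iff k p, card_zeros_cast p n f hf, neg_eq_zero, mul_eq_zero]
  constructor
  · intro h
    rcases h with h | h
    · exact absurd h (pow_ne_zero _ (neg_ne_zero.mpr one_ne_zero))
    · exact h
  · intro h; exact Or.inr h

theorem s13065 {k : Type*} [Field k] [Finite k] (p : ℕ) [CharP k p] (n : ℕ)
    (f : MvPolynomial (Fin (n + 1)) k) (hf : f.IsHomogeneous (n + 1)) :
    p ∣ Nat.card {a : Fin (n + 1) → k // MvPolynomial.eval a f = 0} ↔
      MvPolynomial.coeff (Finsupp.equivFunOnFinite.symm fun _ : Fin (n + 1) => Nat.card k - 1)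
        (f ^ (Nat.card k - 1)) = 0 := by
  haveI := Fintype.ofFinite k
  rw [Nat.card_eq_fintype_card (α := k)]
  exact s13065' p n f hf

section S13066

variable (p : ℕ) [hp : Fact p.Prime] [CharP k p]

/-- constant exponent vector -/
noncomputable def cvec (n a : ℕ) : Fin (n + 1) →₀ ℕ := Finsupp.equivFunOnFinite.symm fun _ => a

theorem cvec_apply (n a : ℕ) (i : Fin (n + 1)) : cvec n a i = a := rfl

theorem coeff_pow_char_smul {n : ℕ} (h : MvPolynomial (Fin (n + 1)) k) (ν : Fin (n + 1) →₀ ℕ) :
    coeff (p • ν) (h ^ p) = (coeff ν h) ^ p := by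
  rw [← map_frobenius_expand p, coeff_map, coeff_expand_smul p hp.out.ne_zero, frobenius_def]

theorem coeff_pow_char_of_not_dvd {n : ℕ} (h : MvPolynomial (Fin (n + 1)) k)
    (μ : Fin (n + 1) →₀ ℕ) (j : Fin (n + 1)) (hj : ¬ p ∣ μ j) :
    coeff μ (h ^ p) = 0 := by
  rw [← map_frobenius_expand p, coeff_map, coeff_expand_of_not_dvd _ hj, map_zero]

theorem coeff_cvec_mul (n t : ℕ) (f : MvPolynomial (Fin (n + 1)) k)
    (hf : f.IsHomogeneous (n + 1)) :
    coeff (cvec n (p * (t + 1) - 1)) (f ^ (p * (t + 1) - 1)) =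
      coeff (cvec n (p - 1)) (f ^ (p - 1)) * (coeff (cvec n t) (f ^ t)) ^ p := by
  classical
  have hp2 : 2 ≤ p := hp.out.two_le
  have hexp : p * (t + 1) - 1 = (p - 1) + t * p := by
    rw [Nat.mul_succ, Nat.mul_comm p t]; omega
  have hg := hf.pow (p - 1)
  rw [hexp, pow_add, pow_mul, coeff_mul]
  rw [Finset.sum_eq_single (cvec n (p - 1), p • cvec n t)]
  · rw [coeff_pow_char_smul]
  · rintro ⟨μ, lam⟩ hmem hne
    rw [Finset.HasAntidiagonal.mem_antidiagonal] at hmem
    simp only at hmem ⊢
    by_cases hdiv : ∃ j, ¬ p ∣ lam j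
    · obtain ⟨j, hj⟩ := hdiv
      rw [coeff_pow_char_of_not_dvd p _ lam j hj, mul_zero]
    · push Not at hdiv
      have hμ : coeff μ (f ^ (p - 1)) = 0 := by
        by_contra hc
        apply hne
        have hj : ∀ j, μ j + lam j = (p - 1) + t * p := by
          intro j
          have h1 := DFunLike.congr_fun hmem j
          rw [Finsupp.add_apply, cvec_apply] at h1
          exact h1
        have hge : ∀ j, p - 1 ≤ μ j := by
          intro j
          obtain ⟨c, hc⟩ := hdiv j
          have h0 := hj j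
          rw [hc] at h0
          have h1 : p * c + (μ j + 1) = p * (1 + t) := by
            rw [mul_add, mul_one, mul_comm p t]; omega
          have h2 : p ∣ μ j + 1 :=
            (Nat.dvd_add_right (dvd_mul_right p c)).mp (h1 ▸ dvd_mul_right p (1 + t))
          have h3 : p ≤ μ j + 1 := Nat.le_of_dvd (Nat.succ_pos _) h2
          omega
        have hsum : ∑ i, μ i = (n + 1) * (p - 1) := by
          have h1 := hg.degree_eq_sum_deg_support (mem_support_iff.mpr hc)
          rw [← Finsupp.degree_apply, Finsupp.degree_eq_sum] at h1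
          exact h1.symm
        have h2 : ∑ _i : Fin (n + 1), (p - 1) = ∑ i, μ i := by
          rw [hsum, Finset.sum_const, Finset.card_univ, Fintype.card_fin, smul_eq_mul]
        have h3 := (Finset.sum_eq_sum_iff_of_le (fun i _ => hge i)).mp h2
        have hμeq : μ = cvec n (p - 1) := by
          ext j
          rw [cvec_apply, ← h3 j (Finset.mem_univ j)]
        have hlameq : lam = p • cvec n t := by
          ext j
          rw [Finsupp.smul_apply, smul_eq_mul, cvec_apply]
          have h0 := hj j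
          rw [hμeq, cvec_apply] at h0
          rw [mul_comm p t]
          omega
        rw [hμeq, hlameq]
      rw [hμ, zero_mul]
  · intro hnot
    exfalso
    apply hnot
    rw [Finset.HasAntidiagonal.mem_antidiagonal]
    ext j
    rw [Finsupp.add_apply, Finsupp.smul_apply, smul_eq_mul, cvec_apply, cvec_apply, cvec_apply,
      mul_comm p t]

theorem coeff_ne_zero_iff (n : ℕ) (f : MvPolynomial (Fin (n + 1)) k)
    (hf : f.IsHomogeneous (n + 1)) (r : ℕ) :
    coeff (cvec n (p ^ (r + 1) - 1)) (f ^ (p ^ (r + 1) - 1)) ≠ 0 ↔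
      coeff (cvec n (p - 1)) (f ^ (p - 1)) ≠ 0 := by
  induction r with
  | zero => rw [zero_add, pow_one]
  | succ r ih =>
    have h1 : 1 ≤ p ^ (r + 1) := Nat.one_le_pow _ _ hp.out.pos
    have h2 : p ^ (r + 1 + 1) = p * (p ^ (r + 1) - 1 + 1) := by
      rw [Nat.sub_add_cancel h1, pow_succ' p (r + 1)]
    rw [h2, coeff_cvec_mul p n _ f hf, mul_ne_zero_iff, pow_ne_zero_iff hp.out.ne_zero, ih]
    exact and_self_iff

end S13066

theorem s13066 {k : Type*} [Field k] [Finite k]
    (p : ℕ) [CharP k p] (n : ℕ) (f : MvPolynomial (Fin (n + 1)) k)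
    (hf : f.IsHomogeneous (n + 1)) :
    MvPolynomial.coeff (Finsupp.equivFunOnFinite.symm fun _ : Fin (n + 1) => Nat.card k - 1)
        (f ^ (Nat.card k - 1)) ≠ 0 ↔
      MvPolynomial.coeff (Finsupp.equivFunOnFinite.symm fun _ : Fin (n + 1) => p - 1)
        (f ^ (p - 1)) ≠ 0 := by
  haveI := Fintype.ofFinite k
  haveI : Fact p.Prime := ⟨CharP.char_is_prime k p⟩
  obtain ⟨⟨r, hr⟩, -, hq⟩ := FiniteField.card k p
  obtain ⟨r', rfl⟩ : ∃ r', r = r' + 1 := ⟨r - 1, by omega⟩
  rw [Nat.card_eq_fintype_card (α := k), hq]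
  exact coeff_ne_zero_iff p n f hf r'

end Groth.Agent.Helper25.ChevWarn
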