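import Mathlib

/-!
# Coefficient of `x_1 ⋯ x_d` of a linear combination of polynomials (lemma (C) for lead's Snapper
pipeline, S7686)
-/

set_option autoImplicit false

namespace Groth.Agent.Helper25.CoeffOnesSum

open MvPolynomial

/-- a polynomial over `ℚ` vanishing on `ℕ^d` is zero -/
theorem eq_zero_of_eval_nat_eq_zero {d : ℕ} (T : MvPolynomial (Fin d) ℚ)
    (h : ∀ n : Fin d → ℕ, eval (fun i => (n i : ℚ)) T = 0) : T = 0 := by
  apply MvPolynomial.funext_set (fun _ => Set.range (Nat.cast : ℕ → ℚ))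
    (fun _ => Set.infinite_range_of_injective Nat.cast_injective)
  intro x hx
  have hx' : ∀ i, ∃ m : ℕ, (m : ℚ) = x i := fun i => hx i (Set.mem_univ i)
  choose n hn using hx'
  have hxe : x = fun i => (n i : ℚ) := funext fun i => (hn i).symm
  rw [hxe, h n]
  simp

theorem coeff_ones_eq_sum {d : ℕ} {ι : Type*} (S : Finset ι) (m : ι → ℚ)
    (P : MvPolynomial (Fin d) ℚ) (Q : ι → MvPolynomial (Fin d) ℚ) (R : MvPolynomial (Fin d) ℚ)
    (hR : ∀ mon ∈ R.support, (mon.sum fun _ e => e) < d)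
    (h : ∀ n : Fin d → ℕ, eval (fun i => (n i : ℚ)) P - ∑ s ∈ S, m s * eval (fun i => (n i : ℚ)) (Q s) =
      eval (fun i => (n i : ℚ)) R) :
    coeff (Finsupp.equivFunOnFinite.symm fun _ : Fin d => 1) P =
      ∑ s ∈ S, m s * coeff (Finsupp.equivFunOnFinite.symm fun _ : Fin d => 1) (Q s) := by
  have hT : P - ∑ s ∈ S, C (m s) * Q s - R = 0 := by
    apply eq_zero_of_eval_nat_eq_zero
    intro n
    rw [map_sub, map_sub, map_sum, ← h n]
    simp only [map_mul, eval_C]
    ring
  have hRc : coeff (Finsupp.equivFunOnFinite.symm fun _ : Fin d => 1) R = 0 := by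
    rw [← MvPolynomial.notMem_support_iff]
    intro hmem
    have h1 := hR _ hmem
    have h2 : ((Finsupp.equivFunOnFinite.symm fun _ : Fin d => 1).sum fun _ e => e) = d := by
      rw [Finsupp.sum_fintype _ _ (fun _ => rfl)]
      simp
    omega
  have h3 := congrArg (coeff (Finsupp.equivFunOnFinite.symm fun _ : Fin d => 1)) hT
  rw [coeff_sub, coeff_sub, hRc, coeff_zero, sub_zero, sub_eq_zero, coeff_sum] at h3
  rw [h3]
  refine Finset.sum_congr rfl fun s _ => ?_
  rw [coeff_C_mul]

end Groth.Agent.Helper25.CoeffOnesSum
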