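import Mathlib

namespace Groth.Agent.Helper25.CombGraphLab

open SimpleGraph

variable {V : Type*} {A : Type*} [AddCommGroup A]

/-- signed copy -/
def sg : Bool → A → A
  | true, a => a
  | false, a => -a

theorem sg_add (b : Bool) (x y : A) : sg b (x + y) = sg b x + sg b y := by
  cases b
  · exact neg_add x y
  · rfl

theorem sg_not (b : Bool) (x : A) : sg (!b) x = - sg b x := by
  cases b
  · exact (neg_neg x).symm
  · rfl

theorem sg_sg (b : Bool) (x : A) : sg b (sg b x) = x := by
  cases b
  · exact neg_neg x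
  · rfl

theorem sg_zero (b : Bool) : sg b (0 : A) = 0 := by
  cases b
  · exact neg_zero
  · rfl

theorem sg_sum {ι : Type*} (b : Bool) (s : Finset ι) (f : ι → A) :
    sg b (∑ i ∈ s, f i) = ∑ i ∈ s, sg b (f i) := by
  cases b
  · exact (Finset.sum_neg_distrib f).symm
  · rfl

variable [DecidableEq V]

/-- signed labelling along a walk -/
noncomputable def lab (c : V → Bool) {H : SimpleGraph V} {u v : V} :
    H.Walk u v → A → (Sym2 V → A)
  | .nil, _ => 0
  | .cons (v := w) _ p, a => Pi.single s(u, w) (sg (c u) a) + lab c p a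

theorem lab_nil (c : V → Bool) {H : SimpleGraph V} (u : V) (a : A) :
    lab c (Walk.nil : H.Walk u u) a = 0 := rfl

theorem lab_cons (c : V → Bool) {H : SimpleGraph V} {u w v : V} (h : H.Adj u w)
    (p : H.Walk w v) (a : A) :
    lab c (Walk.cons h p) a = Pi.single s(u, w) (sg (c u) a) + lab c p a := rfl

theorem lab_apply_of_notMem (c : V → Bool) {H : SimpleGraph V} {u v : V} (p : H.Walk u v)
    (a : A) (e : Sym2 V) (he : e ∉ H.edgeSet) : lab c p a e = 0 := by
  induction p with
  | nil => rfl
  | cons h p ih =>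
    rw [lab_cons, Pi.add_apply, ih, add_zero]
    apply Pi.single_eq_of_ne
    intro heq
    apply he
    rw [heq]
    exact h

theorem lab_add (c : V → Bool) {H : SimpleGraph V} {u v : V} (p : H.Walk u v) (a b : A) :
    lab c p (a + b) = lab c p a + lab c p b := by
  induction p with
  | nil => rw [lab_nil, lab_nil, lab_nil, add_zero]
  | cons h p ih =>
    rw [lab_cons, lab_cons, lab_cons, ih, sg_add, Pi.single_add, add_add_add_comm]

theorem sum_lab [Fintype V] (G : SimpleGraph V) [DecidableRel G.Adj] (c : V → Bool)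
    (hbip : ∀ v w : V, G.Adj v w → c v ≠ c w) {H : SimpleGraph V} (hH : H ≤ G) {u v : V}
    (p : H.Walk u v) (a : A) (z : V) :
    ∑ e ∈ G.incidenceFinset z, lab c p a e =
      (if z = u then sg (c z) a else 0) - (if z = v then sg (c z) a else 0) := by
  induction p with
  | nil => rw [lab_nil]; simp
  | @cons u w v h p ih =>
    rw [lab_cons]
    simp only [Pi.add_apply]
    rw [Finset.sum_add_distrib, ih, Finset.sum_pi_single']
    have hadj : G.Adj u w := hH h
    have hne : u ≠ w := hadj.ne
    have hcu : c u = !(c w) := by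
      have h1 := hbip u w hadj
      revert h1
      cases c u <;> cases c w <;> simp
    have hmem : s(u, w) ∈ G.incidenceFinset z ↔ (z = u ∨ z = w) := by
      rw [mem_incidenceFinset, mk'_mem_incidenceSet_iff]
      exact ⟨fun h => h.2, fun h => ⟨hadj, h⟩⟩
    have key : (if s(u, w) ∈ G.incidenceFinset z then sg (c u) a else 0) +
        (if z = w then sg (c z) a else 0) = (if z = u then sg (c z) a else 0) := by
      by_cases hzu : z = u
      · subst hzu
        rw [if_pos (hmem.mpr (Or.inl rfl)), if_neg hne, if_pos rfl, add_zero]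
      · by_cases hzw : z = w
        · subst hzw
          rw [if_pos (hmem.mpr (Or.inr rfl)), if_pos rfl, if_neg hzu, hcu, sg_not,
            neg_add_cancel]
        · rw [if_neg (fun h => (hmem.mp h).elim hzu hzw), if_neg hzw, if_neg hzu, add_zero]
    rw [← add_sub_assoc, key]

theorem s13409 [Fintype V]
    (G : SimpleGraph V) [DecidableRel G.Adj] (hconn : G.Connected) (c : V → Bool)
    (hbip : ∀ v w : V, G.Adj v w → c v ≠ c w) (a : V → A)
    (hsum : ∑ v ∈ Finset.univ.filter (fun v => c v = true), a v =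
      ∑ v ∈ Finset.univ.filter (fun v => c v = false), a v) :
    ∃ x : Sym2 V → A, ∀ v : V, ∑ e ∈ G.incidenceFinset v, x e = a v := by
  obtain ⟨v₀⟩ := hconn.nonempty
  have hw : ∀ v, Nonempty (G.Walk v v₀) := fun v => hconn.preconnected v v₀
  obtain ⟨P, -⟩ : ∃ P : ∀ v, G.Walk v v₀, True := ⟨fun v => (hw v).some, trivial⟩
  have hz : ∑ v, sg (c v) (a v) = 0 := by
    rw [← Finset.sum_filter_add_sum_filter_not Finset.univ (fun v => c v = true)]
    have h1 : ∑ v ∈ Finset.univ.filter (fun v => c v = true), sg (c v) (a v) =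
        ∑ v ∈ Finset.univ.filter (fun v => c v = true), a v :=
      Finset.sum_congr rfl (fun v hv => by rw [(Finset.mem_filter.mp hv).2]; rfl)
    have h2 : ∑ v ∈ Finset.univ.filter (fun v => ¬ c v = true), sg (c v) (a v) =
        - ∑ v ∈ Finset.univ.filter (fun v => c v = false), a v := by
      rw [← Finset.sum_neg_distrib]
      apply Finset.sum_congr
      · ext v; simp
      · intro v hv
        have h3 : c v = false := by simpa using (Finset.mem_filter.mp hv).2
        rw [h3]; rfl
    rw [h1, h2, hsum]; exact add_neg_cancel _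
  refine ⟨∑ v, lab c (P v) (sg (c v) (a v)), fun z => ?_⟩
  simp only [Finset.sum_apply]
  rw [Finset.sum_comm]
  simp only [sum_lab G c hbip le_rfl]
  rw [Finset.sum_sub_distrib, Finset.sum_ite_eq Finset.univ z, if_pos (Finset.mem_univ z), sg_sg]
  by_cases hzv : z = v₀
  · simp only [if_pos hzv]
    rw [← sg_sum, hz, sg_zero, sub_zero]
  · simp only [if_neg hzv]
    rw [Finset.sum_const_zero, sub_zero]

theorem s13410 [Fintype V] (G : SimpleGraph V) [DecidableRel G.Adj] (c : V → Bool)
    (hbip : ∀ v w : V, G.Adj v w → c v ≠ c w) (e₀ : Sym2 V)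
    (he₀ : e₀ ∈ G.edgeSet) (hdel : (G.deleteEdges {e₀}).Connected) :
    ∃ φ : A →+ (Sym2 V → A),
      (∀ a : A, (∀ e : Sym2 V, e ∉ G.edgeSet → φ a e = 0) ∧
        ∀ v : V, ∑ e ∈ G.incidenceFinset v, φ a e = 0) ∧
      ∀ a : A, φ a e₀ = a := by
  induction e₀ using Sym2.ind with
  | h u₀ w₀ =>
    have hadj : G.Adj u₀ w₀ := he₀
    have hne : u₀ ≠ w₀ := hadj.ne
    have hcu : c u₀ = !(c w₀) := by
      have h1 := hbip u₀ w₀ hadj
      revert h1
      cases c u₀ <;> cases c w₀ <;> simp
    obtain ⟨p⟩ : Nonempty ((G.deleteEdges {s(u₀, w₀)}).Walk w₀ u₀) := hdel.preconnected w₀ u₀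
    have hH : G.deleteEdges {s(u₀, w₀)} ≤ G := G.deleteEdges_le _
    have hnot : s(u₀, w₀) ∉ (G.deleteEdges {s(u₀, w₀)}).edgeSet := by
      rw [edgeSet_deleteEdges]
      intro h
      exact h.2 rfl
    have hmem : ∀ z, s(u₀, w₀) ∈ G.incidenceFinset z ↔ (z = u₀ ∨ z = w₀) := by
      intro z
      rw [mem_incidenceFinset, mk'_mem_incidenceSet_iff]
      exact ⟨fun h => h.2, fun h => ⟨hadj, h⟩⟩
    refine ⟨AddMonoidHom.mk' (fun a => Pi.single s(u₀, w₀) a + lab c p (sg (c w₀) (-a))) ?_,
      ?_, ?_⟩
    · intro a b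
      rw [neg_add, sg_add, lab_add, Pi.single_add, add_add_add_comm]
    · intro a
      constructor
      · intro e he
        show (Pi.single s(u₀, w₀) a + lab c p (sg (c w₀) (-a)) : Sym2 V → A) e = 0
        rw [Pi.add_apply, lab_apply_of_notMem c p _ e (fun h => he (edgeSet_mono hH h)), add_zero]
        apply Pi.single_eq_of_ne
        intro heq
        apply he
        rw [heq]
        exact hadj
      · intro z
        show ∑ e ∈ G.incidenceFinset z,
          (Pi.single s(u₀, w₀) a + lab c p (sg (c w₀) (-a)) : Sym2 V → A) e = 0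
        simp only [Pi.add_apply]
        rw [Finset.sum_add_distrib, sum_lab G c hbip hH, Finset.sum_pi_single']
        by_cases hzu : z = u₀
        · subst hzu
          rw [if_pos ((hmem z).mpr (Or.inl rfl)), if_neg hne, if_pos rfl, hcu, sg_not, sg_sg]
          abel
        · by_cases hzw : z = w₀
          · subst hzw
            rw [if_pos ((hmem z).mpr (Or.inr rfl)), if_pos rfl, if_neg hzu, sg_sg]
            abel
          · rw [if_neg (fun h => ((hmem z).mp h).elim hzu hzw), if_neg hzw, if_neg hzu]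
            abel
    · intro a
      show (Pi.single s(u₀, w₀) a + lab c p (sg (c w₀) (-a)) : Sym2 V → A) s(u₀, w₀) = a
      rw [Pi.add_apply, lab_apply_of_notMem c p _ _ hnot, add_zero, Pi.single_eq_same]

end Groth.Agent.Helper25.CombGraphLab
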