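import Mathlib
import Groth.Agent.Lib.Helper25.CombGraphLab

namespace Groth.Agent.Helper25.CombGraphCyc

open SimpleGraph Groth.Agent.Helper25.CombGraphLab

variable {V : Type*} {A : Type*} [AddCommGroup A] [DecidableEq V]

theorem sum_mem_sym2 (C : Finset V) (a b : V) (hab : a ≠ b) (F : V → A) :
    ∑ v ∈ C, (if v ∈ s(a, b) then F v else 0) =
      (if a ∈ C then F a else 0) + (if b ∈ C then F b else 0) := by
  have h1 : ∀ v, (if v ∈ s(a, b) then F v else 0) =
      (if v = a then F v else 0) + (if v = b then F v else 0) := by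
    intro v
    by_cases h1 : v = a
    · subst h1; simp [hab]
    · by_cases h2 : v = b
      · subst h2; simp [h1]
      · simp [h1, h2]
  simp_rw [h1]
  rw [Finset.sum_add_distrib, Finset.sum_ite_eq', Finset.sum_ite_eq']

theorem tree_zero [Fintype V] (G : SimpleGraph V) [DecidableRel G.Adj] (c : V → Bool)
    (hbip : ∀ v w : V, G.Adj v w → c v ≠ c w) (T : SimpleGraph V) (hTG : T ≤ G)
    (hT : T.IsAcyclic) (y : Sym2 V → A) (hy0 : ∀ e, e ∉ T.edgeSet → y e = 0)
    (hys : ∀ v, ∑ e ∈ G.incidenceFinset v, y e = 0) (e₀ : Sym2 V) (he₀ : e₀ ∈ T.edgeSet) :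
    y e₀ = 0 := by
  classical
  induction e₀ using Sym2.ind with
  | h u w =>
    have hadjT : T.Adj u w := he₀
    have hadj : G.Adj u w := hTG hadjT
    have hbr : ¬ (T.deleteEdges {s(u, w)}).Reachable u w :=
      isBridge_iff.1 (isAcyclic_iff_forall_adj_isBridge.1 hT hadjT)
    let C : Finset V := Finset.univ.filter (fun v => (T.deleteEdges {s(u, w)}).Reachable u v)
    have hCu : u ∈ C := by simp [C]
    have hCw : w ∉ C := by simp [C, hbr]
    have hCadj : ∀ a b, (T.deleteEdges {s(u, w)}).Adj a b → (a ∈ C ↔ b ∈ C) := by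
      intro a b hab
      simp only [C, Finset.mem_filter, Finset.mem_univ, true_and]
      exact ⟨fun h => h.trans hab.reachable, fun h => h.trans hab.symm.reachable⟩
    have hW : ∀ e ∈ G.edgeFinset, e ≠ s(u, w) →
        ∑ v ∈ C, (if v ∈ e then sg (c v) (y e) else 0) = 0 := by
      intro e he hne
      induction e using Sym2.ind with
      | h a b =>
        have hab : G.Adj a b := by simpa using he
        rw [sum_mem_sym2 C a b hab.ne]
        by_cases heT : s(a, b) ∈ T.edgeSet
        · have hT'ab : (T.deleteEdges {s(u, w)}).Adj a b := by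
            rw [deleteEdges_adj]
            exact ⟨heT, by simpa using hne⟩
          have hcab : c a = !(c b) := by
            have h1 := hbip a b hab
            revert h1
            cases c a <;> cases c b <;> simp
          by_cases haC : a ∈ C
          · rw [if_pos haC, if_pos ((hCadj a b hT'ab).1 haC), hcab, sg_not, neg_add_cancel]
          · rw [if_neg haC, if_neg (fun h => haC ((hCadj a b hT'ab).2 h)), add_zero]
        · rw [hy0 _ heT, sg_zero, sg_zero]; simp
    have hW0 : ∑ v ∈ C, (if v ∈ s(u, w) then sg (c v) (y s(u, w)) else 0) =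
        sg (c u) (y s(u, w)) := by
      rw [sum_mem_sym2 C u w hadj.ne, if_pos hCu, if_neg hCw, add_zero]
    have hmain : ∑ v ∈ C, sg (c v) (∑ e ∈ G.incidenceFinset v, y e) = sg (c u) (y s(u, w)) := by
      calc ∑ v ∈ C, sg (c v) (∑ e ∈ G.incidenceFinset v, y e)
          = ∑ v ∈ C, ∑ e ∈ G.edgeFinset, (if v ∈ e then sg (c v) (y e) else 0) := by
            apply Finset.sum_congr rfl; intro v _
            rw [sg_sum, incidenceFinset_eq_filter, Finset.sum_filter]
        _ = ∑ e ∈ G.edgeFinset, ∑ v ∈ C, (if v ∈ e then sg (c v) (y e) else 0) :=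
            Finset.sum_comm
        _ = ∑ v ∈ C, (if v ∈ s(u, w) then sg (c v) (y s(u, w)) else 0) :=
            Finset.sum_eq_single_of_mem s(u, w) (by simpa using hadj)
              (fun e he hne => hW e he hne)
        _ = _ := hW0
    have h0 : ∑ v ∈ C, sg (c v) (∑ e ∈ G.incidenceFinset v, y e) = 0 := by
      apply Finset.sum_eq_zero; intro v _; rw [hys, sg_zero]
    rw [h0] at hmain
    have h2 := congrArg (sg (c u)) hmain
    rw [sg_sg, sg_zero] at h2
    exact h2.symm

/-- the elementary cycle labelling -/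
noncomputable def phi (c : V → Bool) {H : SimpleGraph V} {u₀ w₀ : V} (p : H.Walk w₀ u₀) (a : A) :
    Sym2 V → A :=
  Pi.single s(u₀, w₀) a + lab c p (sg (c w₀) (-a))

theorem phi_add (c : V → Bool) {H : SimpleGraph V} {u₀ w₀ : V} (p : H.Walk w₀ u₀) (a b : A) :
    phi c p (a + b) = phi c p a + phi c p b := by
  unfold phi
  rw [neg_add, sg_add, lab_add, Pi.single_add, add_add_add_comm]

theorem phi_apply_of_notMem_H (c : V → Bool) {H : SimpleGraph V} {u₀ w₀ : V} (p : H.Walk w₀ u₀)
    (a : A) (e : Sym2 V) (he : e ∉ H.edgeSet) :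
    phi c p a e = (Pi.single s(u₀, w₀) a : Sym2 V → A) e := by
  unfold phi
  rw [Pi.add_apply, lab_apply_of_notMem c p _ e he, add_zero]

theorem phi_apply_of_notMem_G (c : V → Bool) (G : SimpleGraph V) {H : SimpleGraph V} (hH : H ≤ G)
    {u₀ w₀ : V} (hadj : G.Adj u₀ w₀) (p : H.Walk w₀ u₀)
    (a : A) (e : Sym2 V) (he : e ∉ G.edgeSet) : phi c p a e = 0 := by
  rw [phi_apply_of_notMem_H c p a e (fun h => he (edgeSet_mono hH h))]
  apply Pi.single_eq_of_ne
  intro heq
  apply he
  rw [heq]
  exact hadj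

theorem sum_phi [Fintype V] (G : SimpleGraph V) [DecidableRel G.Adj] (c : V → Bool)
    (hbip : ∀ v w : V, G.Adj v w → c v ≠ c w) {H : SimpleGraph V} (hH : H ≤ G)
    {u₀ w₀ : V} (hadj : G.Adj u₀ w₀) (p : H.Walk w₀ u₀) (a : A) (z : V) :
    ∑ e ∈ G.incidenceFinset z, phi c p a e = 0 := by
  have hne : u₀ ≠ w₀ := hadj.ne
  have hcu : c u₀ = !(c w₀) := by
    have h1 := hbip u₀ w₀ hadj
    revert h1
    cases c u₀ <;> cases c w₀ <;> simp
  have hmem : ∀ z, s(u₀, w₀) ∈ G.incidenceFinset z ↔ (z = u₀ ∨ z = w₀) := by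
    intro z
    rw [mem_incidenceFinset, mk'_mem_incidenceSet_iff]
    exact ⟨fun h => h.2, fun h => ⟨hadj, h⟩⟩
  unfold phi
  simp only [Pi.add_apply]
  rw [Finset.sum_add_distrib, sum_lab G c hbip hH, Finset.sum_pi_single']
  by_cases hzu : z = u₀
  · subst hzu
    rw [if_pos ((hmem z).mpr (Or.inl rfl)), if_neg hne, if_pos rfl, hcu, sg_not, sg_sg]
    abel
  · by_cases hzw : z = w₀
    · subst hzw
      rw [if_pos ((hmem z).mpr (Or.inr rfl)), if_pos rfl, if_neg hzu, sg_sg]
      abel
    · rw [if_neg (fun h => ((hmem z).mp h).elim hzu hzw), if_neg hzw, if_neg hzu]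
      abel

theorem s13411 [Fintype V] (G : SimpleGraph V) [DecidableRel G.Adj] (hconn : G.Connected)
    (c : V → Bool) (hbip : ∀ v w : V, G.Adj v w → c v ≠ c w) (n : ℕ)
    (hn : G.edgeFinset.card + 1 = Fintype.card V + n) :
    ∃ f : (Fin n → A) →+ (Sym2 V → A), Function.Injective f ∧
      Set.range f = {x : Sym2 V → A | (∀ e : Sym2 V, e ∉ G.edgeSet → x e = 0) ∧
        ∀ v : V, ∑ e ∈ G.incidenceFinset v, x e = 0} := by
  classical
  obtain ⟨T, hTG, hT⟩ := hconn.exists_isTree_le
  have hcard : T.edgeFinset.card + 1 = Fintype.card V := hT.card_edgeFinset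
  have hsub : T.edgeFinset ⊆ G.edgeFinset := edgeFinset_mono hTG
  have hN : (G.edgeFinset \ T.edgeFinset).card = n := by
    rw [Finset.card_sdiff_of_subset hsub]; omega
  let eN : Fin n ≃ ↥(G.edgeFinset \ T.edgeFinset) := (Finset.equivFinOfCardEq hN).symm
  have hinG : ∀ j, (eN j).1 ∈ G.edgeSet := fun j => by
    have := (Finset.mem_sdiff.1 (eN j).2).1
    simpa using this
  have hnotT : ∀ j, (eN j).1 ∉ T.edgeSet := fun j => by
    have := (Finset.mem_sdiff.1 (eN j).2).2
    simpa using this
  have hrep : ∀ i : Fin n, ∃ u w : V, (eN i).1 = s(u, w) := fun i =>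
    Sym2.ind (fun a b => ⟨a, b, rfl⟩) (eN i).1
  choose uu ww huw using hrep
  have hadj : ∀ i, G.Adj (uu i) (ww i) := fun i => by
    have := hinG i; rw [huw i] at this; exact this
  have hwalk : ∀ i, Nonempty (T.Walk (ww i) (uu i)) := fun i => hT.isConnected.preconnected _ _
  choose P _hP using fun i => (⟨(hwalk i).some, trivial⟩ : ∃ _p : T.Walk (ww i) (uu i), True)
  let f : (Fin n → A) →+ (Sym2 V → A) :=
    AddMonoidHom.mk' (fun a => ∑ i, phi c (P i) (a i)) (by
      intro a b
      simp only [Pi.add_apply, phi_add, Finset.sum_add_distrib])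
  have hf : ∀ a, f a = ∑ i, phi c (P i) (a i) := fun _ => rfl
  have hfe : ∀ (a : Fin n → A) (j : Fin n), f a (eN j).1 = a j := by
    intro a j
    rw [hf, Finset.sum_apply, Finset.sum_eq_single j]
    · rw [phi_apply_of_notMem_H c (P j) (a j) _ (hnotT j), ← huw j, Pi.single_eq_same]
    · intro i _ hij
      rw [phi_apply_of_notMem_H c (P i) (a i) _ (hnotT j), ← huw i]
      apply Pi.single_eq_of_ne
      intro h; apply hij; exact (eN.injective (Subtype.ext h)).symm
    · intro h; exact absurd (Finset.mem_univ j) h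
  have hf1 : ∀ a e, e ∉ G.edgeSet → f a e = 0 := by
    intro a e he
    rw [hf, Finset.sum_apply]
    apply Finset.sum_eq_zero
    intro i _
    exact phi_apply_of_notMem_G c G hTG (hadj i) (P i) (a i) e he
  have hf2 : ∀ a v, ∑ e ∈ G.incidenceFinset v, f a e = 0 := by
    intro a v
    rw [hf]
    simp only [Finset.sum_apply]
    rw [Finset.sum_comm]
    apply Finset.sum_eq_zero
    intro i _
    exact sum_phi G c hbip hTG (hadj i) (P i) (a i) v
  refine ⟨f, ?_, ?_⟩
  · intro a b hab
    funext j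
    rw [← hfe a j, ← hfe b j, hab]
  · apply Set.eq_of_subset_of_subset
    · rintro _ ⟨a, rfl⟩
      exact ⟨hf1 a, hf2 a⟩
    · rintro x ⟨hx1, hx2⟩
      refine ⟨fun j => x (eN j).1, ?_⟩
      set a : Fin n → A := fun j => x (eN j).1 with ha
      have hy0 : ∀ e, e ∉ T.edgeSet → (x - f a) e = 0 := by
        intro e heT
        rw [Pi.sub_apply]
        by_cases heG : e ∈ G.edgeSet
        · have hmem : e ∈ G.edgeFinset \ T.edgeFinset := by
            rw [Finset.mem_sdiff]
            exact ⟨by simpa using heG, by simpa using heT⟩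
          have h1 : (eN (eN.symm ⟨e, hmem⟩)).1 = e := by rw [Equiv.apply_symm_apply]
          have h2 := hfe a (eN.symm ⟨e, hmem⟩)
          rw [h1] at h2
          rw [h2, ha]
          simp only
          rw [h1, sub_self]
        · rw [hx1 e heG, hf1 a e heG, sub_zero]
      have hys : ∀ v, ∑ e ∈ G.incidenceFinset v, (x - f a) e = 0 := by
        intro v
        simp only [Pi.sub_apply]
        rw [Finset.sum_sub_distrib, hx2, hf2, sub_zero]
      have hall : ∀ e, (x - f a) e = 0 := by
        intro e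
        by_cases heT : e ∈ T.edgeSet
        · exact tree_zero G c hbip T hTG hT.IsAcyclic (x - f a) hy0 hys e heT
        · exact hy0 e heT
      funext e
      have := hall e
      rw [Pi.sub_apply, sub_eq_zero] at this
      exact this.symm

end Groth.Agent.Helper25.CombGraphCyc
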