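import Mathlib

/-!
# `M^* ⊗ N → Hom(M, N)` is bijective for `M` finitely presented and `N` flat (helper25)
-/

set_option autoImplicit false

namespace Groth.Agent.Helper25.DualTensorFlat

open TensorProduct LinearMap

universe u v w

variable (k : Type u) [CommRing k] (M : Type v) [AddCommGroup M] [Module k M]
  (N : Type w) [AddCommGroup N] [Module k N]

theorem dualTensorHom_bijective_of_fp_flat [Module.FinitePresentation k M] [Module.Flat k N] :
    Function.Bijective (dualTensorHom k M N) := by
  obtain ⟨n, m, f, g, hf, hfg⟩ := Module.FinitePresentation.exists_fin' k M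
  have hinj : Function.Injective f.dualMap := LinearMap.lcomp_injective_of_surjective f hf
  have hex : Function.Exact f.dualMap g.dualMap :=
    exact_lcomp_of_exact_of_surjective (N := k) hfg hf
  have hinjT : Function.Injective (f.dualMap.rTensor N) :=
    Module.Flat.rTensor_preserves_injective_linearMap _ hinj
  have hexT : Function.Exact (f.dualMap.rTensor N) (g.dualMap.rTensor N) :=
    Module.Flat.rTensor_exact N hex
  have nat0 : ∀ x, dualTensorHom k (Fin n → k) N (f.dualMap.rTensor N x) =
      (dualTensorHom k M N x) ∘ₗ f := fun x =>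
    LinearMap.congr_fun (dualTensorHom_comp_rTensor_dualMap (R := k) (P := N) f) x
  have nat1 : ∀ y, dualTensorHom k (Fin m → k) N (g.dualMap.rTensor N y) =
      (dualTensorHom k (Fin n → k) N y) ∘ₗ g := fun y =>
    LinearMap.congr_fun (dualTensorHom_comp_rTensor_dualMap (R := k) (P := N) g) y
  have b0 : Function.Bijective (dualTensorHom k (Fin n → k) N) := dualTensorHom_bijective
  have b1 : Function.Bijective (dualTensorHom k (Fin m → k) N) := dualTensorHom_bijective
  constructor
  · intro x x' hxx'
    apply hinjT
    apply b0.1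
    rw [nat0, nat0, hxx']
  · intro h
    obtain ⟨y, hy⟩ := b0.2 (h ∘ₗ f)
    have hy0 : g.dualMap.rTensor N y = 0 := by
      apply b1.1
      rw [nat1, hy, map_zero, LinearMap.comp_assoc]
      have : f ∘ₗ g = 0 := by
        apply LinearMap.ext
        intro v
        exact hfg.apply_apply_eq_zero v
      rw [this, LinearMap.comp_zero]
    obtain ⟨x, hx⟩ := (hexT y).1 hy0
    refine ⟨x, ?_⟩
    have h2 : (dualTensorHom k M N x) ∘ₗ f = h ∘ₗ f := by rw [← nat0, hx, hy]
    ext v
    obtain ⟨w, rfl⟩ := hf v
    exact LinearMap.congr_fun h2 w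

end Groth.Agent.Helper25.DualTensorFlat
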