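import Mathlib
import Groth.Prelude.Def_ComodTens
import Groth.Prelude.Def_ComodDual
import Groth.Prelude.Def_Hoch
import Groth.Agent.Lib.Helper25.DualTensorFlat

/-!
# Invariants of `B ⊗ M^*` are the comodule maps `M → B` (helper25)
-/

set_option autoImplicit false

namespace Groth.Agent.Helper25.ComodHomInv

open TensorProduct HopfAlgebra Coalgebra

universe u v w w'

variable {k : Type u} [CommRing k] {A : Type v} [CommRing A] [HopfAlgebra k A]
  {B : Type w} [AddCommGroup B] [Module k B] {M : Type w'} [AddCommGroup M] [Module k M]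

/-- right multiplication by `A` on `B ⊗ A`. -/
noncomputable def μr : (B ⊗[k] A) ⊗[k] A →ₗ[k] B ⊗[k] A :=
  (LinearMap.mul' k A).lTensor B ∘ₗ (TensorProduct.assoc k B A A).toLinearMap

@[simp] theorem μr_tmul (b : B) (a a' : A) :
    μr (k := k) ((b ⊗ₜ[k] a) ⊗ₜ[k] a') = b ⊗ₜ[k] (a * a') := by
  simp [μr]

theorem μr_μr (n : B ⊗[k] A) (x y : A) :
    μr (k := k) (μr (k := k) (n ⊗ₜ[k] x) ⊗ₜ[k] y) = μr (k := k) (n ⊗ₜ[k] (x * y)) := by
  induction n using TensorProduct.induction_on with
  | zero => simp
  | tmul b a => simp [mul_assoc]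
  | add n n' h h' => simp only [add_tmul, map_add, h, h']

theorem μr_algebraMap (n : B ⊗[k] A) (r : k) :
    μr (k := k) (n ⊗ₜ[k] algebraMap k A r) = r • n := by
  induction n using TensorProduct.induction_on with
  | zero => simp
  | tmul b a => simp [Algebra.algebraMap_eq_smul_one, TensorProduct.tmul_smul]
  | add n n' h h' => simp only [add_tmul, map_add, h, h', smul_add]

section twist

variable (cM : HopfRep.Comod k A M)

/-- `u ↦ (m ↦ Σ u(m₀) · S(m₁))`. -/
noncomputable def R (u : M →ₗ[k] B ⊗[k] A) : M →ₗ[k] B ⊗[k] A :=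
  μr ∘ₗ TensorProduct.map u (antipode k) ∘ₗ cM.coact

/-- `u ↦ (m ↦ Σ u(m₀) · m₁)`. -/
noncomputable def R' (u : M →ₗ[k] B ⊗[k] A) : M →ₗ[k] B ⊗[k] A :=
  μr ∘ₗ u.rTensor A ∘ₗ cM.coact

theorem K0 (u : M →ₗ[k] B ⊗[k] A) (m' : M) (z : A ⊗[k] A) :
    μr (k := k) ((μr (k := k) (B := B) (A := A)).rTensor A
      ((TensorProduct.map u (antipode k)).rTensor A
        ((TensorProduct.assoc k M A A).symm (m' ⊗ₜ[k] z)))) =
    μr (k := k) (u m' ⊗ₜ[k] LinearMap.mul' k A ((antipode k).rTensor A z)) := by
  induction z using TensorProduct.induction_on with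
  | zero => simp
  | tmul p q => simp [μr_μr]
  | add z z' h h' => simp only [tmul_add, map_add, h, h']

theorem K1 (u : M →ₗ[k] B ⊗[k] A) (y : M ⊗[k] A) :
    μr (k := k) ((μr (k := k) (B := B) (A := A)).rTensor A
      ((TensorProduct.map u (antipode k)).rTensor A
        ((TensorProduct.assoc k M A A).symm
          ((Coalgebra.comul (R := k) (A := A)).lTensor M y)))) =
    TensorProduct.rid k (B ⊗[k] A) (TensorProduct.map u (Coalgebra.counit (R := k) (A := A)) y) := by
  induction y using TensorProduct.induction_on with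
  | zero => simp
  | tmul m' a =>
    rw [LinearMap.lTensor_tmul, K0, HopfAlgebra.mul_antipode_rTensor_comul_apply, μr_algebraMap]
    simp
  | add y y' h h' => simp only [map_add, h, h']

theorem K0' (u : M →ₗ[k] B ⊗[k] A) (m' : M) (z : A ⊗[k] A) :
    μr (k := k) ((μr (k := k) (B := B) (A := A)).rTensor A
      ((TensorProduct.map (u.rTensor A) (antipode k))
        ((TensorProduct.assoc k M A A).symm (m' ⊗ₜ[k] z)))) =
    μr (k := k) (u m' ⊗ₜ[k] LinearMap.mul' k A ((antipode k).lTensor A z)) := by
  induction z using TensorProduct.induction_on with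
  | zero => simp
  | tmul p q => simp [μr_μr]
  | add z z' h h' => simp only [tmul_add, map_add, h, h']

theorem K1' (u : M →ₗ[k] B ⊗[k] A) (y : M ⊗[k] A) :
    μr (k := k) ((μr (k := k) (B := B) (A := A)).rTensor A
      ((TensorProduct.map (u.rTensor A) (antipode k))
        ((TensorProduct.assoc k M A A).symm
          ((Coalgebra.comul (R := k) (A := A)).lTensor M y)))) =
    TensorProduct.rid k (B ⊗[k] A) (TensorProduct.map u (Coalgebra.counit (R := k) (A := A)) y) := by
  induction y using TensorProduct.induction_on with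
  | zero => simp
  | tmul m' a =>
    rw [LinearMap.lTensor_tmul, K0', HopfAlgebra.mul_antipode_lTensor_comul_apply, μr_algebraMap]
    simp
  | add y y' h h' => simp only [map_add, h, h']

theorem rid_map_counit (u : M →ₗ[k] B ⊗[k] A) (m : M) :
    TensorProduct.rid k (B ⊗[k] A)
      (TensorProduct.map u (Coalgebra.counit (R := k) (A := A)) (cM.coact m)) = u m := by
  have hu := LinearMap.congr_fun cM.counit_comp m
  simp only [LinearMap.coe_comp, Function.comp_apply, LinearMap.flip_apply,
    TensorProduct.mk_apply] at hu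
  have e3 : TensorProduct.map u (Coalgebra.counit (R := k) (A := A)) =
      u.rTensor k ∘ₗ (Coalgebra.counit (R := k) (A := A)).lTensor M := by
    apply TensorProduct.ext'
    intro m' a
    simp
  rw [e3, LinearMap.comp_apply, hu]
  simp

theorem coassoc_symm (m : M) :
    cM.coact.rTensor A (cM.coact m) =
      (TensorProduct.assoc k M A A).symm
        ((Coalgebra.comul (R := k) (A := A)).lTensor M (cM.coact m)) := by
  have hc := LinearMap.congr_fun cM.coassoc m
  simp only [LinearMap.coe_comp, Function.comp_apply, LinearEquiv.coe_coe] at hc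
  rw [← hc, LinearEquiv.symm_apply_apply]

theorem R'_R (u : M →ₗ[k] B ⊗[k] A) : R' cM (R cM u) = u := by
  apply LinearMap.ext
  intro m
  have e1 : (R cM u).rTensor A = (μr (k := k) (B := B) (A := A)).rTensor A ∘ₗ
      (TensorProduct.map u (antipode k)).rTensor A ∘ₗ cM.coact.rTensor A := by
    simp only [R, LinearMap.rTensor_comp]
  change μr (k := k) ((R cM u).rTensor A (cM.coact m)) = u m
  rw [e1]
  simp only [LinearMap.coe_comp, Function.comp_apply]
  rw [coassoc_symm, K1, rid_map_counit]

theorem R_R' (u : M →ₗ[k] B ⊗[k] A) : R cM (R' cM u) = u := by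
  apply LinearMap.ext
  intro m
  have e1 : TensorProduct.map (R' cM u) (antipode k (A := A)) =
      (μr (k := k) (B := B) (A := A)).rTensor A ∘ₗ
      (TensorProduct.map (u.rTensor A) (antipode k)) ∘ₗ cM.coact.rTensor A := by
    apply TensorProduct.ext'
    intro m' a
    simp [R']
  change μr (k := k) (TensorProduct.map (R' cM u) (antipode k) (cM.coact m)) = u m
  rw [e1]
  simp only [LinearMap.coe_comp, Function.comp_apply]
  rw [coassoc_symm, K1', rid_map_counit]

end twist

section main

variable (k A B M)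

/-- `b ⊗ φ ↦ (m ↦ φ(m) b)`. -/
noncomputable def Φ : B ⊗[k] Module.Dual k M →ₗ[k] (M →ₗ[k] B) :=
  dualTensorHom k M B ∘ₗ (TensorProduct.comm k B (Module.Dual k M)).toLinearMap

/-- `(b ⊗ φ) ⊗ a ↦ (m ↦ φ(m) (b ⊗ a))`. -/
noncomputable def Ψ : (B ⊗[k] Module.Dual k M) ⊗[k] A →ₗ[k] (M →ₗ[k] B ⊗[k] A) :=
  dualTensorHom k M (B ⊗[k] A) ∘ₗ (TensorProduct.assoc k (Module.Dual k M) B A).toLinearMap ∘ₗ
    ((TensorProduct.comm k B (Module.Dual k M)).toLinearMap).rTensor A

variable {k A B M}

@[simp] theorem Φ_tmul (b : B) (φ : Module.Dual k M) (m : M) :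
    Φ k B M (b ⊗ₜ[k] φ) m = φ m • b := by
  simp [Φ]

@[simp] theorem Ψ_tmul (b : B) (φ : Module.Dual k M) (a : A) (m : M) :
    Ψ k A B M ((b ⊗ₜ[k] φ) ⊗ₜ[k] a) m = φ m • (b ⊗ₜ[k] a) := by
  simp [Ψ]

theorem Φ_bijective [Module.Flat k B] [Module.FinitePresentation k M] :
    Function.Bijective (Φ k B M) := by
  have h := DualTensorFlat.dualTensorHom_bijective_of_fp_flat k M B
  exact h.comp (TensorProduct.comm k B (Module.Dual k M)).bijective

theorem Ψ_injective [Module.Flat k B] [Module.Flat k A] [Module.FinitePresentation k M] :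
    Function.Injective (Ψ k A B M) := by
  have h := (DualTensorFlat.dualTensorHom_bijective_of_fp_flat k M (B ⊗[k] A)).1
  have h2 : Function.Injective
      ((TensorProduct.comm k B (Module.Dual k M)).toLinearMap.rTensor A) := by
    have : (TensorProduct.comm k B (Module.Dual k M)).toLinearMap.rTensor A =
        ((TensorProduct.comm k B (Module.Dual k M)).rTensor A).toLinearMap := rfl
    rw [this]
    exact (LinearEquiv.rTensor A (TensorProduct.comm k B (Module.Dual k M))).injective
  exact h.comp ((TensorProduct.assoc k (Module.Dual k M) B A).injective.comp h2)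

theorem K2 (β : B ⊗[k] A) (δ : Module.Dual k M ⊗[k] A) (m : M) :
    Ψ k A B M (TensorProduct.map LinearMap.id (LinearMap.mul' k A)
      (AlgebraTensorModule.tensorTensorTensorComm k k k k B A (Module.Dual k M) A
        (β ⊗ₜ[k] δ))) m = μr (k := k) (β ⊗ₜ[k] dualTensorHom k M A δ m) := by
  induction β using TensorProduct.induction_on with
  | zero => simp
  | add β β' h h' => simp only [add_tmul, map_add, LinearMap.add_apply, h, h']
  | tmul b₀ b₁ =>
    induction δ using TensorProduct.induction_on with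
    | zero => simp
    | add δ δ' h h' => simp only [tmul_add, map_add, LinearMap.add_apply, h, h']
    | tmul φ₀ φ₁ => simp [TensorProduct.tmul_smul]

variable (cB : HopfRep.Comod k A B) (cM : HopfRep.Comod k A M)
  (d : HopfRep.Comod k A (Module.Dual k M))

theorem K2b (b : B) (φ : Module.Dual k M) (y : M ⊗[k] A) :
    μr (k := k) (cB.coact b ⊗ₜ[k]
      TensorProduct.lid k A (TensorProduct.map φ (antipode k (A := A)) y)) =
    μr (k := k) (TensorProduct.map (cB.coact ∘ₗ Φ k B M (b ⊗ₜ[k] φ)) (antipode k) y) := by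
  induction y using TensorProduct.induction_on with
  | zero => simp
  | add y y' h h' => simp only [tmul_add, map_add, h, h']
  | tmul m' a => simp [TensorProduct.tmul_smul, TensorProduct.smul_tmul']

theorem claimA (hd : ComodTens.Comod.IsDual cM d) (x : B ⊗[k] Module.Dual k M) (m : M) :
    Ψ k A B M ((ComodTens.Comod.tensor cB d).coact x) m = R cM (cB.coact ∘ₗ Φ k B M x) m := by
  induction x using TensorProduct.induction_on with
  | zero => simp [R]
  | add x x' h h' =>
    simp only [map_add, LinearMap.add_apply, h, h']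
    simp [R, LinearMap.comp_add, TensorProduct.map_add_left]
  | tmul b φ =>
    rw [ComodTens.tensor_coact_tmul, K2, hd φ, ComodTens.dualCoactFun_apply, K2b]
    rfl

theorem K3 (x : B ⊗[k] Module.Dual k M) (m : M) :
    Ψ k A B M (x ⊗ₜ[k] (1 : A)) m = Φ k B M x m ⊗ₜ[k] (1 : A) := by
  induction x using TensorProduct.induction_on with
  | zero => simp
  | add x x' h h' => simp only [add_tmul, map_add, LinearMap.add_apply, h, h']
  | tmul b φ => simp [TensorProduct.smul_tmul']

theorem K4 (h : M →ₗ[k] B) :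
    R' cM ((TensorProduct.mk k B A).flip 1 ∘ₗ h) = h.rTensor A ∘ₗ cM.coact := by
  apply LinearMap.ext
  intro m
  change μr (k := k) (((TensorProduct.mk k B A).flip 1 ∘ₗ h).rTensor A (cM.coact m)) =
    h.rTensor A (cM.coact m)
  generalize cM.coact m = y
  induction y using TensorProduct.induction_on with
  | zero => simp
  | add y y' h h' => simp only [map_add, h, h']
  | tmul m' a => simp

theorem mem_fixedPts_iff [Module.Flat k A] [Module.Flat k B] [Module.FinitePresentation k M]
    (hd : ComodTens.Comod.IsDual cM d) (x : B ⊗[k] Module.Dual k M) :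
    x ∈ @HopfRep.fixedPts k A _ _ _ (B ⊗[k] Module.Dual k M) _ _ (ComodTens.Comod.tensor cB d) ↔
      @Hoch.IsComodHom k _ A _ _ _ M _ _ cM B _ _ cB (Φ k B M x) := by
  have s1 : x ∈ @HopfRep.fixedPts k A _ _ _ (B ⊗[k] Module.Dual k M) _ _
      (ComodTens.Comod.tensor cB d) ↔
      (ComodTens.Comod.tensor cB d).coact x = x ⊗ₜ[k] (1 : A) := Iff.rfl
  have s2 : (ComodTens.Comod.tensor cB d).coact x = x ⊗ₜ[k] (1 : A) ↔
      R cM (cB.coact ∘ₗ Φ k B M x) = (TensorProduct.mk k B A).flip 1 ∘ₗ Φ k B M x := by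
    rw [← (Ψ_injective (k := k) (A := A) (B := B) (M := M)).eq_iff]
    constructor
    · intro h
      apply LinearMap.ext
      intro m
      rw [← claimA cB cM d hd, h, K3]
      rfl
    · intro h
      apply LinearMap.ext
      intro m
      rw [claimA cB cM d hd, h, K3]
      rfl
  have s3 : R cM (cB.coact ∘ₗ Φ k B M x) = (TensorProduct.mk k B A).flip 1 ∘ₗ Φ k B M x ↔
      cB.coact ∘ₗ Φ k B M x = (Φ k B M x).rTensor A ∘ₗ cM.coact := by
    rw [← K4]
    constructor
    · intro h
      rw [← h, R'_R]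
    · intro h
      rw [h, R_R']
  rw [s1, s2, s3]
  rfl

theorem bijOn [Module.Flat k A] [Module.Flat k B] [Module.FinitePresentation k M]
    (hd : ComodTens.Comod.IsDual cM d) :
    Set.BijOn (Φ k B M)
      ((@HopfRep.fixedPts k A _ _ _ (B ⊗[k] Module.Dual k M) _ _ (ComodTens.Comod.tensor cB d)) :
        Set (B ⊗[k] Module.Dual k M))
      {h : M →ₗ[k] B | @Hoch.IsComodHom k _ A _ _ _ M _ _ cM B _ _ cB h} := by
  refine ⟨fun x hx => (mem_fixedPts_iff cB cM d hd x).1 hx,
    (Φ_bijective (k := k) (B := B) (M := M)).1.injOn, fun h hh => ?_⟩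
  obtain ⟨x, rfl⟩ := (Φ_bijective (k := k) (B := B) (M := M)).2 h
  exact ⟨x, (mem_fixedPts_iff cB cM d hd x).2 hh, rfl⟩

end main

end Groth.Agent.Helper25.ComodHomInv
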