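import Mathlib
import Groth.Prelude.Def_ComodSub
import Groth.Agent.Lib.Helper19.HopfLib

/-!
# Passage between left and right comodules through the antipode (helper25)
-/

set_option autoImplicit false

namespace Groth.Agent.Helper25.ComodLR

open TensorProduct HopfAlgebra Coalgebra ComodSub

universe u v w

variable (k : Type u) [CommRing k] (A : Type v) [CommRing A] [HopfAlgebra k A]
  (V : Type w) [AddCommGroup V] [Module k V]

/-- `v ⊗ (a ⊗ b) ↦ S b ⊗ (S a ⊗ v)`. -/
noncomputable def T : V ⊗[k] (A ⊗[k] A) →ₗ[k] A ⊗[k] (A ⊗[k] V) :=
  (TensorProduct.assoc k A A V).toLinearMap ∘ₗ (TensorProduct.comm k V (A ⊗[k] A)).toLinearMap ∘ₗ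
    (TensorProduct.map (antipode k) (antipode k) ∘ₗ (TensorProduct.comm k A A).toLinearMap).lTensor V

@[simp] theorem T_tmul (v : V) (a b : A) :
    T k A V (v ⊗ₜ[k] (a ⊗ₜ[k] b)) = antipode k b ⊗ₜ[k] (antipode k a ⊗ₜ[k] v) := by
  simp [T]

/-- `a ⊗ (b ⊗ w) ↦ w ⊗ (S b ⊗ S a)`. -/
noncomputable def T' : A ⊗[k] (A ⊗[k] V) →ₗ[k] V ⊗[k] (A ⊗[k] A) :=
  (TensorProduct.map (antipode k) (antipode k) ∘ₗ (TensorProduct.comm k A A).toLinearMap).lTensor V ∘ₗ
    (TensorProduct.comm k (A ⊗[k] A) V).toLinearMap ∘ₗ (TensorProduct.assoc k A A V).symm.toLinearMap

@[simp] theorem T'_tmul (a b : A) (w : V) :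
    T' k A V (a ⊗ₜ[k] (b ⊗ₜ[k] w)) = w ⊗ₜ[k] (antipode k b ⊗ₜ[k] antipode k a) := by
  simp [T']

variable {k A V}

section right_to_left

variable (c : HopfRep.Comod k A V)

theorem L1 (x : V ⊗[k] A) :
    (lcoactOfRight c).lTensor A (TensorProduct.comm k V A ((antipode k).lTensor V x)) =
      T k A V (TensorProduct.assoc k V A A (c.coact.rTensor A x)) := by
  induction x using TensorProduct.induction_on with
  | zero => simp
  | add x y hx hy => simp only [map_add, hx, hy]
  | tmul w a =>
    simp only [LinearMap.lTensor_tmul, TensorProduct.comm_tmul, LinearMap.rTensor_tmul,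
      lcoactOfRight_apply]
    generalize c.coact w = y
    induction y using TensorProduct.induction_on with
    | zero => simp
    | add y z hy hz => simp only [map_add, tmul_add, add_tmul, hy, hz]
    | tmul u b => simp

theorem L2 (x : V ⊗[k] A) :
    TensorProduct.assoc k A A V ((Coalgebra.comul (R := k) (A := A)).rTensor V
        (TensorProduct.comm k V A ((antipode k).lTensor V x))) =
      T k A V ((Coalgebra.comul (R := k) (A := A)).lTensor V x) := by
  induction x using TensorProduct.induction_on with
  | zero => simp
  | add x y hx hy => simp only [map_add, hx, hy]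
  | tmul w a =>
    simp only [LinearMap.lTensor_tmul, TensorProduct.comm_tmul, LinearMap.rTensor_tmul]
    rw [Groth.Agent.Helper19.HopfLib.comul_antipode]
    generalize Coalgebra.comul (R := k) a = z
    induction z using TensorProduct.induction_on with
    | zero => simp
    | add y z hy hz => simp only [map_add, tmul_add, add_tmul, hy, hz]
    | tmul p q => simp

/-- the left comodule structure attached to a right one. -/
@[reducible] noncomputable def lcomodOfRight : LComod k A V where
  coact := lcoactOfRight c
  coassoc := by
    apply LinearMap.ext
    intro v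
    have hc := LinearMap.congr_fun c.coassoc v
    simp only [LinearMap.coe_comp, Function.comp_apply, LinearEquiv.coe_coe] at hc ⊢
    rw [lcoactOfRight_apply c v, L1, L2, hc]
  counit_comp := by
    apply LinearMap.ext
    intro v
    have hc := LinearMap.congr_fun c.counit_comp v
    simp only [LinearMap.coe_comp, Function.comp_apply, LinearMap.flip_apply,
      TensorProduct.mk_apply] at hc ⊢
    rw [lcoactOfRight_apply c v]
    have key : ∀ x : V ⊗[k] A, (Coalgebra.counit (R := k) (A := A)).rTensor V
        (TensorProduct.comm k V A ((antipode k).lTensor V x)) =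
        TensorProduct.comm k V k ((Coalgebra.counit (R := k) (A := A)).lTensor V x) := by
      intro x
      induction x using TensorProduct.induction_on with
      | zero => simp
      | add x y hx hy => simp only [map_add, hx, hy]
      | tmul w a => simp
    rw [key, hc]
    simp

end right_to_left

section left_to_right

variable (l : LComod k A V)

theorem L1' (x : A ⊗[k] V) :
    TensorProduct.assoc k V A A ((rcoactOfLeft l).rTensor A
        (TensorProduct.comm k A V ((antipode k).rTensor V x))) =
      T' k A V (l.coact.lTensor A x) := by
  induction x using TensorProduct.induction_on with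
  | zero => simp
  | add x y hx hy => simp only [map_add, hx, hy]
  | tmul a w =>
    simp only [LinearMap.lTensor_tmul, TensorProduct.comm_tmul, LinearMap.rTensor_tmul,
      rcoactOfLeft_apply]
    generalize l.coact w = y
    induction y using TensorProduct.induction_on with
    | zero => simp
    | add y z hy hz => simp only [map_add, tmul_add, add_tmul, hy, hz]
    | tmul b u => simp

theorem L2' (x : A ⊗[k] V) :
    (Coalgebra.comul (R := k) (A := A)).lTensor V
        (TensorProduct.comm k A V ((antipode k).rTensor V x)) =
      T' k A V (TensorProduct.assoc k A A V ((Coalgebra.comul (R := k) (A := A)).rTensor V x)) := by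
  induction x using TensorProduct.induction_on with
  | zero => simp
  | add x y hx hy => simp only [map_add, hx, hy]
  | tmul a w =>
    simp only [LinearMap.lTensor_tmul, TensorProduct.comm_tmul, LinearMap.rTensor_tmul]
    rw [Groth.Agent.Helper19.HopfLib.comul_antipode]
    generalize Coalgebra.comul (R := k) a = z
    induction z using TensorProduct.induction_on with
    | zero => simp
    | add y z hy hz => simp only [map_add, tmul_add, add_tmul, hy, hz]
    | tmul p q => simp

/-- the right comodule structure attached to a left one. -/
@[reducible] noncomputable def comodOfLeft : HopfRep.Comod k A V where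
  coact := rcoactOfLeft l
  coassoc := by
    apply LinearMap.ext
    intro v
    have hc := LinearMap.congr_fun l.coassoc v
    simp only [LinearMap.coe_comp, Function.comp_apply, LinearEquiv.coe_coe] at hc ⊢
    rw [rcoactOfLeft_apply l v, L1', L2', hc]
  counit_comp := by
    apply LinearMap.ext
    intro v
    have hc := LinearMap.congr_fun l.counit_comp v
    simp only [LinearMap.coe_comp, Function.comp_apply, LinearMap.flip_apply,
      TensorProduct.mk_apply] at hc ⊢
    rw [rcoactOfLeft_apply l v]
    have key : ∀ x : A ⊗[k] V, (Coalgebra.counit (R := k) (A := A)).lTensor V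
        (TensorProduct.comm k A V ((antipode k).rTensor V x)) =
        TensorProduct.comm k k V ((Coalgebra.counit (R := k) (A := A)).rTensor V x) := by
      intro x
      induction x using TensorProduct.induction_on with
      | zero => simp
      | add x y hx hy => simp only [map_add, hx, hy]
      | tmul a w => simp
    rw [key, hc]
    simp

end left_to_right

end Groth.Agent.Helper25.ComodLR
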