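import Mathlib
import Groth.Prelude.Def_ConstAct2
import Groth.Prelude.Def_Hoch

/-!
# Tameness of a finite constant group action and surjectivity of the trace (helper25)
-/

set_option autoImplicit false
set_option linter.unusedSectionVars false

namespace Groth.Agent.Helper25.ConstActTame

open TensorProduct ConstAct

universe u

variable (R : Type u) [CommRing R] (B : Type u) [CommRing B] [Algebra R B]
  (Γ : Type u) [Group Γ] [Fintype Γ] [DecidableEq Γ]

/-- the coefficient of `e γ`. -/
noncomputable def pr (γ : Γ) : B ⊗[R] ConstGrp.F R Γ →ₗ[R] B :=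
  (TensorProduct.rid R B).toLinearMap ∘ₗ (ConstGrp.ev R γ).toLinearMap.lTensor B

theorem pr_tmul_e (γ k : Γ) (b : B) :
    pr R B Γ γ (b ⊗ₜ[R] ConstGrp.e R k) = if γ = k then b else 0 := by
  simp only [pr, LinearMap.comp_apply, LinearMap.lTensor_tmul, AlgHom.toLinearMap_apply,
    ConstGrp.ev_apply, ConstGrp.e_apply, LinearEquiv.coe_coe, TensorProduct.rid_tmul]
  split_ifs <;> simp

variable [MulSemiringAction Γ B] [SMulCommClass Γ R B]

theorem pr_coactLin (γ : Γ) (b : B) : pr R B Γ γ (coactLin R B Γ b) = γ • b := by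
  rw [coactLin_apply, map_sum]
  simp only [pr_tmul_e]
  rw [Finset.sum_ite_eq]
  simp

theorem main :
    letI := ConstAct.comod R B Γ
    (∃ α : ConstGrp.F R Γ →ₗ[R] B, Hoch.IsComodHom (ConstGrp.F R Γ) α ∧ α 1 = 1) ↔
      ∀ c : B, c ∈ ConstAct.inv R B Γ → ∃ b : B, ∑ γ : Γ, γ • b = c := by
  let _ := ConstAct.comod R B Γ
  constructor
  · rintro ⟨α, hα, h1⟩ c hc
    have hα' : coactLin R B Γ ∘ₗ α =
        α.rTensor (ConstGrp.F R Γ) ∘ₗ Coalgebra.comul (R := R) (A := ConstGrp.F R Γ) := hα
    have key : ∀ γ : Γ, γ • α (ConstGrp.e R 1) = α (ConstGrp.e R γ⁻¹) := by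
      intro γ
      have h2 := congrArg (pr R B Γ γ) (LinearMap.congr_fun hα' (ConstGrp.e R 1))
      simp only [LinearMap.comp_apply] at h2
      rw [pr_coactLin, ConstGrp.comul_e, map_sum, map_sum] at h2
      simp only [LinearMap.rTensor_tmul, pr_tmul_e, mul_one] at h2
      rw [h2, Finset.sum_eq_single γ⁻¹]
      · simp
      · intro a _ ha
        rw [if_neg]
        intro h
        apply ha
        rw [h, inv_inv]
      · intro h
        exact absurd (Finset.mem_univ _) h
    have htr : ∑ γ : Γ, γ • α (ConstGrp.e R 1) = 1 := by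
      simp only [key]
      rw [← map_sum, ← h1]
      congr 1
      rw [← ConstGrp.sum_e (R := R) (G := Γ)]
      exact Fintype.sum_equiv (Equiv.inv Γ) _ _ (fun γ => rfl)
    refine ⟨c * α (ConstGrp.e R 1), ?_⟩
    have hc' : ∀ γ : Γ, γ • c = c := (ConstAct.mem_inv R B Γ c).1 hc
    simp only [smul_mul', hc']
    rw [← Finset.mul_sum, htr, mul_one]
  · intro h
    obtain ⟨b, hb⟩ := h 1 (Subalgebra.one_mem _)
    let α : ConstGrp.F R Γ →ₗ[R] B :=
      ∑ g : Γ, (ConstGrp.ev R g).toLinearMap.smulRight (g⁻¹ • b)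
    have hαe : ∀ h : Γ, α (ConstGrp.e R h) = h⁻¹ • b := by
      intro h
      simp only [α, LinearMap.sum_apply, LinearMap.smulRight_apply, AlgHom.toLinearMap_apply,
        ConstGrp.ev_apply, ConstGrp.e_apply]
      rw [Finset.sum_eq_single h]
      · simp
      · intro g _ hg
        rw [if_neg hg, zero_smul]
      · intro hh
        exact absurd (Finset.mem_univ _) hh
    refine ⟨α, ?_, ?_⟩
    · change coactLin R B Γ ∘ₗ α =
        α.rTensor (ConstGrp.F R Γ) ∘ₗ Coalgebra.comul (R := R) (A := ConstGrp.F R Γ)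
      apply ConstGrp.linearMap_ext
      intro g
      simp only [LinearMap.comp_apply]
      rw [hαe, coactLin_apply, ConstGrp.comul_e, map_sum]
      simp only [LinearMap.rTensor_tmul, hαe]
      symm
      refine Fintype.sum_equiv ((Equiv.inv Γ).trans (Equiv.mulRight g)) _ _ (fun a => ?_)
      simp only [Equiv.trans_apply, Equiv.inv_apply, Equiv.coe_mulRight]
      rw [mul_smul, smul_inv_smul]
    · rw [← ConstGrp.sum_e (R := R) (G := Γ), map_sum]
      simp only [hαe]
      rw [← hb]
      exact Fintype.sum_equiv (Equiv.inv Γ) _ _ (fun γ => rfl)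

end Groth.Agent.Helper25.ConstActTame
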