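import Mathlib
import Groth.Prelude.Def_ConstAct2
import Groth.Agent.Lib.Helper25.ConstActTame

/-!
# A comodule algebra over the functions on a finite group is a group action (helper25)
-/

set_option autoImplicit false
set_option linter.unusedSectionVars false

namespace Groth.Agent.Helper25.ConstActUnique

open TensorProduct ConstAct Groth.Agent.Helper25.ConstActTame

universe u

variable (R : Type u) [CommRing R] (B : Type u) [CommRing B] [Algebra R B]
  (Γ : Type u) [Group Γ] [Fintype Γ] [DecidableEq Γ]

/-- expansion in the basis of indicator functions. -/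
theorem expansion (x : B ⊗[R] ConstGrp.F R Γ) :
    ∑ γ : Γ, pr R B Γ γ x ⊗ₜ[R] ConstGrp.e R γ = x := by
  induction x using TensorProduct.induction_on with
  | zero => simp
  | add x y hx hy =>
    simp only [map_add, add_tmul, Finset.sum_add_distrib, hx, hy]
  | tmul b f =>
    have h1 : ∀ γ : Γ, pr R B Γ γ (b ⊗ₜ[R] f) = f γ • b := by
      intro γ
      simp [pr]
    simp only [h1]
    conv_rhs => rw [ConstGrp.eq_sum_smul_e f, TensorProduct.tmul_sum]
    refine Finset.sum_congr rfl (fun γ _ => ?_)
    rw [TensorProduct.smul_tmul]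

/-- the coefficient extraction as an algebra map. -/
noncomputable def prA (γ : Γ) : B ⊗[R] ConstGrp.F R Γ →ₐ[R] B :=
  (Algebra.TensorProduct.rid R R B).toAlgHom.comp
    (Algebra.TensorProduct.map (AlgHom.id R B) (ConstGrp.ev R γ))

theorem prA_apply (γ : Γ) (x : B ⊗[R] ConstGrp.F R Γ) : prA R B Γ γ x = pr R B Γ γ x := by
  induction x using TensorProduct.induction_on with
  | zero => simp
  | add x y hx hy => simp only [map_add, hx, hy]
  | tmul b f => simp [prA, pr]

theorem counit_eq : (Coalgebra.counit (R := R) (A := ConstGrp.F R Γ)) =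
    (ConstGrp.ev R (1 : Γ)).toLinearMap := by
  apply ConstGrp.linearMap_ext
  intro g
  rw [ConstGrp.counit_e, AlgHom.toLinearMap_apply, ConstGrp.ev_apply, ConstGrp.e_apply]

/-- extraction of the coefficient of `e g ⊗ e h`. -/
noncomputable def E (g h : Γ) : B ⊗[R] (ConstGrp.F R Γ ⊗[R] ConstGrp.F R Γ) →ₗ[R] B :=
  (TensorProduct.rid R B).toLinearMap ∘ₗ
    ((LinearMap.mul' R R) ∘ₗ TensorProduct.map (ConstGrp.ev R g).toLinearMap
      (ConstGrp.ev R h).toLinearMap).lTensor B

theorem E_tmul (g h : Γ) (b : B) (f f' : ConstGrp.F R Γ) :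
    E R B Γ g h (b ⊗ₜ[R] (f ⊗ₜ[R] f')) = (f g * f' h) • b := by
  simp [E]

theorem E_assoc (g h k : Γ) (y : B ⊗[R] ConstGrp.F R Γ) :
    E R B Γ g h (TensorProduct.assoc R B (ConstGrp.F R Γ) (ConstGrp.F R Γ) (y ⊗ₜ[R] ConstGrp.e R k)) =
      if h = k then pr R B Γ g y else 0 := by
  induction y using TensorProduct.induction_on with
  | zero => simp
  | add x y hx hy =>
    simp only [add_tmul, map_add, hx, hy]
    split_ifs <;> simp
  | tmul b f =>
    rw [TensorProduct.assoc_tmul, E_tmul, ConstGrp.e_apply]
    split_ifs with hh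
    · simp [pr]
    · simp

variable [HopfRep.Comod R (ConstGrp.F R Γ) B]

theorem pr_one_coact (b : B) :
    pr R B Γ 1 (HopfRep.Comod.coact (k := R) (A := ConstGrp.F R Γ) b) = b := by
  have hu := LinearMap.congr_fun
    (HopfRep.Comod.counit_comp (k := R) (A := ConstGrp.F R Γ) (V := B)) b
  simp only [LinearMap.coe_comp, Function.comp_apply, LinearMap.flip_apply,
    TensorProduct.mk_apply] at hu
  rw [counit_eq] at hu
  simp only [pr, LinearMap.comp_apply, hu]
  simp

theorem pr_mul_coact (g h : Γ) (b : B) :
    pr R B Γ (g * h) (HopfRep.Comod.coact (k := R) (A := ConstGrp.F R Γ) b) =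
      pr R B Γ g (HopfRep.Comod.coact (k := R) (A := ConstGrp.F R Γ)
        (pr R B Γ h (HopfRep.Comod.coact (k := R) (A := ConstGrp.F R Γ) b))) := by
  have hc := LinearMap.congr_fun
    (HopfRep.Comod.coassoc (k := R) (A := ConstGrp.F R Γ) (V := B)) b
  simp only [LinearMap.coe_comp, Function.comp_apply, LinearEquiv.coe_coe] at hc
  have hc2 := congrArg (E R B Γ g h) hc
  set x := HopfRep.Comod.coact (k := R) (A := ConstGrp.F R Γ) b with hx
  have e1 : E R B Γ g h (TensorProduct.assoc R B (ConstGrp.F R Γ) (ConstGrp.F R Γ)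
      ((HopfRep.Comod.coact (k := R) (A := ConstGrp.F R Γ)).rTensor (ConstGrp.F R Γ) x)) =
      pr R B Γ g (HopfRep.Comod.coact (k := R) (A := ConstGrp.F R Γ) (pr R B Γ h x)) := by
    conv_lhs => rw [← expansion R B Γ x]
    simp only [map_sum, LinearMap.rTensor_tmul, E_assoc]
    rw [Finset.sum_ite_eq]
    simp
  have e2 : E R B Γ g h ((Coalgebra.comul (R := R) (A := ConstGrp.F R Γ)).lTensor B x) =
      pr R B Γ (g * h) x := by
    conv_lhs => rw [← expansion R B Γ x]
    simp only [map_sum, LinearMap.lTensor_tmul, ConstGrp.comul_e, TensorProduct.tmul_sum, E_tmul,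
      ConstGrp.e_apply]
    rw [Finset.sum_eq_single (g * h)]
    · rw [Finset.sum_eq_single g]
      · simp
      · intro a _ ha
        rw [if_neg (Ne.symm ha)]
        simp
      · intro hh
        exact absurd (Finset.mem_univ _) hh
    · intro k _ hk
      apply Finset.sum_eq_zero
      intro a _
      by_cases h1 : g = a
      · subst h1
        have : h ≠ g⁻¹ * k := by
          intro h2
          apply hk
          rw [h2, mul_inv_cancel_left]
        rw [if_neg this]
        simp
      · rw [if_neg h1]
        simp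
    · intro hh
      exact absurd (Finset.mem_univ _) hh
  rw [e1, e2] at hc2
  exact hc2.symm

variable [GLin.IsCoactAlg R (ConstGrp.F R Γ) B]

/-- the action of `γ`, as an algebra endomorphism. -/
noncomputable def act (γ : Γ) : B →ₐ[R] B :=
  (prA R B Γ γ).comp (GLin.coactAlgHom R (ConstGrp.F R Γ) B)

theorem act_apply (γ : Γ) (b : B) :
    act R B Γ γ b = pr R B Γ γ (HopfRep.Comod.coact (k := R) (A := ConstGrp.F R Γ) b) := by
  simp [act, prA_apply]

/-- the group action attached to the comodule algebra structure. -/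
@[reducible] noncomputable def theAction : MulSemiringAction Γ B where
  smul γ b := act R B Γ γ b
  one_smul b := by
    change act R B Γ 1 b = b
    rw [act_apply, pr_one_coact]
  mul_smul g h b := by
    change act R B Γ (g * h) b = act R B Γ g (act R B Γ h b)
    simp only [act_apply]
    exact pr_mul_coact R B Γ g h b
  smul_zero γ := map_zero (act R B Γ γ)
  smul_add γ a b := map_add (act R B Γ γ) a b
  smul_one γ := map_one (act R B Γ γ)
  smul_mul γ a b := map_mul (act R B Γ γ) a b

theorem existsUnique :
    ∃! a : MulSemiringAction Γ B, ∃ _ : SMulCommClass Γ R B,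
      ConstAct.coactLin R B Γ = HopfRep.Comod.coact (k := R) (A := ConstGrp.F R Γ) (V := B) ∧
        GLin.invariants R (ConstGrp.F R Γ) B = ConstAct.inv R B Γ := by
  refine ⟨theAction R B Γ, ?_, ?_⟩
  · letI := theAction R B Γ
    have hsmul : ∀ (γ : Γ) (b : B), γ • b = act R B Γ γ b := fun _ _ => rfl
    have hcomm : SMulCommClass Γ R B := ⟨fun γ r b => by
      rw [hsmul, hsmul, map_smul]⟩
    refine ⟨hcomm, ?_, ?_⟩
    · apply LinearMap.ext
      intro b
      rw [coactLin_apply]
      simp only [hsmul, act_apply]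
      exact expansion R B Γ _
    · ext b
      rw [ConstAct.mem_inv]
      constructor
      · intro hb γ
        have hb' : HopfRep.Comod.coact (k := R) (A := ConstGrp.F R Γ) b = b ⊗ₜ[R] 1 := hb
        rw [hsmul, act_apply, hb']
        simp [pr]
      · intro hb
        change HopfRep.Comod.coact (k := R) (A := ConstGrp.F R Γ) b = b ⊗ₜ[R] 1
        rw [← expansion R B Γ (HopfRep.Comod.coact (k := R) (A := ConstGrp.F R Γ) b)]
        have : ∀ γ : Γ, pr R B Γ γ (HopfRep.Comod.coact (k := R) (A := ConstGrp.F R Γ) b) = b := by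
          intro γ
          rw [← act_apply, ← hsmul, hb γ]
        simp only [this]
        rw [← TensorProduct.tmul_sum, ConstGrp.sum_e]
  · rintro a' ⟨hcomm', hco, -⟩
    have key : ∀ (γ : Γ) (b : B), a'.smul γ b = act R B Γ γ b := by
      intro γ b
      have h1 := @pr_coactLin R _ B _ _ Γ _ _ _ a' hcomm' γ b
      rw [hco] at h1
      rw [act_apply, h1]
      rfl
    have h2 : a'.toDistribMulAction = (theAction R B Γ).toDistribMulAction := by
      apply DistribMulAction.ext
      funext γ b
      exact key γ b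
    obtain ⟨s1, s2⟩ := a'
    simp only at h2
    subst h2
    rfl

end Groth.Agent.Helper25.ConstActUnique
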