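import Mathlib
import Groth.Prelude.Def_ConstGrp

/-!
# Self-duality of the constant group `ℤ/n` over a field (helper library for S18466)
-/

namespace Groth.Agent.Helper25.ConstZMod

open TensorProduct ConstGrp

universe u v

noncomputable section

section General

variable {R : Type u} {G : Type v} [CommRing R] [Group G] [Fintype G] [DecidableEq G]

theorem comul_of_mul (f : F R G) (hf : ∀ a b, f (a * b) = f a * f b) :
    Coalgebra.comul (R := R) f = f ⊗ₜ[R] f := by
  rw [ConstGrp.comul_eq_sum]
  conv_rhs => rw [ConstGrp.eq_sum_smul_e f]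
  rw [TensorProduct.sum_tmul]
  refine Finset.sum_congr rfl fun a _ => ?_
  rw [TensorProduct.tmul_sum]
  refine Finset.sum_congr rfl fun b _ => ?_
  rw [hf, TensorProduct.smul_tmul_smul]

theorem groupLike_one {a : F R G} (ha : IsGroupLikeElem R a) : a 1 = 1 := by
  have := ha.counit_eq_one
  rwa [ConstGrp.counit_apply] at this

theorem groupLike_mul {a : F R G} (ha : IsGroupLikeElem R a) (g h : G) :
    a (g * h) = a g * a h := by
  have := ha.comul_eq_tmul_self
  rw [← ConstGrp.pair_comul R G a g h, this, ConstGrp.pair_tmul]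

theorem pow_apply' (a : F R G) (l : ℕ) (g : G) : (a ^ l) g = (a g) ^ l := by
  induction l with
  | zero => rw [pow_zero, pow_zero, ConstGrp.one_apply]
  | succ l ih => rw [pow_succ, pow_succ, ConstGrp.mul_apply, ih]

/-- A group-like element of the function algebra, as a monoid homomorphism. -/
def glHom {a : F R G} (ha : IsGroupLikeElem R a) : G →* R where
  toFun := a
  map_one' := groupLike_one ha
  map_mul' := groupLike_mul ha

theorem glHom_apply {a : F R G} (ha : IsGroupLikeElem R a) (g : G) : glHom ha g = a g := rfl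

end General

section Main

variable (k : Type u) [Field k] (n : ℕ) [NeZero n]

theorem sigma_pow (l : ℕ) :
    (Multiplicative.ofAdd (1 : ZMod n)) ^ l = Multiplicative.ofAdd (l : ZMod n) := by
  rw [← ofAdd_nsmul, nsmul_one]

theorem eq_sigma_pow (g : Multiplicative (ZMod n)) :
    g = (Multiplicative.ofAdd (1 : ZMod n)) ^ (Multiplicative.toAdd g).val := by
  rw [sigma_pow, ZMod.natCast_zmod_val, ofAdd_toAdd]

theorem forward
    (φ : F k (Multiplicative (ZMod n)) ≃ₐc[k] MonoidAlgebra k (Multiplicative (ZMod n))) :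
    ∃ ζ : k, IsPrimitiveRoot ζ n := by
  obtain ⟨a, ha_def⟩ : ∃ a : F k (Multiplicative (ZMod n)),
      a = φ.symm (MonoidAlgebra.of k _ (Multiplicative.ofAdd (1 : ZMod n))) := ⟨_, rfl⟩
  have hφa : φ a = MonoidAlgebra.of k _ (Multiplicative.ofAdd (1 : ZMod n)) := by
    rw [ha_def, BialgEquiv.apply_symm_apply]
  have ha : IsGroupLikeElem k a := by
    rw [ha_def]
    exact (MonoidAlgebra.isGroupLikeElem_of (R := k) (A := k)
      (Multiplicative.ofAdd (1 : ZMod n))).map φ.symm
  have hσn : (Multiplicative.ofAdd (1 : ZMod n)) ^ n = 1 := by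
    rw [sigma_pow, ZMod.natCast_self]; rfl
  refine ⟨a (Multiplicative.ofAdd (1 : ZMod n)),
    IsPrimitiveRoot.mk_of_lt _ (Nat.pos_of_ne_zero (NeZero.ne n)) ?_ ?_⟩
  · rw [← glHom_apply ha, ← map_pow, hσn, map_one]
  · intro l hl hln h1
    have hal : a ^ l = 1 := by
      ext g
      rw [pow_apply', ConstGrp.one_apply, eq_sigma_pow n g, ← glHom_apply ha, map_pow, ← pow_mul,
        mul_comm, pow_mul, glHom_apply ha, h1, one_pow]
    have h2 : φ (a ^ l) = 1 := by rw [hal, map_one]
    rw [map_pow, hφa, ← map_pow] at h2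
    have h3 : (Multiplicative.ofAdd (1 : ZMod n)) ^ l = 1 :=
      MonoidAlgebra.of_injective (R := k) (by rw [h2, map_one])
    rw [sigma_pow] at h3
    have h4 : ((l : ℕ) : ZMod n) = 0 := by
      have := congrArg Multiplicative.toAdd h3
      simpa using this
    rw [ZMod.natCast_eq_zero_iff] at h4
    exact absurd (Nat.le_of_dvd hl h4) (not_le.mpr hln)

variable {k n}

theorem zeta_pow_val_add {ζ : k} (h : ζ ^ n = 1) (x y : ZMod n) :
    ζ ^ (x + y).val = ζ ^ x.val * ζ ^ y.val := by
  rw [ZMod.val_add, ← pow_eq_pow_mod _ h, pow_add]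

/-- The character `y ↦ ζ ^ (x y)` of `ℤ/n` attached to `x`. -/
def chi {ζ : k} (h : ζ ^ n = 1) (g : Multiplicative (ZMod n)) : Multiplicative (ZMod n) →* k where
  toFun y := ζ ^ (Multiplicative.toAdd g * Multiplicative.toAdd y).val
  map_one' := by rw [toAdd_one, mul_zero, ZMod.val_zero, pow_zero]
  map_mul' y y' := by rw [toAdd_mul, mul_add, zeta_pow_val_add h]

theorem chi_apply {ζ : k} (h : ζ ^ n = 1) (g y : Multiplicative (ZMod n)) :
    chi h g y = ζ ^ (Multiplicative.toAdd g * Multiplicative.toAdd y).val := rfl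

/-- The characters, as a homomorphism into the function algebra. -/
def chiF {ζ : k} (h : ζ ^ n = 1) :
    Multiplicative (ZMod n) →* F k (Multiplicative (ZMod n)) where
  toFun g := (chi h g : Multiplicative (ZMod n) → k)
  map_one' := by
    ext y
    show chi h 1 y = 1
    rw [chi_apply, toAdd_one, zero_mul, ZMod.val_zero, pow_zero]
  map_mul' g g' := by
    ext y
    show chi h (g * g') y = chi h g y * chi h g' y
    rw [chi_apply, chi_apply, chi_apply, toAdd_mul, add_mul, zeta_pow_val_add h]

theorem chiF_apply {ζ : k} (h : ζ ^ n = 1) (g y : Multiplicative (ZMod n)) :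
    chiF h g y = chi h g y := rfl

/-- The algebra map from the group algebra to the function algebra. -/
def psiAlg {ζ : k} (h : ζ ^ n = 1) :
    MonoidAlgebra k (Multiplicative (ZMod n)) →ₐ[k] F k (Multiplicative (ZMod n)) :=
  MonoidAlgebra.lift k (F k (Multiplicative (ZMod n))) (Multiplicative (ZMod n)) (chiF h)

theorem psiAlg_single {ζ : k} (h : ζ ^ n = 1) (g : Multiplicative (ZMod n)) :
    psiAlg h (MonoidAlgebra.single g 1) = chiF h g := by
  rw [psiAlg, MonoidAlgebra.lift_single, one_smul]

/-- The bialgebra map from the group algebra to the function algebra. -/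
def psiBialg {ζ : k} (h : ζ ^ n = 1) :
    MonoidAlgebra k (Multiplicative (ZMod n)) →ₐc[k] F k (Multiplicative (ZMod n)) :=
  BialgHom.ofAlgHom (psiAlg h)
    (by
      refine MonoidAlgebra.algHom_ext (fun g => ?_) (Subsingleton.elim _ _)
      rw [AlgHom.comp_apply, psiAlg_single, Bialgebra.counitAlgHom_apply,
        Bialgebra.counitAlgHom_apply, ConstGrp.counit_apply, chiF_apply, map_one]
      simp)
    (by
      refine MonoidAlgebra.algHom_ext (fun g => ?_) (Subsingleton.elim _ _)
      rw [AlgHom.comp_apply, AlgHom.comp_apply, Bialgebra.comulAlgHom_apply,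
        Bialgebra.comulAlgHom_apply,
        (MonoidAlgebra.isGroupLikeElem_single_one (R := k) (A := k) g).comul_eq_tmul_self,
        Algebra.TensorProduct.map_tmul, psiAlg_single]
      exact (comul_of_mul _ (fun a b => map_mul (chi h g) a b)).symm)

theorem psiBialg_single {ζ : k} (h : ζ ^ n = 1) (g : Multiplicative (ZMod n)) :
    psiBialg h (MonoidAlgebra.single g 1) = chiF h g := psiAlg_single h g

theorem chi_injective {ζ : k} (hζ : IsPrimitiveRoot ζ n) :
    Function.Injective (chi (n := n) hζ.pow_eq_one) := by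
  intro g g' hgg
  have h1 := DFunLike.congr_fun hgg (Multiplicative.ofAdd (1 : ZMod n))
  rw [chi_apply, chi_apply, toAdd_ofAdd, mul_one, mul_one] at h1
  have h2 := hζ.pow_inj (ZMod.val_lt _) (ZMod.val_lt _) h1
  exact Multiplicative.toAdd.injective (ZMod.val_injective n h2)

theorem chiF_linearIndependent {ζ : k} (hζ : IsPrimitiveRoot ζ n) :
    LinearIndependent k (fun g => chiF (n := n) hζ.pow_eq_one g) := by
  have h1 := (linearIndependent_monoidHom (Multiplicative (ZMod n)) k).comp _ (chi_injective hζ)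
  exact h1

theorem psiBialg_bijective {ζ : k} (hζ : IsPrimitiveRoot ζ n) :
    Function.Bijective (psiBialg (n := n) hζ.pow_eq_one) := by
  have hcard : Fintype.card (Multiplicative (ZMod n)) =
      Module.finrank k (F k (Multiplicative (ZMod n))) :=
    (Module.finrank_eq_card_basis (ConstGrp.basis k (Multiplicative (ZMod n)))).symm
  let b' : Module.Basis (Multiplicative (ZMod n)) k (F k (Multiplicative (ZMod n))) :=
    basisOfLinearIndependentOfCardEqFinrank (chiF_linearIndependent hζ) hcard
  have hb' : ∀ g, b' g = chiF hζ.pow_eq_one g := fun g => by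
    show basisOfLinearIndependentOfCardEqFinrank (chiF_linearIndependent hζ) hcard g = _
    rw [coe_basisOfLinearIndependentOfCardEqFinrank]
  let E := (MonoidAlgebra.basis (Multiplicative (ZMod n)) k).equiv b' (Equiv.refl _)
  have hE : ((psiBialg (n := n) hζ.pow_eq_one : MonoidAlgebra k (Multiplicative (ZMod n)) →ₐc[k]
      F k (Multiplicative (ZMod n))) : MonoidAlgebra k (Multiplicative (ZMod n)) →ₗ[k]
      F k (Multiplicative (ZMod n))) = E.toLinearMap := by
    refine (MonoidAlgebra.basis (Multiplicative (ZMod n)) k).ext fun g => ?_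
    rw [LinearEquiv.coe_coe, Module.Basis.equiv_apply, MonoidAlgebra.basis_apply, Equiv.refl_apply,
      hb']
    exact psiBialg_single _ g
  have h2 : ⇑(psiBialg (n := n) hζ.pow_eq_one) = ⇑E := by
    funext x
    exact LinearMap.congr_fun hE x
  rw [h2]
  exact E.bijective

theorem backward {ζ : k} (hζ : IsPrimitiveRoot ζ n) :
    Nonempty (F k (Multiplicative (ZMod n)) ≃ₐc[k] MonoidAlgebra k (Multiplicative (ZMod n))) :=
  ⟨(BialgEquiv.ofBijective (psiBialg (n := n) hζ.pow_eq_one) (psiBialg_bijective hζ)).symm⟩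

theorem main (k : Type u) [Field k] (n : ℕ) [NeZero n] :
    Nonempty (ConstGrp.F k (Multiplicative (ZMod n)) ≃ₐc[k]
      MonoidAlgebra k (Multiplicative (ZMod n))) ↔ ∃ ζ : k, IsPrimitiveRoot ζ n :=
  ⟨fun ⟨φ⟩ => forward k n φ, fun ⟨_, hζ⟩ => backward hζ⟩

end Main

end

end Groth.Agent.Helper25.ConstZMod
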