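import Mathlib

/-!
# One step of the coskeleton construction (S6814)

Pointwise right Kan extension of an `(n+1)`-truncated simplicial object along the inclusion into
`(n+2)`-truncated simplex categories, given an object representing the matching data.
-/

set_option autoImplicit false

namespace Groth.Agent.Helper25.Cosk

open CategoryTheory CategoryTheory.Limits Opposite

universe v u

variable {C : Type u} [Category.{v} C] (n : ℕ)

/-- the restriction functor's underlying inclusion (opposite). -/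
abbrev Lf : (SimplexCategory.Truncated (n + 1))ᵒᵖ ⥤ (SimplexCategory.Truncated (n + 2))ᵒᵖ :=
  (SimplexCategory.Truncated.incl (n + 1) (n + 2) (Nat.le_succ _)).op

abbrev topObj : (SimplexCategory.Truncated (n + 2))ᵒᵖ :=
  op ⟨SimplexCategory.mk (n + 2), (SimplexCategory.len_mk (n + 2)).le⟩

abbrev top1 : (SimplexCategory.Truncated (n + 1))ᵒᵖ :=
  op ⟨SimplexCategory.mk (n + 1), (SimplexCategory.len_mk (n + 1)).le⟩

lemma h0 : (SimplexCategory.mk n).len ≤ n + 1 :=
  (SimplexCategory.len_mk n).trans_le (Nat.le_succ n)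

lemma h1 : (SimplexCategory.mk (n + 1)).len ≤ n + 1 := (SimplexCategory.len_mk (n + 1)).le

lemma h12 : (SimplexCategory.mk (n + 1)).len ≤ n + 2 :=
  (SimplexCategory.len_mk (n + 1)).trans_le (Nat.le_succ (n + 1))

lemma h2 : (SimplexCategory.mk (n + 2)).len ≤ n + 2 := (SimplexCategory.len_mk (n + 2)).le

variable (U : (SimplexCategory.Truncated (n + 1))ᵒᵖ ⥤ C)

/-- the face relations for a family of maps to `U_{n+1}`. -/
abbrev FaceRel {S : C} (g : Fin (n + 3) → (S ⟶ U.obj (top1 n))) : Prop :=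
  ∀ i j : Fin (n + 2), i ≤ j →
    g (Fin.castSucc i) ≫ U.map (SimplexCategory.Truncated.δ (n + 1) j (h0 n) (h1 n)).op =
      g j.succ ≫ U.map (SimplexCategory.Truncated.δ (n + 1) i (h0 n) (h1 n)).op

lemma exists_fac {Δ : SimplexCategory} (hΔ : Δ.len ≤ n + 1)
    (θ : Δ ⟶ SimplexCategory.mk (n + 2)) :
    ∃ (i : Fin (n + 3)) (θ' : Δ ⟶ SimplexCategory.mk (n + 1)), θ = θ' ≫ SimplexCategory.δ i := by
  have hns : ¬ Function.Surjective θ.toOrderHom := by
    intro hs
    have h3 := Fintype.card_le_of_surjective _ hs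
    simp only [Fintype.card_fin, SimplexCategory.len_mk] at h3
    omega
  exact SimplexCategory.eq_comp_δ_of_not_surjective (n := n + 1) θ hns

lemma wd_lt {S : C} (g : Fin (n + 3) → (S ⟶ U.obj (top1 n))) (hg : FaceRel n U g)
    {Δ : SimplexCategory} (hΔ : Δ.len ≤ n + 1) (i' j' : Fin (n + 2)) (H : i' ≤ j')
    (θ' θ'' : Δ ⟶ SimplexCategory.mk (n + 1))
    (h : θ' ≫ SimplexCategory.δ (Fin.castSucc i') = θ'' ≫ SimplexCategory.δ j'.succ) :
    g (Fin.castSucc i') ≫ U.map (SimplexCategory.Truncated.Hom.tr θ' hΔ (h1 n)).op =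
      g j'.succ ≫ U.map (SimplexCategory.Truncated.Hom.tr θ'' hΔ (h1 n)).op := by
  have hmiss : ∀ x, θ'.toOrderHom x ≠ j' := by
    intro x hx
    have e : (Fin.castSucc i').succAbove (θ'.toOrderHom x) =
        (j'.succ).succAbove (θ''.toOrderHom x) :=
      congrArg (fun φ => φ.toOrderHom x) h
    rw [hx, Fin.succAbove_of_le_castSucc _ _ (Fin.castSucc_le_castSucc_iff.mpr H)] at e
    exact Fin.succAbove_ne _ _ e.symm
  obtain ⟨ψ, rfl⟩ := SimplexCategory.eq_comp_δ_of_not_surjective' θ' j' hmiss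
  have e2 : θ'' = ψ ≫ SimplexCategory.δ i' := by
    have h3 : θ'' ≫ SimplexCategory.δ j'.succ =
        (ψ ≫ SimplexCategory.δ i') ≫ SimplexCategory.δ j'.succ := by
      rw [← h, Category.assoc, Category.assoc, SimplexCategory.δ_comp_δ H]
    exact (cancel_mono (SimplexCategory.δ j'.succ)).mp h3
  subst e2
  calc g (Fin.castSucc i') ≫
        U.map (SimplexCategory.Truncated.Hom.tr (ψ ≫ SimplexCategory.δ j') hΔ (h1 n)).op
      = (g (Fin.castSucc i') ≫ U.map (SimplexCategory.Truncated.δ (n + 1) j' (h0 n) (h1 n)).op) ≫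
          U.map (SimplexCategory.Truncated.Hom.tr ψ hΔ (h0 n)).op := by
        rw [Category.assoc, ← U.map_comp]; rfl
    _ = (g j'.succ ≫ U.map (SimplexCategory.Truncated.δ (n + 1) i' (h0 n) (h1 n)).op) ≫
          U.map (SimplexCategory.Truncated.Hom.tr ψ hΔ (h0 n)).op := by
        rw [hg i' j' H]
    _ = g j'.succ ≫
          U.map (SimplexCategory.Truncated.Hom.tr (ψ ≫ SimplexCategory.δ i') hΔ (h1 n)).op := by
        rw [Category.assoc, ← U.map_comp]; rfl

lemma wd {S : C} (g : Fin (n + 3) → (S ⟶ U.obj (top1 n))) (hg : FaceRel n U g)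
    {Δ : SimplexCategory} (hΔ : Δ.len ≤ n + 1) (i j : Fin (n + 3))
    (θ' θ'' : Δ ⟶ SimplexCategory.mk (n + 1))
    (h : θ' ≫ SimplexCategory.δ i = θ'' ≫ SimplexCategory.δ j) :
    g i ≫ U.map (SimplexCategory.Truncated.Hom.tr θ' hΔ (h1 n)).op =
      g j ≫ U.map (SimplexCategory.Truncated.Hom.tr θ'' hΔ (h1 n)).op := by
  have key : ∀ (i j : Fin (n + 3)) (θ' θ'' : Δ ⟶ SimplexCategory.mk (n + 1)), i < j →
      θ' ≫ SimplexCategory.δ i = θ'' ≫ SimplexCategory.δ j →
      g i ≫ U.map (SimplexCategory.Truncated.Hom.tr θ' hΔ (h1 n)).op =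
        g j ≫ U.map (SimplexCategory.Truncated.Hom.tr θ'' hΔ (h1 n)).op := by
    intro i j θ' θ'' hlt h
    have hiv : i.val < j.val := hlt
    have hj := j.isLt
    have ei : ∃ i' : Fin (n + 2), i = Fin.castSucc i' := ⟨⟨i.val, by omega⟩, Fin.ext rfl⟩
    have ej : ∃ j' : Fin (n + 2), j = j'.succ :=
      ⟨⟨j.val - 1, by omega⟩, Fin.ext (by show j.val = (j.val - 1) + 1; omega)⟩
    obtain ⟨i', rfl⟩ := ei
    obtain ⟨j', rfl⟩ := ej
    have H : i' ≤ j' := by
      have h4 : i'.val < j'.val + 1 := hlt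
      exact Nat.lt_succ_iff.mp h4
    exact wd_lt n U g hg hΔ i' j' H θ' θ'' h
  rcases lt_trichotomy i j with hlt | heq | hgt
  · exact key i j θ' θ'' hlt h
  · subst heq
    have e3 : θ' = θ'' := (cancel_mono (SimplexCategory.δ i)).mp h
    rw [e3]
  · exact (key j i θ'' θ' hgt h.symm).symm

variable (T : C) (π : Fin (n + 3) → (T ⟶ U.obj (top1 n)))

/-- the leg of the matching cone at `θ : Δ ⟶ [n+2]`. -/
noncomputable def leg {Δ : SimplexCategory} (hΔ : Δ.len ≤ n + 1)
    (θ : Δ ⟶ SimplexCategory.mk (n + 2)) : T ⟶ U.obj (op ⟨Δ, hΔ⟩) :=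
  π (exists_fac n hΔ θ).choose ≫
    U.map (SimplexCategory.Truncated.Hom.tr (exists_fac n hΔ θ).choose_spec.choose hΔ (h1 n)).op

lemma leg_eq (hπ : FaceRel n U π) {Δ : SimplexCategory} (hΔ : Δ.len ≤ n + 1)
    (θ : Δ ⟶ SimplexCategory.mk (n + 2)) (i : Fin (n + 3))
    (θ' : Δ ⟶ SimplexCategory.mk (n + 1)) (hθ : θ = θ' ≫ SimplexCategory.δ i) :
    leg n U T π hΔ θ = π i ≫ U.map (SimplexCategory.Truncated.Hom.tr θ' hΔ (h1 n)).op := by
  unfold leg
  apply wd n U π hπ hΔ
  exact (exists_fac n hΔ θ).choose_spec.choose_spec.symm.trans hθ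

lemma leg_comp (hπ : FaceRel n U π) {Δ Δ' : SimplexCategory} (hΔ : Δ.len ≤ n + 1)
    (hΔ' : Δ'.len ≤ n + 1) (ρ : Δ' ⟶ Δ) (θ : Δ ⟶ SimplexCategory.mk (n + 2))
    (θ₂ : Δ' ⟶ SimplexCategory.mk (n + 2)) (h : ρ ≫ θ = θ₂) :
    leg n U T π hΔ' θ₂ =
      leg n U T π hΔ θ ≫ U.map (SimplexCategory.Truncated.Hom.tr ρ hΔ' hΔ).op := by
  subst h
  obtain ⟨i, θ', hθ⟩ := exists_fac n hΔ θ
  rw [leg_eq n U T π hπ hΔ θ i θ' hθ,
    leg_eq n U T π hπ hΔ' (ρ ≫ θ) i (ρ ≫ θ') (by rw [hθ, Category.assoc]),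
    Category.assoc, ← U.map_comp]
  rfl

lemma leg_δ (hπ : FaceRel n U π) (k : Fin (n + 3)) :
    leg n U T π (h1 n) (SimplexCategory.δ k) = π k := by
  rw [leg_eq n U T π hπ (h1 n) (SimplexCategory.δ k) k (𝟙 _) (Category.id_comp _).symm]
  have e : (SimplexCategory.Truncated.Hom.tr (𝟙 (SimplexCategory.mk (n + 1))) (h1 n) (h1 n)).op =
      𝟙 (top1 n) := rfl
  rw [e, U.map_id, Category.comp_id]

/-- the structured arrow given by the face `δ k : [n+1] ⟶ [n+2]`. -/
noncomputable abbrev dA (k : Fin (n + 3)) : StructuredArrow (topObj n) (Lf n) :=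
  StructuredArrow.mk (Y := top1 n)
    (SimplexCategory.Truncated.δ (n + 2) k (h12 n) (h2 n)).op

/-- the structured arrow given by `θ : Δ ⟶ [n+2]`. -/
noncomputable abbrev mkA {Δ : SimplexCategory} (hΔ : Δ.len ≤ n + 1)
    (θ : Δ ⟶ SimplexCategory.mk (n + 2)) : StructuredArrow (topObj n) (Lf n) :=
  StructuredArrow.mk (Y := op (⟨Δ, hΔ⟩ : SimplexCategory.Truncated (n + 1)))
    ((SimplexCategory.Truncated.Hom.tr θ (hΔ.trans (Nat.le_succ _)) (h2 n)).op :
      topObj n ⟶ (Lf n).obj (op (⟨Δ, hΔ⟩ : SimplexCategory.Truncated (n + 1))))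

/-- the matching cone with vertex `T`. -/
noncomputable def topCone (hπ : FaceRel n U π) :
    Cone (StructuredArrow.proj (topObj n) (Lf n) ⋙ U) where
  pt := T
  π :=
    { app := fun A => leg n U T π A.right.unop.property A.hom.unop.hom
      naturality := fun A B φ => by
        have hw : φ.right.unop.hom ≫ A.hom.unop.hom = B.hom.unop.hom :=
          congrArg (fun f => f.unop.hom) (StructuredArrow.w φ)
        have key := leg_comp n U T π hπ A.right.unop.property B.right.unop.property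
          φ.right.unop.hom A.hom.unop.hom B.hom.unop.hom hw
        refine (Category.id_comp _).trans (key.trans ?_)
        rfl }

lemma cone_fac (s : Cone (StructuredArrow.proj (topObj n) (Lf n) ⋙ U))
    (A : StructuredArrow (topObj n) (Lf n)) (i : Fin (n + 3))
    (θ' : A.right.unop.obj ⟶ SimplexCategory.mk (n + 1))
    (hθ : A.hom.unop.hom = θ' ≫ SimplexCategory.δ i) :
    s.π.app (dA n i) ≫
      U.map (SimplexCategory.Truncated.Hom.tr θ' A.right.unop.property (h1 n)).op = s.π.app A := by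
  have hcomm : (dA n i).hom ≫
      (Lf n).map (SimplexCategory.Truncated.Hom.tr θ' A.right.unop.property (h1 n)).op = A.hom := by
    apply Quiver.Hom.unop_inj
    exact ObjectProperty.hom_ext _ hθ.symm
  exact s.w (StructuredArrow.homMk (f := dA n i) (f' := A)
    (SimplexCategory.Truncated.Hom.tr θ' A.right.unop.property (h1 n)).op hcomm)

lemma faceRel_of_cone (s : Cone (StructuredArrow.proj (topObj n) (Lf n) ⋙ U)) :
    FaceRel n U (fun k => s.π.app (dA n k)) := by
  intro i' j' H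
  have e1 := cone_fac n U s
    (mkA n (h0 n) (SimplexCategory.δ j' ≫ SimplexCategory.δ (Fin.castSucc i')))
    (Fin.castSucc i') (SimplexCategory.δ j') rfl
  have e2 := cone_fac n U s
    (mkA n (h0 n) (SimplexCategory.δ j' ≫ SimplexCategory.δ (Fin.castSucc i')))
    j'.succ (SimplexCategory.δ i') (SimplexCategory.δ_comp_δ H).symm
  exact e1.trans e2.symm

lemma cone_hom_of (hπ : FaceRel n U π)
    (s : Cone (StructuredArrow.proj (topObj n) (Lf n) ⋙ U)) (t : s.pt ⟶ T)
    (ht : ∀ k, t ≫ π k = s.π.app (dA n k)) (A : StructuredArrow (topObj n) (Lf n)) :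
    t ≫ (topCone n U T π hπ).π.app A = s.π.app A := by
  obtain ⟨i, θ', hθ⟩ := exists_fac n A.right.unop.property A.hom.unop.hom
  have e : (topCone n U T π hπ).π.app A =
      π i ≫ U.map (SimplexCategory.Truncated.Hom.tr θ' A.right.unop.property (h1 n)).op :=
    leg_eq n U T π hπ _ _ i θ' hθ
  have e' : t ≫ (topCone n U T π hπ).π.app A =
      (t ≫ π i) ≫ U.map (SimplexCategory.Truncated.Hom.tr θ' A.right.unop.property (h1 n)).op := by
    rw [e]; exact (Category.assoc _ _ _).symm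
  rw [e', ht i]
  exact cone_fac n U s A i θ' hθ

variable (hπ : FaceRel n U π)
  (huniv : ∀ (S : C) (g : Fin (n + 3) → (S ⟶ U.obj (top1 n))), FaceRel n U g →
    ∃! t : S ⟶ T, ∀ k : Fin (n + 3), t ≫ π k = g k)

/-- the matching cone is a limit cone. -/
noncomputable def topIsLimit : IsLimit (topCone n U T π hπ) where
  lift s := (huniv s.pt (fun k => s.π.app (dA n k)) (faceRel_of_cone n U s)).exists.choose
  fac s A := cone_hom_of n U T π hπ s _
    (huniv s.pt (fun k => s.π.app (dA n k)) (faceRel_of_cone n U s)).exists.choose_spec A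
  uniq s m hm := by
    apply (huniv s.pt (fun k => s.π.app (dA n k)) (faceRel_of_cone n U s)).unique
    · intro k
      have h5 := hm (dA n k)
      rw [← h5]
      congr 1
      exact (leg_δ n U T π hπ k).symm
    · exact (huniv s.pt (fun k => s.π.app (dA n k)) (faceRel_of_cone n U s)).exists.choose_spec

include hπ huniv in
theorem hasPKE : (Lf n).HasPointwiseRightKanExtension U := by
  intro Y
  obtain ⟨⟨Δ, hΔ⟩⟩ := Y
  by_cases h : Δ.len ≤ n + 1
  · have hl : HasLimit (StructuredArrow.proj ((Lf n).obj (op ⟨Δ, h⟩)) (Lf n) ⋙ U) :=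
      HasLimit.mk ⟨_, limitOfDiagramInitial StructuredArrow.mkIdInitial _⟩
    exact hl
  · have hΔ' : Δ.len ≤ n + 2 := hΔ
    have hlen : Δ.len = n + 2 := by omega
    obtain rfl : Δ = SimplexCategory.mk (n + 2) := SimplexCategory.ext hlen
    exact HasLimit.mk ⟨_, topIsLimit n U T π hπ huniv⟩

include hπ huniv in
theorem isIso_of_compat (V : (SimplexCategory.Truncated (n + 2))ᵒᵖ ⥤ C) (α : Lf n ⋙ V ⟶ U)
    [V.IsRightKanExtension α] (t : V.obj (topObj n) ⟶ T)
    (ht : ∀ k : Fin (n + 3), t ≫ π k = V.map (dA n k).hom ≫ α.app (top1 n)) : IsIso t := by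
  have : (Lf n).HasPointwiseRightKanExtension U := hasPKE n U T π hπ huniv
  have hV : IsLimit ((Functor.RightExtension.mk V α).coneAt (topObj n)) :=
    Functor.isPointwiseRightKanExtensionOfIsRightKanExtension V α (topObj n)
  have key : ∀ A, t ≫ (topCone n U T π hπ).π.app A =
      ((Functor.RightExtension.mk V α).coneAt (topObj n)).π.app A :=
    fun A => cone_hom_of n U T π hπ ((Functor.RightExtension.mk V α).coneAt (topObj n)) t
      (fun k => ht k) A
  have e : t = (hV.conePointUniqueUpToIso (topIsLimit n U T π hπ huniv)).hom :=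
    (topIsLimit n U T π hπ huniv).hom_ext
      (fun A => (key A).trans (IsLimit.conePointUniqueUpToIso_hom_comp _ _ _).symm)
  rw [e]
  infer_instance

theorem main6814 {C : Type u} [Category.{v} C] (n : ℕ) (U : (SimplexCategory.Truncated (n + 1))ᵒᵖ ⥤ C) (T : C) (π : Fin (n + 3) → (T ⟶ U.obj (op ⟨SimplexCategory.mk (n + 1), (SimplexCategory.len_mk (n + 1)).le⟩))) (hπ : ∀ i j : Fin (n + 2), i ≤ j → π (Fin.castSucc i) ≫ U.map (SimplexCategory.Truncated.δ (n + 1) j ((SimplexCategory.len_mk n).trans_le (Nat.le_succ n)) (SimplexCategory.len_mk (n + 1)).le).op = π j.succ ≫ U.map (SimplexCategory.Truncated.δ (n + 1) i ((SimplexCategory.len_mk n).trans_le (Nat.le_succ n)) (SimplexCategory.len_mk (n + 1)).le).op) (huniv : ∀ (S : C) (g : Fin (n + 3) → (S ⟶ U.obj (op ⟨SimplexCategory.mk (n + 1), (SimplexCategory.len_mk (n + 1)).le⟩))), (∀ i j : Fin (n + 2), i ≤ j → g (Fin.castSucc i) ≫ U.map (SimplexCategory.Truncated.δ (n + 1) j ((SimplexCategory.len_mk n).trans_le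 (Nat.le_succ n)) (SimplexCategory.len_mk (n + 1)).le).op = g j.succ ≫ U.map (SimplexCategory.Truncated.δ (n + 1) i ((SimplexCategory.len_mk n).trans_le (Nat.le_succ n)) (SimplexCategory.len_mk (n + 1)).le).op) → ∃! t : S ⟶ T, ∀ k : Fin (n + 3), t ≫ π k = g k) : (SimplexCategory.Truncated.incl (n + 1) (n + 2) (Nat.le_succ _)).op.HasPointwiseRightKanExtension U ∧ ∀ (V : (SimplexCategory.Truncated (n + 2))ᵒᵖ ⥤ C) (α : (SimplexCategory.Truncated.incl (n + 1) (n + 2) (Nat.le_succ _)).op ⋙ V ⟶ U) [V.IsRightKanExtension α] (t : V.obj (op ⟨SimplexCategory.mk (n + 2), (SimplexCategory.len_mk (n + 2)).le⟩) ⟶ T), (∀ k : Fin (n + 3), t ≫ π k = V.map (SimplexCategory.Truncated.δ (n + 2) k ((SimplexCategory.len_mk (n + 1)).trans_le (Nat.le_succ (n + 1))) (SimplexCategory.len_mk (n + 2)).le).op ≫ α.app (op ⟨SimplexCategory.mk (n + 1), (SimplexCategory.len_mk (n + 1)).le⟩)) → IsIso t := by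
  refine ⟨hasPKE n U T π hπ huniv, ?_⟩
  intro V α _ t ht
  exact isIso_of_compat n U T π hπ huniv V α t ht

end Groth.Agent.Helper25.Cosk
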