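import Mathlib

namespace Groth.Agent.Helper25.CountBounded

open PowerSeries

noncomputable def T (p : ℕ) : PowerSeries ℤ :=
  ∑ t ∈ (Finset.univ : Finset (Fin p)).filter (fun t : Fin p => 1 ≤ (t : ℕ)), X ^ (t : ℕ)

theorem T_eq (p : ℕ) :
    T p = ∑ t ∈ Finset.range p, (if 1 ≤ t then (X : PowerSeries ℤ) ^ t else 0) := by
  rw [T, Finset.sum_filter,
    ← Fin.sum_univ_eq_sum_range (fun t => if 1 ≤ t then (X : PowerSeries ℤ) ^ t else 0) p]

theorem T_mul (p : ℕ) : T p * (1 - X) = X * (1 - X ^ (p - 1)) := by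
  rcases Nat.eq_zero_or_pos p with rfl | hp
  · simp [T]
  · obtain ⟨q, rfl⟩ : ∃ q, p = q + 1 := ⟨p - 1, by omega⟩
    rw [T_eq, Finset.sum_range_succ', if_neg (by omega : ¬ (1 ≤ 0)), add_zero, Nat.add_sub_cancel]
    simp only [show ∀ i : ℕ, 1 ≤ i + 1 from fun i => by omega, if_true]
    have h := geom_sum_mul (X : PowerSeries ℤ) q
    simp only [pow_succ, ← Finset.sum_mul]
    linear_combination (-(X : PowerSeries ℤ)) * h

theorem coeff_T_pow (p n s : ℕ) :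
    coeff s (T p ^ n) =
      (Fintype.card {e : Fin n → Fin p // (∀ i, 1 ≤ (e i : ℕ)) ∧ ∑ i, (e i : ℕ) = s} : ℤ) := by
  rw [← Fin.prod_const n (T p), T, Finset.prod_univ_sum]
  simp only [Finset.prod_pow_eq_pow_sum]
  rw [map_sum]
  simp only [coeff_X_pow]
  rw [Finset.sum_boole, Fintype.card_subtype]
  congr 2
  ext e
  simp only [Finset.mem_filter, Fintype.mem_piFinset, Finset.mem_univ, true_and]
  constructor
  · rintro ⟨h1, h2⟩; exact ⟨h1, h2.symm⟩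
  · rintro ⟨h1, h2⟩; exact ⟨h1, h2.symm⟩

theorem main (p d s : ℕ) :
    coeff s (T p ^ (d + 1)) = ∑ i ∈ Finset.range (d + 1 + 1),
      (-1 : ℤ) ^ i * ((d + 1).choose i : ℤ) *
      (if i * (p - 1) + (d + 1) ≤ s then (((s - i * (p - 1) - 1).choose d : ℕ) : ℤ) else 0) := by
  have h1 : T p ^ (d + 1) = (X * (1 - X ^ (p - 1))) ^ (d + 1) * (mk 1) ^ (d + 1) := by
    rw [← T_mul, mul_pow, mul_assoc, ← mul_pow, mul_comm (1 - X) (mk 1),
      mk_one_mul_one_sub_eq_one ℤ, one_pow, mul_one]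
  have h2 : ((mk 1 : PowerSeries ℤ)) ^ (d + 1) = mk fun m => ((d + m).choose d : ℤ) :=
    mk_one_pow_eq_mk_choose_add ℤ d
  have h3 : (1 - (X : PowerSeries ℤ) ^ (p - 1)) ^ (d + 1) =
      ∑ i ∈ Finset.range (d + 1 + 1),
        C ((-1 : ℤ) ^ i * ((d + 1).choose i : ℤ)) * (X : PowerSeries ℤ) ^ (i * (p - 1)) := by
    rw [sub_eq_neg_add, add_pow]
    apply Finset.sum_congr rfl
    intro i _
    rw [one_pow, mul_one, neg_pow, ← pow_mul, mul_comm (p - 1) i, map_mul, map_pow, map_neg,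
      map_one, map_natCast]
    ring
  rw [h1, mul_pow, h3, h2, Finset.mul_sum, Finset.sum_mul, map_sum]
  apply Finset.sum_congr rfl
  intro i _
  obtain ⟨k, hk⟩ : ∃ k, k = i * (p - 1) := ⟨_, rfl⟩
  rw [← hk]
  have h4 : (X : PowerSeries ℤ) ^ (d + 1) * (C ((-1 : ℤ) ^ i * ((d + 1).choose i : ℤ)) * X ^ k) *
      (mk fun m => ((d + m).choose d : ℤ)) =
      C ((-1 : ℤ) ^ i * ((d + 1).choose i : ℤ)) *
        (X ^ (k + (d + 1)) * (mk fun m => ((d + m).choose d : ℤ))) := by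
    rw [pow_add]; ring
  rw [h4, coeff_C_mul, coeff_X_pow_mul', coeff_mk]
  congr 1
  split_ifs with h
  · congr 2
    omega
  · rfl

theorem s14039 (p n s : ℕ) (hn : 1 ≤ n) :
    (Fintype.card {e : Fin n → Fin p // (∀ i, 1 ≤ (e i : ℕ)) ∧ ∑ i, (e i : ℕ) = s} : ℤ) =
      ∑ i ∈ Finset.range (n + 1),
        (-1 : ℤ) ^ i * (n.choose i : ℤ) *
          (if i * (p - 1) + n ≤ s then (((s - i * (p - 1) - 1).choose (n - 1) : ℕ) : ℤ) else 0) := by
  obtain ⟨d, rfl⟩ : ∃ d, n = d + 1 := ⟨n - 1, by omega⟩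
  rw [← coeff_T_pow, main, Nat.add_sub_cancel]

end Groth.Agent.Helper25.CountBounded
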