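import Mathlib

/-!
# The pairing `Σ_P mult_P(f₁) mult_P(f₂) deg P` is invariant under extension of a perfect field
(helper25)
-/

set_option autoImplicit false

open Polynomial UniqueFactorizationMonoid

namespace Groth.Agent.Helper25.CountDeg

section Combi

variable {α : Type*} [DecidableEq α] (w : α → ℕ)

/-- the pairing -/
def R (s₁ s₂ : Multiset α) : ℕ :=
  (s₁.map fun a => (s₂.map fun b => if a = b then w a else 0).sum).sum

theorem inner_eq (a : α) (s : Multiset α) :
    (s.map fun b => if a = b then w a else 0).sum = s.count a * w a := by
  induction s using Multiset.induction_on with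
  | empty => simp
  | cons b s ih =>
    rw [Multiset.map_cons, Multiset.sum_cons, ih, Multiset.count_cons]
    by_cases h : a = b
    · rw [if_pos h, if_pos h]; ring
    · rw [if_neg h, if_neg h]; ring

theorem R_eq_sum (s₁ s₂ : Multiset α) :
    R w s₁ s₂ = ∑ P ∈ s₁.toFinset, s₁.count P * s₂.count P * w P := by
  unfold R
  simp only [inner_eq]
  rw [Finset.sum_multiset_map_count]
  refine Finset.sum_congr rfl fun P _ => ?_
  rw [smul_eq_mul, mul_assoc]

theorem R_bind_left {β : Type*} (s : Multiset β) (g : β → Multiset α) (T : Multiset α) :
    R w (s.bind g) T = (s.map fun a => R w (g a) T).sum := by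
  unfold R
  rw [Multiset.map_bind, Multiset.sum_bind]

theorem R_bind_right {β : Type*} (t : Multiset α) (s : Multiset β) (g : β → Multiset α) :
    R w t (s.bind g) = (s.map fun b => R w t (g b)).sum := by
  unfold R
  simp only [Multiset.map_bind, Multiset.sum_bind]
  rw [Multiset.sum_map_sum_map]

theorem R_self_of_nodup (s : Multiset α) (hs : s.Nodup) : R w s s = (s.map w).sum := by
  unfold R
  simp only [inner_eq]
  refine congrArg Multiset.sum (Multiset.map_congr rfl fun a ha => ?_)
  rw [Multiset.count_eq_one_of_mem hs ha, one_mul]

theorem R_eq_zero_of_disjoint (s t : Multiset α) (h : ∀ a ∈ s, a ∉ t) : R w s t = 0 := by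
  unfold R
  simp only [inner_eq]
  refine Multiset.sum_eq_zero ?_
  intro x hx
  obtain ⟨a, ha, rfl⟩ := Multiset.mem_map.mp hx
  rw [Multiset.count_eq_zero_of_notMem (h a ha), zero_mul]

end Combi

section Field

open scoped Classical

variable {K : Type*} {L : Type*} [Field K] [Field L] [Algebra K L]

theorem nf_map (f : K[X]) (hf : f ≠ 0) :
    normalizedFactors (f.map (algebraMap K L)) =
      (normalizedFactors f).bind fun P => normalizedFactors (P.map (algebraMap K L)) := by
  have h1 : Associated ((normalizedFactors f).prod) f := prod_normalizedFactors hf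
  have h2 : Associated (((normalizedFactors f).prod).map (algebraMap K L))
      (f.map (algebraMap K L)) := h1.map (Polynomial.mapRingHom (algebraMap K L))
  rw [← h2.normalizedFactors_eq, Polynomial.map_multiset_prod, normalizedFactors_multiset_prod]
  · rw [Multiset.map_map]; rfl
  · intro h0
    obtain ⟨P, hP, hP0⟩ := Multiset.mem_map.mp h0
    have hPne : P ≠ 0 := (irreducible_of_normalized_factor P hP).ne_zero
    exact hPne ((Polynomial.map_eq_zero _).mp hP0)

theorem R_irred [PerfectField K] (a b : K[X]) (ha : Irreducible a) (hb : Irreducible b)
    (hna : normalize a = a) (hnb : normalize b = b) :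
    R natDegree (normalizedFactors (a.map (algebraMap K L)))
        (normalizedFactors (b.map (algebraMap K L))) =
      if a = b then a.natDegree else 0 := by
  by_cases hab : a = b
  · subst hab
    rw [if_pos rfl]
    have hsep : (a.map (algebraMap K L)).Separable :=
      (PerfectField.separable_of_irreducible ha).map
    have h0 : a.map (algebraMap K L) ≠ 0 := Polynomial.map_ne_zero ha.ne_zero
    have hnodup := (squarefree_iff_nodup_normalizedFactors h0).mp hsep.squarefree
    rw [R_self_of_nodup _ _ hnodup, ← natDegree_multiset_prod _ (zero_notMem_normalizedFactors _),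
      natDegree_eq_of_degree_eq (degree_eq_degree_of_associated (prod_normalizedFactors h0)),
      natDegree_map]
  · rw [if_neg hab]
    apply R_eq_zero_of_disjoint
    intro x hx hx'
    have hcop : IsCoprime a b := by
      apply (Irreducible.coprime_iff_not_dvd ha).mpr
      intro hdvd
      apply hab
      have hassoc : Associated a b := ha.associated_of_dvd hb hdvd
      rw [← hna, ← hnb]
      exact normalize_eq_normalize hassoc.dvd hassoc.symm.dvd
    have hcop' : IsCoprime (a.map (algebraMap K L)) (b.map (algebraMap K L)) :=
      hcop.map (Polynomial.mapRingHom (algebraMap K L))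
    have hx1 := dvd_of_mem_normalizedFactors hx
    have hx2 := dvd_of_mem_normalizedFactors hx'
    exact (irreducible_of_normalized_factor x hx).not_isUnit (hcop'.isUnit_of_dvd' hx1 hx2)

theorem main (K : Type*) (L : Type*) [Field K] [PerfectField K] [Field L] [Algebra K L]
    (f₁ f₂ : K[X]) (h₁ : f₁ ≠ 0) (h₂ : f₂ ≠ 0) :
    ∑ P ∈ (normalizedFactors (f₁.map (algebraMap K L))).toFinset,
        (normalizedFactors (f₁.map (algebraMap K L))).count P *
          (normalizedFactors (f₂.map (algebraMap K L))).count P * P.natDegree =
      ∑ P ∈ (normalizedFactors f₁).toFinset,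
        (normalizedFactors f₁).count P * (normalizedFactors f₂).count P * P.natDegree := by
  rw [← R_eq_sum natDegree, ← R_eq_sum natDegree, nf_map f₁ h₁, nf_map f₂ h₂, R_bind_left]
  simp only [R_bind_right]
  have hR : R natDegree (normalizedFactors f₁) (normalizedFactors f₂) =
      ((normalizedFactors f₁).map fun a =>
        ((normalizedFactors f₂).map fun b => if a = b then natDegree a else 0).sum).sum := rfl
  rw [hR]
  refine congrArg Multiset.sum (Multiset.map_congr rfl fun a ha => ?_)
  refine congrArg Multiset.sum (Multiset.map_congr rfl fun b hb => ?_)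
  exact R_irred a b (irreducible_of_normalized_factor a ha) (irreducible_of_normalized_factor b hb)
    (normalize_normalized_factor a ha) (normalize_normalized_factor b hb)

end Field

end Groth.Agent.Helper25.CountDeg
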