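import Mathlib
import Groth.Agent.Lib.Helper25.FanoLin

/-! Lines on a smooth cubic threefold meeting two given meeting lines. -/

namespace Groth.Agent.Helper25.CubicThree

open MvPolynomial Groth.Agent.Helper25.CubicLinesA Groth.Agent.Helper25.FanoLin

universe u

section general
variable {k : Type u} [Field k] {σ : Type*} [Fintype σ] [DecidableEq σ]

omit [DecidableEq σ] in
lemma dd_lin (f : MvPolynomial σ k) (a₁ a₂ p : σ → k) (x y : k) :
    dd f (x • a₁ + y • a₂) p = x * dd f a₁ p + y * dd f a₂ p := by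
  unfold dd
  simp only [Pi.add_apply, Pi.smul_apply, smul_eq_mul, add_mul, Finset.sum_add_distrib,
    Finset.mul_sum, mul_assoc]

theorem plane_vanish [Infinite k] [CharZero k] (f : MvPolynomial σ k) (hf : f.IsHomogeneous 3)
    (p a₁ a₂ : σ → k)
    (h1 : ∀ l x : k, eval (l • p + x • a₁) f = 0) (h2 : ∀ l x : k, eval (l • p + x • a₂) f = 0)
    (s s' t t' : k) (hst : ¬ (s = t ∧ s' = t'))
    (h3 : ∀ x y : k, eval (x • (a₁ + s • p) + y • (a₂ + s' • p)) f = 0)
    (h4 : ∀ x y : k, eval (x • (a₁ + t • p) + y • (a₂ + t' • p)) f = 0) :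
    ∀ l x y : k, eval (l • p + x • a₁ + y • a₂) f = 0 := by
  have hp : eval p f = 0 := by simpa using h1 1 0
  have hd1 : dd f a₁ p = 0 := by
    rw [← LP_coeff_one, LP_eq_zero_of_vanish, Polynomial.coeff_zero]
    intro t
    simpa using h1 1 t
  have hd2 : dd f a₂ p = 0 := by
    rw [← LP_coeff_one, LP_eq_zero_of_vanish, Polynomial.coeff_zero]
    intro t
    simpa using h2 1 t
  have hB1 : dd f p a₁ = 0 := by
    rw [← LP_coeff_one, LP_eq_zero_of_vanish, Polynomial.coeff_zero]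
    intro t
    have := h1 t 1
    rw [one_smul, add_comm] at this
    exact this
  have hB2 : dd f p a₂ = 0 := by
    rw [← LP_coeff_one, LP_eq_zero_of_vanish, Polynomial.coeff_zero]
    intro t
    have := h2 t 1
    rw [one_smul, add_comm] at this
    exact this
  have hexp : ∀ x y l : k, eval ((x • a₁ + y • a₂) + l • p) f =
      eval (x • a₁ + y • a₂) f + l * dd f p (x • a₁ + y • a₂) := by
    intro x y l
    rw [cubic_expand hf, dd_lin, hd1, hd2, hp]; ring
  have hGhom : (∑ i, C (p i) * pderiv i f).IsHomogeneous 2 := by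
    apply IsHomogeneous.sum
    intro i _
    have h1 := (isHomogeneous_C σ (p i)).mul (hf.pderiv (i := i))
    simpa using h1
  have hG_eval : ∀ w, eval w (∑ i, C (p i) * pderiv i f) = dd f p w := by
    intro w
    unfold dd
    rw [map_sum]
    apply Finset.sum_congr rfl
    intro i _
    rw [map_mul, eval_C]
  have hrel3 : ∀ x y : k, eval (x • a₁ + y • a₂) f +
      (x * s + y * s') * dd f p (x • a₁ + y • a₂) = 0 := by
    intro x y
    rw [← hexp, ← h3 x y]
    congr 1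
    simp only [smul_add, smul_smul, add_smul]; abel
  have hrel4 : ∀ x y : k, eval (x • a₁ + y • a₂) f +
      (x * t + y * t') * dd f p (x • a₁ + y • a₂) = 0 := by
    intro x y
    rw [← hexp, ← h4 x y]
    congr 1
    simp only [smul_add, smul_smul, add_smul]; abel
  have hB : ∀ r : k, r * (s - t) + (s' - t') ≠ 0 → dd f p (r • a₁ + a₂) = 0 := by
    intro r hr
    have e3 := hrel3 r 1
    have e4 := hrel4 r 1
    rw [one_smul] at e3 e4
    have h5 : (r * (s - t) + (s' - t')) * dd f p (r • a₁ + a₂) = 0 := by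
      linear_combination e3 - e4
    exact (mul_eq_zero.1 h5).resolve_left hr
  obtain ⟨r₃, r₄, h3', h4', h34, g3, g4⟩ : ∃ r₃ r₄ : k, r₃ ≠ 0 ∧ r₄ ≠ 0 ∧ r₃ ≠ r₄ ∧
      (r₃ * (s - t) + (s' - t') ≠ 0) ∧ (r₄ * (s - t) + (s' - t') ≠ 0) := by
    have honly : ∀ r r' : k, r ≠ r' → r * (s - t) + (s' - t') = 0 →
        r' * (s - t) + (s' - t') = 0 → False := by
      intro r r' hrr e e'
      have h5 : (r - r') * (s - t) = 0 := by linear_combination e - e'
      have h6 : s - t = 0 := (mul_eq_zero.1 h5).resolve_left (sub_ne_zero.2 hrr)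
      rw [h6, mul_zero, zero_add] at e
      exact hst ⟨sub_eq_zero.1 h6, sub_eq_zero.1 e⟩
    have n12 : (1 : k) ≠ 2 := by norm_num
    have n13 : (1 : k) ≠ 3 := by norm_num
    have n23 : (2 : k) ≠ 3 := by norm_num
    by_cases b1 : (1 : k) * (s - t) + (s' - t') = 0
    · exact ⟨2, 3, two_ne_zero, three_ne_zero, n23, fun h => honly 1 2 n12 b1 h,
        fun h => honly 1 3 n13 b1 h⟩
    · by_cases b2 : (2 : k) * (s - t) + (s' - t') = 0
      · exact ⟨1, 3, one_ne_zero, three_ne_zero, n13, b1, fun h => honly 2 3 n23 b2 h⟩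
      · exact ⟨1, 2, one_ne_zero, two_ne_zero, n12, b1, b2⟩
  have hBall : ∀ x y : k, dd f p (x • a₁ + y • a₂) = 0 := by
    intro x y
    rw [← hG_eval]
    apply binary_vanish hGhom (by norm_num) a₁ a₂ r₃ r₄ h3' h4' h34
    · rw [hG_eval]; exact hB1
    · rw [hG_eval]; exact hB2
    · rw [hG_eval]; exact hB r₃ g3
    · rw [hG_eval]; exact hB r₄ g4
  intro l x y
  have e := hrel3 x y
  rw [hBall, mul_zero, add_zero] at e
  have hre : l • p + x • a₁ + y • a₂ = (x • a₁ + y • a₂) + l • p := by abel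
  rw [hre, hexp, e, hBall]; ring

end general

section lines
variable {k : Type u} [Field k] {n : ℕ}

theorem exists_not_mem_span' (v : Fin n → k) (hv : v ≠ 0) (U : Submodule k (Fin n → k))
    (hU : Module.finrank k U = 2) : ∃ u ∈ U, u ∉ Submodule.span k {v} := by
  by_contra h
  push Not at h
  have hle : U ≤ Submodule.span k {v} := h
  have h1 := Submodule.finrank_mono hle
  rw [hU, finrank_span_singleton hv] at h1
  omega

theorem eq_span_pair' (v : Fin n → k) (hv : v ≠ 0) (U : Submodule k (Fin n → k))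
    (hU : Module.finrank k U = 2) (hvU : v ∈ U) (u : Fin n → k) (huU : u ∈ U)
    (hu : u ∉ Submodule.span k {v}) : U = Submodule.span k {v, u} := by
  symm
  have hle : Submodule.span k {v, u} ≤ U := by
    rw [Submodule.span_le]
    intro z hz
    simp only [Set.mem_insert_iff, Set.mem_singleton_iff] at hz
    rcases hz with rfl | rfl
    · exact hvU
    · exact huU
  apply Submodule.eq_of_le_of_finrank_eq hle
  have hlt : Submodule.span k {v} < Submodule.span k {v, u} := by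
    refine lt_of_le_of_ne (Submodule.span_mono (by simp)) ?_
    intro heq
    apply hu
    rw [heq]
    exact Submodule.subset_span (by simp)
  have h1 := Submodule.finrank_lt_finrank_of_lt hlt
  rw [finrank_span_singleton hv] at h1
  have h2 := Submodule.finrank_mono hle
  rw [hU] at h2 ⊢
  omega

end lines

theorem main (f : MvPolynomial (Fin 5) ℂ) (hf : f.IsHomogeneous 3)
    (hsm : ∀ u : Fin 5 → ℂ, u ≠ 0 → eval u f = 0 → ∃ i : Fin 5, eval u (pderiv i f) ≠ 0)
    (L₁ L₂ : Submodule ℂ (Fin 5 → ℂ)) (h₁ : Module.finrank ℂ ↥L₁ = 2)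
    (h₂ : Module.finrank ℂ ↥L₂ = 2)
    (hf₁ : ∀ u ∈ L₁, eval u f = 0) (hf₂ : ∀ u ∈ L₂, eval u f = 0)
    (hne : L₁ ≠ L₂) (hmeet : L₁ ⊓ L₂ ≠ ⊥) :
    ∃ G : Set (Submodule ℂ (Fin 5 → ℂ)), G.Finite ∧
      (∀ g ∈ G, Module.finrank ℂ ↥g = 1 ∧ g ≤ L₁) ∧
      ∀ L : Submodule ℂ (Fin 5 → ℂ), Module.finrank ℂ ↥L = 2 → (∀ u ∈ L, eval u f = 0) →
        L ⊓ L₁ ≠ ⊥ → L ⊓ L₂ ≠ ⊥ → ∃ g ∈ G, g ≤ L := by
  obtain ⟨p, hpmem, hp0⟩ := Submodule.exists_mem_ne_zero_of_ne_bot hmeet
  have hp1 : p ∈ L₁ := (Submodule.mem_inf.1 hpmem).1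
  have hp2 : p ∈ L₂ := (Submodule.mem_inf.1 hpmem).2
  obtain ⟨a₁, ha₁, ha₁p⟩ := exists_not_mem_span' p hp0 L₁ h₁
  obtain ⟨a₂, ha₂, ha₂p⟩ := exists_not_mem_span' p hp0 L₂ h₂
  have hL₁ : L₁ = Submodule.span ℂ {p, a₁} := eq_span_pair' p hp0 L₁ h₁ hp1 a₁ ha₁ ha₁p
  have hL₂ : L₂ = Submodule.span ℂ {p, a₂} := eq_span_pair' p hp0 L₂ h₂ hp2 a₂ ha₂ ha₂p
  have ha₂L₁ : a₂ ∉ L₁ := by
    intro h
    apply hne
    have hle : L₂ ≤ L₁ := by
      rw [hL₂, Submodule.span_le]
      intro z hz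
      simp only [Set.mem_insert_iff, Set.mem_singleton_iff] at hz
      rcases hz with rfl | rfl
      · exact hp1
      · exact h
    exact (Submodule.eq_of_le_of_finrank_eq hle (by rw [h₁, h₂])).symm
  have hv1 : ∀ l x : ℂ, eval (l • p + x • a₁) f = 0 := fun l x =>
    hf₁ _ (L₁.add_mem (L₁.smul_mem _ hp1) (L₁.smul_mem _ ha₁))
  have hv2 : ∀ l x : ℂ, eval (l • p + x • a₂) f = 0 := fun l x =>
    hf₂ _ (L₂.add_mem (L₂.smul_mem _ hp2) (L₂.smul_mem _ ha₂))
  obtain ⟨S, hSdef⟩ : ∃ S : Set (Submodule ℂ (Fin 5 → ℂ)), S = {L : Submodule ℂ (Fin 5 → ℂ) | Module.finrank ℂ ↥L = 2 ∧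
      (∀ u ∈ L, eval u f = 0) ∧ L ⊓ L₁ ≠ ⊥ ∧ L ⊓ L₂ ≠ ⊥ ∧ p ∉ L} := ⟨_, rfl⟩
  have hcoord : ∀ L ∈ S, ∃ s s' : ℂ, a₁ + s • p ∈ L ∧ a₂ + s' • p ∈ L := by
    intro L hL
    rw [hSdef] at hL
    obtain ⟨hL2, hLf, hm1, hm2, hpL⟩ := hL
    have aux : ∀ (M : Submodule ℂ (Fin 5 → ℂ)) (a : Fin 5 → ℂ),
        M = Submodule.span ℂ {p, a} → L ⊓ M ≠ ⊥ → ∃ s : ℂ, a + s • p ∈ L := by
      intro M a hM hm
      obtain ⟨q, hq, hq0⟩ := Submodule.exists_mem_ne_zero_of_ne_bot hm
      have hqM := (Submodule.mem_inf.1 hq).2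
      rw [hM, Submodule.mem_span_pair] at hqM
      obtain ⟨c, x, hcx⟩ := hqM
      have hx : x ≠ 0 := by
        rintro rfl
        rw [zero_smul, add_zero] at hcx
        have hc : c ≠ 0 := by
          rintro rfl
          rw [zero_smul] at hcx
          exact hq0 hcx.symm
        apply hpL
        have hpq : p = c⁻¹ • q := by rw [← hcx, smul_smul, inv_mul_cancel₀ hc, one_smul]
        rw [hpq]; exact L.smul_mem _ (Submodule.mem_inf.1 hq).1
      refine ⟨x⁻¹ * c, ?_⟩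
      have hre : a + (x⁻¹ * c) • p = x⁻¹ • q := by
        rw [← hcx, smul_add, smul_smul, smul_smul, inv_mul_cancel₀ hx, one_smul, add_comm]
      rw [hre]; exact L.smul_mem _ (Submodule.mem_inf.1 hq).1
    obtain ⟨s, hs⟩ := aux L₁ a₁ hL₁ hm1
    obtain ⟨s', hs'⟩ := aux L₂ a₂ hL₂ hm2
    exact ⟨s, s', hs, hs'⟩
  have hSsub : S.Subsingleton := by
    intro L hL L' hL'
    by_contra hLL
    obtain ⟨s, s', hs, hs'⟩ := hcoord L hL
    obtain ⟨t, t', ht, ht'⟩ := hcoord L' hL'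
    rw [hSdef] at hL hL'
    have hind : ∀ s s' : ℂ, a₂ + s' • p ∉ Submodule.span ℂ {a₁ + s • p} := by
      intro s s' hmem
      obtain ⟨c, hc⟩ := Submodule.mem_span_singleton.1 hmem
      apply ha₂L₁
      have ha₂e : a₂ = c • (a₁ + s • p) - s' • p := by rw [hc]; abel
      rw [ha₂e]
      exact L₁.sub_mem (L₁.smul_mem _ (L₁.add_mem ha₁ (L₁.smul_mem _ hp1))) (L₁.smul_mem _ hp1)
    have hv0 : ∀ s : ℂ, a₁ + s • p ≠ 0 := by
      intro s h0
      apply ha₁p
      have ha₁e : a₁ = (-s) • p := by rw [neg_smul]; exact eq_neg_of_add_eq_zero_left h0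
      rw [ha₁e]; exact Submodule.smul_mem _ _ (Submodule.subset_span rfl)
    have hLeq : L = Submodule.span ℂ {a₁ + s • p, a₂ + s' • p} :=
      eq_span_pair' _ (hv0 s) L hL.1 hs _ hs' (hind s s')
    have hL'eq : L' = Submodule.span ℂ {a₁ + t • p, a₂ + t' • p} :=
      eq_span_pair' _ (hv0 t) L' hL'.1 ht _ ht' (hind t t')
    have hst : ¬ (s = t ∧ s' = t') := by
      rintro ⟨rfl, rfl⟩
      exact hLL (hLeq.trans hL'eq.symm)
    have h3 : ∀ x y : ℂ, eval (x • (a₁ + s • p) + y • (a₂ + s' • p)) f = 0 := fun x y =>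
      hL.2.1 _ (L.add_mem (L.smul_mem _ hs) (L.smul_mem _ hs'))
    have h4 : ∀ x y : ℂ, eval (x • (a₁ + t • p) + y • (a₂ + t' • p)) f = 0 := fun x y =>
      hL'.2.1 _ (L'.add_mem (L'.smul_mem _ ht) (L'.smul_mem _ ht'))
    have hplane := plane_vanish f hf p a₁ a₂ hv1 hv2 s s' t t' hst h3 h4
    have hPi : ∀ u ∈ Submodule.span ℂ {p, a₁, a₂}, eval u f = 0 := by
      intro u hu
      rw [Submodule.mem_span_triple] at hu
      obtain ⟨l, x, y, rfl⟩ := hu
      exact hplane l x y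
    have hbound := FanoLin.main 3 (by norm_num) f hf (Submodule.span ℂ {p, a₁, a₂}) hPi
      (fun u hu hu0 => hsm u hu0 (hPi u hu))
    have hlt : L₁ < Submodule.span ℂ {p, a₁, a₂} := by
      refine lt_of_le_of_ne ?_ ?_
      · rw [hL₁]
        apply Submodule.span_mono
        intro z hz
        simp only [Set.mem_insert_iff, Set.mem_singleton_iff] at hz ⊢
        tauto
      · intro heq
        apply ha₂L₁
        rw [heq]; exact Submodule.subset_span (by simp)
    have h7 := Submodule.finrank_lt_finrank_of_lt hlt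
    rw [h₁] at h7
    omega
  refine ⟨{Submodule.span ℂ {p}} ∪ (fun L => L ⊓ L₁) '' S, ?_, ?_, ?_⟩
  · exact (Set.finite_singleton _).union (hSsub.finite.image _)
  · intro g hg
    rcases hg with hg | ⟨L, hL, rfl⟩
    · rw [Set.mem_singleton_iff] at hg
      subst hg
      exact ⟨finrank_span_singleton hp0, (Submodule.span_singleton_le_iff_mem _ _).2 hp1⟩
    · rw [hSdef] at hL
      refine ⟨?_, inf_le_right⟩
      show Module.finrank ℂ ↥(L ⊓ L₁) = 1
      have hlt : L ⊓ L₁ < L₁ := by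
        refine lt_of_le_of_ne inf_le_right (fun h => hL.2.2.2.2 ?_)
        have hpm : p ∈ L ⊓ L₁ := by rw [h]; exact hp1
        exact (Submodule.mem_inf.1 hpm).1
      have h5 := Submodule.finrank_lt_finrank_of_lt hlt
      have h6 : 1 ≤ Module.finrank ℂ ↥(L ⊓ L₁) := Submodule.one_le_finrank_iff.2 hL.2.2.1
      rw [h₁] at h5
      omega
  · intro L hL2 hLf hm1 hm2
    by_cases hpL : p ∈ L
    · exact ⟨Submodule.span ℂ {p}, Or.inl rfl, (Submodule.span_singleton_le_iff_mem _ _).2 hpL⟩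
    · refine ⟨L ⊓ L₁, Or.inr ⟨L, ?_, rfl⟩, inf_le_left⟩
      rw [hSdef]
      exact ⟨hL2, hLf, hm1, hm2, hpL⟩

end Groth.Agent.Helper25.CubicThree
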