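import Mathlib

namespace Groth.Agent.Helper25.LatDist

open Submodule

variable {A : Type*} [CommRing A]

/-- quotient length -/
noncomputable def qlen {V : Type*} [AddCommGroup V] [Module A V] (L P : Submodule A V) : ℕ∞ :=
  Module.length A (↥L ⧸ P.submoduleOf L)

theorem mem_subOf {V : Type*} [AddCommGroup V] [Module A V] (L P : Submodule A V) (x : L) :
    x ∈ P.submoduleOf L ↔ (x : V) ∈ P := Iff.rfl

theorem qlen_chain {V : Type*} [AddCommGroup V] [Module A V] {P Q L : Submodule A V}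
    (hPQ : P ≤ Q) (hQL : Q ≤ L) : qlen L P = qlen Q P + qlen L Q := by
  unfold qlen
  let f : (↥Q ⧸ P.submoduleOf Q) →ₗ[A] (↥L ⧸ P.submoduleOf L) :=
    Submodule.mapQ _ _ (Submodule.inclusion hQL) (by
      intro x hx
      exact hx)
  let g : (↥L ⧸ P.submoduleOf L) →ₗ[A] (↥L ⧸ Q.submoduleOf L) :=
    Submodule.mapQ _ _ LinearMap.id (by
      intro x hx
      exact hPQ hx)
  have hfm : ∀ y : Q, f (Submodule.Quotient.mk y) = Submodule.Quotient.mk (Submodule.inclusion hQL y) :=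
    fun y => rfl
  have hgm : ∀ y : L, g (Submodule.Quotient.mk y) = Submodule.Quotient.mk y := fun y => rfl
  refine Module.length_eq_add_of_exact f g ?_ ?_ ?_
  · rw [injective_iff_map_eq_zero]
    intro x hx
    obtain ⟨y, rfl⟩ := Submodule.Quotient.mk_surjective _ x
    rw [hfm, Submodule.Quotient.mk_eq_zero] at hx
    rw [Submodule.Quotient.mk_eq_zero]
    exact hx
  · intro x
    obtain ⟨y, rfl⟩ := Submodule.Quotient.mk_surjective _ x
    exact ⟨Submodule.Quotient.mk y, hgm y⟩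
  · intro x
    obtain ⟨l, rfl⟩ := Submodule.Quotient.mk_surjective _ x
    rw [hgm, Submodule.Quotient.mk_eq_zero]
    constructor
    · intro hl
      refine ⟨Submodule.Quotient.mk ⟨(l : V), hl⟩, ?_⟩
      rw [hfm]
      congr 1
    · rintro ⟨y, hy⟩
      obtain ⟨q, rfl⟩ := Submodule.Quotient.mk_surjective _ y
      rw [hfm, Submodule.Quotient.eq] at hy
      have h1 : ((q : V) - (l : V)) ∈ P := hy
      have h2 : (l : V) = (q : V) - ((q : V) - (l : V)) := by abel
      show (l : V) ∈ Q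
      rw [h2]
      exact Q.sub_mem q.2 (hPQ h1)

theorem exists_smul_mem_of_lattice [IsDomain A] {K : Type*} [Field K] [Algebra A K]
    [IsFractionRing A K] {V : Type*} [AddCommGroup V] [Module K V] [Module A V]
    [IsScalarTower A K V] (M : Submodule A V) [Submodule.IsLattice K M] (v : V) :
    ∃ a : A, a ≠ 0 ∧ a • v ∈ M := by
  have hv : v ∈ Submodule.span K (M : Set V) := by
    rw [Submodule.IsLattice.span_eq_top]; exact Submodule.mem_top
  induction hv using Submodule.span_induction with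
  | mem x hx => exact ⟨1, one_ne_zero, by simpa using hx⟩
  | zero => exact ⟨1, one_ne_zero, by simp⟩
  | add x y _ _ ihx ihy =>
    obtain ⟨a, ha, hax⟩ := ihx
    obtain ⟨b, hb, hby⟩ := ihy
    refine ⟨a * b, mul_ne_zero ha hb, ?_⟩
    rw [smul_add]
    refine M.add_mem ?_ ?_
    · rw [mul_comm, mul_smul]; exact M.smul_mem b hax
    · rw [mul_smul]; exact M.smul_mem a hby
  | smul k x _ ih =>
    obtain ⟨a, ha, hax⟩ := ih
    obtain ⟨r, s, hs, rfl⟩ := IsFractionRing.div_surjective (A := A) k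
    have hs0 : s ≠ 0 := nonZeroDivisors.ne_zero hs
    refine ⟨s * a, mul_ne_zero hs0 ha, ?_⟩
    have hsK : algebraMap A K s ≠ 0 := by
      intro h
      exact hs0 ((IsFractionRing.injective A K) (by rw [h, map_zero]))
    have : (s * a) • ((algebraMap A K r / algebraMap A K s) • x) = r • (a • x) := by
      rw [← algebraMap_smul K (s * a), ← algebraMap_smul K r (a • x), ← algebraMap_smul K a x,
        smul_smul, smul_smul, map_mul]
      congr 1
      field_simp
    rw [this]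
    exact M.smul_mem r hax

theorem exists_smul_le [IsDomain A] {V : Type*} [AddCommGroup V] [Module A V]
    (L P : Submodule A V) (hL : L.FG)
    (h : ∀ v ∈ L, ∃ a : A, a ≠ 0 ∧ a • v ∈ P) : ∃ a : A, a ≠ 0 ∧ ∀ v ∈ L, a • v ∈ P := by
  classical
  obtain ⟨s, rfl⟩ := hL
  have key : ∀ t : Finset V, (∀ v ∈ t, v ∈ span A (s : Set V)) →
      ∃ a : A, a ≠ 0 ∧ ∀ v ∈ t, a • v ∈ P := by
    intro t
    induction t using Finset.induction_on with
    | empty => intro _; exact ⟨1, one_ne_zero, by simp⟩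
    | insert x t hx ih =>
      intro ht
      obtain ⟨a, ha, hat⟩ := ih (fun v hv => ht v (Finset.mem_insert_of_mem hv))
      obtain ⟨b, hb, hbx⟩ := h x (ht x (Finset.mem_insert_self x t))
      refine ⟨a * b, mul_ne_zero ha hb, ?_⟩
      intro v hv
      rcases Finset.mem_insert.mp hv with rfl | hv
      · rw [mul_smul]; exact P.smul_mem a hbx
      · rw [mul_comm, mul_smul]; exact P.smul_mem b (hat v hv)
  obtain ⟨a, ha, hat⟩ := key s (fun v hv => subset_span hv)
  refine ⟨a, ha, ?_⟩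
  have : span A (s : Set V) ≤ P.comap (LinearMap.lsmul A V a) := by
    rw [span_le]
    intro v hv
    exact hat v hv
  intro v hv
  exact this hv

theorem qlen_ne_top [IsDomain A] [IsNoetherianRing A] [Ring.KrullDimLE 1 A]
    {V : Type*} [AddCommGroup V] [Module A V]
    (L P : Submodule A V) (hL : L.FG) (a : A) (ha : a ≠ 0) (hPa : ∀ v ∈ L, a • v ∈ P) :
    qlen L P ≠ ⊤ := by
  unfold qlen
  rw [Module.length_ne_top_iff, isFiniteLength_iff_isNoetherian_isArtinian]
  haveI : Module.Finite A L := Module.Finite.iff_fg.mpr hL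
  refine ⟨inferInstance, ?_⟩
  obtain ⟨n, g, hg⟩ := Module.Finite.exists_fin (R := A) (M := L)
  have hfl := isFiniteLength_quotient_span_singleton A (x := a) (mem_nonZeroDivisors_of_ne_zero ha)
  rw [isFiniteLength_iff_isNoetherian_isArtinian] at hfl
  haveI := hfl.2
  let ψi : Fin n → (A ⧸ Ideal.span {a}) →ₗ[A] (↥L ⧸ P.submoduleOf L) := fun i =>
    Submodule.liftQ (Ideal.span {a})
      (LinearMap.toSpanSingleton A (↥L ⧸ P.submoduleOf L) (Submodule.Quotient.mk (g i))) (by
      rw [Ideal.span, Submodule.span_le]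
      rintro x hx
      rw [Set.mem_singleton_iff] at hx; subst hx
      simp only [SetLike.mem_coe, LinearMap.mem_ker, LinearMap.toSpanSingleton_apply]
      rw [← Submodule.Quotient.mk_smul, Submodule.Quotient.mk_eq_zero]
      exact hPa _ (g i).2)
  let ψ : (Fin n → A ⧸ Ideal.span {a}) →ₗ[A] (↥L ⧸ P.submoduleOf L) :=
    LinearMap.lsum A (fun _ => A ⧸ Ideal.span {a}) A ψi
  refine isArtinian_of_surjective _ ψ ?_
  intro q
  obtain ⟨l, rfl⟩ := Submodule.Quotient.mk_surjective _ q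
  have hl : l ∈ span A (Set.range g) := hg ▸ mem_top
  obtain ⟨c, rfl⟩ := (Submodule.mem_span_range_iff_exists_fun A).mp hl
  refine ⟨fun i => Submodule.Quotient.mk (c i), ?_⟩
  simp only [ψ, ψi]
  rw [LinearMap.lsum_apply, LinearMap.sum_apply, ← Submodule.mkQ_apply, map_sum]
  refine Finset.sum_congr rfl fun i _ => ?_
  rw [LinearMap.comp_apply, LinearMap.proj_apply, Submodule.liftQ_apply,
    LinearMap.toSpanSingleton_apply, Submodule.mkQ_apply, Submodule.Quotient.mk_smul]

theorem pair_eq {V : Type*} [AddCommGroup V] [Module A V] (L L' N P : Submodule A V)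
    (hPN : P ≤ N) (hNL : N ≤ L) (hNL' : N ≤ L') (hL : qlen L P ≠ ⊤) (hL' : qlen L' P ≠ ⊤) :
    ((Module.length A (↥L ⧸ N.submoduleOf L)).toNat : ℤ) -
      ((Module.length A (↥L' ⧸ N.submoduleOf L')).toNat : ℤ) =
      ((qlen L P).toNat : ℤ) - ((qlen L' P).toNat : ℤ) := by
  have h1 := qlen_chain hPN hNL
  have h2 := qlen_chain hPN hNL'
  have h1' := WithTop.add_ne_top.mp (h1 ▸ hL)
  have h2' := WithTop.add_ne_top.mp (h2 ▸ hL')
  rw [h1, h2, ENat.toNat_add h1'.1 h1'.2, ENat.toNat_add h2'.1 h2'.2]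
  unfold qlen
  push_cast
  ring

theorem latticeDist_add (A : Type*) [CommRing A] [IsDomain A] [IsNoetherianRing A]
    (hA : ringKrullDim A = 1) (K : Type*) [Field K] [Algebra A K]
    [IsFractionRing A K] (V : Type*) [AddCommGroup V] [Module K V] [Module A V]
    [IsScalarTower A K V]
    (M₁ M₂ M₃ : Submodule A V) [Submodule.IsLattice K M₁] [Submodule.IsLattice K M₂]
    [Submodule.IsLattice K M₃] :
    ((Module.length A (↥M₁ ⧸ (M₁ ⊓ M₃).submoduleOf M₁)).toNat : ℤ) -
        ((Module.length A (↥M₃ ⧸ (M₁ ⊓ M₃).submoduleOf M₃)).toNat : ℤ) =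
      (((Module.length A (↥M₁ ⧸ (M₁ ⊓ M₂).submoduleOf M₁)).toNat : ℤ) -
        ((Module.length A (↥M₂ ⧸ (M₁ ⊓ M₂).submoduleOf M₂)).toNat : ℤ)) +
      (((Module.length A (↥M₂ ⧸ (M₂ ⊓ M₃).submoduleOf M₂)).toNat : ℤ) -
        ((Module.length A (↥M₃ ⧸ (M₂ ⊓ M₃).submoduleOf M₃)).toNat : ℤ)) := by
  haveI : Ring.KrullDimLE 1 A := Ring.krullDimLE_iff.mpr (by rw [hA]; exact le_rfl)
  set P : Submodule A V := M₁ ⊓ M₂ ⊓ M₃ with hP
  have hmul : ∀ v : V, ∃ a : A, a ≠ 0 ∧ a • v ∈ P := by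
    intro v
    obtain ⟨a, ha, h1⟩ := exists_smul_mem_of_lattice (K := K) M₁ v
    obtain ⟨b, hb, h2⟩ := exists_smul_mem_of_lattice (K := K) M₂ v
    obtain ⟨c, hc, h3⟩ := exists_smul_mem_of_lattice (K := K) M₃ v
    refine ⟨a * b * c, mul_ne_zero (mul_ne_zero ha hb) hc, ?_⟩
    refine ⟨⟨?_, ?_⟩, ?_⟩
    · have : (a * b * c) • v = (b * c) • (a • v) := by rw [smul_smul]; ring_nf
      rw [this]; exact M₁.smul_mem _ h1
    · have : (a * b * c) • v = (a * c) • (b • v) := by rw [smul_smul]; ring_nf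
      rw [this]; exact M₂.smul_mem _ h2
    · have : (a * b * c) • v = (a * b) • (c • v) := by rw [smul_smul]
      rw [this]; exact M₃.smul_mem _ h3
  have hfin : ∀ (L : Submodule A V), L.FG → qlen L P ≠ ⊤ := by
    intro L hL
    obtain ⟨a, ha, hLa⟩ := exists_smul_le L P hL (fun v _ => hmul v)
    exact qlen_ne_top L P hL a ha hLa
  have f1 := hfin M₁ (Submodule.IsLattice.fg (A := K))
  have f2 := hfin M₂ (Submodule.IsLattice.fg (A := K))
  have f3 := hfin M₃ (Submodule.IsLattice.fg (A := K))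
  have hP1 : P ≤ M₁ := inf_le_left.trans inf_le_left
  have hP2 : P ≤ M₂ := inf_le_left.trans inf_le_right
  have hP3 : P ≤ M₃ := inf_le_right
  rw [pair_eq M₁ M₃ (M₁ ⊓ M₃) P (le_inf hP1 hP3) inf_le_left inf_le_right f1 f3,
    pair_eq M₁ M₂ (M₁ ⊓ M₂) P (le_inf hP1 hP2) inf_le_left inf_le_right f1 f2,
    pair_eq M₂ M₃ (M₂ ⊓ M₃) P (le_inf hP2 hP3) inf_le_left inf_le_right f2 f3]
  ring

end Groth.Agent.Helper25.LatDist
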