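import Mathlib
import Groth.Agent.Lib.Helper25.LatDist

namespace Groth.Agent.Helper25.LatDet

open Submodule Groth.Agent.Helper25.LatDist

section General

variable {A : Type*} [CommRing A] {V : Type*} [AddCommGroup V] [Module A V]

/-- lattice-like submodules: finitely generated, and every vector has a nonzero multiple inside -/
def IsLat (M : Submodule A V) : Prop := M.FG ∧ ∀ v : V, ∃ a : A, a ≠ 0 ∧ a • v ∈ M

theorem IsLat.inf_mul [IsDomain A] {M N : Submodule A V} (hM : IsLat M) (hN : IsLat N) (v : V) :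
    ∃ a : A, a ≠ 0 ∧ a • v ∈ M ⊓ N := by
  obtain ⟨a, ha, h1⟩ := hM.2 v
  obtain ⟨b, hb, h2⟩ := hN.2 v
  refine ⟨a * b, mul_ne_zero ha hb, ?_, ?_⟩
  · rw [mul_comm, mul_smul]; exact M.smul_mem b h1
  · rw [mul_smul]; exact N.smul_mem a h2

noncomputable def dist (M N : Submodule A V) : ℤ :=
  ((qlen M (M ⊓ N)).toNat : ℤ) - ((qlen N (M ⊓ N)).toNat : ℤ)

theorem dist_self (M : Submodule A V) : dist M M = 0 := by
  unfold dist; rw [sub_self]

theorem dist_comm (M N : Submodule A V) : dist N M = - dist M N := by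
  unfold dist; rw [inf_comm N M]; ring

theorem qlen_ne_top' [IsDomain A] [IsNoetherianRing A] [Ring.KrullDimLE 1 A]
    {L : Submodule A V} (hL : L.FG) {P : Submodule A V}
    (hP : ∀ v : V, ∃ a : A, a ≠ 0 ∧ a • v ∈ P) : qlen L P ≠ ⊤ := by
  obtain ⟨a, ha, hLa⟩ := exists_smul_le L P hL (fun v _ => hP v)
  exact LatDist.qlen_ne_top L P hL a ha hLa

theorem dist_add [IsDomain A] [IsNoetherianRing A] [Ring.KrullDimLE 1 A]
    {M₁ M₂ M₃ : Submodule A V} (h1 : IsLat M₁) (h2 : IsLat M₂) (h3 : IsLat M₃) :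
    dist M₁ M₃ = dist M₁ M₂ + dist M₂ M₃ := by
  set P : Submodule A V := M₁ ⊓ M₂ ⊓ M₃ with hP
  have hmul : ∀ v : V, ∃ a : A, a ≠ 0 ∧ a • v ∈ P := by
    intro v
    obtain ⟨a, ha, h12⟩ := h1.inf_mul h2 v
    obtain ⟨c, hc, h3'⟩ := h3.2 v
    refine ⟨a * c, mul_ne_zero ha hc, ?_, ?_⟩
    · rw [mul_comm, mul_smul]; exact (M₁ ⊓ M₂).smul_mem c h12
    · rw [mul_smul]; exact M₃.smul_mem a h3'
  have f1 := qlen_ne_top' h1.1 hmul
  have f2 := qlen_ne_top' h2.1 hmul
  have f3 := qlen_ne_top' h3.1 hmul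
  have hP1 : P ≤ M₁ := inf_le_left.trans inf_le_left
  have hP2 : P ≤ M₂ := inf_le_left.trans inf_le_right
  have hP3 : P ≤ M₃ := inf_le_right
  have e13 : dist M₁ M₃ = _ :=
    pair_eq M₁ M₃ (M₁ ⊓ M₃) P (le_inf hP1 hP3) inf_le_left inf_le_right f1 f3
  have e12 : dist M₁ M₂ = _ :=
    pair_eq M₁ M₂ (M₁ ⊓ M₂) P (le_inf hP1 hP2) inf_le_left inf_le_right f1 f2
  have e23 : dist M₂ M₃ = _ :=
    pair_eq M₂ M₃ (M₂ ⊓ M₃) P (le_inf hP2 hP3) inf_le_left inf_le_right f2 f3
  rw [e13, e12, e23]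
  ring

theorem qlen_map (ψ : V ≃ₗ[A] V) (L P : Submodule A V) :
    qlen (L.map (ψ : V →ₗ[A] V)) (P.map (ψ : V →ₗ[A] V)) = qlen L P := by
  unfold qlen
  symm
  refine LinearEquiv.length_eq (Submodule.Quotient.equiv _ _ (ψ.submoduleMap L) ?_)
  ext ⟨x, hx⟩
  constructor
  · rintro ⟨⟨l, hl⟩, hlP, hlx⟩
    have hlx' : ψ l = x := congrArg Subtype.val hlx
    exact ⟨l, hlP, hlx'⟩
  · intro hxP
    obtain ⟨p, hp, hpx⟩ := hxP
    obtain ⟨l, hl, hlx⟩ := hx
    have hpx' : ψ p = x := hpx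
    have hlx' : ψ l = x := hlx
    have : l = p := ψ.injective (hlx'.trans hpx'.symm)
    subst this
    exact ⟨⟨l, hl⟩, hp, Subtype.ext hlx'⟩

theorem dist_map (ψ : V ≃ₗ[A] V) (M N : Submodule A V) :
    dist (M.map (ψ : V →ₗ[A] V)) (N.map (ψ : V →ₗ[A] V)) = dist M N := by
  unfold dist
  rw [← Submodule.map_inf (ψ : V →ₗ[A] V) ψ.injective, qlen_map, qlen_map]

theorem IsLat.map {M : Submodule A V} (h : IsLat M) (ψ : V ≃ₗ[A] V) :
    IsLat (M.map (ψ : V →ₗ[A] V)) := by
  refine ⟨h.1.map _, fun v => ?_⟩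
  obtain ⟨a, ha, hav⟩ := h.2 (ψ.symm v)
  refine ⟨a, ha, ⟨a • ψ.symm v, hav, ?_⟩⟩
  simp

/-- the "index" of an automorphism with respect to a lattice -/
noncomputable def eM (M : Submodule A V) (ψ : V ≃ₗ[A] V) : ℤ := dist M (M.map (ψ : V →ₗ[A] V))

theorem eM_mul [IsDomain A] [IsNoetherianRing A] [Ring.KrullDimLE 1 A]
    {M : Submodule A V} (hM : IsLat M) (ψ χ : V ≃ₗ[A] V) :
    eM M (ψ * χ) = eM M ψ + eM M χ := by
  unfold eM
  have hmap : M.map ((ψ * χ : V ≃ₗ[A] V) : V →ₗ[A] V) =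
      (M.map (χ : V →ₗ[A] V)).map (ψ : V →ₗ[A] V) := by
    rw [← Submodule.map_comp]; rfl
  rw [hmap, dist_add hM (hM.map ψ) ((hM.map χ).map ψ), dist_map]

theorem eM_indep [IsDomain A] [IsNoetherianRing A] [Ring.KrullDimLE 1 A]
    {M N : Submodule A V} (hM : IsLat M) (hN : IsLat N) (ψ : V ≃ₗ[A] V) :
    eM M ψ = eM N ψ := by
  unfold eM
  rw [dist_add hM hN (hM.map ψ), dist_add hN (hN.map ψ) (hM.map ψ), dist_map, dist_comm M N]
  ring

theorem eM_of_map_eq {M : Submodule A V} (ψ : V ≃ₗ[A] V) (h : M.map (ψ : V →ₗ[A] V) = M) :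
    eM M ψ = 0 := by
  unfold eM; rw [h, dist_self]

theorem qlen_self (L : Submodule A V) : qlen L L = 0 := by
  unfold qlen
  rw [Module.length_eq_zero_iff, Submodule.Quotient.subsingleton_iff]
  exact Submodule.submoduleOf_self L

/-- if `ψ M ≤ M`, the index is the length of `M / ψ M` -/
theorem eM_of_le {M : Submodule A V} (ψ : V ≃ₗ[A] V) (h : M.map (ψ : V →ₗ[A] V) ≤ M) :
    eM M ψ = ((qlen M (M.map (ψ : V →ₗ[A] V))).toNat : ℤ) := by
  unfold eM dist
  rw [inf_eq_right.mpr h, qlen_self]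
  simp

end General

section Diag

variable {A : Type*} [CommRing A] {V : Type*} [AddCommGroup V] [Module A V]

theorem qlen_diag {n : ℕ} (b : Fin n → V) (hli : LinearIndependent A b) (a : Fin n → A) :
    qlen (span A (Set.range b)) (span A (Set.range fun i => a i • b i)) =
      ∑ i, Ring.ord A (a i) := by
  classical
  let B : Module.Basis (Fin n) A (span A (Set.range b)) := Module.Basis.span hli
  let e : (span A (Set.range b)) ≃ₗ[A] (Fin n → A) := B.equivFun
  have hcoe : ∀ f : Fin n → A, ((e.symm f : span A (Set.range b)) : V) = ∑ i, f i • b i := by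
    intro f
    rw [Module.Basis.equivFun_symm_apply, Submodule.coe_sum]
    refine Finset.sum_congr rfl fun i _ => ?_
    rw [Submodule.coe_smul, Module.Basis.span_apply]
  have hmap : ((span A (Set.range fun i => a i • b i)).submoduleOf (span A (Set.range b))).map
      (e : (span A (Set.range b)) →ₗ[A] (Fin n → A)) =
      Submodule.pi Set.univ (fun i => (Ideal.span {a i} : Submodule A A)) := by
    ext f
    simp only [Submodule.mem_map, Submodule.mem_pi, Set.mem_univ, true_implies]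
    constructor
    · rintro ⟨x, hx, rfl⟩ i
      have hx' : (x : V) ∈ span A (Set.range fun i => a i • b i) := hx
      obtain ⟨c, hc⟩ := (Submodule.mem_span_range_iff_exists_fun A).mp hx'
      have hxe : x = e.symm (fun i => c i * a i) := by
        apply Subtype.ext
        rw [hcoe, ← hc]
        refine Finset.sum_congr rfl fun i _ => ?_
        rw [mul_smul]
      rw [hxe]
      simp only [LinearEquiv.coe_coe, LinearEquiv.apply_symm_apply]
      exact Ideal.mem_span_singleton'.mpr ⟨c i, rfl⟩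
    · intro hf
      choose d hd using fun i => Ideal.mem_span_singleton'.mp (hf i)
      refine ⟨e.symm f, ?_, by simp⟩
      show ((e.symm f : span A (Set.range b)) : V) ∈ span A (Set.range fun i => a i • b i)
      rw [hcoe]
      refine Submodule.sum_mem _ fun i _ => ?_
      rw [← hd i, mul_smul]
      exact Submodule.smul_mem _ _ (Submodule.subset_span ⟨i, rfl⟩)
  unfold qlen
  rw [(Submodule.Quotient.equiv _ _ e hmap).length_eq, (Submodule.quotientPi _).length_eq,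
    Module.length_pi_of_fintype]
  rfl

theorem eM_diag {n : ℕ} (b : Fin n → V) (hli : LinearIndependent A b) (a : Fin n → A)
    (ψ : V ≃ₗ[A] V) (hψ : ∀ i, ψ (b i) = a i • b i) :
    eM (span A (Set.range b)) ψ = ((∑ i, Ring.ord A (a i)).toNat : ℤ) := by
  have hmap : (span A (Set.range b)).map (ψ : V →ₗ[A] V) =
      span A (Set.range fun i => a i • b i) := by
    rw [Submodule.map_span, ← Set.range_comp]
    congr 2
    ext i; exact hψ i
  have hle : (span A (Set.range b)).map (ψ : V →ₗ[A] V) ≤ span A (Set.range b) := by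
    rw [hmap, span_le]; rintro _ ⟨i, rfl⟩; exact smul_mem _ _ (subset_span ⟨i, rfl⟩)
  rw [eM_of_le ψ hle, hmap, qlen_diag b hli a]

theorem map_eq_of_transvection {n : ℕ} (b' : Fin n → V) (i j : Fin n) (hij : i ≠ j) (ε : A)
    (ψ : V ≃ₗ[A] V) (hψ : ∀ k, ψ (b' k) = b' k + (if k = j then ε • b' i else 0)) :
    (span A (Set.range b')).map (ψ : V →ₗ[A] V) = span A (Set.range b') := by
  rw [Submodule.map_span, ← Set.range_comp]
  apply le_antisymm
  · rw [span_le]
    rintro _ ⟨k, rfl⟩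
    show ψ (b' k) ∈ _
    rw [hψ k]
    refine add_mem (subset_span ⟨k, rfl⟩) ?_
    split_ifs
    · exact smul_mem _ _ (subset_span ⟨i, rfl⟩)
    · exact zero_mem _
  · rw [span_le]
    rintro _ ⟨k, rfl⟩
    have hi : ψ (b' i) = b' i := by rw [hψ i, if_neg hij, add_zero]
    have hmem : ∀ l, ψ (b' l) ∈ span A (Set.range ((ψ : V →ₗ[A] V) ∘ b')) :=
      fun l => subset_span ⟨l, rfl⟩
    by_cases hk : k = j
    · subst hk
      have hbk : b' k = ψ (b' k) - ε • ψ (b' i) := by rw [hψ k, if_pos rfl, hi]; abel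
      rw [SetLike.mem_coe, hbk]
      exact sub_mem (hmem k) (smul_mem _ _ (hmem i))
    · have hbk : ψ (b' k) = b' k := by rw [hψ k, if_neg hk, add_zero]
      rw [SetLike.mem_coe, ← hbk]
      exact hmem k

theorem toNat_sum_cast {ι : Type*} (s : Finset ι) (f : ι → ℕ∞) (hf : ∀ i ∈ s, f i ≠ ⊤) :
    ((∑ i ∈ s, f i).toNat : ℤ) = ∑ i ∈ s, ((f i).toNat : ℤ) := by
  have h : ∀ i ∈ s, f i = ((f i).toNat : ℕ∞) := fun i hi => (ENat.coe_toNat (hf i hi)).symm
  rw [Finset.sum_congr rfl h, ← Nat.cast_sum, ENat.toNat_coe, Nat.cast_sum]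

end Diag

end Groth.Agent.Helper25.LatDet
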