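import Mathlib
import Groth.Prelude.Def_Tame
import Groth.Agent.Lib.Helper25.LatDetA

namespace Groth.Agent.Helper25.LatDet

open Submodule Groth.Agent.Helper25.LatDist

universe u v w

section Ord

variable (A : Type u) [CommRing A] [IsDomain A] [IsNoetherianRing A] [Ring.KrullDimLE 1 A]
variable (K : Type v) [Field K] [Algebra A K] [IsFractionRing A K]

theorem ordFrac_unfold (x : K) : CycAlg.ordFrac A K x =
    WithZero.recZeroCoe (motive := fun _ => ℤ) 0 (fun z => Multiplicative.toAdd z)
      (Ring.ordFrac A x) := by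
  unfold CycAlg.ordFrac
  rw [dif_pos ⟨inferInstance, inferInstance, inferInstance, inferInstance⟩]

theorem ordFrac_mul {x y : K} (hx : x ≠ 0) (hy : y ≠ 0) :
    CycAlg.ordFrac A K (x * y) = CycAlg.ordFrac A K x + CycAlg.ordFrac A K y := by
  rw [ordFrac_unfold, ordFrac_unfold, ordFrac_unfold, map_mul]
  have h1 : Ring.ordFrac A x ≠ 0 := (map_ne_zero _).mpr hx
  have h2 : Ring.ordFrac A y ≠ 0 := (map_ne_zero _).mpr hy
  obtain ⟨z1, hz1⟩ := WithZero.ne_zero_iff_exists.mp h1
  obtain ⟨z2, hz2⟩ := WithZero.ne_zero_iff_exists.mp h2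
  rw [← hz1, ← hz2, ← WithZero.coe_mul]
  simp only [WithZero.recZeroCoe_coe]
  rfl

theorem ordFrac_one : CycAlg.ordFrac A K 1 = 0 := by
  have := ordFrac_mul A K (one_ne_zero (α := K)) (one_ne_zero (α := K))
  rw [mul_one] at this
  linarith

theorem ordFrac_algebraMap {a : A} (ha : a ≠ 0) :
    CycAlg.ordFrac A K (algebraMap A K a) = ((Ring.ord A a).toNat : ℤ) := by
  rw [ordFrac_unfold, Ring.ordFrac_eq_ord A ha]
  have hnz : a ∈ nonZeroDivisors A := mem_nonZeroDivisors_of_ne_zero ha
  have hfin : Ring.ord A a ≠ ⊤ := Ring.ord_ne_top hnz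
  rw [Ring.ordMonoidWithZeroHom_eq_coe A hnz (ENat.coe_toNat hfin).symm]
  rfl

theorem ordFrac_prod {ι : Type*} (s : Finset ι) (x : ι → K) (hx : ∀ i ∈ s, x i ≠ 0) :
    CycAlg.ordFrac A K (∏ i ∈ s, x i) = ∑ i ∈ s, CycAlg.ordFrac A K (x i) := by
  classical
  induction s using Finset.induction_on with
  | empty => simp [ordFrac_one]
  | insert i s hi ih =>
    rw [Finset.prod_insert hi, Finset.sum_insert hi,
      ordFrac_mul A K (hx i (Finset.mem_insert_self i s))
        (Finset.prod_ne_zero_iff.mpr fun j hj => hx j (Finset.mem_insert_of_mem hj)),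
      ih (fun j hj => hx j (Finset.mem_insert_of_mem hj))]

end Ord

section Field

variable {A : Type u} [CommRing A] [IsDomain A] [IsNoetherianRing A] [Ring.KrullDimLE 1 A]
variable {K : Type v} [Field K] [Algebra A K] [IsFractionRing A K]
variable {V : Type w} [AddCommGroup V] [Module K V] [Module A V] [IsScalarTower A K V]

theorem isLat_of_isLattice (M : Submodule A V) [Submodule.IsLattice K M] : IsLat M :=
  ⟨Submodule.IsLattice.fg (A := K), fun v => exists_smul_mem_of_lattice (K := K) M v⟩

theorem isLat_of_span {n : ℕ} (b' : Fin n → V) (hb' : span K (Set.range b') = ⊤) :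
    IsLat (span A (Set.range b')) := by
  haveI : Submodule.IsLattice K (span A (Set.range b')) :=
    ⟨Submodule.fg_span (Set.finite_range b'), by
      rw [Submodule.span_span_of_tower]; exact hb'⟩
  exact isLat_of_isLattice (K := K) _

/-- diagonal automorphism in a basis -/
noncomputable def diagEquiv {n : ℕ} (b : Module.Basis (Fin n) K V) (D : Fin n → K)
    (hD : ∀ i, D i ≠ 0) : V ≃ₗ[K] V :=
  b.equiv (b.unitsSMul fun i => Units.mk0 (D i) (hD i)) (Equiv.refl _)

theorem diagEquiv_apply {n : ℕ} (b : Module.Basis (Fin n) K V) (D : Fin n → K)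
    (hD : ∀ i, D i ≠ 0) (i : Fin n) : diagEquiv b D hD (b i) = D i • b i := by
  unfold diagEquiv
  rw [Module.Basis.equiv_apply, Module.Basis.unitsSMul_apply]
  rfl

theorem det_of_diag {n : ℕ} (b : Module.Basis (Fin n) K V) (D : Fin n → K)
    (φ : V ≃ₗ[K] V) (hφ : ∀ i, φ (b i) = D i • b i) :
    LinearMap.det φ.toLinearMap = ∏ i, D i := by
  rw [← LinearMap.det_toMatrix b]
  have : LinearMap.toMatrix b b φ.toLinearMap = Matrix.diagonal D := by
    ext i j
    rw [LinearMap.toMatrix_apply, LinearEquiv.coe_coe, hφ j, map_smul, Matrix.diagonal_apply,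
      Module.Basis.repr_self, Finsupp.smul_apply, Finsupp.single_apply]
    by_cases h : i = j
    · subst h; simp
    · rw [if_neg h, if_neg (Ne.symm h), smul_zero]
  rw [this, Matrix.det_diagonal]

theorem eM_intDiag {n : ℕ} (b : Module.Basis (Fin n) K V) (a : Fin n → A) (ha : ∀ i, a i ≠ 0)
    (φ : V ≃ₗ[K] V) (hφ : ∀ i, φ (b i) = algebraMap A K (a i) • b i) :
    eM (span A (Set.range b)) (φ.restrictScalars A) =
      CycAlg.ordFrac A K (LinearMap.det φ.toLinearMap) := by
  have hli : LinearIndependent A b := b.linearIndependent.restrict_scalars' A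
  have h1 := eM_diag (A := A) b hli a (φ.restrictScalars A) (fun i => by
    show φ (b i) = a i • b i
    rw [hφ i, algebraMap_smul])
  rw [h1, det_of_diag b _ φ hφ, ordFrac_prod A K _ _ (fun i _ => by
    intro h
    exact ha i ((IsFractionRing.injective A K) (by rw [h, map_zero]))),
    toNat_sum_cast _ _ (fun i _ => Ring.ord_ne_top (mem_nonZeroDivisors_of_ne_zero (ha i)))]
  refine Finset.sum_congr rfl fun i _ => ?_
  rw [ordFrac_algebraMap A K (ha i)]

theorem isLat_stdLat {n : ℕ} (b : Module.Basis (Fin n) K V) : IsLat (span A (Set.range b)) :=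
  isLat_of_span (K := K) b b.span_eq

theorem det_ne_zero_equiv (φ : V ≃ₗ[K] V) : LinearMap.det φ.toLinearMap ≠ 0 :=
  (LinearEquiv.isUnit_det' φ).ne_zero

theorem eM_genDiag {n : ℕ} (b : Module.Basis (Fin n) K V) (D : Fin n → K) (hD : ∀ i, D i ≠ 0)
    (φ : V ≃ₗ[K] V) (hφ : ∀ i, φ (b i) = D i • b i) :
    eM (span A (Set.range b)) (φ.restrictScalars A) =
      CycAlg.ordFrac A K (LinearMap.det φ.toLinearMap) := by
  choose r s hs hrs using fun i => IsFractionRing.div_surjective A (D i)
  have hs0 : ∀ i, s i ≠ 0 := fun i => nonZeroDivisors.ne_zero (hs i)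
  have hsK : ∀ i, algebraMap A K (s i) ≠ 0 := fun i h =>
    hs0 i ((IsFractionRing.injective A K) (by rw [h, map_zero]))
  have hr0 : ∀ i, r i ≠ 0 := by
    intro i h
    apply hD i
    rw [← hrs i, h, map_zero, zero_div]
  have hrK : ∀ i, algebraMap A K (r i) ≠ 0 := fun i h =>
    hr0 i ((IsFractionRing.injective A K) (by rw [h, map_zero]))
  set φr := diagEquiv b (fun i => algebraMap A K (r i)) hrK with hφr
  set φs := diagEquiv b (fun i => algebraMap A K (s i)) hsK with hφs
  have hprod : φ * φs = φr := by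
    apply b.ext'
    intro i
    rw [LinearEquiv.mul_apply, hφs, diagEquiv_apply, map_smul, hφ i, hφr, diagEquiv_apply,
      smul_smul, ← hrs i, mul_div_cancel₀ _ (hsK i)]
  have e1 := eM_intDiag (A := A) b r hr0 φr (fun i => diagEquiv_apply b _ hrK i)
  have e2 := eM_intDiag (A := A) b s hs0 φs (fun i => diagEquiv_apply b _ hsK i)
  have e3 : eM (span A (Set.range b)) (φr.restrictScalars A) =
      eM (span A (Set.range b)) (φ.restrictScalars A) +
        eM (span A (Set.range b)) (φs.restrictScalars A) := by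
    rw [← hprod]
    exact eM_mul (isLat_stdLat (A := A) b) (φ.restrictScalars A) (φs.restrictScalars A)
  have e4 : LinearMap.det φr.toLinearMap =
      LinearMap.det φ.toLinearMap * LinearMap.det φs.toLinearMap := by
    rw [← hprod]
    exact LinearMap.det_comp φ.toLinearMap φs.toLinearMap
  have e5 := ordFrac_mul A K (det_ne_zero_equiv φ) (det_ne_zero_equiv φs)
  rw [← e4] at e5
  linarith

end Field

end Groth.Agent.Helper25.LatDet
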