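import Mathlib

namespace Groth.Agent.Helper25.CycBlock

open Matrix Polynomial

section scalar
variable {S : Type*} [CommRing S]

/-- scalar cyclic matrix -/
def cyc (n : ℕ) (y : S) : Matrix (Fin n) (Fin n) S :=
  Matrix.of fun i j => if i.val = 0 then (if j.val = n - 1 then y else 0)
    else (if j.val + 1 = i.val then 1 else 0)

def low (n : ℕ) (t : S) : Matrix (Fin n) (Fin n) S :=
  Matrix.of fun i j => if j.val ≤ i.val then t ^ (i.val - j.val) else 0

def upp (n : ℕ) (t y : S) : Matrix (Fin n) (Fin n) S :=
  Matrix.of fun i k => if i.val = 0 then ((if k.val = 0 then 1 else 0) - t ^ (n - k.val) * y)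
    else (if i.val = k.val then 1 else 0)

theorem cyc_mul_low_apply {n : ℕ} (hn : 1 ≤ n) (t y : S) (i k : Fin n) :
    (cyc n y * low n t) i k =
      if i.val = 0 then y * t ^ (n - 1 - k.val)
      else (if k.val + 1 ≤ i.val then t ^ (i.val - 1 - k.val) else 0) := by
  rw [Matrix.mul_apply]
  by_cases hi : i.val = 0
  · rw [if_pos hi]
    have hlt : n - 1 < n := by omega
    rw [Finset.sum_eq_single (⟨n - 1, hlt⟩ : Fin n)]
    · have hk : k.val ≤ n - 1 := by have := k.isLt; omega
      simp only [cyc, low, of_apply, hi, if_true, hk]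
    · intro j _ hj
      have : j.val ≠ n - 1 := fun h => hj (Fin.ext h)
      simp [cyc, hi, this]
    · intro h; exact absurd (Finset.mem_univ _) h
  · rw [if_neg hi]
    have hlt : i.val - 1 < n := by have := i.isLt; omega
    rw [Finset.sum_eq_single (⟨i.val - 1, hlt⟩ : Fin n)]
    · have h1 : (i.val - 1) + 1 = i.val := by omega
      simp only [cyc, low, of_apply, hi, if_false, h1, if_true, one_mul]
      by_cases hk : k.val + 1 ≤ i.val
      · rw [if_pos hk, if_pos (by omega)]
      · rw [if_neg hk, if_neg (by omega)]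
    · intro j _ hj
      have : j.val + 1 ≠ i.val := fun h => hj (Fin.ext (by simp only; omega))
      simp [cyc, hi, this]
    · intro h; exact absurd (Finset.mem_univ _) h

theorem one_sub_cyc_mul_low {n : ℕ} (hn : 1 ≤ n) (t y : S) :
    (1 - t • cyc n y) * low n t = upp n t y := by
  ext i k
  rw [sub_mul, one_mul, smul_mul_assoc, Matrix.sub_apply, Matrix.smul_apply, cyc_mul_low_apply hn,
    smul_eq_mul]
  simp only [low, upp, of_apply]
  have hk := k.isLt
  by_cases hi : i.val = 0
  · rw [if_pos hi, if_pos hi, hi]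
    have e : n - k.val = (n - 1 - k.val) + 1 := by omega
    by_cases hk0 : k.val = 0
    · rw [if_pos (by omega), if_pos hk0, e, hk0]
      simp only [Nat.sub_zero, pow_zero]
      ring
    · rw [if_neg (by omega), if_neg hk0, e]
      ring
  · rw [if_neg hi, if_neg hi]
    rcases lt_trichotomy k.val i.val with h | h | h
    · rw [if_pos (by omega), if_pos (by omega), if_neg (by omega)]
      have e : i.val - k.val = (i.val - 1 - k.val) + 1 := by omega
      rw [e]; ring
    · rw [if_pos (by omega), if_neg (by omega), if_pos (by omega), h]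
      simp
    · rw [if_neg (by omega), if_neg (by omega), if_neg (by omega)]
      simp

theorem det_low (n : ℕ) (t : S) : (low n t).det = 1 := by
  rw [det_of_isLowerTriangular]
  · apply Finset.prod_eq_one
    intro i _
    simp [low]
  · intro i j hij
    have : i.val < j.val := hij
    simp only [low, of_apply]
    rw [if_neg (by omega)]

theorem det_upp {n : ℕ} (hn : 1 ≤ n) (t y : S) : (upp n t y).det = 1 - t ^ n * y := by
  rw [det_of_isUpperTriangular]
  · obtain ⟨k, rfl⟩ : ∃ k, n = k + 1 := ⟨n - 1, by omega⟩
    rw [Fin.prod_univ_succ, Finset.prod_eq_one]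
    · simp [upp]
    · intro i _
      simp [upp]
  · intro i j hij
    have : j.val < i.val := hij
    simp only [upp, of_apply]
    rw [if_neg (by omega), if_neg (by omega)]

theorem det_one_sub_cyc {n : ℕ} (hn : 1 ≤ n) (t y : S) :
    (1 - t • cyc n y).det = 1 - t ^ n * y := by
  have h := congrArg Matrix.det (one_sub_cyc_mul_low hn t y)
  rw [det_mul, det_low, mul_one, det_upp hn] at h
  exact h

end scalar

section block

variable {R : Type*} [CommRing R] {m : Type*} [Fintype m] [DecidableEq m]

def blockCyc (A : Matrix m m R) (n : ℕ) : Matrix (Fin n × m) (Fin n × m) R :=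
  Matrix.of fun (p q : Fin n × m) =>
        if p.1.val = 0 then (if q.1.val = n - 1 then A p.2 q.2 else 0)
        else (if q.1.val + 1 = p.1.val ∧ p.2 = q.2 then 1 else 0)

noncomputable def evalA (A : Matrix m m R) : R[X] →+* Matrix m m R :=
  (Polynomial.aeval A).toRingHom

theorem evalA_X (A : Matrix m m R) : evalA A X = A := by
  simp [evalA]

theorem evalA_C (A : Matrix m m R) (t : R) : evalA A (C t) = t • (1 : Matrix m m R) := by
  simp [evalA, Algebra.algebraMap_eq_smul_one]

theorem comp_eq (A : Matrix m m R) (n : ℕ) (t : R) :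
    ((1 - (C t) • cyc n (X : R[X])).map (evalA A)).comp (Fin n) (Fin n) m m R
      = 1 - t • blockCyc A n := by
  ext ⟨i, a⟩ ⟨j, b⟩
  have e1 : evalA A ((1 : Matrix (Fin n) (Fin n) R[X]) i j) a b
      = (1 : Matrix (Fin n × m) (Fin n × m) R) (i, a) (j, b) := by
    by_cases hij : i = j
    · subst hij
      by_cases hab : a = b
      · subst hab; simp
      · simp [hab]
    · simp [hij]
  have e2 : evalA A (cyc n (X : R[X]) i j) a b = blockCyc A n (i, a) (j, b) := by
    simp only [cyc, blockCyc, of_apply]
    by_cases hi : i.val = 0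
    · by_cases hj : j.val = n - 1
      · simp [hi, hj, evalA_X]
      · simp [hi, hj]
    · by_cases hj : j.val + 1 = i.val
      · by_cases hab : a = b
        · simp [hi, hj, hab]
        · simp [hi, hj, hab]
      · simp [hi, hj]
  show evalA A ((1 : Matrix (Fin n) (Fin n) R[X]) i j - C t * cyc n X i j) a b = _
  rw [Matrix.sub_apply, Matrix.smul_apply, ← e1, ← e2, map_sub, map_mul, Matrix.sub_apply,
    evalA_C, smul_mul_assoc, one_mul, Matrix.smul_apply]

theorem det_one_sub_blockCyc (A : Matrix m m R) (n : ℕ) (hn : 1 ≤ n) (t : R) :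
    (1 - t • blockCyc A n).det = (1 - t ^ n • A).det := by
  rw [← comp_eq, ← Matrix.det_det, det_one_sub_cyc hn]
  congr 1
  rw [map_sub, map_one, map_mul, map_pow, evalA_C, evalA_X, _root_.smul_pow, one_pow, smul_mul_assoc,
    one_mul]

theorem final (A : Matrix m m R) (n : ℕ) (hn : 1 ≤ n) :
    (blockCyc A n).charpolyRev = Polynomial.expand R n A.charpolyRev := by
  unfold Matrix.charpolyRev
  have h2 : (blockCyc A n).map (C : R → R[X]) = blockCyc (A.map C) n := by
    ext ⟨i, a⟩ ⟨j, b⟩
    simp only [blockCyc, map_apply, of_apply]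
    split_ifs <;> simp
  rw [h2, det_one_sub_blockCyc _ n hn X, AlgHom.map_det]
  congr 1
  ext a b
  simp only [AlgHom.mapMatrix_apply, map_apply, Matrix.sub_apply, Matrix.smul_apply, smul_eq_mul,
    map_sub, map_mul, expand_X, expand_C, Matrix.one_apply]
  split_ifs <;> simp

end block

end Groth.Agent.Helper25.CycBlock
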