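import Mathlib
import Groth.Prelude.Def_SGA3b
import Groth.Agent.Lib.Helper25.NilLift3

/-!
# Helper25: multiplicative group-like bases indexed by a fixed group

Base change, change of group, the trivial ring, fields, finite products, the bialgebra equivalence
with the group algebra, the kernel of the projection to the group algebra of a quotient group.
-/

set_option autoImplicit false

namespace Groth.Agent.Helper25.KerMT1

open TensorProduct SGA3b
open Groth.Agent.Helper25.Desc Groth.Agent.Helper25.PIDescent Groth.Agent.Helper25.PIDescentU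
  Groth.Agent.Helper25.NilLift Groth.Agent.Helper25.NilLift2

universe u

/-- a multiplicative basis of group-likes indexed by the commutative group `Q` -/
def GLGW (Q : Type u) [CommGroup Q] (T : Type u) [CommRing T] (D : Type u) [CommRing D]
    [Bialgebra T D] : Prop :=
  ∃ β : Module.Basis Q T D,
    (∀ q, IsGroupLikeElem T (β q)) ∧ β 1 = 1 ∧ ∀ q q', β (q * q') = β q * β q'

section Abs

variable {Q : Type u} [CommGroup Q] {T : Type u} [CommRing T] {D : Type u} [CommRing D]

theorem hasGLG_of_glgw [Bialgebra T D] (h : GLGW Q T D) : HasGLG T D := by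
  obtain ⟨β, h1, h2, h3⟩ := h
  exact ⟨Q, inferInstance, β, h1, h2, h3⟩

theorem isDiag_of_glgw [HopfAlgebra T D] (h : GLGW Q T D) : IsDiag T D :=
  isDiag_of_hasGLG (hasGLG_of_glgw h)

theorem exists_glgw_of_isDiag [HopfAlgebra T D] (h : IsDiag T D) :
    ∃ (Q : Type u) (_ : CommGroup Q), GLGW Q T D := by
  obtain ⟨N, i, β, h1, h2, h3⟩ := hasGLG_of_isDiag h
  exact ⟨N, i, β, h1, h2, h3⟩

theorem glgw_congr_group [Bialgebra T D] {Q' : Type u} [CommGroup Q'] (e : Q ≃* Q')
    (h : GLGW Q T D) : GLGW Q' T D := by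
  obtain ⟨β, h1, h2, h3⟩ := h
  refine ⟨β.reindex e.toEquiv, fun q => ?_, ?_, fun q q' => ?_⟩
  · rw [Module.Basis.reindex_apply]
    exact h1 _
  · rw [Module.Basis.reindex_apply]
    show β (e.symm 1) = 1
    rw [map_one, h2]
  · rw [Module.Basis.reindex_apply, Module.Basis.reindex_apply, Module.Basis.reindex_apply]
    show β (e.symm (q * q')) = β (e.symm q) * β (e.symm q')
    rw [map_mul, h3]

theorem glgw_of_subsingleton [Bialgebra T D] [Subsingleton T] : GLGW Q T D := by
  have hD : Subsingleton D := Module.subsingleton T D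
  have hDD : Subsingleton (D ⊗[T] D) := Module.subsingleton T _
  refine ⟨Module.Basis.ofRepr (LinearEquiv.ofSubsingleton D (Q →₀ T)), fun q => ?_,
    Subsingleton.elim _ _, fun _ _ => Subsingleton.elim _ _⟩
  exact ⟨Subsingleton.elim _ _, Subsingleton.elim _ _⟩

end Abs

section FieldSec

variable {K : Type u} [Field K] {D : Type u} [CommRing D] [Bialgebra K D]

theorem eq_basis_of_field {Q : Type u} (β : Module.Basis Q K D)
    (hβ : ∀ q, IsGroupLikeElem K (β q)) {g : D} (hg : IsGroupLikeElem K g) : ∃ q, g = β q := by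
  classical
  have hsum := counit_eq_sum β hβ g
  rw [hg.counit_eq_one] at hsum
  have h1 : ∃ q, β.repr g q ≠ 0 := by
    by_contra hcon
    push Not at hcon
    rw [Finsupp.sum, Finset.sum_eq_zero (fun q _ => hcon q)] at hsum
    exact one_ne_zero hsum
  obtain ⟨q, hq⟩ := h1
  have hq1 : β.repr g q = 1 := by
    have h2 := repr_mul_repr β hβ hg q q
    rw [if_pos rfl] at h2
    exact mul_left_cancel₀ hq (h2.trans (mul_one _).symm)
  refine ⟨q, ?_⟩
  apply β.repr.injective
  rw [Module.Basis.repr_self]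
  ext q'
  rw [Finsupp.single_apply]
  split_ifs with h3
  · rw [← h3]
    exact hq1
  · have h4 := repr_mul_repr β hβ hg q' q
    rw [if_neg (fun h5 => h3 h5.symm), hq1, mul_one] at h4
    exact h4

theorem mulEquiv_of_glgw_field {Q Q' : Type u} [CommGroup Q] [CommGroup Q']
    (h : GLGW Q K D) (h' : GLGW Q' K D) : Nonempty (Q ≃* Q') := by
  obtain ⟨β, hβ, h1, hmul⟩ := h
  obtain ⟨β', hβ', h1', hmul'⟩ := h'
  have hσ : ∀ q, ∃ q', β q = β' q' := fun q => eq_basis_of_field β' hβ' (hβ q)
  have hτ : ∀ q', ∃ q, β' q' = β q := fun q' => eq_basis_of_field β hβ (hβ' q')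
  choose σ hσ using hσ
  choose τ hτ using hτ
  have hinj : Function.Injective β := β.injective
  have hinj' : Function.Injective β' := β'.injective
  refine ⟨MulEquiv.mk' ⟨σ, τ, fun q => ?_, fun q' => ?_⟩ (fun q₁ q₂ => ?_)⟩
  · apply hinj
    rw [← hτ (σ q), ← hσ q]
  · apply hinj'
    rw [← hσ (τ q'), ← hτ q']
  · apply hinj'
    show β' (σ (q₁ * q₂)) = β' (σ q₁ * σ q₂)
    rw [← hσ (q₁ * q₂), hmul, hmul', hσ q₁, hσ q₂]

end FieldSec

section ViaSec

variable {R : Type u} [CommRing R] {A : Type u} [CommRing A] [HopfAlgebra R A]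

theorem basis_via {Q : Type u} {T₁ T₂ : Type u} [CommRing T₁] [Algebra R T₁] [CommRing T₂]
    [Algebra R T₂] (j : T₁ →ₐ[R] T₂) (β : Module.Basis Q T₁ (T₁ ⊗[R] A)) :
    ∃ b : Module.Basis Q T₂ (T₂ ⊗[R] A),
      ∀ q, b q = Algebra.TensorProduct.map j (AlgHom.id R A) (β q) := by
  let b : Module.Basis Q (Via j) (Via j ⊗[R] A) :=
    (β.baseChange (Via j)).map
      (Algebra.TensorProduct.cancelBaseChange R T₁ (Via j) (Via j) A).toLinearEquiv
  have hb : ∀ n, b n =
      Groth.Agent.Helper6.MT.cancelBC R T₁ (Via j) A ((1 : Via j) ⊗ₜ[T₁] β n) := by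
    intro n
    show ((β.baseChange (Via j)).map _) n = _
    rw [Module.Basis.map_apply, Module.Basis.baseChange_apply]
    rfl
  have hj : IsScalarTower.toAlgHom R T₁ (Via j) = j := by
    apply AlgHom.ext
    intro c
    rfl
  have key : ∀ q, b q = Algebra.TensorProduct.map j (AlgHom.id R A) (β q) := by
    intro q
    rw [hb, cancelBC_one_tmulU, hj]
    rfl
  exact ⟨b, key⟩

theorem glgw_via {Q : Type u} [CommGroup Q] {T₁ T₂ : Type u} [CommRing T₁] [Algebra R T₁]
    [CommRing T₂] [Algebra R T₂] (j : T₁ →ₐ[R] T₂) (h : GLGW Q T₁ (T₁ ⊗[R] A)) :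
    GLGW Q T₂ (T₂ ⊗[R] A) := by
  obtain ⟨β, hβ, h1, hmul⟩ := h
  obtain ⟨b, hb⟩ := basis_via j β
  refine ⟨b, fun q => ?_, ?_, fun q q' => ?_⟩
  · rw [hb]
    exact isGroupLikeElem_map_via j (hβ q)
  · rw [hb, h1, map_one]
  · rw [hb, hb, hb, hmul, map_mul]

end ViaSec

section Equiv

variable {Q : Type u} [CommGroup Q] {T : Type u} [CommRing T] {D : Type u} [CommRing D]
  [HopfAlgebra T D]

theorem equiv_of_glgw (β : Module.Basis Q T D) (hβ : ∀ q, IsGroupLikeElem T (β q))
    (h1 : β 1 = 1) (hmul : ∀ q q', β (q * q') = β q * β q') :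
    ∃ F : MonoidAlgebra T Q ≃ₐc[T] D, ∀ q, F (MonoidAlgebra.single q 1) = β q := by
  classical
  let Γ : Q →* GroupLike T D :=
    { toFun := fun n => ⟨β n, hβ n⟩
      map_one' := GroupLike.val_injective h1
      map_mul' := fun n n' => GroupLike.val_injective (hmul n n') }
  let φ : MonoidAlgebra T Q →ₐc[T] D :=
    (MonoidAlgebra.liftGroupLikeBialgHom (R := T) (A := D)).comp
      (MonoidAlgebra.mapDomainBialgHom T Γ)
  have hφ : ∀ n, φ (MonoidAlgebra.single n 1) = β n := fun n => by
    show MonoidAlgebra.liftGroupLikeBialgHom (MonoidAlgebra.mapDomainBialgHom T Γ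
      (MonoidAlgebra.single n 1)) = β n
    rw [MonoidAlgebra.mapDomainBialgHom_single]
    simp [MonoidAlgebra.liftGroupLikeBialgHom, Γ]
  have hφlin : ∀ x : MonoidAlgebra T Q,
      φ x = Finsupp.linearCombination T β ((MonoidAlgebra.basis Q T).repr x) := by
    have h3 : ((φ : MonoidAlgebra T Q →ₐ[T] D).toLinearMap) =
        Finsupp.linearCombination T β ∘ₗ (MonoidAlgebra.basis Q T).repr.toLinearMap := by
      apply (MonoidAlgebra.basis Q T).ext
      intro n
      rw [LinearMap.comp_apply, LinearEquiv.coe_coe, Module.Basis.repr_self,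
        Finsupp.linearCombination_single, one_smul, MonoidAlgebra.basis_apply]
      exact hφ n
    intro x
    exact congrArg (fun f : MonoidAlgebra T Q →ₗ[T] D => f x) h3
  have hbij : Function.Bijective φ := by
    constructor
    · intro x y hxy
      rw [hφlin, hφlin] at hxy
      exact (MonoidAlgebra.basis Q T).repr.injective (β.linearIndependent hxy)
    · intro a
      have ha : a ∈ Submodule.span T (Set.range β) := by
        rw [β.span_eq]
        trivial
      rw [← Finsupp.range_linearCombination] at ha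
      obtain ⟨l, rfl⟩ := ha
      refine ⟨(MonoidAlgebra.basis Q T).repr.symm l, ?_⟩
      rw [hφlin, LinearEquiv.apply_symm_apply]
  exact ⟨BialgEquiv.ofBijective φ hbij, fun q => hφ q⟩

end Equiv

section KerMap

variable {R' : Type u} [CommRing R'] {M : Type u} [CommGroup M]

theorem mem_span_of_mapDomain_eq_zero (H : Subgroup M) (w : MonoidAlgebra R' M)
    (hw : MonoidAlgebra.mapDomainBialgHom R' (QuotientGroup.mk' H) w = 0) :
    w ∈ Ideal.span
      {y : MonoidAlgebra R' M | ∃ h ∈ H, y = MonoidAlgebra.single h 1 - 1} := by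
  obtain ⟨I, hI⟩ : ∃ I : Ideal (MonoidAlgebra R' M), I = Ideal.span
      {y : MonoidAlgebra R' M | ∃ h ∈ H, y = MonoidAlgebra.single h 1 - 1} := ⟨_, rfl⟩
  rw [← hI]
  obtain ⟨τ, hτ⟩ : ∃ τ : M →* (MonoidAlgebra R' M ⧸ I),
      ∀ m, τ m = Ideal.Quotient.mk I (MonoidAlgebra.single m 1) :=
    ⟨(Ideal.Quotient.mk I).toMonoidHom.comp (MonoidAlgebra.of R' M), fun m => rfl⟩
  have hN : H ≤ τ.ker := by
    intro k hk
    rw [MonoidHom.mem_ker, hτ, ← map_one (Ideal.Quotient.mk I), Ideal.Quotient.eq, hI]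
    exact Ideal.subset_span ⟨k, hk, rfl⟩
  obtain ⟨Tb, hTb⟩ : ∃ Tb : MonoidAlgebra R' (M ⧸ H) →ₐ[R'] (MonoidAlgebra R' M ⧸ I),
      ∀ m, Tb (MonoidAlgebra.single (QuotientGroup.mk' H m) 1) =
          Ideal.Quotient.mk I (MonoidAlgebra.single m 1) := by
    refine ⟨MonoidAlgebra.lift R' (MonoidAlgebra R' M ⧸ I) (M ⧸ H)
      (QuotientGroup.lift H τ hN), fun m => ?_⟩
    rw [MonoidAlgebra.lift_single, one_smul, QuotientGroup.mk'_apply, QuotientGroup.lift_mk, hτ]
  have hcomp : Tb.comp
      ((MonoidAlgebra.mapDomainBialgHom R' (QuotientGroup.mk' H) :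
        MonoidAlgebra R' M →ₐc[R'] MonoidAlgebra R' (M ⧸ H)) :
        MonoidAlgebra R' M →ₐ[R'] MonoidAlgebra R' (M ⧸ H)) = Ideal.Quotient.mkₐ R' I := by
    refine MonoidAlgebra.algHom_ext (fun m => ?_) (Subsingleton.elim _ _)
    rw [AlgHom.comp_apply]
    show Tb (MonoidAlgebra.mapDomainBialgHom R' (QuotientGroup.mk' H)
      (MonoidAlgebra.single m 1)) = _
    rw [MonoidAlgebra.mapDomainBialgHom_single, hTb]
    rfl
  have h1 := AlgHom.congr_fun hcomp w
  rw [AlgHom.comp_apply] at h1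
  have h2 : Tb (MonoidAlgebra.mapDomainBialgHom R' (QuotientGroup.mk' H) w) =
      Ideal.Quotient.mkₐ R' I w := h1
  rw [hw, map_zero] at h2
  exact Ideal.Quotient.eq_zero_iff_mem.mp h2.symm

theorem mapDomain_mk'_surjective (H : Subgroup M) :
    Function.Surjective (MonoidAlgebra.mapDomainBialgHom R' (QuotientGroup.mk' H)) := by
  intro y
  induction y using MonoidAlgebra.induction_on with
  | of q =>
    obtain ⟨m, rfl⟩ := QuotientGroup.mk'_surjective H q
    exact ⟨MonoidAlgebra.single m 1, MonoidAlgebra.mapDomainBialgHom_single _ _ _⟩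
  | add x y hx hy =>
    obtain ⟨x', rfl⟩ := hx
    obtain ⟨y', rfl⟩ := hy
    exact ⟨x' + y', map_add _ _ _⟩
  | smul r x hx =>
    obtain ⟨x', rfl⟩ := hx
    exact ⟨r • x', map_smul _ _ _⟩

end KerMap

section PiFF

variable {R : Type u} [CommRing R] {ι : Type u} [Fintype ι] [DecidableEq ι]
  (T : ι → Type u) [∀ i, CommRing (T i)] [∀ i, Algebra R (T i)]

omit [Fintype ι] in
theorem flat_of_pi_ff [Module.FaithfullyFlat R (Π i, T i)] (i : ι) : Module.Flat R (T i) :=
  Module.Flat.of_retract (M := Π i, T i) (LinearMap.single R T i) (LinearMap.proj i)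
    (LinearMap.proj_comp_single_same R T i)

theorem exists_of_pi_ff [Module.FaithfullyFlat R (Π i, T i)] (m : Ideal R) (hm : m.IsMaximal) :
    ∃ i, m • (⊤ : Submodule R (T i)) ≠ ⊤ := by
  by_contra hcon
  push Not at hcon
  have hff : Module.FaithfullyFlat R (Π i, T i) := inferInstance
  apply hff.submodule_ne_top hm
  rw [eq_top_iff]
  intro z _
  rw [← LinearMap.sum_single_apply (v := z)]
  refine Submodule.sum_mem _ (fun i _ => ?_)
  rw [← LinearMap.coe_single R T i]
  apply map_mem_smulTop m (LinearMap.single R T i)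
  rw [hcon i]
  trivial

end PiFF

end Groth.Agent.Helper25.KerMT1
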