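import Mathlib
import Groth.Prelude.Def_SGA3b
import Groth.Agent.Lib.Helper25.MultDense
import Groth.Agent.Lib.Helper25.KerMT1

/-! Group algebras: change of coefficients, kernels of the projections `T[M] → T[M/Mⁿ]`. -/

set_option autoImplicit false
universe u

namespace Groth.Agent.Helper25.Dens1

open SGA3b Groth.Agent.Helper25.MultDense

section coeffs

variable {T : Type u} [CommRing T] {M : Type u} [CommGroup M]

theorem proj_mapRingHom {T' : Type u} [CommRing T'] (φ : T →+* T') (n : ℕ)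
    (v : MonoidAlgebra T M) :
    proj T' M n (MonoidAlgebra.mapRingHom M φ v) =
      MonoidAlgebra.mapRingHom _ φ (proj T M n v) := by
  have h := RingHom.congr_fun (MonoidAlgebra.mapRingHom_comp_mapDomainRingHom φ
    (QuotientGroup.mk' (powMonoidHom n : M →* M).range)) v
  exact h.symm

theorem mapRingHom_eq_zero_iff {T' : Type u} [CommRing T'] (φ : T →+* T')
    (v : MonoidAlgebra T M) :
    MonoidAlgebra.mapRingHom M φ v = 0 ↔ ∀ m, φ (v.coeff m) = 0 := by
  constructor
  · intro h m
    rw [← MonoidAlgebra.coeff_mapRingHom, h]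
    simp
  · intro h
    apply MonoidAlgebra.coeff_injective
    ext m
    rw [MonoidAlgebra.coeff_mapRingHom, h m]
    simp

theorem mapRingHom_injective {T' : Type u} [CommRing T'] (φ : T →+* T')
    (hφ : Function.Injective φ) :
    Function.Injective (MonoidAlgebra.mapRingHom M φ) := by
  rw [injective_iff_map_eq_zero]
  intro v hv
  rw [mapRingHom_eq_zero_iff] at hv
  apply MonoidAlgebra.coeff_injective
  ext m
  have h1 := hv m
  rw [← map_zero φ] at h1
  rw [hφ h1]
  simp

theorem smul_eq_zero_iff (a : T) (v : MonoidAlgebra T M) :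
    a • v = 0 ↔ ∀ m, a * v.coeff m = 0 := by
  constructor
  · intro h m
    have h1 : (a • v).coeff m = a • v.coeff m := MonoidAlgebra.coeff_smul_apply a v m
    rw [h] at h1
    rw [← smul_eq_mul, ← h1]
    simp
  · intro h
    apply MonoidAlgebra.coeff_injective
    ext m
    have h1 : (a • v).coeff m = a • v.coeff m := MonoidAlgebra.coeff_smul_apply a v m
    rw [h1, smul_eq_mul, h m]
    simp

omit [CommGroup M] in
theorem eq_sum_single (v : MonoidAlgebra T M) :
    v = ∑ m ∈ v.coeff.support, MonoidAlgebra.single m (v.coeff m) :=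
  (MonoidAlgebra.sum_coeff_single v).symm

theorem exists_smul_of_mem_span (a : T) (v : MonoidAlgebra T M)
    (h : ∀ m, v.coeff m ∈ Ideal.span {a}) : ∃ w : MonoidAlgebra T M, v = a • w := by
  choose c hc using fun m => Ideal.mem_span_singleton'.1 (h m)
  refine ⟨∑ m ∈ v.coeff.support, MonoidAlgebra.single m (c m), ?_⟩
  rw [Finset.smul_sum]
  refine (eq_sum_single v).trans (Finset.sum_congr rfl ?_)
  intro m _
  rw [MonoidAlgebra.smul_single', ← hc m, mul_comm]

theorem exists_mapRingHom_eq {T₀ : Type u} [CommRing T₀] (φ : T₀ →+* T) (v : MonoidAlgebra T M)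
    (h : ∀ m, v.coeff m ∈ φ.range) :
    ∃ v₀ : MonoidAlgebra T₀ M, MonoidAlgebra.mapRingHom M φ v₀ = v := by
  choose c hc using fun m => RingHom.mem_range.1 (h m)
  refine ⟨∑ m ∈ v.coeff.support, MonoidAlgebra.single m (c m), ?_⟩
  rw [map_sum]
  refine Eq.trans (Finset.sum_congr rfl ?_) (eq_sum_single v).symm
  intro m _
  rw [MonoidAlgebra.mapRingHom_single, hc m]

end coeffs

section kernels

variable (T : Type u) [CommRing T] (M : Type u) [CommGroup M]

/-- the ideal generated by the `mⁿ - 1`. -/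
noncomputable def Kn (n : ℕ) : Ideal (MonoidAlgebra T M) :=
  Ideal.span (Set.range fun m : M => MonoidAlgebra.single (m ^ n) (1 : T) - 1)

variable {T M}

theorem single_pow_sub_one_mem (n : ℕ) (m : M) :
    MonoidAlgebra.single (m ^ n) (1 : T) - 1 ∈ Kn T M n :=
  Ideal.subset_span ⟨m, rfl⟩

theorem Kn_le_comap {B : Type*} [CommRing B] {F : Type*} [FunLike F (MonoidAlgebra T M) B]
    [RingHomClass F (MonoidAlgebra T M) B] (Φ : F) (J : Ideal B) (n : ℕ)
    (h : ∀ m : M, Φ (MonoidAlgebra.single (m ^ n) (1 : T) - 1) ∈ J) :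
    Kn T M n ≤ Ideal.comap Φ J := by
  apply Ideal.span_le.2
  rintro _ ⟨m, rfl⟩
  rw [SetLike.mem_coe, Ideal.mem_comap]
  exact h m

theorem proj_eq_zero_iff (n : ℕ) (v : MonoidAlgebra T M) :
    proj T M n v = 0 ↔ v ∈ Kn T M n := by
  constructor
  · intro hv
    have hv' : MonoidAlgebra.mapDomainBialgHom T
        (QuotientGroup.mk' (powMonoidHom n : M →* M).range) v = 0 := hv
    have h1 := Groth.Agent.Helper25.KerMT1.mem_span_of_mapDomain_eq_zero
      (powMonoidHom n : M →* M).range v hv'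
    refine Ideal.span_mono ?_ h1
    rintro y ⟨k, ⟨m, hm⟩, rfl⟩
    refine ⟨m, ?_⟩
    rw [← hm]
    rfl
  · intro hv
    have hle := Kn_le_comap (T := T) (M := M) (proj T M n) ⊥ n ?_
    · exact Ideal.mem_bot.1 (Ideal.mem_comap.1 (hle hv))
    · intro m
      rw [Ideal.mem_bot, map_sub, map_one, proj_single]
      have h1 : (QuotientGroup.mk' (powMonoidHom n : M →* M).range) (m ^ n) = 1 := by
        rw [QuotientGroup.mk'_apply, QuotientGroup.eq_one_iff]
        exact ⟨m, rfl⟩
      rw [h1, ← MonoidAlgebra.one_def, sub_self]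

theorem Kn_le_of_dvd {n n' : ℕ} (h : n' ∣ n) : Kn T M n ≤ Kn T M n' := by
  obtain ⟨k, rfl⟩ := h
  apply Ideal.span_le.2
  rintro _ ⟨m, rfl⟩
  have h1 : m ^ (n' * k) = (m ^ k) ^ n' := by rw [← pow_mul, mul_comm]
  rw [SetLike.mem_coe]
  show MonoidAlgebra.single (m ^ (n' * k)) (1 : T) - 1 ∈ Kn T M n'
  rw [h1]
  exact single_pow_sub_one_mem n' (m ^ k)

theorem proj_eq_zero_of_dvd {n n' : ℕ} (h : n' ∣ n) (v : MonoidAlgebra T M)
    (hv : proj T M n v = 0) : proj T M n' v = 0 := by
  rw [proj_eq_zero_iff] at hv ⊢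
  exact Kn_le_of_dvd h hv

end kernels

end Groth.Agent.Helper25.Dens1
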