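import Mathlib
import Groth.Prelude.Def_SGA3b
import Groth.Agent.Lib.Helper25.Dens1

/-! Density of torsion in split tori: the field case and the dévissage on the coefficient ring. -/

set_option autoImplicit false
universe u

namespace Groth.Agent.Helper25.Dens2

open SGA3b Groth.Agent.Helper25.MultDense Groth.Agent.Helper25.Dens1

section defs

variable (T : Type u) [CommRing T] (L : Type u) [CommGroup L] (e : ℕ)

/-- for every multiple `n` of `e`, some `α ^ j * z` dies in `T[L/Lⁿ]`. -/
def Hyp (α z : MonoidAlgebra T L) : Prop :=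
  ∀ n : ℕ, 0 < n → e ∣ n → ∃ j : ℕ, proj T L n (α ^ j * z) = 0

/-- the density statement for the group algebra `T[L]`. -/
def Core : Prop :=
  ∀ α z : MonoidAlgebra T L, Hyp T L e α z → ∃ j : ℕ, α ^ j * z = 0

end defs

section field

theorem mul_eq_zero_of_pow_mul {C : Type*} [CommRing C] [IsReduced C] {x y : C} {j : ℕ}
    (h : x ^ j * y = 0) : x * y = 0 := by
  apply IsReduced.eq_zero
  refine ⟨j + 1, ?_⟩
  have h1 : (x * y) ^ (j + 1) = (x ^ j * y) * (x * y ^ j) := by ring
  rw [h1, h, zero_mul]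

theorem reduced_quot (K : Type u) [Field K] (L : Type u) [CommGroup L] (hfg : Group.FG L)
    (n : ℕ) (hn : 0 < n) (hpn : ¬ ringChar K ∣ n) :
    IsReduced (MonoidAlgebra K (L ⧸ (powMonoidHom n : L →* L).range)) := by
  have := hfg
  have hfin : Finite (L ⧸ (powMonoidHom n : L →* L).range) :=
    Subgroup.finiteIndex_iff_finite_quotient.mp
      (Subgroup.finiteIndex_range_powMonoidHom_of_fg L hn.ne')
  have hpow : ∀ x : L ⧸ (powMonoidHom n : L →* L).range, x ^ n = 1 := by
    intro x
    induction x using QuotientGroup.induction_on with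
    | H a =>
      rw [← QuotientGroup.mk_pow, QuotientGroup.eq_one_iff]
      exact ⟨a, rfl⟩
  have hne : NeZero (Nat.card (L ⧸ (powMonoidHom n : L →* L).range) : K) := by
    refine ⟨fun h0 => ?_⟩
    have hdvd : ringChar K ∣ Nat.card (L ⧸ (powMonoidHom n : L →* L).range) :=
      (ringChar.spec K _).1 h0
    rcases CharP.char_is_prime_or_zero K (ringChar K) with hprime | h0'
    · haveI : Fact (ringChar K).Prime := ⟨hprime⟩
      obtain ⟨x, hx⟩ := exists_prime_orderOf_dvd_card' (ringChar K) hdvd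
      apply hpn
      rw [← hx]
      exact orderOf_dvd_of_pow_eq_one (hpow x)
    · rw [h0', zero_dvd_iff] at hdvd
      exact Nat.card_pos.ne' hdvd
  infer_instance

theorem core_field (K : Type u) [Field K] (L : Type u) [CommGroup L] (hfg : Group.FG L)
    (htf : ∀ n : ℕ, 0 < n → ∀ m : L, m ^ n = 1 → m = 1) (e : ℕ) (he : 0 < e) :
    Core K L e := by
  intro α z h
  refine ⟨1, ?_⟩
  rw [pow_one]
  have hchar := CharP.char_is_prime_or_zero K (ringChar K)
  have hp : ringChar K = 0 ∨
      ((ringChar K).Prime ∧ ∀ m : L, m ^ ringChar K = 1 → m = 1) := by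
    rcases hchar with hprime | h0
    · exact Or.inr ⟨hprime, fun m hm => htf _ hprime.pos m hm⟩
    · exact Or.inl h0
  apply eq_zero_of_forall_proj hfg (ringChar K) hp
  intro n hn hpn
  obtain ⟨j, hj⟩ := h (e * n) (Nat.mul_pos he hn) (dvd_mul_right e n)
  have hj' : proj K L n (α ^ j * z) = 0 := proj_eq_zero_of_dvd (dvd_mul_left n e) _ hj
  have hred := reduced_quot K L hfg n hn hpn
  rw [map_mul, map_pow] at hj'
  rw [map_mul]
  exact mul_eq_zero_of_pow_mul hj'

end field

section devissage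

variable {T : Type u} [CommRing T] {L : Type u} [CommGroup L] {e : ℕ}

theorem hyp_map {T' : Type u} [CommRing T'] (φ : T →+* T') {α z : MonoidAlgebra T L}
    (h : Hyp T L e α z) :
    Hyp T' L e (MonoidAlgebra.mapRingHom L φ α) (MonoidAlgebra.mapRingHom L φ z) := by
  intro n hn hen
  obtain ⟨j, hj⟩ := h n hn hen
  refine ⟨j, ?_⟩
  rw [← map_pow, ← map_mul, proj_mapRingHom, hj, map_zero]

theorem core_of_injective {T' : Type u} [CommRing T'] (φ : T →+* T')
    (hφ : Function.Injective φ) (h : Core T' L e) : Core T L e := by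
  intro α z hyp
  obtain ⟨j, hj⟩ := h _ _ (hyp_map φ hyp)
  refine ⟨j, ?_⟩
  rw [← map_pow, ← map_mul] at hj
  apply mapRingHom_injective φ hφ
  rw [hj, map_zero]

theorem core_of_subsingleton [Subsingleton T] : Core T L e := by
  intro α z _
  exact ⟨0, Subsingleton.elim _ _⟩

theorem core_of_quot (a : T) (J₂ : Ideal T) (hJ₂ : ∀ t, t ∈ J₂ ↔ a * t = 0)
    (h₁ : Core (T ⧸ Ideal.span {a}) L e) (h₂ : Core (T ⧸ J₂) L e) : Core T L e := by
  intro α z hyp
  obtain ⟨j₀, hj₀⟩ := h₁ _ _ (hyp_map (Ideal.Quotient.mk (Ideal.span {a})) hyp)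
  rw [← map_pow, ← map_mul, mapRingHom_eq_zero_iff] at hj₀
  obtain ⟨w, hw⟩ := exists_smul_of_mem_span a (α ^ j₀ * z)
    (fun m => Ideal.Quotient.eq_zero_iff_mem.1 (hj₀ m))
  have hyp2 : Hyp (T ⧸ J₂) L e (MonoidAlgebra.mapRingHom L (Ideal.Quotient.mk J₂) α)
      (MonoidAlgebra.mapRingHom L (Ideal.Quotient.mk J₂) w) := by
    intro n hn hen
    obtain ⟨j, hj⟩ := hyp n hn hen
    refine ⟨j, ?_⟩
    have h1 : proj T L n (α ^ j * (α ^ j₀ * z)) = 0 := by
      have h2 : α ^ j * (α ^ j₀ * z) = α ^ j₀ * (α ^ j * z) := by ring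
      rw [h2, map_mul, hj, mul_zero]
    rw [hw, mul_smul_comm, map_smul] at h1
    rw [← map_pow, ← map_mul, proj_mapRingHom, mapRingHom_eq_zero_iff]
    intro m
    rw [Ideal.Quotient.eq_zero_iff_mem, hJ₂]
    exact (smul_eq_zero_iff a _).1 h1 m
  obtain ⟨j₁, hj₁⟩ := h₂ _ _ hyp2
  rw [← map_pow, ← map_mul, mapRingHom_eq_zero_iff] at hj₁
  refine ⟨j₁ + j₀, ?_⟩
  have h4 : a • (α ^ j₁ * w) = 0 :=
    (smul_eq_zero_iff a _).2 (fun m => (hJ₂ _).1 (Ideal.Quotient.eq_zero_iff_mem.1 (hj₁ m)))
  calc α ^ (j₁ + j₀) * z = α ^ j₁ * (α ^ j₀ * z) := by ring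
    _ = α ^ j₁ * (a • w) := by rw [hw]
    _ = a • (α ^ j₁ * w) := by rw [mul_smul_comm]
    _ = 0 := h4

theorem core_noeth (hK : ∀ (K : Type u) [Field K], Core K L e) (T : Type u) [CommRing T]
    [IsNoetherianRing T] : Core T L e := by
  have key : ∀ I : Ideal T, ∀ (T' : Type u) (_ : CommRing T') (f : T →+* T'),
      Function.Surjective f → RingHom.ker f = I → Core T' L e := by
    intro I
    refine IsNoetherian.induction (P := fun I : Ideal T => ∀ (T' : Type u) (_ : CommRing T')
      (f : T →+* T'), Function.Surjective f → RingHom.ker f = I → Core T' L e) ?_ I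
    intro I ih T' _ f hf hker
    by_cases hsub : Subsingleton T'
    · exact core_of_subsingleton
    have hnt : Nontrivial T' := not_subsingleton_iff_nontrivial.1 hsub
    by_cases hdom : ∀ a b : T', a * b = 0 → a = 0 ∨ b = 0
    · haveI : NoZeroDivisors T' := ⟨fun {a b} h => hdom a b h⟩
      have : IsDomain T' := NoZeroDivisors.to_isDomain T'
      exact core_of_injective (algebraMap T' (FractionRing T'))
        (IsFractionRing.injective T' (FractionRing T')) (hK (FractionRing T'))
    · push Not at hdom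
      obtain ⟨a, b, hab, ha, hb⟩ := hdom
      have hJ₂ : ∀ t, t ∈ (Submodule.span T' {a}).annihilator ↔ a * t = 0 := by
        intro t
        rw [Submodule.mem_annihilator_span_singleton, smul_eq_mul, mul_comm]
      have hlt : ∀ (J : Ideal T') (c : T'), c ∈ J → c ≠ 0 → I < Ideal.comap f J := by
        intro J c hcJ hc0
        obtain ⟨t, ht⟩ := hf c
        rw [SetLike.lt_iff_le_and_exists]
        refine ⟨?_, t, ?_, ?_⟩
        · intro s hs
          rw [← hker, RingHom.mem_ker] at hs
          rw [Ideal.mem_comap, hs]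
          exact J.zero_mem
        · rw [Ideal.mem_comap, ht]
          exact hcJ
        · rw [← hker, RingHom.mem_ker, ht]
          exact hc0
      have hq : ∀ (J : Ideal T') (c : T'), c ∈ J → c ≠ 0 → Core (T' ⧸ J) L e := by
        intro J c hcJ hc0
        refine ih (Ideal.comap f J) (hlt J c hcJ hc0) (T' ⧸ J) inferInstance
          ((Ideal.Quotient.mk J).comp f) ?_ ?_
        · exact Ideal.Quotient.mk_surjective.comp hf
        · rw [← RingHom.comap_ker, Ideal.mk_ker]
      exact core_of_quot a _ hJ₂ (hq _ a (Ideal.mem_span_singleton_self a) ha)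
        (hq _ b ((hJ₂ b).2 hab) hb)
  exact key ⊥ T inferInstance (RingHom.id T) Function.surjective_id
    (by
      ext x
      rw [RingHom.mem_ker, Ideal.mem_bot]
      rfl)

theorem core_all (hK : ∀ (K : Type u) [Field K], Core K L e) (T : Type u) [CommRing T] :
    Core T L e := by
  classical
  intro α z hyp
  obtain ⟨s, hs⟩ : ∃ s : Finset T, s = α.coeff.support.image α.coeff ∪
      z.coeff.support.image z.coeff := ⟨_, rfl⟩
  obtain ⟨S, hS⟩ : ∃ S : Subalgebra ℤ T, S = Algebra.adjoin ℤ (s : Set T) := ⟨_, rfl⟩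
  have : IsNoetherianRing S := by
    rw [hS]
    exact isNoetherianRing_of_fg (Subalgebra.fg_adjoin_finset s)
  have hmem : ∀ (v : MonoidAlgebra T L), v.coeff.support.image v.coeff ⊆ s →
      ∀ m, v.coeff m ∈ (S.val.toRingHom).range := by
    intro v hv m
    by_cases h0 : v.coeff m = 0
    · rw [h0]
      exact (S.val.toRingHom).range.zero_mem
    · have h1 : v.coeff m ∈ s :=
        hv (Finset.mem_image.2 ⟨m, Finsupp.mem_support_iff.2 h0, rfl⟩)
      have h2 : v.coeff m ∈ S := by
        rw [hS]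
        exact Algebra.subset_adjoin (Finset.mem_coe.2 h1)
      exact ⟨⟨v.coeff m, h2⟩, rfl⟩
  obtain ⟨α₀, hα₀⟩ := exists_mapRingHom_eq S.val.toRingHom α
    (hmem α (by rw [hs]; exact Finset.subset_union_left))
  obtain ⟨z₀, hz₀⟩ := exists_mapRingHom_eq S.val.toRingHom z
    (hmem z (by rw [hs]; exact Finset.subset_union_right))
  have hinj : Function.Injective S.val.toRingHom := Subtype.val_injective
  have hyp0 : Hyp S L e α₀ z₀ := by
    intro n hn hen
    obtain ⟨j, hj⟩ := hyp n hn hen
    refine ⟨j, ?_⟩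
    apply mapRingHom_injective S.val.toRingHom hinj
    rw [← proj_mapRingHom, map_mul, map_pow, hα₀, hz₀, hj, map_zero]
  obtain ⟨j, hj⟩ := core_noeth hK S α₀ z₀ hyp0
  refine ⟨j, ?_⟩
  rw [← hα₀, ← hz₀, ← map_pow, ← map_mul, hj, map_zero]

end devissage

end Groth.Agent.Helper25.Dens2
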