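import Mathlib
import Groth.Prelude.Def_SGA3b
import Groth.Agent.Lib.Helper25.KerMT1

/-!
# Helper25: gluing diagonalisability along a finite faithfully flat family

A Hopf algebra which becomes diagonalisable over each member of a finite family of algebras whose
product is faithfully flat is of multiplicative type (the type is constant on the members of a
decomposition of the base by idempotents obtained by descent).
-/

set_option autoImplicit false

namespace Groth.Agent.Helper25.KerMT2

open TensorProduct SGA3b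
open Groth.Agent.Helper25.Desc Groth.Agent.Helper25.PIDescent Groth.Agent.Helper25.PIDescentU
  Groth.Agent.Helper25.NilLift Groth.Agent.Helper25.NilLift2 Groth.Agent.Helper25.KerMT1

universe u

section PiSec

variable {R : Type u} [CommRing R] {A : Type u} [CommRing A] [HopfAlgebra R A]
  {ι : Type u} [Fintype ι] [DecidableEq ι] (S : ι → Type u) [∀ i, CommRing (S i)]
  [∀ i, Algebra R (S i)]

/-- projection to a factor -/
noncomputable def prA (i : ι) : (Π i, S i) ⊗[R] A →ₐ[R] S i ⊗[R] A :=
  Algebra.TensorProduct.map (Pi.evalAlgHom R S i) (AlgHom.id R A)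

omit [Fintype ι] [DecidableEq ι] in
theorem prA_tmul (i : ι) (p : Π i, S i) (a : A) : prA S i (p ⊗ₜ[R] a) = p i ⊗ₜ[R] a := rfl

omit [Fintype ι] [DecidableEq ι] in
theorem prA_eq (i : ι) (z : (Π i, S i) ⊗[R] A) :
    prA S i z = (LinearMap.proj i : (Π i, S i) →ₗ[R] S i).rTensor A z := by
  induction z using TensorProduct.induction_on with
  | zero => rw [map_zero, map_zero]
  | tmul p a => rfl
  | add x y hx hy => rw [map_add, map_add, hx, hy]

omit [Fintype ι] [DecidableEq ι] in
theorem prA_smul (i : ι) (p : Π i, S i) (z : (Π i, S i) ⊗[R] A) :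
    prA S i (p • z) = p i • prA S i z := by
  induction z using TensorProduct.induction_on with
  | zero => rw [smul_zero, map_zero, smul_zero]
  | tmul p' a =>
    rw [TensorProduct.smul_tmul', prA_tmul, prA_tmul, TensorProduct.smul_tmul', smul_eq_mul,
      smul_eq_mul, Pi.mul_apply]
  | add x y hx hy => rw [smul_add, map_add, map_add, smul_add, hx, hy]

theorem prA_injective (z : (Π i, S i) ⊗[R] A) (h : ∀ i, prA S i z = 0) : z = 0 := by
  rw [recon1 R S A z]
  apply Finset.sum_eq_zero
  intro i _
  rw [← prA_eq, h i, map_zero]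

omit [Fintype ι] in
theorem prA_inj_same (i : ι) (x : S i ⊗[R] A) :
    prA S i ((LinearMap.single R S i).rTensor A x) = x := by
  rw [prA_eq, ← LinearMap.comp_apply, ← LinearMap.rTensor_comp,
    LinearMap.proj_comp_single_same, LinearMap.rTensor_id, LinearMap.id_apply]

omit [Fintype ι] in
theorem prA_inj_ne {i j : ι} (hij : i ≠ j) (x : S i ⊗[R] A) :
    prA S j ((LinearMap.single R S i).rTensor A x) = 0 := by
  rw [prA_eq, ← LinearMap.comp_apply, ← LinearMap.rTensor_comp,
    LinearMap.proj_comp_single_ne R S j i (Ne.symm hij), LinearMap.rTensor_zero,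
    LinearMap.zero_apply]

omit [Fintype ι] [DecidableEq ι] in
/-- the product ring as an algebra over itself through the evaluations -/
theorem ff_pi_via :
    Module.FaithfullyFlat (Π i, S i) (Π i, Via (Pi.evalAlgHom R S i)) := by
  let e : (Π i, Via (Pi.evalAlgHom R S i)) ≃ₗ[Π i, S i] (Π i, S i) :=
    { toFun := fun x => x
      invFun := fun x => x
      map_add' := fun _ _ => rfl
      map_smul' := fun p x => by
        funext i
        rfl
      left_inv := fun _ => rfl
      right_inv := fun _ => rfl }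
  exact Module.FaithfullyFlat.of_linearEquiv (Π i, S i) (Π i, S i) e

theorem glgw_pi (Q : Type u) [CommGroup Q] (h : ∀ i, GLGW Q (S i) (S i ⊗[R] A)) :
    GLGW Q (Π i, S i) ((Π i, S i) ⊗[R] A) := by
  classical
  choose β hβ h1 hmul using h
  obtain ⟨c, hc⟩ : ∃ c : Q → (Π i, S i) ⊗[R] A,
      ∀ q, c q = ∑ i, (LinearMap.single R S i).rTensor A (β i q) := ⟨_, fun _ => rfl⟩
  have hpr : ∀ j q, prA S j (c q) = β j q := by
    intro j q
    rw [hc, map_sum, Finset.sum_eq_single j]
    · exact prA_inj_same S j _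
    · intro i _ hij
      exact prA_inj_ne S hij _
    · intro hj
      exact absurd (Finset.mem_univ j) hj
  have hli : LinearIndependent (Π i, S i) c := by
    rw [linearIndependent_iff']
    intro s g hg q hq
    funext i
    have h3 := congrArg (prA S i) hg
    rw [map_sum, map_zero] at h3
    have h2 : ∑ q ∈ s, g q i • β i q = 0 := by
      refine Eq.trans (Finset.sum_congr rfl (fun q _ => ?_)) h3
      rw [prA_smul, hpr]
    exact (linearIndependent_iff'.mp (β i).linearIndependent) s (fun q => g q i) h2 q hq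
  have hsp : ⊤ ≤ Submodule.span (Π i, S i) (Set.range c) := by
    intro z _
    rw [recon1 R S A z]
    refine Submodule.sum_mem _ (fun i _ => ?_)
    obtain ⟨y, hy⟩ : ∃ y : S i ⊗[R] A, y = (LinearMap.proj i).rTensor A z := ⟨_, rfl⟩
    rw [← hy]
    have key : ∀ (t : S i) (q : Q), (LinearMap.single R S i).rTensor A (t • β i q) =
        (Pi.single i t : Π i, S i) • c q := by
      intro t q
      rw [← sub_eq_zero]
      apply prA_injective S
      intro j
      rw [map_sub, prA_smul, hpr]
      by_cases hij : i = j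
      · subst hij
        rw [prA_inj_same, Pi.single_eq_same, sub_self]
      · rw [prA_inj_ne S hij, Pi.single_eq_of_ne (Ne.symm hij), zero_smul, sub_self]
    rw [← (β i).linearCombination_repr y, Finsupp.linearCombination_apply, Finsupp.sum, map_sum]
    refine Submodule.sum_mem _ (fun q _ => ?_)
    rw [key]
    exact Submodule.smul_mem _ _ (Submodule.subset_span ⟨q, rfl⟩)
  have hgl : ∀ q, IsGroupLikeElem (Π i, S i) (c q) := by
    intro q
    have := ff_pi_via (R := R) S
    apply isGroupLike_of_family (R := Π i, S i) (A := (Π i, S i) ⊗[R] A)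
      (fun i => Via (Pi.evalAlgHom R S i))
    intro i
    have hj : IsScalarTower.toAlgHom R (Π i, S i) (Via (Pi.evalAlgHom R S i)) =
        Pi.evalAlgHom R S i := by
      apply AlgHom.ext
      intro c
      rfl
    have h5 : Groth.Agent.Helper6.MT.cancelBC R (Π i, S i) (Via (Pi.evalAlgHom R S i)) A
        ((1 : Via (Pi.evalAlgHom R S i)) ⊗ₜ[Π i, S i] c q) = β i q := by
      rw [cancelBC_one_tmulU, hj]
      exact hpr i q
    have h6 : (1 : Via (Pi.evalAlgHom R S i)) ⊗ₜ[Π i, S i] c q =
        (Groth.Agent.Helper6.MT.cancelBC R (Π i, S i) (Via (Pi.evalAlgHom R S i)) A).symm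
          (β i q) := by
      rw [← h5, BialgEquiv.symm_apply_apply]
    rw [h6]
    obtain ⟨y, hy⟩ : ∃ y : Via (Pi.evalAlgHom R S i) ⊗[R] A, y = β i q := ⟨_, rfl⟩
    have hb' : IsGroupLikeElem (Via (Pi.evalAlgHom R S i)) y := by
      rw [hy]
      exact hβ i q
    rw [← hy]
    exact hb'.map
      (Groth.Agent.Helper6.MT.cancelBC R (Π i, S i) (Via (Pi.evalAlgHom R S i)) A).symm
  refine ⟨Module.Basis.mk hli hsp, fun q => ?_, ?_, fun q q' => ?_⟩
  · rw [Module.Basis.mk_apply]
    exact hgl q
  · rw [Module.Basis.mk_apply, ← sub_eq_zero]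
    apply prA_injective S
    intro j
    rw [map_sub, hpr, h1, map_one, sub_self]
  · rw [Module.Basis.mk_apply, Module.Basis.mk_apply, Module.Basis.mk_apply, ← sub_eq_zero]
    apply prA_injective S
    intro j
    rw [map_sub, map_mul, hpr, hpr, hpr, hmul, sub_self]

end PiSec

section Glue

variable {R : Type u} [CommRing R] {B : Type u} [CommRing B] [HopfAlgebra R B]
  {ι : Type u} [Fintype ι] [DecidableEq ι] (T : ι → Type u) [∀ i, CommRing (T i)]
  [∀ i, Algebra R (T i)]

omit [Fintype ι] [DecidableEq ι] in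
/-- members with non-isomorphic types do not meet -/
theorem subsingleton_of_not_equiv (Q : ι → Type u) [∀ i, CommGroup (Q i)]
    (h : ∀ i, GLGW (Q i) (T i) (T i ⊗[R] B)) (i j : ι)
    (hij : ¬ Nonempty (Q i ≃* Q j)) : Subsingleton (T i ⊗[R] T j) := by
  by_contra hcon
  rw [not_subsingleton_iff_nontrivial] at hcon
  obtain ⟨𝔪, h𝔪⟩ := Ideal.exists_maximal (T i ⊗[R] T j)
  let _ : Field ((T i ⊗[R] T j) ⧸ 𝔪) := Ideal.Quotient.field 𝔪
  have hi : GLGW (Q i) ((T i ⊗[R] T j) ⧸ 𝔪) (((T i ⊗[R] T j) ⧸ 𝔪) ⊗[R] B) :=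
    glgw_via ((Ideal.Quotient.mkₐ R 𝔪).comp
      (Algebra.TensorProduct.includeLeft : T i →ₐ[R] T i ⊗[R] T j)) (h i)
  have hj : GLGW (Q j) ((T i ⊗[R] T j) ⧸ 𝔪) (((T i ⊗[R] T j) ⧸ 𝔪) ⊗[R] B) :=
    glgw_via ((Ideal.Quotient.mkₐ R 𝔪).comp
      (Algebra.TensorProduct.includeRight : T j →ₐ[R] T i ⊗[R] T j)) (h j)
  exact hij (mulEquiv_of_glgw_field hi hj)

open scoped Classical in
/-- descent of the idempotent cutting out the members of a given type -/
theorem exists_idem [Module.FaithfullyFlat R (Π i, T i)] (Q : ι → Type u)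
    [∀ i, CommGroup (Q i)] (h : ∀ i, GLGW (Q i) (T i) (T i ⊗[R] B)) (i₀ : ι) :
    ∃ e : R, ∀ i, algebraMap R (T i) e =
      if Nonempty (Q i ≃* Q i₀) then (1 : T i) else 0 := by
  classical
  obtain ⟨x, hx⟩ : ∃ x : ∀ i, T i ⊗[R] R, ∀ i, x i =
      (if Nonempty (Q i ≃* Q i₀) then (1 : T i) else 0) ⊗ₜ[R] (1 : R) := ⟨_, fun _ => rfl⟩
  have hcompat : ∀ i j, dL R (T i) (T j) R (x i) = dR R (T i) (T j) R (x j) := by
    intro i j
    rw [hx i, hx j, dL_tmul, dR_tmul]
    by_cases hi : Nonempty (Q i ≃* Q i₀)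
    · by_cases hj : Nonempty (Q j ≃* Q i₀)
      · rw [if_pos hi, if_pos hj]
      · have hij : ¬ Nonempty (Q i ≃* Q j) := by
          rintro ⟨e⟩
          obtain ⟨e'⟩ := hi
          exact hj ⟨e.symm.trans e'⟩
        have := subsingleton_of_not_equiv T Q h i j hij
        have : Subsingleton ((T i ⊗[R] T j) ⊗[R] R) := Module.subsingleton (T i ⊗[R] T j) _
        exact Subsingleton.elim _ _
    · by_cases hj : Nonempty (Q j ≃* Q i₀)
      · have hij : ¬ Nonempty (Q i ≃* Q j) := by
          rintro ⟨e⟩
          obtain ⟨e'⟩ := hj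
          exact hi ⟨e.trans e'⟩
        have := subsingleton_of_not_equiv T Q h i j hij
        have : Subsingleton ((T i ⊗[R] T j) ⊗[R] R) := Module.subsingleton (T i ⊗[R] T j) _
        exact Subsingleton.elim _ _
      · rw [if_neg hi, if_neg hj, TensorProduct.zero_tmul, TensorProduct.tmul_zero]
  obtain ⟨e, he⟩ := desc_family R T R x hcompat
  refine ⟨e, fun i => ?_⟩
  have h1 := congrArg (TensorProduct.rid R (T i)) (he i)
  rw [hx i, TensorProduct.rid_tmul, TensorProduct.rid_tmul, one_smul] at h1
  rw [Algebra.algebraMap_eq_smul_one]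
  exact h1

end Glue

section Main

variable {R : Type u} [CommRing R] {B : Type u} [CommRing B] [HopfAlgebra R B]

/-- gluing: diagonalisable over a finite faithfully flat family implies of multiplicative type -/
theorem isMultType_of_cover {ι : Type u} [Fintype ι] [DecidableEq ι] (T : ι → Type u)
    [∀ i, CommRing (T i)] [∀ i, Algebra R (T i)] [Module.FaithfullyFlat R (Π i, T i)]
    (hd : ∀ i, IsDiag (T i) (T i ⊗[R] B)) : IsMultType R B := by
  classical
  choose Q iQ h using fun i => exists_glgw_of_isDiag (hd i)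
  choose e he using fun i₀ => exists_idem T Q h i₀
  refine ⟨Set.range e, ?_, ?_⟩
  · by_contra hne
    obtain ⟨m, hm, hle⟩ := Ideal.exists_le_maximal _ hne
    obtain ⟨i, hi⟩ := exists_of_pi_ff T m hm
    apply hi
    rw [eq_top_iff]
    intro t _
    have h1 : e i • t = t := by
      rw [Algebra.smul_def, he i i,
        if_pos (⟨MulEquiv.refl (Q i)⟩ : Nonempty (Q i ≃* Q i)), one_mul]
    rw [← h1]
    exact Submodule.smul_mem_smul (hle (Ideal.subset_span ⟨i, rfl⟩)) Submodule.mem_top
  · rintro f ⟨i₀, rfl⟩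
    have hff : Module.FaithfullyFlat (Localization.Away (e i₀))
        (Π i, Localization.Away (e i₀) ⊗[R] T i) := cover_bc_ff (R := R) _ T
    have hS : ∀ i, GLGW (Q i₀) (Localization.Away (e i₀) ⊗[R] T i)
        ((Localization.Away (e i₀) ⊗[R] T i) ⊗[R] B) := by
      intro i
      by_cases hi : Nonempty (Q i ≃* Q i₀)
      · obtain ⟨eq⟩ := hi
        exact glgw_congr_group eq (glgw_via (Algebra.TensorProduct.includeRight :
          T i →ₐ[R] Localization.Away (e i₀) ⊗[R] T i) (h i))
      · have h0 : algebraMap R (T i) (e i₀) = 0 := by rw [he i₀ i, if_neg hi]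
        have h1 : (1 : Localization.Away (e i₀) ⊗[R] T i) = 0 := by
          have hu : algebraMap R (Localization.Away (e i₀)) (e i₀) *
              IsLocalization.Away.invSelf (e i₀) = 1 :=
            IsLocalization.Away.mul_invSelf (e i₀)
          rw [Algebra.TensorProduct.one_def, ← hu, Algebra.algebraMap_eq_smul_one, smul_mul_assoc,
            one_mul, TensorProduct.smul_tmul, ← Algebra.algebraMap_eq_smul_one, h0,
            TensorProduct.tmul_zero]
        have : Subsingleton (Localization.Away (e i₀) ⊗[R] T i) :=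
          subsingleton_of_zero_eq_one h1.symm
        exact glgw_of_subsingleton
    have hP := glgw_pi (R := R) (A := B) (fun i => Localization.Away (e i₀) ⊗[R] T i) (Q i₀) hS
    refine ⟨Π i, Localization.Away (e i₀) ⊗[R] T i, inferInstance, inferInstance, hff, ?_⟩
    exact isDiag_congr (Groth.Agent.Helper6.MT.cancelBC R (Localization.Away (e i₀))
      (Π i, Localization.Away (e i₀) ⊗[R] T i) B).symm (isDiag_of_glgw hP)

end Main

end Groth.Agent.Helper25.KerMT2
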