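import Mathlib
import Groth.Prelude.Def_SGA3b
import Groth.Agent.Lib.Helper22.MultType2

/-!
# Helper25: closed subgroups of multiplicative type of a diagonalisable group over a connected base

Flat base change of annihilators, the locus where a group-like element of a Hopf algebra of
multiplicative type equals `1` is open and closed, linear independence of distinct group-like
elements over a connected base, and the main theorem.
-/

set_option autoImplicit false
universe u

namespace Groth.Agent.Helper25.DiagSub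

open TensorProduct SGA3b Groth.Agent.Helper22.MultType

section Ann

/-- annihilator ideal of an element -/
abbrev ann (R : Type*) [CommRing R] {X : Type*} [AddCommGroup X] [Module R X] (x : X) : Ideal R :=
  LinearMap.ker (LinearMap.toSpanSingleton R X x)

theorem mem_ann {R : Type*} [CommRing R] {X : Type*} [AddCommGroup X] [Module R X] {x : X}
    {r : R} : r ∈ ann R x ↔ r • x = 0 := by
  rw [LinearMap.mem_ker, LinearMap.toSpanSingleton_apply]

theorem mem_map_of_tmul_eq_zero {R : Type*} [CommRing R] (S : Type*) [CommRing S] [Algebra R S]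
    [Module.Flat R S] {X : Type*} [AddCommGroup X] [Module R X] (x : X) (t : S)
    (h : t ⊗ₜ[R] x = 0) : t ∈ Ideal.map (algebraMap R S) (ann R x) := by
  have hex : Function.Exact (ann R x).subtype (LinearMap.toSpanSingleton R X x) :=
    LinearMap.exact_subtype_ker_map _
  have hex2 := Module.Flat.lTensor_exact S hex
  have h1 : (LinearMap.toSpanSingleton R X x).lTensor S (t ⊗ₜ[R] (1 : R)) = 0 := by
    rw [LinearMap.lTensor_tmul, LinearMap.toSpanSingleton_apply, one_smul, h]
  obtain ⟨y, hy⟩ := (hex2 _).mp h1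
  have key : ∀ y : S ⊗[R] (ann R x),
      TensorProduct.rid R S ((ann R x).subtype.lTensor S y) ∈
        Ideal.map (algebraMap R S) (ann R x) := by
    intro y
    induction y using TensorProduct.induction_on with
    | zero =>
      rw [map_zero, map_zero]
      exact Ideal.zero_mem _
    | tmul a k =>
      rw [LinearMap.lTensor_tmul, TensorProduct.rid_tmul, Submodule.subtype_apply,
        Algebra.smul_def]
      exact Ideal.mul_mem_right _ _ (Ideal.mem_map_of_mem _ k.2)
    | add y z hy hz =>
      rw [map_add, map_add]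
      exact Ideal.add_mem _ hy hz
  have h2 := key y
  rw [hy, TensorProduct.rid_tmul, one_smul] at h2
  exact h2

theorem mem_map_iota_of_smul_eq_zero {R : Type u} [CommRing R] {X : Type u} [AddCommGroup X]
    [Module R X] (f : R) (R' : Type u) [CommRing R'] [Algebra (Localization.Away f) R']
    [Module.Flat (Localization.Away f) R'] (x : X) (t : R')
    (h : t • ((1 : R') ⊗ₜ[Localization.Away f] ((1 : Localization.Away f) ⊗ₜ[R] x)) = 0) :
    t ∈ Ideal.map (iota f R') (ann R x) := by
  have : Module.Flat R (Localization.Away f) := IsLocalization.flat _ (Submonoid.powers f)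
  have h0 : t ⊗ₜ[Localization.Away f] ((1 : Localization.Away f) ⊗ₜ[R] x) = 0 := by
    rw [← h, TensorProduct.smul_tmul', smul_eq_mul, mul_one]
  have h1 := mem_map_of_tmul_eq_zero R' ((1 : Localization.Away f) ⊗ₜ[R] x) t h0
  have h2 : ann (Localization.Away f) ((1 : Localization.Away f) ⊗ₜ[R] x) ≤
      Ideal.map (algebraMap R (Localization.Away f)) (ann R x) := by
    intro w hw
    rw [mem_ann, TensorProduct.smul_tmul', smul_eq_mul, mul_one] at hw
    exact mem_map_of_tmul_eq_zero (Localization.Away f) x w hw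
  have h3 := Ideal.map_mono (f := algebraMap (Localization.Away f) R') h2 h1
  rw [Ideal.map_map] at h3
  exact h3

theorem eq_zero_of_forall_pow_mul {R : Type*} [CommRing R] (s : Set R) (hs : Ideal.span s = ⊤)
    (r : R) (h : ∀ f ∈ s, ∃ n : ℕ, f ^ n * r = 0) : r = 0 := by
  by_contra hne
  have hN : ann R r ≠ ⊤ := by
    intro htop
    have h1 : (1 : R) ∈ ann R r := htop ▸ Submodule.mem_top
    rw [mem_ann, one_smul] at h1
    exact hne h1
  obtain ⟨m, hm, hNm⟩ := Ideal.exists_le_maximal _ hN
  have hnot : ¬ (s ⊆ (m : Set R)) := by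
    intro hsm
    have h1 : Ideal.span s ≤ m := Ideal.span_le.mpr hsm
    rw [hs] at h1
    exact hm.ne_top (top_le_iff.mp h1)
  obtain ⟨f, hfs, hfm⟩ := Set.not_subset.mp hnot
  obtain ⟨n, hn⟩ := h f hfs
  have h5 : f ^ n ∈ m := hNm (by rw [mem_ann, smul_eq_mul]; exact hn)
  exact hfm (hm.isPrime.mem_of_pow_mem n h5)

theorem eq_zero_of_iota_eq_zero {R : Type u} [CommRing R] (s : Set R) (hs : Ideal.span s = ⊤)
    (r : R)
    (h : ∀ f ∈ s, ∃ (R' : Type u) (_ : CommRing R') (_ : Algebra (Localization.Away f) R'),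
      Module.FaithfullyFlat (Localization.Away f) R' ∧ iota f R' r = 0) : r = 0 := by
  apply eq_zero_of_forall_pow_mul s hs
  intro f hf
  obtain ⟨R', _, _, hff, h0⟩ := h f hf
  have h1 : algebraMap R (Localization.Away f) r = 0 := by
    apply FaithfulSMul.algebraMap_injective (Localization.Away f) R'
    rw [map_zero]
    exact h0
  obtain ⟨⟨_, n, rfl⟩, hc⟩ :=
    (IsLocalization.map_eq_zero_iff (Submonoid.powers f) (Localization.Away f) r).mp h1
  exact ⟨n, hc⟩

end Ann

section Top

theorem isOpen_zeroLocus_of_cover {R : Type u} [CommRing R] (I : Ideal R) (s : Set R)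
    (hs : Ideal.span s = ⊤)
    (h : ∀ f ∈ s, ∃ (R' : Type u) (_ : CommRing R') (_ : Algebra (Localization.Away f) R'),
      Module.FaithfullyFlat (Localization.Away f) R' ∧ ∃ a : R', IsIdempotentElem a ∧
        Ideal.map (iota f R') I = Ideal.span {a}) :
    IsOpen (PrimeSpectrum.zeroLocus (I : Set R)) := by
  rw [isOpen_iff_mem_nhds]
  intro p hp
  have hnot : ¬ (s ⊆ (p.asIdeal : Set R)) := by
    intro hsm
    have h1 : Ideal.span s ≤ p.asIdeal := Ideal.span_le.mpr hsm
    rw [hs] at h1
    exact p.2.ne_top (top_le_iff.mp h1)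
  obtain ⟨f, hfs, hfp⟩ := Set.not_subset.mp hnot
  obtain ⟨R', _, _, hff, a, ha, hIa⟩ := h f hfs
  have hj : Topology.IsOpenEmbedding
      (PrimeSpectrum.comap (algebraMap R (Localization.Away f))) :=
    PrimeSpectrum.localization_away_isOpenEmbedding (Localization.Away f) f
  have hq : Topology.IsQuotientMap
      (PrimeSpectrum.comap (algebraMap (Localization.Away f) R')) :=
    PrimeSpectrum.isQuotientMap_of_generalizingMap
      PrimeSpectrum.comap_surjective_of_faithfullyFlat
      ((Algebra.HasGoingDown.iff_generalizingMap_primeSpectrumComap).mp inferInstance)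
  have hpre : PrimeSpectrum.comap (algebraMap (Localization.Away f) R') ⁻¹'
      (PrimeSpectrum.comap (algebraMap R (Localization.Away f)) ⁻¹'
        PrimeSpectrum.zeroLocus (I : Set R)) = PrimeSpectrum.zeroLocus {a} := by
    have h1 : PrimeSpectrum.comap (algebraMap (Localization.Away f) R') ⁻¹'
        (PrimeSpectrum.comap (algebraMap R (Localization.Away f)) ⁻¹'
          PrimeSpectrum.zeroLocus (I : Set R)) =
        PrimeSpectrum.comap (iota f R') ⁻¹' PrimeSpectrum.zeroLocus (I : Set R) := rfl
    rw [h1, PrimeSpectrum.preimage_comap_zeroLocus, ← PrimeSpectrum.zeroLocus_span]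
    show PrimeSpectrum.zeroLocus ((Ideal.map (iota f R') I : Ideal R') : Set R') = _
    rw [hIa, PrimeSpectrum.zeroLocus_span]
  have hopen1 : IsOpen (PrimeSpectrum.comap (algebraMap R (Localization.Away f)) ⁻¹'
        PrimeSpectrum.zeroLocus (I : Set R)) := by
    rw [← hq.isOpen_preimage, hpre, PrimeSpectrum.zeroLocus_eq_basicOpen_of_isIdempotentElem a ha]
    exact (PrimeSpectrum.basicOpen (1 - a)).2
  have hopen2 := hj.isOpenMap _ hopen1
  refine Filter.mem_of_superset (hopen2.mem_nhds ?_) (Set.image_preimage_subset _ _)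
  have hpr : p ∈ Set.range (PrimeSpectrum.comap (algebraMap R (Localization.Away f))) := by
    rw [PrimeSpectrum.localization_away_comap_range (Localization.Away f) f]
    exact hfp
  obtain ⟨p', rfl⟩ := hpr
  exact ⟨p', hp, rfl⟩

theorem eq_top_or_bot_of_cover {R : Type u} [CommRing R]
    (hconn : ∀ e : R, IsIdempotentElem e → e = 0 ∨ e = 1) (I : Ideal R) (s : Set R)
    (hs : Ideal.span s = ⊤)
    (h : ∀ f ∈ s, ∃ (R' : Type u) (_ : CommRing R') (_ : Algebra (Localization.Away f) R'),
      Module.FaithfullyFlat (Localization.Away f) R' ∧ ∃ a : R', IsIdempotentElem a ∧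
        Ideal.map (iota f R') I = Ideal.span {a}) :
    I = ⊤ ∨ I = ⊥ := by
  have hclopen : IsClopen (PrimeSpectrum.zeroLocus (I : Set R)) :=
    ⟨PrimeSpectrum.isClosed_zeroLocus _, isOpen_zeroLocus_of_cover I s hs h⟩
  obtain ⟨e, he, hZ⟩ := PrimeSpectrum.isClopen_iff_zeroLocus.mp hclopen
  rcases hconn e he with rfl | rfl
  · right
    have huniv : PrimeSpectrum.zeroLocus (I : Set R) = Set.univ := by
      rw [hZ, PrimeSpectrum.zeroLocus_singleton_zero]
    have hnil : (I : Set R) ⊆ nilradical R := (PrimeSpectrum.zeroLocus_eq_univ_iff _).mp huniv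
    rw [eq_bot_iff]
    intro r hr
    rw [Ideal.mem_bot]
    apply eq_zero_of_iota_eq_zero s hs
    intro f hf
    obtain ⟨R', i1, i2, hff, a, ha, hIa⟩ := h f hf
    refine ⟨R', i1, i2, hff, ?_⟩
    have hle : Ideal.map (iota f R') I ≤ nilradical R' := by
      rw [Ideal.map_le_iff_le_comap]
      intro r' hr'
      rw [Ideal.mem_comap, mem_nilradical]
      exact (mem_nilradical.mp (hnil hr')).map (iota f R')
    have ha0 : a = 0 := by
      have h1 : a ∈ Ideal.map (iota f R') I := by
        rw [hIa]
        exact Ideal.mem_span_singleton_self a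
      obtain ⟨n, hn⟩ := mem_nilradical.mp (hle h1)
      rw [← ha.pow_succ_eq n, pow_succ, hn, zero_mul]
    have h2 : iota f R' r ∈ Ideal.map (iota f R') I := Ideal.mem_map_of_mem _ hr
    rw [hIa, ha0, Ideal.span_singleton_eq_bot.mpr rfl] at h2
    exact Ideal.mem_bot.mp h2
  · left
    rw [← PrimeSpectrum.zeroLocus_empty_iff_eq_top, hZ, PrimeSpectrum.zeroLocus_singleton_one]

end Top

section GrpLike

variable {R' : Type*} [CommRing R'] {M : Type*} [Monoid M]

omit [Monoid M] in
theorem coeff_mul_coeff [DecidableEq M] {u : MonoidAlgebra R' M} (hu : IsGroupLikeElem R' u)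
    (m m' : M) : u.coeff m * u.coeff m' = if m = m' then u.coeff m else 0 := by
  have h := mul_pi_pi_comul (R := R') m m' u
  rw [hu.comul_eq_tmul_self, TensorProduct.map_tmul, LinearMap.mul'_apply] at h
  exact h

theorem coeff_one_idem {u : MonoidAlgebra R' M} (hu : IsGroupLikeElem R' u) :
    u.coeff 1 * u.coeff 1 = u.coeff 1 := by
  classical
  have h := coeff_mul_coeff hu 1 1
  rw [if_pos rfl] at h
  exact h

theorem smul_sub_one_eq_zero_iff {u : MonoidAlgebra R' M} (hu : IsGroupLikeElem R' u) (t : R') :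
    t • (u - 1) = 0 ↔ t * u.coeff 1 = t := by
  classical
  constructor
  · intro h
    have h1 := congrArg (pi (R := R') (1 : M)) h
    rw [map_smul, map_sub, MonoidAlgebra.one_def, pi_single, if_pos rfl, map_zero, smul_eq_mul,
      mul_sub, mul_one, sub_eq_zero] at h1
    exact h1
  · intro h
    have h2 : u.coeff 1 • (u - 1) = 0 := by
      apply MonoidAlgebra.ext
      ext m
      show pi (R := R') m (u.coeff 1 • (u - 1)) = pi (R := R') m 0
      rw [map_smul, map_sub, MonoidAlgebra.one_def, pi_single, map_zero, smul_eq_mul, mul_sub]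
      have hc := coeff_mul_coeff hu 1 m
      show u.coeff 1 * u.coeff m - _ = 0
      rw [hc]
      split_ifs <;> simp
    rw [← h, mul_smul, h2, smul_zero]

end GrpLike

section ThetaSec

variable {R : Type u} [CommRing R] {B : Type u} [CommRing B] [HopfAlgebra R B]
  (f : R) {R' : Type u} [CommRing R'] [Algebra (Localization.Away f) R'] {M : Type u} [CommGroup M]
  (e : (R' ⊗[Localization.Away f] (Localization.Away f ⊗[R] B)) ≃ₐc[R'] MonoidAlgebra R' M)

theorem isGroupLikeElem_one_tmul {R : Type*} [CommRing R] {K : Type*} [CommRing K] [Algebra R K]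
    {X : Type*} [CommRing X] [Bialgebra R X] {g : X} (hg : IsGroupLikeElem R g) :
    IsGroupLikeElem K ((1 : K) ⊗ₜ[R] g) where
  counit_eq_one := by
    rw [TensorProduct.counit_tmul, hg.counit_eq_one, one_smul]
    rfl
  comul_eq_tmul_self := by
    rw [TensorProduct.comul_tmul, hg.comul_eq_tmul_self]
    have h1 : Coalgebra.comul (R := K) (1 : K) = (1 : K) ⊗ₜ[K] (1 : K) := rfl
    rw [h1]
    simp

theorem Theta_one : Theta f e (1 : B) = 1 := by
  rw [Theta_apply]
  have h1 : ((1 : R') ⊗ₜ[Localization.Away f] ((1 : Localization.Away f) ⊗ₜ[R] (1 : B))) = 1 := rfl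
  rw [h1, map_one]

theorem isGroupLikeElem_Theta {g : B} (hg : IsGroupLikeElem R g) :
    IsGroupLikeElem R' (Theta f e g) := by
  rw [Theta_apply]
  exact (isGroupLikeElem_one_tmul (isGroupLikeElem_one_tmul hg)).map e

theorem smul_one_tmul_eq_zero {x : B} {t : R'} (h : t • Theta f e x = 0) :
    t • ((1 : R') ⊗ₜ[Localization.Away f] ((1 : Localization.Away f) ⊗ₜ[R] x)) = 0 := by
  apply EquivLike.injective e
  rw [map_smul, map_zero]
  exact h

theorem smul_Theta_sub_one {g : B} (hg : IsGroupLikeElem R g) :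
    (Theta f e g).coeff 1 • ((1 : R') ⊗ₜ[Localization.Away f]
      ((1 : Localization.Away f) ⊗ₜ[R] (g - 1))) = 0 := by
  have hu : IsGroupLikeElem R' (Theta f e g) := isGroupLikeElem_Theta f e hg
  apply smul_one_tmul_eq_zero f e
  rw [map_sub, Theta_one]
  exact (smul_sub_one_eq_zero_iff hu _).mpr (coeff_one_idem hu)

theorem ann_sub_one_eq_bot (hconn : ∀ e : R, IsIdempotentElem e → e = 0 ∨ e = 1)
    (hH : IsMultType R B) {g : B} (hg : IsGroupLikeElem R g) (hne : g ≠ 1) :
    ann R (g - 1) = ⊥ := by
  obtain ⟨s, hs, hsf⟩ := hH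
  have key := eq_top_or_bot_of_cover hconn (ann R (g - 1)) s hs ?_
  · rcases key with h | h
    · exfalso
      have h1 : (1 : R) ∈ ann R (g - 1) := h ▸ Submodule.mem_top
      rw [mem_ann, one_smul, sub_eq_zero] at h1
      exact hne h1
    · exact h
  · intro f hf
    obtain ⟨R', i1, i2, hff, M, i3, ⟨e⟩⟩ := hsf f hf
    have hu : IsGroupLikeElem R' (Theta f e g) := isGroupLikeElem_Theta f e hg
    refine ⟨R', i1, i2, hff, (Theta f e g).coeff 1, coeff_one_idem hu, ?_⟩
    apply le_antisymm
    · rw [Ideal.map_le_iff_le_comap]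
      intro r hr
      rw [Ideal.mem_comap, Ideal.mem_span_singleton']
      refine ⟨iota f R' r, ?_⟩
      rw [← smul_sub_one_eq_zero_iff hu (iota f R' r), ← Theta_one f e, ← map_sub, ← Theta_smul,
        mem_ann.mp hr, map_zero]
    · rw [Ideal.span_singleton_le_iff_mem]
      exact mem_map_iota_of_smul_eq_zero f R' (g - 1) _ (smul_Theta_sub_one f e hg)

theorem coeff_one_eq_zero [Module.Flat (Localization.Away f) R'] {g : B}
    (hg : IsGroupLikeElem R g) (hann : ann R (g - 1) = ⊥) : (Theta f e g).coeff 1 = 0 := by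
  have h1 := mem_map_iota_of_smul_eq_zero f R' (g - 1) _ (smul_Theta_sub_one f e hg)
  rw [hann, Ideal.map_bot] at h1
  exact Ideal.mem_bot.mp h1

end ThetaSec

section Main

theorem main (R : Type u) [CommRing R] (A : Type u) [CommRing A] [HopfAlgebra R A]
    (hconn : ∀ e : R, IsIdempotentElem e → e = 0 ∨ e = 1)
    (hG : IsDiagFT R A) (J : Ideal A) [J.IsHopfIdeal R] (hH : IsMultType R (A ⧸ J)) :
    IsDiag R (A ⧸ J) := by
  classical
  obtain ⟨M, iM, -, ⟨e0⟩⟩ := hG
  obtain ⟨φ, hφ⟩ : ∃ φ : MonoidAlgebra R M →ₐc[R] (A ⧸ J), Function.Surjective φ := by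
    refine ⟨(Bialgebra.Quotient.mkBialgHom J).comp (e0.symm : MonoidAlgebra R M →ₐc[R] A), ?_⟩
    intro b
    obtain ⟨a, rfl⟩ := Ideal.Quotient.mk_surjective b
    refine ⟨e0 a, ?_⟩
    show Ideal.Quotient.mk J (e0.symm (e0 a)) = _
    rw [e0.symm_apply_apply]
  obtain ⟨γ₀, hγ₀⟩ : ∃ γ₀ : M →* GroupLike R (A ⧸ J),
      ∀ m, (γ₀ m).val = φ (MonoidAlgebra.single m 1) :=
    ⟨{ toFun := fun m => ⟨φ (MonoidAlgebra.single m 1),
          (MonoidAlgebra.isGroupLikeElem_single_one (R := R) (A := R) m).map φ⟩
       map_one' := GroupLike.val_injective (by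
          show φ (MonoidAlgebra.single 1 1) = 1
          rw [← MonoidAlgebra.one_def, map_one])
       map_mul' := fun a b => GroupLike.val_injective (by
          show φ (MonoidAlgebra.single (a * b) 1) =
            φ (MonoidAlgebra.single a 1) * φ (MonoidAlgebra.single b 1)
          rw [← map_mul, MonoidAlgebra.single_mul_single, one_mul]) }, fun m => rfl⟩
  obtain ⟨Ψ, hΨ⟩ : ∃ Ψ : MonoidAlgebra R (M ⧸ γ₀.ker) →ₐc[R] (A ⧸ J),
      ∀ (q : M ⧸ γ₀.ker) (r : R),
        Ψ (MonoidAlgebra.single q r) = r • (QuotientGroup.kerLift γ₀ q).val := by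
    refine ⟨(MonoidAlgebra.liftGroupLikeBialgHom :
        MonoidAlgebra R (GroupLike R (A ⧸ J)) →ₐc[R] (A ⧸ J)).comp
        (MonoidAlgebra.mapDomainBialgHom R (QuotientGroup.kerLift γ₀)), ?_⟩
    intro q r
    rw [BialgHom.comp_apply, MonoidAlgebra.mapDomainBialgHom_single]
    simp [MonoidAlgebra.liftGroupLikeBialgHom, MonoidAlgebra.lift_single]
  have hsurj : Function.Surjective Ψ := by
    intro b
    obtain ⟨x, rfl⟩ := hφ b
    refine ⟨MonoidAlgebra.mapDomainBialgHom R (QuotientGroup.mk' γ₀.ker) x, ?_⟩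
    induction x using MonoidAlgebra.induction_linear with
    | zero => rw [map_zero, map_zero, map_zero]
    | add x y hx hy => rw [map_add, map_add, map_add, hx, hy]
    | single m r =>
      rw [MonoidAlgebra.mapDomainBialgHom_single, hΨ, QuotientGroup.mk'_apply,
        QuotientGroup.kerLift_mk, hγ₀, ← map_smul, MonoidAlgebra.smul_single, smul_eq_mul,
        mul_one]
  have hH' := hH
  have hC1 : ∀ y : MonoidAlgebra R (M ⧸ γ₀.ker), Ψ y = 0 → y.coeff 1 = 0 := by
    intro y hy
    obtain ⟨s, hs, hsf⟩ := hH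
    apply eq_zero_of_iota_eq_zero s hs
    intro f hf
    obtain ⟨R', i1, i2, hff, M'', i3, ⟨e⟩⟩ := hsf f hf
    refine ⟨R', i1, i2, hff, ?_⟩
    have hgen : ∀ z : MonoidAlgebra R (M ⧸ γ₀.ker),
        (Theta f e (Ψ z)).coeff 1 = iota f R' (z.coeff 1) := by
      intro z
      induction z using MonoidAlgebra.induction_linear with
      | zero =>
        rw [map_zero, map_zero]
        simp
      | add x y hx hy =>
        rw [map_add, map_add, MonoidAlgebra.coeff_add, Finsupp.add_apply, hx, hy,
          MonoidAlgebra.coeff_add, Finsupp.add_apply, map_add]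
      | single q r =>
        rw [hΨ, Theta_smul, MonoidAlgebra.coeff_smul, Finsupp.smul_apply, smul_eq_mul,
          MonoidAlgebra.coeff_single, Finsupp.single_apply]
        by_cases hq : q = 1
        · subst hq
          have h1 : (QuotientGroup.kerLift γ₀ (1 : M ⧸ γ₀.ker)).val = 1 := by
            rw [map_one (QuotientGroup.kerLift γ₀)]
            rfl
          rw [if_pos rfl, h1, Theta_one, MonoidAlgebra.coeff_one_one, mul_one]
        · rw [if_neg hq, map_zero]
          have hne : (QuotientGroup.kerLift γ₀ q).val ≠ 1 := by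
            intro h1
            apply hq
            apply QuotientGroup.kerLift_injective γ₀
            rw [map_one]
            exact GroupLike.val_injective h1
          have hann := ann_sub_one_eq_bot hconn hH' (QuotientGroup.kerLift γ₀ q).2 hne
          rw [coeff_one_eq_zero f e (QuotientGroup.kerLift γ₀ q).2 hann, mul_zero]
    rw [← hgen, hy, map_zero, MonoidAlgebra.coeff_zero, Finsupp.zero_apply]
  have hinj : Function.Injective Ψ := by
    rw [injective_iff_map_eq_zero]
    intro x hx
    apply MonoidAlgebra.ext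
    ext q
    have h1 := hC1 (MonoidAlgebra.single q⁻¹ 1 * x) (by rw [map_mul, hx, mul_zero])
    rw [MonoidAlgebra.coeff_single_mul_apply, inv_inv, mul_one, one_mul] at h1
    rw [h1, MonoidAlgebra.coeff_zero, Finsupp.zero_apply]
  exact ⟨M ⧸ γ₀.ker, inferInstance, ⟨(BialgEquiv.ofBijective Ψ ⟨hinj, hsurj⟩).symm⟩⟩

end Main

end Groth.Agent.Helper25.DiagSub
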