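import Mathlib
import Groth.Prelude.Def_SGA3b
import Groth.Agent.Lib.Helper22.MultType2
import Groth.Agent.Lib.Helper25.DiagSub

/-!
# Helper25: a monomorphism from a group of multiplicative type to an affine group is a closed
immersion (Hopf-algebra form)
-/

set_option autoImplicit false
universe u

namespace Groth.Agent.Helper25.MonoClosed

open TensorProduct SGA3b Groth.Agent.Helper22.MultType Groth.Agent.Helper25.DiagSub

section Antipode

open WithConv

variable {k : Type*} [CommRing k] {A : Type*} {B : Type*} [CommRing A] [CommRing B]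
  [HopfAlgebra k A] [HopfAlgebra k B]

/-- Bialgebra maps between commutative Hopf algebras commute with the antipodes. -/
theorem antipodeAlgHom_comp (f : A →ₐc[k] B) :
    (HopfAlgebra.antipodeAlgHom k B).comp (f : A →ₐ[k] B) =
      (f : A →ₐ[k] B).comp (HopfAlgebra.antipodeAlgHom k A) := by
  have h1 : toConv ((HopfAlgebra.antipodeAlgHom k B).comp (f : A →ₐ[k] B)) *
      toConv (f : A →ₐ[k] B) = 1 := by
    have h := AlgHom.convMul_comp_bialgHom_distrib
      (toConv (HopfAlgebra.antipodeAlgHom k B)) (toConv (AlgHom.id k B)) f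
    rw [AlgHom.antipode_id_cancel] at h
    have h' : toConv ((HopfAlgebra.antipodeAlgHom k B).comp (f : A →ₐ[k] B)) *
        toConv (f : A →ₐ[k] B) =
        toConv (AlgHom.comp (1 : WithConv (B →ₐ[k] B)).ofConv (f : A →ₐ[k] B)) := by
      rw [h]; rfl
    rw [h']
    apply WithConv.ofConv_injective
    ext a
    change algebraMap k B (Coalgebra.counit (f a)) = algebraMap k B (Coalgebra.counit a)
    rw [CoalgHomClass.counit_comp_apply]
  have h2 : toConv ((HopfAlgebra.antipodeAlgHom k B).comp (f : A →ₐ[k] B)) =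
      (toConv (f : A →ₐ[k] B))⁻¹ := eq_inv_of_mul_eq_one_left h1
  have h3 : (toConv (f : A →ₐ[k] B))⁻¹ =
      toConv ((f : A →ₐ[k] B).comp (HopfAlgebra.antipodeAlgHom k A)) := rfl
  exact WithConv.toConv_injective (h2.trans h3)

theorem antipode_map (f : A →ₐc[k] B) (a : A) :
    HopfAlgebraStruct.antipode k (f a) = f (HopfAlgebraStruct.antipode k a) :=
  DFunLike.congr_fun (antipodeAlgHom_comp f) a

end Antipode

section ZeroTest

theorem module_eq_zero_of_cover {R : Type u} [CommRing R] {N : Type u} [AddCommGroup N]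
    [Module R N] (s : Set R) (hs : Ideal.span s = ⊤) (n : N)
    (h : ∀ f ∈ s, ∃ (R' : Type u) (_ : CommRing R') (_ : Algebra (Localization.Away f) R'),
      Module.FaithfullyFlat (Localization.Away f) R' ∧
        (1 : R') ⊗ₜ[Localization.Away f] ((1 : Localization.Away f) ⊗ₜ[R] n) = 0) : n = 0 := by
  by_contra hne
  have hN : ann R n ≠ ⊤ := by
    intro htop
    have h1 : (1 : R) ∈ ann R n := htop ▸ Submodule.mem_top
    rw [mem_ann, one_smul] at h1
    exact hne h1
  obtain ⟨m, hm, hNm⟩ := Ideal.exists_le_maximal _ hN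
  have hnot : ¬ (s ⊆ (m : Set R)) := by
    intro hsm
    have h1 : Ideal.span s ≤ m := Ideal.span_le.mpr hsm
    rw [hs] at h1
    exact hm.ne_top (top_le_iff.mp h1)
  obtain ⟨f, hfs, hfm⟩ := Set.not_subset.mp hnot
  obtain ⟨R', _, _, hff, h2⟩ := h f hfs
  have h3 : (1 : Localization.Away f) ⊗ₜ[R] n = 0 := by
    apply Module.FaithfullyFlat.tensorProduct_mk_injective (A := Localization.Away f) (B := R')
      (Localization.Away f ⊗[R] N)
    rw [TensorProduct.mk_apply, map_zero]
    exact h2
  obtain ⟨⟨_, k, rfl⟩, hc⟩ := (IsLocalizedModule.eq_zero_iff (Submonoid.powers f)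
    (TensorProduct.mk R (Localization.Away f) N 1)).mp h3
  have h5 : f ^ k ∈ m := hNm (by rw [mem_ann]; exact hc)
  exact hfm (hm.isPrime.mem_of_pow_mem k h5)

end ZeroTest

section Graded

variable {R' : Type*} [CommRing R'] {M : Type*} [Monoid M]

/-- `y ⊗ y' ↦ (coefficient of y' at m) • y` -/
noncomputable def Em (m : M) :
    MonoidAlgebra R' M ⊗[R'] MonoidAlgebra R' M →ₗ[R'] MonoidAlgebra R' M :=
  (TensorProduct.rid R' (MonoidAlgebra R' M)).toLinearMap ∘ₗ
    LinearMap.lTensor (MonoidAlgebra R' M) (pi m)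

theorem Em_tmul (m : M) (y y' : MonoidAlgebra R' M) : Em m (y ⊗ₜ[R'] y') = (y'.coeff m) • y := by
  rw [Em, LinearMap.comp_apply, LinearMap.lTensor_tmul, LinearEquiv.coe_coe,
    TensorProduct.rid_tmul]
  rfl

theorem Em_comul (m : M) (y : MonoidAlgebra R' M) :
    Em m (Coalgebra.comul (R := R') y) = MonoidAlgebra.single m (y.coeff m) := by
  classical
  induction y using MonoidAlgebra.induction_linear with
  | zero => simp
  | add x y hx hy =>
    rw [map_add, map_add, hx, hy, MonoidAlgebra.coeff_add, Finsupp.add_apply,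
      MonoidAlgebra.single_add]
  | single k a =>
    rw [MonoidAlgebra.comul_single, CommSemiring.comul_apply, TensorProduct.map_tmul,
      MonoidAlgebra.lsingle_apply, MonoidAlgebra.lsingle_apply, Em_tmul,
      MonoidAlgebra.coeff_single, Finsupp.single_apply]
    by_cases hk : k = m
    · subst hk
      rw [if_pos rfl, MonoidAlgebra.smul_single, smul_eq_mul, mul_one]
    · rw [if_neg hk, zero_smul, MonoidAlgebra.single_zero]

theorem single_coeff_mem_range {C' : Type*} [Semiring C'] [Bialgebra R' C']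
    (ψ : C' →ₐc[R'] MonoidAlgebra R' M) (z : C') (m : M) :
    ∃ z', ψ z' = MonoidAlgebra.single m ((ψ z).coeff m) := by
  have key : ∀ t : C' ⊗[R'] C', ∃ z', ψ z' =
      Em m (TensorProduct.map (ψ : C' →ₗ[R'] MonoidAlgebra R' M)
        (ψ : C' →ₗ[R'] MonoidAlgebra R' M) t) := by
    intro t
    induction t using TensorProduct.induction_on with
    | zero => exact ⟨0, by rw [map_zero, map_zero, map_zero]⟩
    | tmul c c' =>
      refine ⟨((ψ c').coeff m) • c, ?_⟩
      rw [TensorProduct.map_tmul, Em_tmul, map_smul]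
      rfl
    | add x y hx hy =>
      obtain ⟨a, ha⟩ := hx
      obtain ⟨b, hb⟩ := hy
      exact ⟨a + b, by rw [map_add, map_add, map_add, ha, hb]⟩
  obtain ⟨z', hz'⟩ := key (Coalgebra.comul (R := R') z)
  refine ⟨z', ?_⟩
  rw [hz', CoalgHomClass.map_comp_comul_apply, Em_comul]

omit [Monoid M] in
theorem mem_of_forall_single (S : Submodule R' (MonoidAlgebra R' M)) (w : MonoidAlgebra R' M)
    (h : ∀ m, MonoidAlgebra.single m (w.coeff m) ∈ S) : w ∈ S := by
  have hw : w = ∑ m ∈ w.coeff.support, MonoidAlgebra.single m (w.coeff m) := by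
    rw [← Finsupp.sum]
    exact (MonoidAlgebra.sum_coeff_single w).symm
  rw [hw]
  exact Submodule.sum_mem _ (fun m _ => h m)

theorem range_inv_closed {R' : Type*} [CommRing R'] {G : Type*} [CommGroup G] {C' : Type*}
    [CommRing C'] [HopfAlgebra R' C'] (ψ : C' →ₐc[R'] MonoidAlgebra R' G) (m : G) (r : R')
    (h : ∃ z, ψ z = MonoidAlgebra.single m r) : ∃ z, ψ z = MonoidAlgebra.single m⁻¹ r := by
  obtain ⟨z, hz⟩ := h
  refine ⟨HopfAlgebraStruct.antipode R' z, ?_⟩
  rw [← antipode_map, hz, MonoidAlgebra.antipode_single]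
  rfl

end Graded

section Psi

variable {R : Type u} [CommRing R] {A : Type u} [CommRing A] [HopfAlgebra R A]
  {C : Type u} [CommRing C] [HopfAlgebra R C]
  (f : R) {R' : Type u} [CommRing R'] [Algebra (Localization.Away f) R'] {M : Type u} [CommGroup M]
  (e : (R' ⊗[Localization.Away f] (Localization.Away f ⊗[R] A)) ≃ₐc[R'] MonoidAlgebra R' M)

/-- double base change of a bialgebra map -/
noncomputable def phi2 (R' : Type u) [CommRing R'] [Algebra (Localization.Away f) R']
    (φ : C →ₐc[R] A) :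
    (R' ⊗[Localization.Away f] (Localization.Away f ⊗[R] C)) →ₐc[R']
      (R' ⊗[Localization.Away f] (Localization.Away f ⊗[R] A)) :=
  Bialgebra.TensorProduct.map (BialgHom.id R' R')
    (Bialgebra.TensorProduct.map (BialgHom.id (Localization.Away f) (Localization.Away f)) φ)

theorem phi2_tmul (φ : C →ₐc[R] A) (r' : R') (rf : Localization.Away f) (c : C) :
    phi2 f R' φ (r' ⊗ₜ[Localization.Away f] (rf ⊗ₜ[R] c)) =
      r' ⊗ₜ[Localization.Away f] (rf ⊗ₜ[R] φ c) := rfl

/-- the double base change followed by the diagonalisation -/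
noncomputable def psiB (φ : C →ₐc[R] A) :
    (R' ⊗[Localization.Away f] (Localization.Away f ⊗[R] C)) →ₐc[R'] MonoidAlgebra R' M :=
  (e : _ →ₐc[R'] MonoidAlgebra R' M).comp (phi2 f R' φ)

theorem psiB_apply (φ : C →ₐc[R] A)
    (z : R' ⊗[Localization.Away f] (Localization.Away f ⊗[R] C)) :
    psiB f e φ z = e (phi2 f R' φ z) := rfl

theorem psiB_one_tmul (φ : C →ₐc[R] A) (c : C) :
    psiB f e φ ((1 : R') ⊗ₜ[Localization.Away f] ((1 : Localization.Away f) ⊗ₜ[R] c)) =
      Theta f e (φ c) := rfl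

theorem baseChange_mkQ_phi2 (φ : C →ₐc[R] A)
    (z : R' ⊗[Localization.Away f] (Localization.Away f ⊗[R] C)) :
    (((LinearMap.range (φ : C →ₗ[R] A)).mkQ.baseChange (Localization.Away f)).baseChange R')
      (phi2 f R' φ z) = 0 := by
  induction z using TensorProduct.induction_on with
  | zero => rw [map_zero, map_zero]
  | add x y hx hy => rw [map_add, map_add, hx, hy, add_zero]
  | tmul r' w =>
    induction w using TensorProduct.induction_on with
    | zero => rw [TensorProduct.tmul_zero, map_zero, map_zero]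
    | add x y hx hy => rw [TensorProduct.tmul_add, map_add, map_add, hx, hy, add_zero]
    | tmul rf c =>
      rw [phi2_tmul, LinearMap.baseChange_tmul, LinearMap.baseChange_tmul]
      have h0 : (LinearMap.range (φ : C →ₗ[R] A)).mkQ (φ c) = 0 := by
        rw [Submodule.mkQ_apply, Submodule.Quotient.mk_eq_zero]
        exact ⟨c, rfl⟩
      rw [h0, TensorProduct.tmul_zero, TensorProduct.tmul_zero]

theorem Theta_mul (a b : A) : Theta f e (a * b) = Theta f e a * Theta f e b := by
  rw [Theta_apply, Theta_apply, Theta_apply, ← map_mul, Algebra.TensorProduct.tmul_mul_tmul,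
    Algebra.TensorProduct.tmul_mul_tmul, one_mul, one_mul]

/-- a `T`-valued point of the diagonalised group gives a `T`-valued point of `Spec A` -/
noncomputable def ptOf {T : Type u} [CommRing T] [Algebra R T] [Algebra R' T]
    (hcompat : ∀ r : R, algebraMap R T r = algebraMap R' T (iota f R' r))
    (X : MonoidAlgebra R' M →ₐ[R'] T) : A →ₐ[R] T where
  toFun a := X (Theta f e a)
  map_one' := by rw [Theta_one, map_one]
  map_mul' a b := by rw [Theta_mul, map_mul]
  map_zero' := by rw [map_zero, map_zero]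
  map_add' a b := by rw [map_add, map_add]
  commutes' r := by
    rw [Theta_algebraMap, hcompat, ← AlgHom.commutes X (iota f R' r)]
    congr 1

theorem ptOf_apply {T : Type u} [CommRing T] [Algebra R T] [Algebra R' T]
    (hcompat : ∀ r : R, algebraMap R T r = algebraMap R' T (iota f R' r))
    (X : MonoidAlgebra R' M →ₐ[R'] T) (a : A) : ptOf f e hcompat X a = X (Theta f e a) := rfl

theorem eq_of_eqOn_range (φ : C →ₐc[R] A)
    (hmono : ∀ (T : Type u) [CommRing T] [Algebra R T],
      Function.Injective (fun x : A →ₐ[R] T => x.comp (φ : C →ₐ[R] A)))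
    {T : Type u} [CommRing T] [Algebra R T] [Algebra R' T]
    (hcompat : ∀ r : R, algebraMap R T r = algebraMap R' T (iota f R' r))
    (X Y : MonoidAlgebra R' M →ₐ[R'] T)
    (hXY : ∀ z, X (psiB f e φ z) = Y (psiB f e φ z)) (w : MonoidAlgebra R' M) : X w = Y w := by
  have hxy : ptOf f e hcompat X = ptOf f e hcompat Y := by
    apply hmono T
    show (ptOf f e hcompat X).comp (φ : C →ₐ[R] A) = (ptOf f e hcompat Y).comp (φ : C →ₐ[R] A)
    apply AlgHom.ext
    intro c
    show X (Theta f e (φ c)) = Y (Theta f e (φ c))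
    rw [← psiB_one_tmul]
    exact hXY _
  have hA : ∀ a : A, X (Theta f e a) = Y (Theta f e a) := fun a => DFunLike.congr_fun hxy a
  have hz : ∀ z : R' ⊗[Localization.Away f] (Localization.Away f ⊗[R] A),
      X (e z) = Y (e z) := by
    intro z
    induction z using TensorProduct.induction_on with
    | zero => rw [map_zero, map_zero, map_zero]
    | add x y hx hy => rw [map_add, map_add, map_add, hx, hy]
    | tmul r' w' =>
      induction w' using TensorProduct.induction_on with
      | zero => rw [TensorProduct.tmul_zero, map_zero, map_zero, map_zero]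
      | add x y hx hy => rw [TensorProduct.tmul_add, map_add, map_add, map_add, hx, hy]
      | tmul rf a =>
        have h1 : r' ⊗ₜ[Localization.Away f] (rf ⊗ₜ[R] a) =
            (r' * algebraMap (Localization.Away f) R' rf) •
              ((1 : R') ⊗ₜ[Localization.Away f] ((1 : Localization.Away f) ⊗ₜ[R] a)) := by
          rw [TensorProduct.smul_tmul', smul_eq_mul, mul_one]
          have h2 : rf ⊗ₜ[R] a = rf • ((1 : Localization.Away f) ⊗ₜ[R] a) := by
            rw [TensorProduct.smul_tmul', smul_eq_mul, mul_one]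
          rw [h2, TensorProduct.tmul_smul, TensorProduct.smul_tmul', Algebra.smul_def, mul_comm]
        rw [h1, map_smul, map_smul, map_smul]
        exact congrArg _ (hA a)
  have h3 := hz (e.symm w)
  rwa [e.apply_symm_apply] at h3

theorem psiB_surjective (φ : C →ₐc[R] A)
    (hmono : ∀ (T : Type u) [CommRing T] [Algebra R T],
      Function.Injective (fun x : A →ₐ[R] T => x.comp (φ : C →ₐ[R] A))) :
    Function.Surjective (psiB f e φ) := by
  classical
  by_contra hns
  have hgr : ∀ w, (∃ z, psiB f e φ z = w) →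
      ∀ m, ∃ z, psiB f e φ z = MonoidAlgebra.single m (w.coeff m) := by
    rintro w ⟨z, rfl⟩ m
    exact single_coeff_mem_range (R' := R') (M := M) (psiB f e φ) z m
  obtain ⟨m₀, hm₀⟩ : ∃ m₀ : M, ¬ ∃ z, psiB f e φ z = MonoidAlgebra.single m₀ (1 : R') := by
    by_contra hall
    push Not at hall
    apply hns
    intro w
    have hw : w ∈ LinearMap.range
        ((psiB f e φ : (R' ⊗[Localization.Away f] (Localization.Away f ⊗[R] C)) →ₐ[R']
          MonoidAlgebra R' M).toLinearMap) := by
      apply mem_of_forall_single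
      intro m
      obtain ⟨z, hz⟩ := hall m
      refine ⟨(w.coeff m) • z, ?_⟩
      rw [map_smul]
      show (w.coeff m) • psiB f e φ z = _
      rw [hz, MonoidAlgebra.smul_single, smul_eq_mul, mul_one]
    obtain ⟨z, hz⟩ := hw
    exact ⟨z, hz⟩
  obtain ⟨I₀, hI₀⟩ : ∃ I₀ : Ideal R', ∀ r, r ∈ I₀ ↔
      ∃ z, psiB f e φ z = MonoidAlgebra.single m₀ r :=
    ⟨{ carrier := {r | ∃ z, psiB f e φ z = MonoidAlgebra.single m₀ r}
       add_mem' := by
        rintro a b ⟨z, hz⟩ ⟨z', hz'⟩
        exact ⟨z + z', by rw [map_add, hz, hz', MonoidAlgebra.single_add]⟩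
       zero_mem' := ⟨0, by rw [map_zero, MonoidAlgebra.single_zero]⟩
       smul_mem' := by
        rintro c a ⟨z, hz⟩
        exact ⟨c • z, by rw [map_smul, hz, MonoidAlgebra.smul_single]⟩ }, fun r => Iff.rfl⟩
  have hI₀ne : I₀ ≠ ⊤ := by
    intro htop
    apply hm₀
    exact (hI₀ 1).mp (htop ▸ Submodule.mem_top)
  obtain ⟨p, hp, hIp⟩ := Ideal.exists_le_maximal I₀ hI₀ne
  have hpprime := hp.isPrime
  obtain ⟨P, hP⟩ : ∃ P : Subgroup M, ∀ m, m ∈ P ↔
      ∃ r, r ∉ p ∧ ∃ z, psiB f e φ z = MonoidAlgebra.single m r :=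
    ⟨{ carrier := {m | ∃ r, r ∉ p ∧ ∃ z, psiB f e φ z = MonoidAlgebra.single m r}
       one_mem' := ⟨1, (Ideal.ne_top_iff_one p).mp hp.ne_top, 1, by
          rw [map_one, MonoidAlgebra.one_def]⟩
       mul_mem' := by
        rintro a b ⟨r, hr, z, hz⟩ ⟨r', hr', z', hz'⟩
        refine ⟨r * r', ?_, z * z', ?_⟩
        · intro hmem
          rcases hpprime.mem_or_mem hmem with h | h
          · exact hr h
          · exact hr' h
        · rw [map_mul, hz, hz', MonoidAlgebra.single_mul_single]
       inv_mem' := by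
        rintro a ⟨r, hr, z, hz⟩
        exact ⟨r, hr, range_inv_closed (R' := R') (G := M) (psiB f e φ) a r ⟨z, hz⟩⟩ },
      fun m => Iff.rfl⟩
  have hm₀P : m₀ ∉ P := by
    rw [hP]
    rintro ⟨r, hr, hz⟩
    exact hr (hIp ((hI₀ r).mpr hz))
  have hnt : Nontrivial (R' ⧸ p) := Ideal.Quotient.nontrivial_iff.mpr hp.ne_top
  let _ : Algebra R (MonoidAlgebra (R' ⧸ p) (M ⧸ P)) :=
    ((algebraMap R' (MonoidAlgebra (R' ⧸ p) (M ⧸ P))).comp (iota f R')).toAlgebra
  have hcompat : ∀ r : R, algebraMap R (MonoidAlgebra (R' ⧸ p) (M ⧸ P)) r =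
      algebraMap R' (MonoidAlgebra (R' ⧸ p) (M ⧸ P)) (iota f R' r) := fun r => rfl
  obtain ⟨X, hX⟩ : ∃ X : MonoidAlgebra R' M →ₐ[R'] MonoidAlgebra (R' ⧸ p) (M ⧸ P),
      ∀ m r, X (MonoidAlgebra.single m r) =
        r • MonoidAlgebra.single (QuotientGroup.mk' P m) (1 : R' ⧸ p) := by
    refine ⟨MonoidAlgebra.lift R' (MonoidAlgebra (R' ⧸ p) (M ⧸ P)) M
      ((MonoidAlgebra.of (R' ⧸ p) (M ⧸ P)).comp (QuotientGroup.mk' P)), fun m r => ?_⟩
    rw [MonoidAlgebra.lift_single]
    rfl
  obtain ⟨Y, hY⟩ : ∃ Y : MonoidAlgebra R' M →ₐ[R'] MonoidAlgebra (R' ⧸ p) (M ⧸ P),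
      ∀ m r, Y (MonoidAlgebra.single m r) = r • (1 : MonoidAlgebra (R' ⧸ p) (M ⧸ P)) := by
    refine ⟨MonoidAlgebra.lift R' (MonoidAlgebra (R' ⧸ p) (M ⧸ P)) M 1, fun m r => ?_⟩
    rw [MonoidAlgebra.lift_single]
    rfl
  have hagree : ∀ z, X (psiB f e φ z) = Y (psiB f e φ z) := by
    intro z
    have hmem : psiB f e φ z ∈ LinearMap.eqLocus X.toLinearMap Y.toLinearMap := by
      apply mem_of_forall_single
      intro m
      rw [LinearMap.mem_eqLocus]
      show X (MonoidAlgebra.single m _) = Y (MonoidAlgebra.single m _)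
      rw [hX, hY]
      by_cases hmP : m ∈ P
      · have h1 : (QuotientGroup.mk' P m) = 1 := by
          rw [QuotientGroup.mk'_apply, QuotientGroup.eq_one_iff]
          exact hmP
        rw [h1, MonoidAlgebra.one_def]
      · have hin : (psiB f e φ z).coeff m ∈ p := by
          by_contra hnp
          exact hmP ((hP m).mpr ⟨_, hnp, hgr _ ⟨z, rfl⟩ m⟩)
        have h0 : ∀ t : MonoidAlgebra (R' ⧸ p) (M ⧸ P),
            ((psiB f e φ z).coeff m) • t = 0 := by
          intro t
          rw [← algebraMap_smul (R' ⧸ p) ((psiB f e φ z).coeff m) t]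
          have h00 : algebraMap R' (R' ⧸ p) ((psiB f e φ z).coeff m) = 0 :=
            Ideal.Quotient.eq_zero_iff_mem.mpr hin
          rw [h00, zero_smul]
        rw [h0, h0]
    exact hmem
  have hfin := eq_of_eqOn_range f e φ hmono hcompat X Y hagree (MonoidAlgebra.single m₀ 1)
  rw [hX, hY, one_smul, one_smul, MonoidAlgebra.one_def] at hfin
  have h1 := congrArg (fun t => t.coeff 1) hfin
  simp only [MonoidAlgebra.coeff_single, Finsupp.single_apply] at h1
  apply hm₀P
  by_contra hh
  have hne : QuotientGroup.mk' P m₀ ≠ 1 := by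
    rw [QuotientGroup.mk'_apply, Ne, QuotientGroup.eq_one_iff]
    exact hh
  rw [if_neg hne] at h1
  exact zero_ne_one h1

end Psi

section Main

theorem main (R : Type u) [CommRing R] (A : Type u) [CommRing A] [HopfAlgebra R A]
    (h : IsMultType R A) (C : Type u) [CommRing C] [HopfAlgebra R C] (φ : C →ₐc[R] A)
    (hmono : ∀ (T : Type u) [CommRing T] [Algebra R T],
      Function.Injective (fun x : A →ₐ[R] T => x.comp (φ : C →ₐ[R] A))) :
    Function.Surjective φ := by
  intro a
  obtain ⟨s, hs, hsf⟩ := h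
  have h0 : (LinearMap.range (φ : C →ₗ[R] A)).mkQ a = 0 := by
    apply module_eq_zero_of_cover s hs
    intro f hf
    obtain ⟨R', i1, i2, hff, M, i3, ⟨e⟩⟩ := hsf f hf
    refine ⟨R', i1, i2, hff, ?_⟩
    obtain ⟨z, hz⟩ := psiB_surjective f e φ hmono (Theta f e a)
    have h1 : phi2 f R' φ z =
        (1 : R') ⊗ₜ[Localization.Away f] ((1 : Localization.Away f) ⊗ₜ[R] a) := by
      apply EquivLike.injective e
      exact hz
    have h2 := baseChange_mkQ_phi2 f φ z
    rw [h1, LinearMap.baseChange_tmul, LinearMap.baseChange_tmul] at h2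
    exact h2
  rw [Submodule.mkQ_apply, Submodule.Quotient.mk_eq_zero] at h0
  obtain ⟨c, hc⟩ := h0
  exact ⟨c, hc⟩

end Main

end Groth.Agent.Helper25.MonoClosed
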