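import Mathlib
import Groth.Prelude.Def_SGA3b
import Groth.Agent.Lib.Helper25.MultDense
import Groth.Agent.Lib.Helper25.MonoClosed

/-!
# Helper25: the `n`-torsion kernel of a group of multiplicative type of finite type is of
multiplicative type and finite
-/

set_option autoImplicit false
universe u

namespace Groth.Agent.Helper25.TorsKer

open TensorProduct SGA3b Groth.Agent.Helper22.MultType Groth.Agent.Helper25.MultFin
  Groth.Agent.Helper25.MultDense Groth.Agent.Helper25.MonoClosed

section Generic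

variable {S : Type*} [CommRing S] {X Y₁ Y₂ : Type*} [CommRing X] [CommRing Y₁] [CommRing Y₂]
  [Bialgebra S X] [Bialgebra S Y₁] [Bialgebra S Y₂]

/-- two surjective algebra maps with the same kernel have isomorphic targets -/
noncomputable def algEquivOfSurj (g₁ : X →ₐ[S] Y₁) (g₂ : X →ₐ[S] Y₂)
    (h₁ : Function.Surjective g₁) (h₂ : Function.Surjective g₂)
    (hk : RingHom.ker g₁.toRingHom = RingHom.ker g₂.toRingHom) : Y₁ ≃ₐ[S] Y₂ :=
  AlgEquiv.ofAlgHom (AlgHom.liftOfSurjective g₁ h₁ g₂ hk.le)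
    (AlgHom.liftOfSurjective g₂ h₂ g₁ hk.ge)
    (by
      apply AlgHom.ext
      intro y
      obtain ⟨x, rfl⟩ := h₂ y
      simp)
    (by
      apply AlgHom.ext
      intro y
      obtain ⟨x, rfl⟩ := h₁ y
      simp)

theorem algEquivOfSurj_apply (g₁ : X →ₐ[S] Y₁) (g₂ : X →ₐ[S] Y₂)
    (h₁ : Function.Surjective g₁) (h₂ : Function.Surjective g₂)
    (hk : RingHom.ker g₁.toRingHom = RingHom.ker g₂.toRingHom) (x : X) :
    algEquivOfSurj g₁ g₂ h₁ h₂ hk (g₁ x) = g₂ x := by
  show AlgHom.liftOfSurjective g₁ h₁ g₂ hk.le (g₁ x) = g₂ x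
  rw [AlgHom.liftOfSurjective_apply]

theorem nonempty_bialgEquiv_of_surj (g₁ : X →ₐc[S] Y₁) (g₂ : X →ₐc[S] Y₂)
    (h₁ : Function.Surjective g₁) (h₂ : Function.Surjective g₂)
    (hk : ∀ x, g₁ x = 0 ↔ g₂ x = 0) : Nonempty (Y₁ ≃ₐc[S] Y₂) := by
  have hker : RingHom.ker (g₁ : X →ₐ[S] Y₁).toRingHom = RingHom.ker (g₂ : X →ₐ[S] Y₂).toRingHom := by
    ext x
    rw [RingHom.mem_ker, RingHom.mem_ker]
    exact hk x
  obtain ⟨E, hE⟩ : ∃ E : Y₁ ≃ₐ[S] Y₂, ∀ x, E (g₁ x) = g₂ x :=
    ⟨algEquivOfSurj (g₁ : X →ₐ[S] Y₁) (g₂ : X →ₐ[S] Y₂) h₁ h₂ hker,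
      fun x => algEquivOfSurj_apply _ _ _ _ _ x⟩
  have hmap : ∀ t : X ⊗[S] X,
      Algebra.TensorProduct.map (E : Y₁ →ₐ[S] Y₂) (E : Y₁ →ₐ[S] Y₂)
        (TensorProduct.map (g₁ : X →ₗ[S] Y₁) (g₁ : X →ₗ[S] Y₁) t) =
      TensorProduct.map (g₂ : X →ₗ[S] Y₂) (g₂ : X →ₗ[S] Y₂) t := by
    intro t
    induction t using TensorProduct.induction_on with
    | zero => rw [map_zero, map_zero, map_zero]
    | tmul a b =>
      rw [TensorProduct.map_tmul, TensorProduct.map_tmul, Algebra.TensorProduct.map_tmul]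
      show E (g₁ a) ⊗ₜ[S] E (g₁ b) = g₂ a ⊗ₜ[S] g₂ b
      rw [hE, hE]
    | add x y hx hy => rw [map_add, map_add, map_add, hx, hy]
  refine ⟨BialgEquiv.ofAlgEquiv E ?_ ?_⟩
  · apply AlgHom.ext
    intro y
    obtain ⟨x, rfl⟩ := h₁ y
    show Coalgebra.counit (R := S) (E (g₁ x)) = Coalgebra.counit (R := S) (g₁ x)
    rw [hE, CoalgHomClass.counit_comp_apply, CoalgHomClass.counit_comp_apply]
  · apply AlgHom.ext
    intro y
    obtain ⟨x, rfl⟩ := h₁ y
    show Algebra.TensorProduct.map (E : Y₁ →ₐ[S] Y₂) (E : Y₁ →ₐ[S] Y₂)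
      (Coalgebra.comul (R := S) (g₁ x)) = Coalgebra.comul (R := S) (E (g₁ x))
    rw [hE, ← CoalgHomClass.map_comp_comul_apply g₁ x, ← CoalgHomClass.map_comp_comul_apply g₂ x]
    exact hmap _

end Generic

section Ker

variable {R : Type u} [CommRing R] (f : R) (R' : Type u) [CommRing R']
  [Algebra (Localization.Away f) R']

theorem tmul_tmul_eq_smul {X : Type*} [AddCommGroup X] [Module R X] (r' : R')
    (rf : Localization.Away f) (a : X) :
    r' ⊗ₜ[Localization.Away f] (rf ⊗ₜ[R] a) =
      (r' * algebraMap (Localization.Away f) R' rf) •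
        ((1 : R') ⊗ₜ[Localization.Away f] ((1 : Localization.Away f) ⊗ₜ[R] a)) := by
  rw [TensorProduct.smul_tmul', smul_eq_mul, mul_one]
  have h2 : rf ⊗ₜ[R] a = rf • ((1 : Localization.Away f) ⊗ₜ[R] a) := by
    rw [TensorProduct.smul_tmul', smul_eq_mul, mul_one]
  rw [h2, TensorProduct.tmul_smul, TensorProduct.smul_tmul', Algebra.smul_def, mul_comm]

theorem eq_zero_of_baseChange_eq_zero {A B : Type u} [AddCommGroup A] [Module R A]
    [AddCommGroup B] [Module R B] (π : A →ₗ[R] B) (hπ : Function.Surjective π)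
    {Z : Type*} [AddCommGroup Z] [Module R' Z]
    (F : (R' ⊗[Localization.Away f] (Localization.Away f ⊗[R] A)) →ₗ[R'] Z)
    (hF : ∀ a, π a = 0 →
      F ((1 : R') ⊗ₜ[Localization.Away f] ((1 : Localization.Away f) ⊗ₜ[R] a)) = 0)
    (x : R' ⊗[Localization.Away f] (Localization.Away f ⊗[R] A))
    (hx : ((π.baseChange (Localization.Away f)).baseChange R') x = 0) : F x = 0 := by
  have hex : Function.Exact (LinearMap.ker π).subtype π := LinearMap.exact_subtype_ker_map π
  have hex1 : Function.Exact ((LinearMap.ker π).subtype.lTensor (Localization.Away f))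
      (π.lTensor (Localization.Away f)) := lTensor_exact _ hex hπ
  have hex1' : Function.Exact ((LinearMap.ker π).subtype.baseChange (Localization.Away f))
      (π.baseChange (Localization.Away f)) := hex1
  have hs1 : Function.Surjective (π.baseChange (Localization.Away f)) :=
    LinearMap.lTensor_surjective (Localization.Away f) hπ
  have hex2 : Function.Exact
      (((LinearMap.ker π).subtype.baseChange (Localization.Away f)).lTensor R')
      ((π.baseChange (Localization.Away f)).lTensor R') := lTensor_exact _ hex1' hs1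
  have hx' : ((π.baseChange (Localization.Away f)).lTensor R') x = 0 := hx
  obtain ⟨y, hy⟩ := (hex2 x).mp hx'
  have key : ∀ y : R' ⊗[Localization.Away f] (Localization.Away f ⊗[R] (LinearMap.ker π)),
      F ((((LinearMap.ker π).subtype.baseChange (Localization.Away f)).lTensor R') y) = 0 := by
    intro y
    induction y using TensorProduct.induction_on with
    | zero => rw [map_zero, map_zero]
    | add a b ha hb => rw [map_add, map_add, ha, hb, add_zero]
    | tmul r' w =>
      induction w using TensorProduct.induction_on with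
      | zero => rw [TensorProduct.tmul_zero, map_zero, map_zero]
      | add a b ha hb => rw [TensorProduct.tmul_add, map_add, map_add, ha, hb, add_zero]
      | tmul rf k =>
        rw [LinearMap.lTensor_tmul, LinearMap.baseChange_tmul, Submodule.subtype_apply,
          tmul_tmul_eq_smul, map_smul, hF k.1 (LinearMap.mem_ker.mp k.2), smul_zero]
  rw [← hy]
  exact key y

end Ker

section KerProj

variable {R' : Type u} [CommRing R'] {M : Type u} [CommGroup M]

theorem mem_span_of_proj_eq_zero (n : ℕ) (w : MonoidAlgebra R' M) (hw : proj R' M n w = 0) :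
    w ∈ Ideal.span
      {y : MonoidAlgebra R' M | ∃ k : M, y = MonoidAlgebra.single (k ^ n) 1 - 1} := by
  obtain ⟨I, hI⟩ : ∃ I : Ideal (MonoidAlgebra R' M), I = Ideal.span
      {y : MonoidAlgebra R' M | ∃ k : M, y = MonoidAlgebra.single (k ^ n) 1 - 1} := ⟨_, rfl⟩
  rw [← hI]
  obtain ⟨τ, hτ⟩ : ∃ τ : M →* (MonoidAlgebra R' M ⧸ I),
      ∀ m, τ m = Ideal.Quotient.mk I (MonoidAlgebra.single m 1) :=
    ⟨(Ideal.Quotient.mk I).toMonoidHom.comp (MonoidAlgebra.of R' M), fun m => rfl⟩
  have hN : (powMonoidHom n : M →* M).range ≤ τ.ker := by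
    rintro _ ⟨k, rfl⟩
    rw [MonoidHom.mem_ker, hτ, powMonoidHom_apply, ← map_one (Ideal.Quotient.mk I),
      Ideal.Quotient.eq, hI]
    exact Ideal.subset_span ⟨k, rfl⟩
  obtain ⟨Tb, hTb⟩ : ∃ Tb : MonoidAlgebra R' (M ⧸ (powMonoidHom n : M →* M).range) →ₐ[R']
      (MonoidAlgebra R' M ⧸ I), ∀ m, Tb (MonoidAlgebra.single
        (QuotientGroup.mk' (powMonoidHom n : M →* M).range m) 1) =
          Ideal.Quotient.mk I (MonoidAlgebra.single m 1) := by
    refine ⟨MonoidAlgebra.lift R' (MonoidAlgebra R' M ⧸ I)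
      (M ⧸ (powMonoidHom n : M →* M).range)
      (QuotientGroup.lift (powMonoidHom n : M →* M).range τ hN), fun m => ?_⟩
    rw [MonoidAlgebra.lift_single, one_smul, QuotientGroup.mk'_apply, QuotientGroup.lift_mk, hτ]
  have hcomp : Tb.comp (proj R' M n) = Ideal.Quotient.mkₐ R' I := by
    refine MonoidAlgebra.algHom_ext (fun m => ?_) (Subsingleton.elim _ _)
    rw [AlgHom.comp_apply, proj_single, hTb]
    rfl
  have h1 := AlgHom.congr_fun hcomp w
  rw [AlgHom.comp_apply, hw, map_zero] at h1
  exact Ideal.Quotient.eq_zero_iff_mem.mp h1.symm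

end KerProj

section Main

variable (R : Type u) [CommRing R] (A : Type u) [CommRing A] [HopfAlgebra R A]

theorem kills_quotient (n : ℕ) (J : Ideal A) [J.IsHopfIdeal R] (hJ : J = torsionIdeal R A n) :
    Kills R (A ⧸ J) n := by
  intro b
  obtain ⟨a, rfl⟩ := Ideal.Quotient.mk_surjective b
  have h1 := bialgHom_powConv (Bialgebra.Quotient.mkBialgHom J : A →ₐc[R] A ⧸ J) n a
  have h2 : Coalgebra.counit (R := R) ((Bialgebra.Quotient.mkBialgHom J : A →ₐc[R] A ⧸ J) a) =
      Coalgebra.counit (R := R) a := CoalgHomClass.counit_comp_apply _ a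
  have h3 : powConv R A n a - algebraMap R A (Coalgebra.counit (R := R) a) ∈ J := by
    rw [hJ]
    have h4 := powConv_mem_torsionIdeal R A n
      (a - algebraMap R A (Coalgebra.counit (R := R) a)) (by
        show Bialgebra.counitAlgHom R A (a - algebraMap R A (Coalgebra.counit (R := R) a)) = 0
        rw [map_sub, AlgHom.commutes]
        simp)
    rw [map_sub, AlgHom.commutes] at h4
    exact h4
  have h5 : (Bialgebra.Quotient.mkBialgHom J : A →ₐc[R] A ⧸ J)
      (algebraMap R A (Coalgebra.counit (R := R) a)) =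
      algebraMap R (A ⧸ J) (Coalgebra.counit (R := R) a) := AlgHomClass.commutes _ _
  show powConv R (A ⧸ J) n ((Bialgebra.Quotient.mkBialgHom J : A →ₐc[R] A ⧸ J) a) =
    algebraMap R (A ⧸ J)
      (Coalgebra.counit (R := R) ((Bialgebra.Quotient.mkBialgHom J : A →ₐc[R] A ⧸ J) a))
  rw [← h1, h2, ← h5]
  exact Ideal.Quotient.eq.mpr h3

theorem phi2_eq_baseChange {C : Type u} [CommRing C] [HopfAlgebra R C] (f : R) (R' : Type u)
    [CommRing R'] [Algebra (Localization.Away f) R'] (φ : C →ₐc[R] A)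
    (x : R' ⊗[Localization.Away f] (Localization.Away f ⊗[R] C)) :
    phi2 f R' φ x = (((φ : C →ₗ[R] A).baseChange (Localization.Away f)).baseChange R') x := by
  induction x using TensorProduct.induction_on with
  | zero => rw [map_zero, map_zero]
  | add a b ha hb => rw [map_add, map_add, ha, hb]
  | tmul r' w =>
    induction w using TensorProduct.induction_on with
    | zero => rw [TensorProduct.tmul_zero, map_zero, map_zero]
    | add a b ha hb => rw [TensorProduct.tmul_add, map_add, map_add, ha, hb]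
    | tmul rf c =>
      rw [phi2_tmul, LinearMap.baseChange_tmul, LinearMap.baseChange_tmul]
      rfl

theorem nonempty_equiv (n : ℕ) (J : Ideal A) [J.IsHopfIdeal R] (hJ : J = torsionIdeal R A n)
    (f : R) (R' : Type u) [CommRing R'] [Algebra (Localization.Away f) R'] (M : Type u)
    [CommGroup M]
    (e : (R' ⊗[Localization.Away f] (Localization.Away f ⊗[R] A)) ≃ₐc[R'] MonoidAlgebra R' M) :
    Nonempty ((R' ⊗[Localization.Away f] (Localization.Away f ⊗[R] (A ⧸ J))) ≃ₐc[R']
      MonoidAlgebra R' (M ⧸ (powMonoidHom n : M →* M).range)) := by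
  obtain ⟨π, hπ, hπk⟩ : ∃ π : A →ₐc[R] A ⧸ J, Function.Surjective π ∧ ∀ a, π a = 0 ↔ a ∈ J :=
    ⟨Bialgebra.Quotient.mkBialgHom J, Ideal.Quotient.mk_surjective,
      fun a => Ideal.Quotient.eq_zero_iff_mem⟩
  obtain ⟨g₂, hg₂⟩ : ∃ g₂ : (R' ⊗[Localization.Away f] (Localization.Away f ⊗[R] A)) →ₐc[R']
      MonoidAlgebra R' (M ⧸ (powMonoidHom n : M →* M).range), ∀ x, g₂ x = proj R' M n (e x) :=
    ⟨(MonoidAlgebra.mapDomainBialgHom R'
        (QuotientGroup.mk' (powMonoidHom n : M →* M).range)).comp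
        (e : _ →ₐc[R'] MonoidAlgebra R' M), fun x => rfl⟩
  have hK : Kills R' (R' ⊗[Localization.Away f] (Localization.Away f ⊗[R] (A ⧸ J))) n :=
    kills_baseChange _ _ R' n
      (kills_baseChange R (A ⧸ J) (Localization.Away f) n (kills_quotient R A n J hJ))
  refine nonempty_bialgEquiv_of_surj (S := R')
    (X := R' ⊗[Localization.Away f] (Localization.Away f ⊗[R] A))
    (Y₁ := R' ⊗[Localization.Away f] (Localization.Away f ⊗[R] (A ⧸ J)))
    (Y₂ := MonoidAlgebra R' (M ⧸ (powMonoidHom n : M →* M).range)) (phi2 f R' π) g₂ ?_ ?_ ?_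
  · intro y
    induction y using TensorProduct.induction_on with
    | zero => exact ⟨0, map_zero _⟩
    | add x y hx hy =>
      obtain ⟨a, rfl⟩ := hx
      obtain ⟨b, rfl⟩ := hy
      exact ⟨a + b, map_add _ _ _⟩
    | tmul r' w =>
      induction w using TensorProduct.induction_on with
      | zero => exact ⟨0, by rw [map_zero, TensorProduct.tmul_zero]⟩
      | add x y hx hy =>
        obtain ⟨a, ha⟩ := hx
        obtain ⟨b, hb⟩ := hy
        exact ⟨a + b, by rw [map_add, ha, hb, TensorProduct.tmul_add]⟩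
      | tmul rf b =>
        obtain ⟨a, rfl⟩ := hπ b
        exact ⟨r' ⊗ₜ[Localization.Away f] (rf ⊗ₜ[R] a), phi2_tmul f π r' rf a⟩
  · intro w
    have hq : ∀ w : MonoidAlgebra R' (M ⧸ (powMonoidHom n : M →* M).range),
        ∃ v, proj R' M n v = w := by
      intro w
      induction w using MonoidAlgebra.induction_linear with
      | zero => exact ⟨0, map_zero _⟩
      | add x y hx hy =>
        obtain ⟨a, rfl⟩ := hx
        obtain ⟨b, rfl⟩ := hy
        exact ⟨a + b, map_add _ _ _⟩
      | single q r =>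
        obtain ⟨m, rfl⟩ := QuotientGroup.mk'_surjective _ q
        exact ⟨MonoidAlgebra.single m r, proj_single n m r⟩
    obtain ⟨v, rfl⟩ := hq w
    exact ⟨e.symm v, by rw [hg₂, e.apply_symm_apply]⟩
  · intro x
    rw [hg₂]
    constructor
    · intro hx
      refine eq_zero_of_baseChange_eq_zero f R' (π : A →ₗ[R] A ⧸ J) hπ
        ((proj R' M n).toLinearMap ∘ₗ e.toCoalgEquiv.toLinearEquiv.toLinearMap) ?_ x
        (by rw [← phi2_eq_baseChange]; exact hx)
      intro a ha
      have haJ : a ∈ torsionIdeal R A n := hJ ▸ (hπk a).mp ha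
      have h1 := mem_torsionIdeal_baseChange R A (Localization.Away f) n a haJ
      have h2 := mem_torsionIdeal_baseChange (Localization.Away f)
        (Localization.Away f ⊗[R] A) R' n _ h1
      have h3 := mem_torsionIdeal_bialgHom (e : _ →ₐc[R'] MonoidAlgebra R' M) n _ h2
      exact proj_eq_zero_of_mem_torsionIdeal n _ h3
    · intro hx
      have hmem := mem_span_of_proj_eq_zero n (e x) hx
      have hle : Ideal.span
          {y : MonoidAlgebra R' M | ∃ k : M, y = MonoidAlgebra.single (k ^ n) 1 - 1} ≤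
          RingHom.ker ((RingHomClass.toRingHom (phi2 f R' π)).comp
            (RingHomClass.toRingHom e.symm)) := by
        rw [Ideal.span_le]
        rintro _ ⟨k, rfl⟩
        rw [SetLike.mem_coe, RingHom.mem_ker, map_sub, map_one, sub_eq_zero]
        show phi2 f R' π (e.symm (MonoidAlgebra.single (k ^ n) 1)) = 1
        have ha := bialgHom_powConv (R := R') (A := MonoidAlgebra R' M)
          (B := R' ⊗[Localization.Away f] (Localization.Away f ⊗[R] A))
          (e.symm : MonoidAlgebra R' M →ₐc[R']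
            (R' ⊗[Localization.Away f] (Localization.Away f ⊗[R] A))) n
          (MonoidAlgebra.single k (1 : R'))
        have ha' : e.symm (powConv R' (MonoidAlgebra R' M) n (MonoidAlgebra.single k 1)) =
            powConv R' _ n (e.symm (MonoidAlgebra.single k 1)) := ha
        have hb := bialgHom_powConv (R := R')
          (A := R' ⊗[Localization.Away f] (Localization.Away f ⊗[R] A))
          (B := R' ⊗[Localization.Away f] (Localization.Away f ⊗[R] (A ⧸ J)))
          (phi2 f R' π) n (e.symm (MonoidAlgebra.single k (1 : R')))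
        rw [← powConv_single, ha', hb, hK, CoalgHomClass.counit_comp_apply]
        have hc : Coalgebra.counit (R := R') (e.symm (MonoidAlgebra.single k (1 : R'))) =
            Coalgebra.counit (R := R') (MonoidAlgebra.single k (1 : R')) :=
          CoalgHomClass.counit_comp_apply e.symm _
        rw [hc, MonoidAlgebra.counit_single]
        simp
        rfl
      have h2 := hle hmem
      rw [RingHom.mem_ker] at h2
      have h3 : phi2 f R' π (e.symm (e x)) = 0 := h2
      rwa [e.symm_apply_apply] at h3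

theorem main (hft : Algebra.FiniteType R A) (h : IsMultType R A) (n : ℕ) (hn : 0 < n)
    (J : Ideal A) [J.IsHopfIdeal R] (hJ : J = torsionIdeal R A n) :
    IsMultType R (A ⧸ J) ∧ Module.Finite R (A ⧸ J) := by
  have h1 : IsMultType R (A ⧸ J) := by
    obtain ⟨s, hs, hsf⟩ := h
    refine ⟨s, hs, fun f hf => ?_⟩
    obtain ⟨R', i1, i2, hff, M, i3, ⟨e⟩⟩ := hsf f hf
    exact ⟨R', i1, i2, hff, M ⧸ (powMonoidHom n : M →* M).range, inferInstance,
      nonempty_equiv R A n J hJ f R' M e⟩
  refine ⟨h1, ?_⟩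
  have hftB : Algebra.FiniteType R (A ⧸ J) :=
    Algebra.FiniteType.of_surjective (Ideal.Quotient.mkₐ R J) Ideal.Quotient.mk_surjective
  exact finite_of_kills R (A ⧸ J) hftB h1 n hn (kills_quotient R A n J hJ)

end Main

end Groth.Agent.Helper25.TorsKer
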