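import Mathlib
import Groth.Prelude.Def_SGA3b
import Groth.Agent.Lib.Helper25.KerMT2
import Groth.Agent.Lib.Helper25.TorsKer

/-!
# Helper25: the kernel of a homomorphism between groups of multiplicative type

`G = Spec A` of multiplicative type, `H = Spec C` of multiplicative type and of finite type,
`u : G ⟶ H`; then `Ker u` is of multiplicative type (S6062).
-/

set_option autoImplicit false

namespace Groth.Agent.Helper25.KerMT3

open TensorProduct SGA3b
open Groth.Agent.Helper25.Desc Groth.Agent.Helper25.PIDescent Groth.Agent.Helper25.PIDescentU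
  Groth.Agent.Helper25.NilLift Groth.Agent.Helper25.NilLift2 Groth.Agent.Helper25.KerMT1
  Groth.Agent.Helper25.KerMT2 Groth.Agent.Helper25.TorsKer

universe u

section Covers

variable {R : Type u} [CommRing R] {A : Type u} [CommRing A] [HopfAlgebra R A]

theorem local_data_diag (f : R)
    (h : IsMultTypeConst (Localization.Away f) (Localization.Away f ⊗[R] A)) :
    ∃ (T : Type u) (_ : CommRing T) (_ : Algebra R T), Module.Flat R T ∧
      (∀ m : Ideal R, m.IsMaximal → f ∉ m → m • (⊤ : Submodule R T) ≠ ⊤) ∧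
        IsDiag T (T ⊗[R] A) := by
  obtain ⟨R', _, _, hff, hd⟩ := h
  let _ : Algebra R R' :=
    ((algebraMap (Localization.Away f) R').comp (algebraMap R (Localization.Away f))).toAlgebra
  have : IsScalarTower R (Localization.Away f) R' :=
    IsScalarTower.of_algebraMap_eq (fun x => rfl)
  refine ⟨R', inferInstance, inferInstance, ?_, ?_, ?_⟩
  · have : Module.Flat R (Localization.Away f) := IsLocalization.flat _ (Submonoid.powers f)
    exact Module.Flat.trans R (Localization.Away f) R'
  · intro m hm hfm htop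
    have hdisj : Disjoint (Submonoid.powers f : Set R) (m : Set R) := by
      rw [Set.disjoint_left]
      rintro x ⟨n, rfl⟩ hx
      exact hfm (hm.isPrime.mem_of_pow_mem n hx)
    have hne : m.map (algebraMap R (Localization.Away f)) ≠ ⊤ :=
      (IsLocalization.map_algebraMap_ne_top_iff_disjoint (Submonoid.powers f)
        (Localization.Away f) m).mpr hdisj
    obtain ⟨m'', hm'', hle⟩ := Ideal.exists_le_maximal _ hne
    apply hff.submodule_ne_top hm''
    rw [eq_top_iff]
    intro y _
    have hy : y ∈ m • (⊤ : Submodule R R') := by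
      rw [htop]
      trivial
    refine Submodule.smul_induction_on hy ?_ ?_
    · intro r hr z _
      rw [← algebraMap_smul (Localization.Away f) r z]
      exact Submodule.smul_mem_smul (hle (Ideal.mem_map_of_mem _ hr)) Submodule.mem_top
    · intro x y hx hy
      exact Submodule.add_mem _ hx hy
  · exact isDiag_congr (Groth.Agent.Helper6.MT.cancelBC R (Localization.Away f) R' A) hd

theorem exists_cover_diag (hA : IsMultType R A) :
    ∃ (ι : Type u) (_ : Fintype ι) (_ : DecidableEq ι) (T : ι → Type u)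
      (_ : ∀ i, CommRing (T i)) (_ : ∀ i, Algebra R (T i)),
      Module.FaithfullyFlat R (Π i, T i) ∧ ∀ i, IsDiag (T i) (T i ⊗[R] A) := by
  classical
  obtain ⟨s, hs, hsf⟩ := hA
  obtain ⟨s', hs's, hs'⟩ := (Ideal.span_eq_top_iff_finite s).mp hs
  choose T iCR iAlg hflat hfaith hgl using
    fun i : s' => local_data_diag (A := A) i.1 (hsf i.1 (hs's (Finset.mem_coe.mpr i.2)))
  refine ⟨s', inferInstance, inferInstance, T, iCR, iAlg, ?_, hgl⟩
  apply pi_faithfullyFlat R T
  intro m hm
  have hnot : ¬ ((s' : Set R) ⊆ (m : Set R)) := by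
    intro hsm
    have h1 : Ideal.span (s' : Set R) ≤ m := Ideal.span_le.mpr hsm
    rw [hs'] at h1
    exact hm.ne_top (top_le_iff.mp h1)
  obtain ⟨f, hfs, hfm⟩ := Set.not_subset.mp hnot
  exact ⟨⟨f, Finset.mem_coe.mp hfs⟩, hfaith _ m hm hfm⟩

end Covers

section FF

variable {R : Type u} [CommRing R]

theorem map_ne_top_of_smul_ne_top {T : Type u} [CommRing T] [Algebra R T] (m : Ideal R)
    (h : m • (⊤ : Submodule R T) ≠ ⊤) : m.map (algebraMap R T) ≠ ⊤ := by
  intro htop
  apply h
  rw [eq_top_iff]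
  intro t _
  rw [smulTop_bridge m T t, htop, Submodule.top_smul]
  trivial

theorem smul_ne_top_of_le {T : Type u} [CommRing T] [Algebra R T] (m : Ideal R)
    (𝔫 : Ideal T) (hle : m.map (algebraMap R T) ≤ 𝔫) {X : Type u} [AddCommGroup X] [Module R X]
    [Module T X] [IsScalarTower R T X] (h : 𝔫 • (⊤ : Submodule T X) ≠ ⊤) :
    m • (⊤ : Submodule R X) ≠ ⊤ := by
  intro htop
  apply h
  rw [eq_top_iff]
  intro z _
  have hz : z ∈ m • (⊤ : Submodule R X) := by
    rw [htop]
    trivial
  refine Submodule.smul_induction_on hz ?_ ?_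
  · intro r hr w _
    rw [← algebraMap_smul T r w]
    exact Submodule.smul_mem_smul (hle (Ideal.mem_map_of_mem _ hr)) Submodule.mem_top
  · intro x y hx hy
    exact Submodule.add_mem _ hx hy

theorem ff_prod {ι ι' : Type u} [Fintype ι] [DecidableEq ι] [Fintype ι'] [DecidableEq ι']
    (T : ι → Type u) [∀ i, CommRing (T i)] [∀ i, Algebra R (T i)]
    (T' : ι' → Type u) [∀ j, CommRing (T' j)] [∀ j, Algebra R (T' j)]
    [Module.FaithfullyFlat R (Π i, T i)] [Module.FaithfullyFlat R (Π j, T' j)] :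
    Module.FaithfullyFlat R (Π p : ι × ι', T p.1 ⊗[R] T' p.2) := by
  have hfl : ∀ i, Module.Flat R (T i) := flat_of_pi_ff T
  have hfl' : ∀ j, Module.Flat R (T' j) := flat_of_pi_ff T'
  have hfl2 : ∀ p : ι × ι', Module.Flat R (T p.1 ⊗[R] T' p.2) := fun p => inferInstance
  apply pi_faithfullyFlat R (fun p : ι × ι' => T p.1 ⊗[R] T' p.2)
  intro m hm
  obtain ⟨i, hi⟩ := exists_of_pi_ff T m hm
  obtain ⟨𝔫, h𝔫, hle⟩ := Ideal.exists_le_maximal _ (map_ne_top_of_smul_ne_top m hi)
  have hff' : Module.FaithfullyFlat (T i) (Π j, T i ⊗[R] T' j) := cover_bc_ff (R := R) (T i) T'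
  obtain ⟨j, hj⟩ := exists_of_pi_ff (R := T i) (fun j => T i ⊗[R] T' j) 𝔫 h𝔫
  exact ⟨(i, j), smul_ne_top_of_le m 𝔫 hle hj⟩

theorem ff_sigma_away {ι : Type u} [Fintype ι] [DecidableEq ι] (T : ι → Type u)
    [∀ i, CommRing (T i)] [∀ i, Algebra R (T i)] [Module.FaithfullyFlat R (Π i, T i)]
    (κ : ι → Type u) [∀ i, Fintype (κ i)] [∀ i, DecidableEq (κ i)]
    (E : ∀ i, κ i → T i) (hE : ∀ i, ∑ k, E i k = 1) :
    Module.FaithfullyFlat R (Π x : (Σ i, κ i), Localization.Away (E x.1 x.2)) := by
  have hfl : ∀ i, Module.Flat R (T i) := flat_of_pi_ff T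
  have hfl2 : ∀ x : (Σ i, κ i), Module.Flat R (Localization.Away (E x.1 x.2)) := by
    intro x
    have : Module.Flat (T x.1) (Localization.Away (E x.1 x.2)) :=
      IsLocalization.flat _ (Submonoid.powers (E x.1 x.2))
    exact Module.Flat.trans R (T x.1) _
  apply pi_faithfullyFlat R (fun x : (Σ i, κ i) => Localization.Away (E x.1 x.2))
  intro m hm
  obtain ⟨i, hi⟩ := exists_of_pi_ff T m hm
  obtain ⟨𝔫, h𝔫, hle⟩ := Ideal.exists_le_maximal _ (map_ne_top_of_smul_ne_top m hi)
  have hk : ∃ k, E i k ∉ 𝔫 := by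
    by_contra hcon
    push Not at hcon
    have h1 : (1 : T i) ∈ 𝔫 := by
      rw [← hE i]
      exact Ideal.sum_mem _ (fun k _ => hcon k)
    exact h𝔫.ne_top ((Ideal.eq_top_iff_one 𝔫).mpr h1)
  obtain ⟨k, hk⟩ := hk
  refine ⟨⟨i, k⟩, ?_⟩
  have hdisj : Disjoint (Submonoid.powers (E i k) : Set (T i)) (𝔫 : Set (T i)) := by
    rw [Set.disjoint_left]
    rintro x ⟨n, rfl⟩ hx
    exact hk (h𝔫.isPrime.mem_of_pow_mem n hx)
  have hne : 𝔫.map (algebraMap (T i) (Localization.Away (E i k))) ≠ ⊤ :=
    (IsLocalization.map_algebraMap_ne_top_iff_disjoint (Submonoid.powers (E i k))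
      (Localization.Away (E i k)) 𝔫).mpr hdisj
  have hne2 : 𝔫 • (⊤ : Submodule (T i) (Localization.Away (E i k))) ≠ ⊤ := by
    intro htop
    apply hne
    rw [Ideal.eq_top_iff_one]
    have h1 : (1 : Localization.Away (E i k)) ∈
        𝔫 • (⊤ : Submodule (T i) (Localization.Away (E i k))) := by
      rw [htop]
      trivial
    refine Submodule.smul_induction_on h1 ?_ ?_
    · intro r hr w _
      rw [Algebra.smul_def]
      exact Ideal.mul_mem_right _ _ (Ideal.mem_map_of_mem _ hr)
    · intro x y hx hy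
      exact Ideal.add_mem _ hx hy
  exact smul_ne_top_of_le m 𝔫 hle hne2

end FF

section LemD

variable {R : Type u} [CommRing R] {A : Type u} [CommRing A] [HopfAlgebra R A]
  {C : Type u} [CommRing C] [HopfAlgebra R C] (φ : C →ₐc[R] A)
  (J : Ideal A) [J.IsHopfIdeal R]
  (W : Type u) [CommRing W] [Algebra R W]

/-- base change of `φ` -/
noncomputable def phiW : W ⊗[R] C →ₐc[W] W ⊗[R] A :=
  Bialgebra.TensorProduct.map (BialgHom.id W W) φ

/-- base change of the quotient map -/
noncomputable def piW : W ⊗[R] A →ₐc[W] W ⊗[R] (A ⧸ J) :=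
  Bialgebra.TensorProduct.map (BialgHom.id W W) (Bialgebra.Quotient.mkBialgHom (R := R) J)

theorem phiW_tmul (w : W) (c : C) : phiW φ W (w ⊗ₜ[R] c) = w ⊗ₜ[R] φ c := rfl

theorem piW_tmul (w : W) (a : A) : piW J W (w ⊗ₜ[R] a) = w ⊗ₜ[R] Ideal.Quotient.mk J a := rfl

theorem piW_surjective : Function.Surjective (piW (R := R) J W) := by
  intro y
  induction y using TensorProduct.induction_on with
  | zero => exact ⟨0, map_zero _⟩
  | tmul w b =>
    obtain ⟨a, rfl⟩ := Ideal.Quotient.mk_surjective b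
    exact ⟨w ⊗ₜ[R] a, rfl⟩
  | add x y hx hy =>
    obtain ⟨x', rfl⟩ := hx
    obtain ⟨y', rfl⟩ := hy
    exact ⟨x' + y', map_add _ _ _⟩

/-- a linear map killing `1 ⊗ a` for `a` in the kernel of `π` kills the kernel of the base change -/
theorem eq_zero_of_lTensor_eq_zero {X Y : Type u} [AddCommGroup X] [Module R X]
    [AddCommGroup Y] [Module R Y] (π : X →ₗ[R] Y) (hπ : Function.Surjective π)
    {Z : Type u} [AddCommGroup Z] [Module W Z] (F : (W ⊗[R] X) →ₗ[W] Z)
    (hF : ∀ a, π a = 0 → F ((1 : W) ⊗ₜ[R] a) = 0)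
    (x : W ⊗[R] X) (hx : (π.lTensor W) x = 0) : F x = 0 := by
  have hex : Function.Exact (LinearMap.ker π).subtype π := LinearMap.exact_subtype_ker_map π
  have hex1 : Function.Exact ((LinearMap.ker π).subtype.lTensor W) (π.lTensor W) :=
    lTensor_exact _ hex hπ
  obtain ⟨y, hy⟩ := (hex1 x).mp hx
  have key : ∀ y : W ⊗[R] (LinearMap.ker π), F (((LinearMap.ker π).subtype.lTensor W) y) = 0 := by
    intro y
    induction y using TensorProduct.induction_on with
    | zero => rw [map_zero, map_zero]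
    | add a b ha hb => rw [map_add, map_add, ha, hb, add_zero]
    | tmul w k =>
      rw [LinearMap.lTensor_tmul, Submodule.subtype_apply]
      have h1 : w ⊗ₜ[R] (k : X) = w • ((1 : W) ⊗ₜ[R] (k : X)) := by
        rw [TensorProduct.smul_tmul', smul_eq_mul, mul_one]
      rw [h1, map_smul, hF k.1 (LinearMap.mem_ker.mp k.2), smul_zero]
  rw [← hy]
  exact key y

variable (hJ : J = Ideal.map φ (RingHom.ker (Bialgebra.counitAlgHom R C)))

omit [J.IsHopfIdeal R] in
include hJ in
theorem mk_phi (c : C) :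
    Ideal.Quotient.mk J (φ c) = algebraMap R (A ⧸ J) (Coalgebra.counit (R := R) c) := by
  have h1 : c - algebraMap R C (Coalgebra.counit (R := R) c) ∈
      RingHom.ker (Bialgebra.counitAlgHom R C) := by
    rw [RingHom.mem_ker, map_sub, Bialgebra.counitAlgHom_apply, AlgHom.commutes,
      Algebra.algebraMap_self_apply, sub_self]
  have h2 : φ (c - algebraMap R C (Coalgebra.counit (R := R) c)) ∈ J := by
    rw [hJ]
    exact Ideal.mem_map_of_mem _ h1
  rw [map_sub, AlgHomClass.commutes] at h2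
  have h3 := Ideal.Quotient.eq.mpr h2
  rw [h3]
  rfl

include hJ in
theorem piW_phiW (z : W ⊗[R] C) :
    piW J W (phiW φ W z) = algebraMap W (W ⊗[R] (A ⧸ J)) (Coalgebra.counit (R := W) z) := by
  induction z using TensorProduct.induction_on with
  | zero => rw [map_zero, map_zero, map_zero, map_zero]
  | tmul w c =>
    rw [phiW_tmul, piW_tmul, mk_phi φ J hJ, TensorProduct.counit_tmul,
      Algebra.TensorProduct.algebraMap_apply, Algebra.algebraMap_self_apply,
      Algebra.algebraMap_eq_smul_one, TensorProduct.tmul_smul, TensorProduct.smul_tmul']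
    rfl
  | add x y hx hy => rw [map_add, map_add, map_add, map_add, hx, hy]

include hJ in
/-- the quotient by the kernel is diagonalisable when generators of the character group of the
target go to characters -/
theorem diag_quot_of_gen {M N : Type u} [CommGroup M] [CommGroup N]
    (bA : Module.Basis M W (W ⊗[R] A)) (hbA : ∀ m, IsGroupLikeElem W (bA m))
    (hA1 : bA 1 = 1) (hAmul : ∀ m m', bA (m * m') = bA m * bA m')
    (bC : Module.Basis N W (W ⊗[R] C)) (hbC : ∀ n, IsGroupLikeElem W (bC n))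
    (hC1 : bC 1 = 1) (hCmul : ∀ n n', bC (n * n') = bC n * bC n')
    (gen : Set N) (hgen : Subgroup.closure gen = ⊤)
    (hψ : ∀ n ∈ gen, ∃ m, phiW φ W (bC n) = bA m) :
    IsDiag W (W ⊗[R] (A ⧸ J)) := by
  classical
  have hall : ∀ n : N, ∃ m, phiW φ W (bC n) = bA m := by
    intro n
    have hn : n ∈ Subgroup.closure gen := by
      rw [hgen]
      trivial
    induction hn using Subgroup.closure_induction with
    | mem x hx => exact hψ x hx
    | one => exact ⟨1, by rw [hC1, map_one, hA1]⟩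
    | mul x y _ _ hx hy =>
      obtain ⟨m, hm⟩ := hx
      obtain ⟨m', hm'⟩ := hy
      exact ⟨m * m', by rw [hCmul, map_mul, hm, hm', hAmul]⟩
    | inv x _ hx =>
      obtain ⟨m, hm⟩ := hx
      refine ⟨m⁻¹, ?_⟩
      have h2 : phiW φ W (bC x⁻¹) * bA m = 1 := by
        rw [← hm, ← map_mul, ← hCmul, inv_mul_cancel, hC1, map_one]
      have h3 : bA m * bA m⁻¹ = 1 := by rw [← hAmul, mul_inv_cancel, hA1]
      calc phiW φ W (bC x⁻¹) = phiW φ W (bC x⁻¹) * (bA m * bA m⁻¹) := by rw [h3, mul_one]
        _ = (phiW φ W (bC x⁻¹) * bA m) * bA m⁻¹ := by rw [mul_assoc]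
        _ = bA m⁻¹ := by rw [h2, one_mul]
  choose ψ hψ' using hall
  obtain ⟨H, hH⟩ : ∃ H : Subgroup M, H = Subgroup.closure (Set.range ψ) := ⟨_, rfl⟩
  obtain ⟨F, hF⟩ := equiv_of_glgw bA hbA hA1 hAmul
  have hFs : ∀ m, F.symm (bA m) = MonoidAlgebra.single m 1 := by
    intro m
    rw [← hF m, BialgEquiv.symm_apply_apply]
  obtain ⟨g₂, hg₂⟩ : ∃ g₂ : MonoidAlgebra W M →ₐc[W] MonoidAlgebra W (M ⧸ H),
      g₂ = MonoidAlgebra.mapDomainBialgHom W (QuotientGroup.mk' H) := ⟨_, rfl⟩
  have hg₂s : ∀ m, g₂ (MonoidAlgebra.single m 1) =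
      MonoidAlgebra.single (QuotientGroup.mk' H m) 1 := by
    intro m
    rw [hg₂, MonoidAlgebra.mapDomainBialgHom_single]
  -- `piW (bA h) = 1` for `h ∈ H`
  have hpiH : ∀ h ∈ H, piW J W (bA h) = 1 := by
    intro h hh
    rw [hH] at hh
    induction hh using Subgroup.closure_induction with
    | mem x hx =>
      obtain ⟨n, rfl⟩ := hx
      rw [← hψ' n, piW_phiW φ J W hJ, (hbC n).counit_eq_one, map_one]
    | one => rw [hA1, map_one]
    | mul x y _ _ hx hy => rw [hAmul, map_mul, hx, hy, one_mul]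
    | inv x _ hx =>
      have h2 : piW J W (bA x⁻¹) * piW J W (bA x) = 1 := by
        rw [← map_mul, ← hAmul, inv_mul_cancel, hA1, map_one]
      rw [hx, mul_one] at h2
      exact h2
  -- the composite `G = g₂ ∘ F⁻¹`
  obtain ⟨G, hG⟩ : ∃ G : W ⊗[R] A →ₐ[W] MonoidAlgebra W (M ⧸ H),
      ∀ y, G y = g₂ (F.symm y) :=
    ⟨(g₂ : MonoidAlgebra W M →ₐ[W] MonoidAlgebra W (M ⧸ H)).comp
      (F.symm.toAlgEquiv : W ⊗[R] A →ₐ[W] MonoidAlgebra W M), fun y => rfl⟩
  have hGphi : ∀ z : W ⊗[R] C, G (phiW φ W z) =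
      algebraMap W (MonoidAlgebra W (M ⧸ H)) (Coalgebra.counit (R := W) z) := by
    intro z
    have hz : z ∈ Submodule.span W (Set.range bC) := by
      rw [bC.span_eq]
      trivial
    induction hz using Submodule.span_induction with
    | mem x hx =>
      obtain ⟨n, rfl⟩ := hx
      have h1 : QuotientGroup.mk' H (ψ n) = 1 := by
        rw [QuotientGroup.mk'_apply, QuotientGroup.eq_one_iff, hH]
        exact Subgroup.subset_closure ⟨n, rfl⟩
      rw [hG, hψ' n, hFs, hg₂s, h1, (hbC n).counit_eq_one, map_one, MonoidAlgebra.one_def]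
    | zero => rw [map_zero, map_zero, map_zero, map_zero]
    | add x y _ _ hx hy => rw [map_add, map_add, map_add, map_add, hx, hy]
    | smul w x _ hx =>
      rw [map_smul, map_smul, map_smul, hx, smul_eq_mul, map_mul, Algebra.smul_def]
  -- `G` kills the kernel of `piW`
  have hGker : ∀ y : W ⊗[R] A, piW J W y = 0 → G y = 0 := by
    intro y hy
    apply eq_zero_of_lTensor_eq_zero W (Ideal.Quotient.mkₐ R J).toLinearMap
      (Ideal.Quotient.mkₐ_surjective R J) G.toLinearMap ?_ y ?_
    · intro a ha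
      have ha' : a ∈ J := Ideal.Quotient.eq_zero_iff_mem.mp ha
      rw [hJ, Ideal.map] at ha'
      show G ((1 : W) ⊗ₜ[R] a) = 0
      clear ha
      induction ha' using Submodule.span_induction with
      | mem x hx =>
        obtain ⟨c, hc, rfl⟩ := hx
        have h1 : (1 : W) ⊗ₜ[R] φ c = phiW φ W ((1 : W) ⊗ₜ[R] c) := rfl
        have h2 : Coalgebra.counit (R := R) c = 0 := by
          have := RingHom.mem_ker.mp hc
          rwa [Bialgebra.counitAlgHom_apply] at this
        rw [h1, hGphi, TensorProduct.counit_tmul, h2, zero_smul, map_zero]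
      | zero => rw [TensorProduct.tmul_zero, map_zero]
      | add x y _ _ hx hy => rw [TensorProduct.tmul_add, map_add, hx, hy, add_zero]
      | smul a' x _ hx =>
        have h1 : (1 : W) ⊗ₜ[R] (a' • x) = ((1 : W) ⊗ₜ[R] a') * ((1 : W) ⊗ₜ[R] x) := by
          rw [Algebra.TensorProduct.tmul_mul_tmul, one_mul, smul_eq_mul]
        rw [h1, map_mul, hx, mul_zero]
    · have h1 : ∀ y : W ⊗[R] A, ((Ideal.Quotient.mkₐ R J).toLinearMap.lTensor W) y =
          piW J W y := by
        intro y
        induction y using TensorProduct.induction_on with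
        | zero => rw [map_zero, map_zero]
        | tmul w a => rfl
        | add x y hx hy => rw [map_add, map_add, hx, hy]
      rw [h1, hy]
  -- the kernel of `g₂` goes to zero
  have hker2 : ∀ x : MonoidAlgebra W M, g₂ x = 0 → piW J W (F x) = 0 := by
    intro x hx
    rw [hg₂] at hx
    have hmem := mem_span_of_mapDomain_eq_zero H x hx
    clear hx
    induction hmem using Submodule.span_induction with
    | mem y hy =>
      obtain ⟨h, hh, rfl⟩ := hy
      rw [map_sub, map_sub, hF, hpiH h hh, map_one, map_one, sub_self]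
    | zero => rw [map_zero, map_zero]
    | add x y _ _ hx hy => rw [map_add, map_add, hx, hy, add_zero]
    | smul a' x _ hx => rw [smul_eq_mul, map_mul, map_mul, hx, mul_zero]
  have hsurj₁ : Function.Surjective ((piW J W).comp (F : MonoidAlgebra W M →ₐc[W] W ⊗[R] A)) := by
    intro y
    obtain ⟨y', rfl⟩ := piW_surjective J W y
    exact ⟨F.symm y', by
      show piW J W (F (F.symm y')) = _
      rw [BialgEquiv.apply_symm_apply]⟩
  have hsurj₂ : Function.Surjective g₂ := by
    rw [hg₂]
    exact mapDomain_mk'_surjective H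
  have hk : ∀ x, ((piW J W).comp (F : MonoidAlgebra W M →ₐc[W] W ⊗[R] A)) x = 0 ↔ g₂ x = 0 := by
    intro x
    constructor
    · intro hx
      have h1 : piW J W (F x) = 0 := hx
      have h2 := hGker (F x) h1
      rw [hG, BialgEquiv.symm_apply_apply] at h2
      exact h2
    · intro hx
      exact hker2 x hx
  exact ⟨M ⧸ H, inferInstance, nonempty_bialgEquiv_of_surj _ g₂ hsurj₁ hsurj₂ hk⟩

end LemD

end Groth.Agent.Helper25.KerMT3
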