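import Mathlib
import Groth.Prelude.Def_SGA3b
import Groth.Agent.Lib.Helper25.Dens2
import Groth.Agent.Lib.Helper25.KerMT3
import Groth.Agent.Lib.Helper25.Desc

/-! Density of the torsion subgroups in a group of multiplicative type and of finite type. -/

set_option autoImplicit false
universe u

namespace Groth.Agent.Helper25.Dens3

open TensorProduct SGA3b Groth.Agent.Helper25.MultDense Groth.Agent.Helper25.Dens1
  Groth.Agent.Helper25.Dens2

section transfer

variable {T : Type u} [CommRing T]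

theorem core_equiv {M M' : Type u} [CommGroup M] [CommGroup M'] (ψ : M ≃* M') {e : ℕ}
    (h : Core T M' e) : Core T M e := by
  intro α z hyp
  obtain ⟨Ψ, hΨ⟩ : ∃ Ψ : MonoidAlgebra T M ≃+* MonoidAlgebra T M',
      Ψ = MonoidAlgebra.mapDomainRingEquiv T ψ := ⟨_, rfl⟩
  have hle : ∀ n, Kn T M n ≤ Ideal.comap Ψ (Kn T M' n) := by
    intro n
    apply Kn_le_comap
    intro m
    rw [hΨ, map_sub, map_one, MonoidAlgebra.mapDomainRingEquiv_single, map_pow]
    exact single_pow_sub_one_mem n (ψ m)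
  have hyp' : Hyp T M' e (Ψ α) (Ψ z) := by
    intro n hn hen
    obtain ⟨j, hj⟩ := hyp n hn hen
    refine ⟨j, ?_⟩
    rw [proj_eq_zero_iff] at hj
    rw [← map_pow, ← map_mul, proj_eq_zero_iff]
    exact Ideal.mem_comap.1 (hle n hj)
  obtain ⟨j, hj⟩ := h _ _ hyp'
  refine ⟨j, ?_⟩
  rw [← map_pow, ← map_mul] at hj
  exact (EmbeddingLike.map_eq_zero_iff (f := Ψ)).1 hj

theorem core_prod {L F : Type u} [CommGroup L] [CommGroup F] (e₀ : ℕ)
    (hF : ∀ f : F, f ^ e₀ = 1) (h : Core (MonoidAlgebra T F) L e₀) : Core T (L × F) 1 := by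
  intro α z hyp
  obtain ⟨Φ, hΦ⟩ : ∃ Φ : MonoidAlgebra T (L × F) ≃+* MonoidAlgebra (MonoidAlgebra T F) L,
      Φ = MonoidAlgebra.curryRingEquiv := ⟨_, rfl⟩
  have hle : ∀ n, e₀ ∣ n →
      Kn T (L × F) n ≤ Ideal.comap Φ (Kn (MonoidAlgebra T F) L n) := by
    intro n hn
    apply Kn_le_comap
    intro m
    obtain ⟨k, rfl⟩ := hn
    have h1 : m ^ (e₀ * k) = (m.1 ^ (e₀ * k), 1) := by
      apply Prod.ext
      · rfl
      · show m.2 ^ (e₀ * k) = 1
        rw [pow_mul, hF, one_pow]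
    rw [h1, hΦ, map_sub, map_one, MonoidAlgebra.curryRingEquiv_single, ← MonoidAlgebra.one_def]
    exact single_pow_sub_one_mem (e₀ * k) m.1
  have hyp' : Hyp (MonoidAlgebra T F) L e₀ (Φ α) (Φ z) := by
    intro n hn hen
    obtain ⟨j, hj⟩ := hyp n hn (one_dvd n)
    refine ⟨j, ?_⟩
    rw [proj_eq_zero_iff] at hj
    rw [← map_pow, ← map_mul, proj_eq_zero_iff]
    exact Ideal.mem_comap.1 (hle n hen hj)
  obtain ⟨j, hj⟩ := h _ _ hyp'
  refine ⟨j, ?_⟩
  rw [← map_pow, ← map_mul] at hj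
  exact (EmbeddingLike.map_eq_zero_iff (f := Φ)).1 hj

end transfer

section groups

theorem int_torsion_free (n : ℕ) (hn : 0 < n) (y : Multiplicative ℤ) (hy : y ^ n = 1) :
    y = 1 := by
  have h1 : n • (Multiplicative.toAdd y) = 0 := by
    rw [← toAdd_pow, hy]
    rfl
  rw [nsmul_eq_mul] at h1
  rcases mul_eq_zero.1 h1 with h | h
  · exact absurd (by exact_mod_cast h) hn.ne'
  · exact Multiplicative.toAdd.injective h

theorem zmod_pow_eq_one (q k : ℕ) (y : Multiplicative (ZMod q)) : y ^ (q * k) = 1 := by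
  apply Multiplicative.toAdd.injective
  rw [toAdd_pow, nsmul_eq_mul, Nat.cast_mul, ZMod.natCast_self, zero_mul, zero_mul]
  rfl

theorem core_fg (T : Type u) [CommRing T] (M : Type u) [CommGroup M] (hfg : Group.FG M) :
    Core T M 1 := by
  have := hfg
  obtain ⟨ι, κ, _, _, p, hp, e, ⟨ε⟩⟩ := CommGroup.equiv_free_prod_prod_multiplicative_zmod M
  obtain ⟨e₀, he₀⟩ : ∃ e₀ : ℕ, e₀ = ∏ i, p i ^ e i := ⟨_, rfl⟩
  have he₀pos : 0 < e₀ := by
    rw [he₀]
    exact Finset.prod_pos (fun i _ => pow_pos (hp i).pos _)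
  obtain ⟨ψ⟩ : Nonempty (M ≃* ULift.{u} (κ → Multiplicative ℤ) ×
      ULift.{u} ((i : ι) → Multiplicative (ZMod (p i ^ e i)))) :=
    ⟨ε.trans (MulEquiv.prodCongr MulEquiv.ulift.symm MulEquiv.ulift.symm)⟩
  have hLfg : Group.FG (ULift.{u} (κ → Multiplicative ℤ)) := by
    refine Group.fg_of_surjective (f := (MonoidHom.fst _ _).comp ψ.toMonoidHom) ?_
    intro l
    exact ⟨ψ.symm (l, 1), by simp⟩
  have hLtf : ∀ n : ℕ, 0 < n → ∀ m : ULift.{u} (κ → Multiplicative ℤ), m ^ n = 1 → m = 1 := by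
    intro n hn m hm
    apply ULift.ext
    funext i
    have h1 : (m ^ n).down i = (1 : κ → Multiplicative ℤ) i := by
      rw [hm]
      rfl
    exact int_torsion_free n hn (m.down i) h1
  have hF : ∀ f : ULift.{u} ((i : ι) → Multiplicative (ZMod (p i ^ e i))), f ^ e₀ = 1 := by
    intro f
    apply ULift.ext
    funext i
    obtain ⟨k, hk⟩ : p i ^ e i ∣ e₀ := by
      rw [he₀]
      exact Finset.dvd_prod_of_mem (fun i => p i ^ e i) (Finset.mem_univ i)
    show (f.down i) ^ e₀ = 1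
    rw [hk]
    exact zmod_pow_eq_one _ k _
  exact core_equiv ψ (core_prod e₀ hF
    (core_all (fun K _ => core_field K _ hLfg hLtf e₀ he₀pos) _))

end groups

section main

variable (R : Type u) [CommRing R] (A : Type u) [CommRing A] [HopfAlgebra R A]

theorem key (hft : Algebra.FiniteType R A) (h : IsMultType R A) (a y : A)
    (hy : ∀ n : ℕ, 0 < n → ∃ j : ℕ, a ^ j * y ∈ torsionIdeal R A n) :
    ∃ j : ℕ, a ^ j * y = 0 := by
  classical
  obtain ⟨ι, _, _, T, _, _, hff, hd⟩ := Groth.Agent.Helper25.KerMT3.exists_cover_diag h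
  have hloc : ∀ i, ∃ j : ℕ, (1 : T i) ⊗ₜ[R] (a ^ j * y) = 0 := by
    intro i
    obtain ⟨M, _, ⟨E⟩⟩ := hd i
    rcases subsingleton_or_nontrivial (T i) with hs | hnt
    · have : Subsingleton (T i ⊗[R] A) := Module.subsingleton (T i) _
      exact ⟨0, Subsingleton.elim _ _⟩
    have := hft
    have hft' : Algebra.FiniteType (T i) (MonoidAlgebra (T i) M) :=
      (inferInstance : Algebra.FiniteType (T i) (T i ⊗[R] A)).equiv
        (E : (T i ⊗[R] A) ≃ₐ[T i] MonoidAlgebra (T i) M)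
    have hfg : Group.FG M := MonoidAlgebra.finiteType_iff_group_fg.1 hft'
    have hE : ∀ j : ℕ, E ((1 : T i) ⊗ₜ[R] (a ^ j * y)) =
        E ((1 : T i) ⊗ₜ[R] a) ^ j * E ((1 : T i) ⊗ₜ[R] y) := by
      intro j
      rw [← map_pow, ← map_mul, Algebra.TensorProduct.tmul_pow, one_pow,
        Algebra.TensorProduct.tmul_mul_tmul, one_mul]
    have hyp : Hyp (T i) M 1 (E ((1 : T i) ⊗ₜ[R] a)) (E ((1 : T i) ⊗ₜ[R] y)) := by
      intro n hn _
      obtain ⟨j, hj⟩ := hy n hn
      refine ⟨j, ?_⟩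
      have h2 := mem_torsionIdeal_bialgHom
        (E : (T i ⊗[R] A) →ₐc[T i] MonoidAlgebra (T i) M) n _
        (mem_torsionIdeal_baseChange R A (T i) n _ hj)
      have h3 : proj (T i) M n (E ((1 : T i) ⊗ₜ[R] (a ^ j * y))) = 0 :=
        proj_eq_zero_of_mem_torsionIdeal n _ h2
      rw [hE j] at h3
      exact h3
    obtain ⟨j, hj⟩ := core_fg (T i) M hfg _ _ hyp
    refine ⟨j, ?_⟩
    rw [← hE j] at hj
    exact (EmbeddingLike.map_eq_zero_iff (f := E)).1 hj
  choose J hJ using hloc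
  have := hff
  refine ⟨∑ i, J i, ?_⟩
  apply Groth.Agent.Helper25.Desc.inj_family R T A
  intro i
  have hle : J i ≤ ∑ i, J i :=
    Finset.single_le_sum (fun _ _ => Nat.zero_le _) (Finset.mem_univ i)
  have h1 : a ^ (∑ i, J i) * y = a ^ (∑ i, J i - J i) * (a ^ J i * y) := by
    rw [← mul_assoc, ← pow_add, Nat.sub_add_cancel hle]
  rw [h1, ← one_mul (1 : T i), ← Algebra.TensorProduct.tmul_mul_tmul, hJ i, mul_zero]

theorem main2981 (hft : Algebra.FiniteType R A) (h : IsMultType R A) (a : A) :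
    ⨅ n : {n : ℕ // 0 < n},
      Ideal.map (algebraMap A (Localization.Away a)) (torsionIdeal R A n.1) = ⊥ := by
  rw [eq_bot_iff]
  intro x hx
  rw [Ideal.mem_iInf] at hx
  rw [Ideal.mem_bot]
  obtain ⟨⟨y, s⟩, hys⟩ := IsLocalization.surj (Submonoid.powers a) x
  have hy : ∀ n : ℕ, 0 < n → ∃ j : ℕ, a ^ j * y ∈ torsionIdeal R A n := by
    intro n hn
    have h1 : algebraMap A (Localization.Away a) y ∈
        Ideal.map (algebraMap A (Localization.Away a)) (torsionIdeal R A n) := by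
      rw [← hys]
      exact Ideal.mul_mem_right _ _ (hx ⟨n, hn⟩)
    obtain ⟨m, hm, hmy⟩ := (IsLocalization.algebraMap_mem_map_algebraMap_iff
      (Submonoid.powers a) (Localization.Away a) _ y).1 h1
    obtain ⟨j, hj⟩ := (Submonoid.mem_powers_iff _ _).1 hm
    exact ⟨j, by rw [hj]; exact hmy⟩
  obtain ⟨j, hj⟩ := key R A hft h a y hy
  have h2 : algebraMap A (Localization.Away a) y = 0 := by
    rw [IsLocalization.map_eq_zero_iff (Submonoid.powers a)]
    exact ⟨⟨a ^ j, j, rfl⟩, hj⟩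
  rw [h2] at hys
  exact (IsUnit.mul_left_eq_zero (IsLocalization.map_units _ s)).1 hys

end main

end Groth.Agent.Helper25.Dens3
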