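import Mathlib
import Groth.Prelude.Def_CAlg
import Groth.Agent.Lib.Helper9.Depth2

/-!
# A Noetherian domain is the intersection of its localizations at primes of depth one (helper25)
-/

set_option autoImplicit false

universe u

namespace Groth.Agent.Helper25.DepthOne

open Groth.Agent.Helper9.Depth IsLocalRing

variable {A : Type u} [CommRing A] [IsDomain A] [IsNoetherianRing A]

/-- if `P = (bA : w)` is prime (with `w ∉ bA`, `b ≠ 0`), then `A_P` has depth one. -/
theorem depth_localization_eq_one (P : Ideal A) [P.IsPrime] (b w : A) (hb0 : b ≠ 0)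
    (hPmem : ∀ r, r ∈ P ↔ r * w ∈ Ideal.span {b}) :
    LocCoh.depth (Localization.AtPrime P) (Localization.AtPrime P) = 1 := by
  have hbP : b ∈ P := (hPmem b).2 (Ideal.mul_mem_right _ _ (Ideal.mem_span_singleton_self b))
  have hle : P.primeCompl ≤ nonZeroDivisors A := P.primeCompl_le_nonZeroDivisors
  haveI : IsDomain (Localization.AtPrime P) := IsLocalization.isDomain_localization hle
  have hinj : Function.Injective (algebraMap A (Localization.AtPrime P)) :=
    IsLocalization.injective (Localization.AtPrime P) hle
  set b' : Localization.AtPrime P := algebraMap A (Localization.AtPrime P) b with hb'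
  have hb'max : b' ∈ maximalIdeal (Localization.AtPrime P) :=
    (IsLocalization.AtPrime.to_map_mem_maximal_iff (Localization.AtPrime P) P b).2 hbP
  have hb'0 : b' ≠ 0 := by
    intro h
    apply hb0
    apply hinj
    rw [← hb', h, map_zero]
  have hreg : IsSMulRegular (Localization.AtPrime P) b' :=
    (IsRegular.of_ne_zero hb'0).left.isSMulRegular
  haveI : Nontrivial (QuotSMulTop b' (Localization.AtPrime P)) :=
    nontrivial_quotSMulTop_of_mem_maximalIdeal (Localization.AtPrime P) hb'max
  have h0 : LocCoh.depth (Localization.AtPrime P) (QuotSMulTop b' (Localization.AtPrime P)) = 0 := by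
    rw [depth_eq_zero_iff_forall_not_regular]
    intro y hy hyreg
    let w' : QuotSMulTop b' (Localization.AtPrime P) :=
      Submodule.Quotient.mk (algebraMap A (Localization.AtPrime P) w)
    have hw'0 : w' ≠ 0 := by
      intro h
      rw [Submodule.Quotient.mk_eq_zero, Submodule.mem_smul_pointwise_iff_exists] at h
      obtain ⟨z, -, hz⟩ := h
      obtain ⟨⟨z₀, s⟩, rfl⟩ := IsLocalization.mk'_surjective P.primeCompl z
      have h1 : algebraMap A (Localization.AtPrime P) (b * z₀) =
          algebraMap A (Localization.AtPrime P) (w * s) := by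
        rw [map_mul, map_mul, ← hz, smul_eq_mul, mul_assoc, IsLocalization.mk'_spec]
      have h2 : b * z₀ = w * s := hinj h1
      have h3 : (s : A) ∈ P := (hPmem s).2 (by
        rw [mul_comm, ← h2]
        exact Ideal.mul_mem_right _ _ (Ideal.mem_span_singleton_self b))
      exact s.2 h3
    have hyw : y • w' = 0 := by
      obtain ⟨⟨y₀, s⟩, rfl⟩ := IsLocalization.mk'_surjective P.primeCompl y
      have hy₀ : y₀ ∈ P :=
        (IsLocalization.AtPrime.mk'_mem_maximal_iff (Localization.AtPrime P) P y₀ s).1 hy
      obtain ⟨c, hc⟩ := Ideal.mem_span_singleton'.1 ((hPmem y₀).1 hy₀)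
      change Submodule.Quotient.mk (IsLocalization.mk' (Localization.AtPrime P) y₀ s •
        algebraMap A (Localization.AtPrime P) w) = 0
      rw [Submodule.Quotient.mk_eq_zero, Submodule.mem_smul_pointwise_iff_exists]
      refine ⟨IsLocalization.mk' (Localization.AtPrime P) c s, trivial, ?_⟩
      rw [smul_eq_mul, smul_eq_mul, hb', IsLocalization.mul_mk'_eq_mk'_of_mul,
        mul_comm (IsLocalization.mk' (Localization.AtPrime P) y₀ s),
        IsLocalization.mul_mk'_eq_mk'_of_mul]
      congr 1
      rw [mul_comm b c, hc, mul_comm]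
    have : y • w' = y • (0 : QuotSMulTop b' (Localization.AtPrime P)) := by rw [hyw, smul_zero]
    exact hw'0 (hyreg this)
  have h1 := depth_quotSMulTop_succ (M := Localization.AtPrime P) hb'max hreg
  rw [h0, zero_add] at h1
  exact h1.symm

theorem mem_range (x : FractionRing A)
    (hx : ∀ (p : Ideal A) [p.IsPrime],
      LocCoh.depth (Localization.AtPrime p) (Localization.AtPrime p) = 1 →
        x ∈ Set.range (algebraMap (Localization.AtPrime p) (FractionRing A))) :
    x ∈ Set.range (algebraMap A (FractionRing A)) := by
  obtain ⟨a, b, hb, rfl⟩ := IsFractionRing.div_surjective A x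
  have hb0 : b ≠ 0 := nonZeroDivisors.ne_zero hb
  have hbK : algebraMap A (FractionRing A) b ≠ 0 :=
    IsFractionRing.to_map_ne_zero_of_mem_nonZeroDivisors hb
  by_contra hne
  have hab : Ideal.Quotient.mk (Ideal.span {b}) a ≠ 0 := by
    intro h0
    rw [Ideal.Quotient.eq_zero_iff_mem, Ideal.mem_span_singleton'] at h0
    obtain ⟨c, hc⟩ := h0
    apply hne
    refine ⟨c, ?_⟩
    rw [← hc, map_mul]
    field_simp
  obtain ⟨P, hP, hle⟩ := exists_le_isAssociatedPrime_of_isNoetherianRing (R := A)
    (M := A ⧸ Ideal.span {b}) _ hab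
  rw [isAssociatedPrime_iff] at hP
  obtain ⟨hPprime, wbar, hPw⟩ := hP
  obtain ⟨w, rfl⟩ := Ideal.Quotient.mk_surjective wbar
  haveI := hPprime
  have hPmem : ∀ r, r ∈ P ↔ r * w ∈ Ideal.span {b} := by
    intro r
    rw [hPw, Submodule.mem_colon_singleton, Submodule.mem_bot, ← Ideal.Quotient.eq_zero_iff_mem,
      map_mul]
    rfl
  have hdepth := depth_localization_eq_one P b w hb0 hPmem
  obtain ⟨y, hy⟩ := hx P hdepth
  obtain ⟨⟨a', s⟩, rfl⟩ := IsLocalization.mk'_surjective P.primeCompl y
  have key : a * s = a' * b := by
    apply IsFractionRing.injective A (FractionRing A)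
    rw [map_mul, map_mul]
    have e1 : algebraMap (Localization.AtPrime P) (FractionRing A)
        (IsLocalization.mk' (Localization.AtPrime P) a' s) * algebraMap A (FractionRing A) s =
        algebraMap A (FractionRing A) a' := by
      rw [IsScalarTower.algebraMap_apply A (Localization.AtPrime P) (FractionRing A) (s : A),
        ← map_mul, IsLocalization.mk'_spec, ← IsScalarTower.algebraMap_apply]
    have e2 : algebraMap (Localization.AtPrime P) (FractionRing A)
        (IsLocalization.mk' (Localization.AtPrime P) a' s) =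
        algebraMap A (FractionRing A) a / algebraMap A (FractionRing A) b := hy
    rw [e2] at e1
    rw [← e1]
    field_simp
  have hsP : (s : A) ∈ P := hle (by
    rw [Submodule.mem_colon_singleton, Submodule.mem_bot]
    change Ideal.Quotient.mk (Ideal.span {b}) ((s : A) * a) = 0
    rw [Ideal.Quotient.eq_zero_iff_mem, mul_comm, key]
    exact Ideal.mul_mem_left _ _ (Ideal.mem_span_singleton_self b))
  exact s.2 hsP

end Groth.Agent.Helper25.DepthOne
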