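import Mathlib
import Groth.Prelude.Def_AlgSt2
import Groth.Agent.Lib.Helper19.StLib

/-!
# Lifting a point of `𝒳 ×_𝒴 𝒳` to the diagonal of a base change (helper25)

For `f : 𝒳 ⟶ 𝒴` and `z : 𝒰 ⟶ 𝒳 ×_𝒴 𝒳`, with `y := z ≫ pr₁ ≫ f : 𝒰 ⟶ 𝒴` and `π : 𝒰 ×_𝒴 𝒳 ⟶ 𝒰`,
`z` factors (up to 2-isomorphism) through `(𝒰 ×_𝒴 𝒳) ×_𝒰 (𝒰 ×_𝒴 𝒳) ⟶ 𝒳 ×_𝒴 𝒳`.  Hence properties of `diag f`
can be tested on the diagonals of the base changes `π`.
-/

set_option autoImplicit false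
set_option backward.isDefEq.respectTransparency false

universe w₄ v₄ w₃ v₃ w' v' w v u

open CategoryTheory CategoryTheory.Limits Functor AlgebraicGeometry Opposite

namespace Groth.Agent.Helper25.DiagLift

open FibCat Groth.Agent.Helper19.FibLib

section general

variable {C : Type u} [Category.{v} C]
variable {𝒳 : BasedCategory.{v', w'} C} {𝒴 : BasedCategory.{v₃, w₃} C} {𝒰 : BasedCategory.{v₄, w₄} C}
  (f : 𝒳 ⥤ᵇ 𝒴) (z : 𝒰 ⥤ᵇ fp f f)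

/-- `y = z ≫ pr₁ ≫ f`. -/
def yOf : 𝒰 ⥤ᵇ 𝒴 := BasedFunctor.comp z (BasedFunctor.comp (fpFst f f) f)

/-- first section of `𝒰 ×_𝒴 𝒳 ⟶ 𝒰`. -/
def s₁ : 𝒰 ⥤ᵇ fp (yOf f z) f :=
  fpLift (F := yOf f z) (G := f) (BasedFunctor.id 𝒰) (BasedFunctor.comp z (fpFst f f)) (Iso.refl _)

/-- second section of `𝒰 ×_𝒴 𝒳 ⟶ 𝒰`. -/
def s₂ : 𝒰 ⥤ᵇ fp (yOf f z) f :=
  fpLift (F := yOf f z) (G := f) (BasedFunctor.id 𝒰) (BasedFunctor.comp z (fpSnd f f))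
    (whiskerLeftIso z (fpIso f f))

/-- the pair of sections. -/
def wOf : 𝒰 ⥤ᵇ fp (fpFst (yOf f z) f) (fpFst (yOf f z) f) :=
  fpLift (F := fpFst (yOf f z) f) (G := fpFst (yOf f z) f) (s₁ f z) (s₂ f z) (Iso.refl _)

/-- `z` factors through `dbcN`. -/
def θOf : z ≅ BasedFunctor.comp (wOf f z) (dbcN f (yOf f z)) :=
  fpFunctorIso _ _ (Iso.refl _) (Iso.refl _) (fun x => by
    simp [wOf, s₁, s₂, dbcN, yOf])

end general

section algst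

open AlgSt Groth.Agent.Helper19.StLib

variable {S : Scheme.{u}} {P : MorphismProperty (AlgSp.Sp S)}

theorem repOver_of_diag_fpFst {𝒳 : BasedCategory.{v, w} (Over S)} {𝒴 : BasedCategory.{v', w'} (Over S)}
    (f : 𝒳 ⥤ᵇ 𝒴) {U : Over S} (z : overCat U ⥤ᵇ fp f f)
    (h : RepByAlgSpWith P (diag (fpFst (yOf f z) f))) : RepOver P (fpFst z (diag f)) := by
  have h1 : RepByAlgSpWith P (fpFst (dbcN f (yOf f z)) (diag f)) :=
    (repByAlgSpWith_equiv_comp (dbcΦ f (yOf f z)) (isEquivOver_dbcΦ f (yOf f z)) _).1 h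
  have h2 : RepOver P (fpFst (wOf f z) (fpFst (dbcN f (yOf f z)) (diag f))) := h1 U (wOf f z)
  have h3 : RepOver P (fpFst (BasedFunctor.comp (wOf f z) (dbcN f (yOf f z))) (diag f)) :=
    RepOver.of_equiv_symm (pasteL (wOf f z) (dbcN f (yOf f z)) (diag f))
      (isEquivOver_pasteL _ _ _) (eqToIso (pasteL_comp_fpFst _ _ _)) h2
  exact RepOver.of_equiv_symm (fpCongrLeft (diag f) (θOf f z)) (isEquivOver_fpCongrLeft _ _)
    (eqToIso (fpCongrLeft_comp_fpFst _ _)) h3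

theorem repByAlgSpWith_diag_iff {𝒳 : BasedCategory.{v, w} (Over S)} {𝒴 : BasedCategory.{v', w'} (Over S)}
    (f : 𝒳 ⥤ᵇ 𝒴) :
    RepByAlgSpWith P (diag f) ↔
      ∀ (T : Over S) (y : overCat T ⥤ᵇ 𝒴), RepByAlgSpWith P (diag (fpFst y f)) :=
  ⟨fun h _ y => repByAlgSpWith_diag_fpFst f y h,
    fun h U z => repOver_of_diag_fpFst f z (h U (yOf f z))⟩

end algst

end Groth.Agent.Helper25.DiagLift
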