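import Mathlib
import Groth.Prelude.Def_DiffOp

/-! Differential operators (in the sense of `Diff16.IsDiffOpLE`) extend uniquely to localizations. -/

namespace Groth.Agent.Helper25.DiffLoc

open Diff16

universe u v

section basic

variable {A B : Type u} [CommRing A] [CommRing B] [Algebra A B]
variable {M N : Type v} [AddCommGroup M] [Module A M] [Module B M] [IsScalarTower A B M]
  [AddCommGroup N] [Module A N] [Module B N] [IsScalarTower A B N]

theorem comm_apply (D : M →ₗ[A] N) (b : B) (m : M) :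
    commutator A B M N D b m = D (b • m) - b • D m := by
  simp [Diff16.commutator]

theorem isDiffOpLE_zero_iff (D : M →ₗ[A] N) :
    IsDiffOpLE A B M N 0 D ↔ ∀ (b : B) (m : M), D (b • m) = b • D m := Iff.rfl

theorem isDiffOpLE_succ_iff (k : ℕ) (D : M →ₗ[A] N) :
    IsDiffOpLE A B M N (k + 1) D ↔
      ∀ b : B, IsDiffOpLE A B M N k (commutator A B M N D b) := Iff.rfl

theorem isDiffOpLE_succ : ∀ (k : ℕ) (D : M →ₗ[A] N),
    IsDiffOpLE A B M N k D → IsDiffOpLE A B M N (k + 1) D
  | 0, D, hD => by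
      refine (isDiffOpLE_succ_iff 0 D).2 fun b => (isDiffOpLE_zero_iff _).2 fun b' m => ?_
      have hD' := (isDiffOpLE_zero_iff D).1 hD
      have h0 : ∀ m, commutator A B M N D b m = 0 := fun m => by
        rw [comm_apply, hD' b m, sub_self]
      rw [h0, h0, smul_zero]
  | k + 1, D, hD =>
      (isDiffOpLE_succ_iff _ _).2 fun b =>
        isDiffOpLE_succ k _ ((isDiffOpLE_succ_iff _ _).1 hD b)

theorem comm_sub (D₁ D₂ : M →ₗ[A] N) (b : B) :
    commutator A B M N (D₁ - D₂) b =
      commutator A B M N D₁ b - commutator A B M N D₂ b := by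
  ext m
  simp only [comm_apply, LinearMap.sub_apply, smul_sub]
  abel

theorem isDiffOpLE_sub : ∀ (k : ℕ) (D₁ D₂ : M →ₗ[A] N),
    IsDiffOpLE A B M N k D₁ → IsDiffOpLE A B M N k D₂ → IsDiffOpLE A B M N k (D₁ - D₂)
  | 0, D₁, D₂, h₁, h₂ => by
      refine (isDiffOpLE_zero_iff _).2 fun b m => ?_
      rw [LinearMap.sub_apply, LinearMap.sub_apply, (isDiffOpLE_zero_iff _).1 h₁ b m,
        (isDiffOpLE_zero_iff _).1 h₂ b m, smul_sub]
  | k + 1, D₁, D₂, h₁, h₂ => by
      refine (isDiffOpLE_succ_iff _ _).2 fun b => ?_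
      rw [comm_sub]
      exact isDiffOpLE_sub k _ _ ((isDiffOpLE_succ_iff _ _).1 h₁ b)
        ((isDiffOpLE_succ_iff _ _).1 h₂ b)

variable {N₂ : Type v} [AddCommGroup N₂] [Module A N₂] [Module B N₂] [IsScalarTower A B N₂]

theorem comm_postcomp (φ : N →ₗ[B] N₂) (D : M →ₗ[A] N) (b : B) :
    commutator A B M N₂ (φ.restrictScalars A ∘ₗ D) b =
      φ.restrictScalars A ∘ₗ commutator A B M N D b := by
  ext m
  simp only [comm_apply, LinearMap.comp_apply, LinearMap.restrictScalars_apply, map_sub,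
    map_smul]

theorem isDiffOpLE_postcomp (φ : N →ₗ[B] N₂) : ∀ (k : ℕ) (D : M →ₗ[A] N),
    IsDiffOpLE A B M N k D → IsDiffOpLE A B M N₂ k (φ.restrictScalars A ∘ₗ D)
  | 0, D, h => by
      refine (isDiffOpLE_zero_iff _).2 fun b m => ?_
      rw [LinearMap.comp_apply, (isDiffOpLE_zero_iff _).1 h b m,
        LinearMap.restrictScalars_apply, map_smul]
      rfl
  | k + 1, D, h => by
      refine (isDiffOpLE_succ_iff _ _).2 fun b => ?_
      rw [comm_postcomp]
      exact isDiffOpLE_postcomp φ k _ ((isDiffOpLE_succ_iff _ _).1 h b)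

variable {M₀ : Type v} [AddCommGroup M₀] [Module A M₀] [Module B M₀] [IsScalarTower A B M₀]

theorem comm_precomp (ψ : M₀ →ₗ[B] M) (D : M →ₗ[A] N) (b : B) :
    commutator A B M₀ N (D ∘ₗ ψ.restrictScalars A) b =
      commutator A B M N D b ∘ₗ ψ.restrictScalars A := by
  ext m
  simp only [comm_apply, LinearMap.comp_apply, LinearMap.restrictScalars_apply, map_smul]

theorem isDiffOpLE_precomp (ψ : M₀ →ₗ[B] M) : ∀ (k : ℕ) (D : M →ₗ[A] N),
    IsDiffOpLE A B M N k D → IsDiffOpLE A B M₀ N k (D ∘ₗ ψ.restrictScalars A)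
  | 0, D, h => by
      refine (isDiffOpLE_zero_iff _).2 fun b m => ?_
      rw [LinearMap.comp_apply, LinearMap.comp_apply, LinearMap.restrictScalars_apply,
        LinearMap.restrictScalars_apply, map_smul, (isDiffOpLE_zero_iff _).1 h b]
  | k + 1, D, h => by
      refine (isDiffOpLE_succ_iff _ _).2 fun b => ?_
      rw [comm_precomp]
      exact isDiffOpLE_precomp ψ k _ ((isDiffOpLE_succ_iff _ _).1 h b)

theorem inj_gen0 (S : Submonoid B) (hinj : ∀ (s : S) (n : N), (s : B) • n = 0 → n = 0)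
    (ψ : M₀ →ₗ[B] M) (hψ : ∀ x : M, ∃ (s : S) (m : M₀), (s : B) • x = ψ m)
    (h : M →ₗ[A] N) (hk : IsDiffOpLE A B M N 0 h) (h0 : ∀ m, h (ψ m) = 0) : h = 0 := by
  ext x
  obtain ⟨s, m, hsm⟩ := hψ x
  apply hinj s
  rw [← (isDiffOpLE_zero_iff _).1 hk, hsm, h0]

theorem inj_gen (S : Submonoid B) (hinj : ∀ (s : S) (n : N), (s : B) • n = 0 → n = 0)
    (ψ : M₀ →ₗ[B] M) (hψ : ∀ x : M, ∃ (s : S) (m : M₀), (s : B) • x = ψ m) :
    ∀ (k : ℕ) (h : M →ₗ[A] N), IsDiffOpLE A B M N k h → (∀ m, h (ψ m) = 0) → h = 0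
  | 0, h, hk, h0 => inj_gen0 S hinj ψ hψ h hk h0
  | k + 1, h, hk, h0 => by
      have hc : ∀ b : B, commutator A B M N h b = 0 := fun b =>
        inj_gen S hinj ψ hψ k _ ((isDiffOpLE_succ_iff _ _).1 hk b) (fun m => by
          rw [comm_apply, ← ψ.map_smul b m, h0, h0, smul_zero, sub_zero])
      have hlin : IsDiffOpLE A B M N 0 h := (isDiffOpLE_zero_iff _).2 fun b m => by
        have := LinearMap.congr_fun (hc b) m
        rw [comm_apply, LinearMap.zero_apply, sub_eq_zero] at this
        exact this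
      exact inj_gen0 S hinj ψ hψ h hlin h0

theorem rel_order (S : Submonoid B) (f : M₀ →ₗ[B] M)
    (hsurj : ∀ x : M, ∃ (s : S) (m : M₀), (s : B) • x = f m) :
    ∀ (k : ℕ) (E : M →ₗ[A] N) (H : S → (M₀ →ₗ[A] N)),
      (∀ s, IsDiffOpLE A B M₀ N k (H s)) →
      (∀ (x : M) (m : M₀) (s : S), (s : B) • x = f m → E x = H s m) →
      IsDiffOpLE A B M N k E
  | 0, E, H, hH, hrel => by
      refine (isDiffOpLE_zero_iff _).2 fun b x => ?_
      obtain ⟨s, m, hsm⟩ := hsurj x
      have h2 : (s : B) • (b • x) = f (b • m) := by rw [smul_comm, hsm, map_smul]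
      rw [hrel _ _ _ h2, hrel _ _ _ hsm, (isDiffOpLE_zero_iff _).1 (hH s)]
  | k + 1, E, H, hH, hrel => by
      refine (isDiffOpLE_succ_iff _ _).2 fun b => ?_
      refine rel_order S f hsurj k _ (fun s => commutator A B M₀ N (H s) b)
        (fun s => (isDiffOpLE_succ_iff _ _).1 (hH s) b) ?_
      intro x m s hsm
      have h2 : (s : B) • (b • x) = f (b • m) := by rw [smul_comm, hsm, map_smul]
      rw [comm_apply, comm_apply, hrel _ _ _ h2, hrel _ _ _ hsm]

end basic

section loc

variable {A B : Type u} [CommRing A] [CommRing B] [Algebra A B]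
variable (B' : Type u) [CommRing B'] [Algebra B B'] [Algebra A B']
variable {M N : Type v} [AddCommGroup M] [Module A M] [Module B M] [IsScalarTower A B M]
  [AddCommGroup N] [Module A N] [Module B N] [IsScalarTower A B N]
variable {M' : Type v} [AddCommGroup M'] [Module A M'] [Module B M'] [Module B' M']
  [IsScalarTower A B M'] [IsScalarTower A B' M'] [IsScalarTower B B' M']
variable {N' : Type v} [AddCommGroup N'] [Module A N'] [Module B N'] [Module B' N']
  [IsScalarTower A B N'] [IsScalarTower A B' N'] [IsScalarTower B B' N']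

/-- multiplication by `β : B'` as a `B`-linear map. -/
noncomputable def lsm (B : Type u) {B' : Type u} (X : Type v) [CommRing B] [CommRing B']
    [Algebra B B'] [AddCommGroup X] [Module B X] [Module B' X] [IsScalarTower B B' X]
    (β : B') : X →ₗ[B] X :=
  (LinearMap.lsmul B' X β).restrictScalars B

theorem lsm_apply {B : Type u} {B' : Type u} {X : Type v} [CommRing B] [CommRing B']
    [Algebra B B'] [AddCommGroup X] [Module B X] [Module B' X] [IsScalarTower B B' X]
    (β : B') (x : X) : lsm B X β x = β • x := rfl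

theorem smul_inv_smul (S : Submonoid B) [IsLocalization S B'] (s : S) (n : N') :
    (s : B) • ((IsLocalization.mk' B' (1 : B) s) • n) = n := by
  rw [← algebraMap_smul B' (s : B) ((IsLocalization.mk' B' (1 : B) s) • n), smul_smul,
    IsLocalization.mk'_spec', map_one, one_smul]

theorem inv_smul_smul (S : Submonoid B) [IsLocalization S B'] (s : S) (n : N') :
    (IsLocalization.mk' B' (1 : B) s) • ((s : B) • n) = n := by
  rw [← algebraMap_smul B' (s : B) n, smul_smul, IsLocalization.mk'_spec, map_one, one_smul]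

theorem smul_cancel (S : Submonoid B) [IsLocalization S B'] (s : S) {n₁ n₂ : N'}
    (h : (s : B) • n₁ = (s : B) • n₂) : n₁ = n₂ := by
  rw [← inv_smul_smul B' S s n₁, h, inv_smul_smul]

theorem rsurj (S : Submonoid B) [IsLocalization S B'] (s : S) :
    ∀ (k : ℕ) (h : M →ₗ[A] N'), IsDiffOpLE A B M N' k h →
      ∃ h' : M →ₗ[A] N', IsDiffOpLE A B M N' k h' ∧ ∀ m, h' ((s : B) • m) = h m
  | 0, h, hk => by
      refine ⟨(lsm B N' (IsLocalization.mk' B' (1 : B) s)).restrictScalars A ∘ₗ h,
        isDiffOpLE_postcomp _ 0 h hk, fun m => ?_⟩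
      rw [LinearMap.comp_apply, (isDiffOpLE_zero_iff _).1 hk]
      exact inv_smul_smul B' S s (h m)
  | k + 1, h, hk => by
      obtain ⟨g, hg, hgs⟩ := rsurj S s k _ ((isDiffOpLE_succ_iff _ _).1 hk (s : B))
      refine ⟨(lsm B N' (IsLocalization.mk' B' (1 : B) s)).restrictScalars A ∘ₗ (h - g),
        isDiffOpLE_postcomp _ (k + 1) _
          (isDiffOpLE_sub (k + 1) _ _ hk (isDiffOpLE_succ k g hg)), fun m => ?_⟩
      rw [LinearMap.comp_apply, LinearMap.sub_apply, hgs, comm_apply, sub_sub_cancel]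
      exact inv_smul_smul B' S s (h m)

theorem exists_ext (S : Submonoid B) [IsLocalization S B'] (f : M →ₗ[B] M')
    [IsLocalizedModule S f] (k : ℕ) (h : M →ₗ[A] N') (hh : IsDiffOpLE A B M N' k h) :
    ∃ E : M' →ₗ[A] N', IsDiffOpLE A B M' N' k E ∧ ∀ m, E (f m) = h m := by
  have hinj : ∀ (s : S) (n : N'), (s : B) • n = 0 → n = 0 := fun s n hn =>
    smul_cancel B' S s (by rw [hn, smul_zero])
  choose H hHord hHspec using fun s : S => rsurj B' S s k h hh
  have hkey : ∀ (s t : S) (m : M), H (s * t) ((t : B) • m) = H s m := by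
    intro s t m
    have hz : H (s * t) ∘ₗ (LinearMap.lsmul B M (t : B)).restrictScalars A - H s = 0 := by
      refine inj_gen S hinj (LinearMap.lsmul B M (s : B)) (fun x => ⟨s, x, rfl⟩) k _
        (isDiffOpLE_sub k _ _ (isDiffOpLE_precomp _ k _ (hHord (s * t))) (hHord s))
        (fun m => ?_)
      simp only [LinearMap.sub_apply, LinearMap.comp_apply, LinearMap.restrictScalars_apply,
        LinearMap.lsmul_apply]
      rw [hHspec s m, smul_smul, mul_comm (t : B) (s : B), ← Submonoid.coe_mul,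
        hHspec (s * t) m, sub_self]
    have := LinearMap.congr_fun hz m
    simp only [LinearMap.sub_apply, LinearMap.comp_apply, LinearMap.restrictScalars_apply,
      LinearMap.lsmul_apply, LinearMap.zero_apply, sub_eq_zero] at this
    exact this
  choose ms hms using fun x : M' => IsLocalizedModule.surj S f x
  have hms' : ∀ x : M', (((ms x).2 : S) : B) • x = f (ms x).1 := fun x => by
    rw [← Submonoid.smul_def]; exact hms x
  have hE : ∀ (x : M') (m : M) (s : S), (s : B) • x = f m →
      H (ms x).2 (ms x).1 = H s m := by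
    intro x m s hx
    have h1 : f ((s : B) • (ms x).1) = f (((ms x).2 : B) • m) := by
      rw [map_smul, map_smul, ← hms' x, ← hx, smul_comm]
    obtain ⟨c, hc⟩ := (IsLocalizedModule.eq_iff_exists S f).1 h1
    rw [Submonoid.smul_def, Submonoid.smul_def] at hc
    have e1 : (ms x).2 * (c * s) = s * (c * (ms x).2) := by ac_rfl
    calc H (ms x).2 (ms x).1
        = H ((ms x).2 * (c * s)) (((c * s : S) : B) • (ms x).1) := (hkey _ _ _).symm
      _ = H (s * (c * (ms x).2)) (((c * (ms x).2 : S) : B) • m) := by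
          rw [e1, Submonoid.coe_mul, Submonoid.coe_mul, mul_smul, mul_smul, hc]
      _ = H s m := hkey _ _ _
  have hadd : ∀ x y : M', H (ms (x + y)).2 (ms (x + y)).1 =
      H (ms x).2 (ms x).1 + H (ms y).2 (ms y).1 := by
    intro x y
    have hx := hms' x
    have hy := hms' y
    have hxy : (((ms x).2 * (ms y).2 : S) : B) • (x + y) =
        f (((ms y).2 : B) • (ms x).1 + ((ms x).2 : B) • (ms y).1) := by
      rw [map_add, map_smul, map_smul, ← hx, ← hy, Submonoid.coe_mul, smul_add, mul_smul,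
        mul_smul, smul_comm ((ms x).2 : B) ((ms y).2 : B) x]
    rw [hE (x + y) _ _ hxy, map_add]
    congr 1
    · exact hkey _ _ _
    · rw [mul_comm]; exact hkey _ _ _
  have hsmul : ∀ (a : A) (x : M'), H (ms (a • x)).2 (ms (a • x)).1 =
      a • H (ms x).2 (ms x).1 := by
    intro a x
    have hx := hms' x
    have hax : (((ms x).2 : S) : B) • (a • x) = f (a • (ms x).1) := by
      rw [smul_comm, hx, LinearMap.map_smul_of_tower]
    rw [hE (a • x) _ _ hax, map_smul]
  have hf : ∀ m, H (ms (f m)).2 (ms (f m)).1 = h m := by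
    intro m
    have h1 : ((1 : S) : B) • f m = f m := by simp
    rw [hE (f m) m 1 h1]
    have := hHspec 1 m
    simpa using this
  have hsurj : ∀ x : M', ∃ (s : S) (m : M), (s : B) • x = f m := fun x =>
    ⟨(ms x).2, (ms x).1, hms' x⟩
  refine ⟨{ toFun := fun x => H (ms x).2 (ms x).1, map_add' := hadd, map_smul' := hsmul },
    ?_, hf⟩
  exact rel_order S f hsurj k _ H hHord (fun x m s hx => hE x m s hx)

theorem smul_eq_of_surj {X : Type v} [AddCommGroup X] [Module B X] [Module B' X]
    [IsScalarTower B B' X] {β : B'} {b s : B}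
    (hbs : β * algebraMap B B' s = algebraMap B B' b) (x : X) :
    s • β • x = b • x := by
  rw [← algebraMap_smul B' s (β • x), ← algebraMap_smul B' b x, smul_smul, mul_comm, hbs]

theorem toLoc (S : Submonoid B) [IsLocalization S B'] :
    ∀ (k : ℕ) (E : M' →ₗ[A] N'), IsDiffOpLE A B M' N' k E → IsDiffOpLE A B' M' N' k E
  | 0, E, hE => by
      refine (isDiffOpLE_zero_iff _).2 fun β x => ?_
      obtain ⟨⟨b, s⟩, hbs⟩ := IsLocalization.surj S β
      dsimp only at hbs
      apply smul_cancel B' S s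
      have hE0 := (isDiffOpLE_zero_iff _).1 hE
      calc (s : B) • E (β • x) = E ((s : B) • β • x) := (hE0 _ _).symm
        _ = E (b • x) := by rw [smul_eq_of_surj B' hbs x]
        _ = b • E x := hE0 _ _
        _ = (s : B) • β • E x := (smul_eq_of_surj B' hbs (E x)).symm
  | k + 1, E, hE => by
      refine (isDiffOpLE_succ_iff _ _).2 fun β => ?_
      apply toLoc S k
      obtain ⟨⟨b, s⟩, hbs⟩ := IsLocalization.surj S β
      dsimp only at hbs
      have hE1 := (isDiffOpLE_succ_iff _ _).1 hE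
      have key : commutator A B' M' N' E β =
          (lsm B N' (IsLocalization.mk' B' (1 : B) s)).restrictScalars A ∘ₗ
            (commutator A B M' N' E b -
              commutator A B M' N' E (s : B) ∘ₗ (lsm B M' β).restrictScalars A) := by
        ext x
        apply smul_cancel B' S s
        rw [LinearMap.comp_apply, LinearMap.restrictScalars_apply, lsm_apply,
          smul_inv_smul B' S s, LinearMap.sub_apply, LinearMap.comp_apply,
          LinearMap.restrictScalars_apply, lsm_apply, comm_apply, comm_apply, comm_apply,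
          smul_sub, smul_eq_of_surj B' hbs x, smul_eq_of_surj B' hbs (E x)]
        abel
      rw [key]
      exact isDiffOpLE_postcomp _ k _
        (isDiffOpLE_sub k _ _ (hE1 b) (isDiffOpLE_precomp _ k _ (hE1 (s : B))))

theorem comm_algebraMap (E : M' →ₗ[A] N') (b : B) :
    commutator A B' M' N' E (algebraMap B B' b) = commutator A B M' N' E b := by
  ext x
  rw [comm_apply, comm_apply, algebraMap_smul, algebraMap_smul]

theorem fromLoc : ∀ (k : ℕ) (E : M' →ₗ[A] N'),
    IsDiffOpLE A B' M' N' k E → IsDiffOpLE A B M' N' k E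
  | 0, E, hE => by
      refine (isDiffOpLE_zero_iff _).2 fun b x => ?_
      rw [← algebraMap_smul B' b x, (isDiffOpLE_zero_iff _).1 hE, algebraMap_smul]
  | k + 1, E, hE => by
      refine (isDiffOpLE_succ_iff _ _).2 fun b => ?_
      rw [← comm_algebraMap B']
      exact fromLoc k _ ((isDiffOpLE_succ_iff _ _).1 hE _)

theorem main_abstract (S : Submonoid B) [IsLocalization S B'] (f : M →ₗ[B] M')
    [IsLocalizedModule S f] (g : N →ₗ[B] N') (k : ℕ) (D : M →ₗ[A] N)
    (hD : IsDiffOpLE A B M N k D) :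
    ∃! E : M' →ₗ[A] N', IsDiffOpLE A B' M' N' k E ∧
      E ∘ₗ f.restrictScalars A = g.restrictScalars A ∘ₗ D := by
  obtain ⟨E, hE, hEf⟩ := exists_ext B' S f k (g.restrictScalars A ∘ₗ D)
    (isDiffOpLE_postcomp g k D hD)
  refine ⟨E, ⟨toLoc B' S k E hE, ?_⟩, ?_⟩
  · ext m; exact hEf m
  · rintro E₂ ⟨hE₂, hE₂f⟩
    have hsurj : ∀ x : M', ∃ (s : S) (m : M), (s : B) • x = f m := fun x => by
      obtain ⟨⟨m, s⟩, h⟩ := IsLocalizedModule.surj S f x
      exact ⟨s, m, by rw [← Submonoid.smul_def]; exact h⟩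
    have hinj : ∀ (s : S) (n : N'), (s : B) • n = 0 → n = 0 := fun s n hn =>
      smul_cancel B' S s (by rw [hn, smul_zero])
    have hΔ : E₂ - E = 0 := by
      refine inj_gen S hinj f hsurj k (E₂ - E)
        (isDiffOpLE_sub k _ _ (fromLoc B' k _ hE₂) hE) (fun m => ?_)
      rw [LinearMap.sub_apply, hEf m, sub_eq_zero]
      exact LinearMap.congr_fun hE₂f m
    exact sub_eq_zero.1 hΔ

end loc

end Groth.Agent.Helper25.DiffLoc
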