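import Mathlib
import Groth.Prelude.Def_Disc

/-!
# Norm of the different vs. discriminant (finite free, invertible `ω`)

Helper lemmas for `Disc.span_norm_differentSet_eq_span_discr` (S2229).
-/

namespace Groth.Agent.Helper25.DiscNorm

open Disc TensorProduct

universe u

variable {A B : Type u} [CommRing A] [CommRing B] [Algebra A B]

/-- `toLinearMap` as an additive hom. -/
def toLinHom : Omega A B →+ (B →ₗ[A] A) where
  toFun := Omega.toLinearMap
  map_zero' := rfl
  map_add' _ _ := rfl

theorem sum_toLinearMap {κ : Type*} (s : Finset κ) (f : κ → Omega A B) :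
    (∑ k ∈ s, f k).toLinearMap = ∑ k ∈ s, (f k).toLinearMap :=
  map_sum (toLinHom (A := A) (B := B)) f s

variable {ι : Type*} [Fintype ι] [DecidableEq ι] (b : Module.Basis ι A B)

/-- Expansion of an element of `ω` in the dual basis. -/
theorem omega_eq_sum (φ : Omega A B) :
    φ = ∑ j, algebraMap A B (φ.toLinearMap (b j)) • (⟨b.coord j⟩ : Omega A B) := by
  apply Omega.toLinearMap_injective
  rw [sum_toLinearMap]
  apply b.ext
  intro i
  rw [LinearMap.sum_apply]
  simp only [Omega.smul_toLinearMap_apply]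
  have h : ∀ j, b.coord j (algebraMap A B (φ.toLinearMap (b j)) * b i) =
      if i = j then φ.toLinearMap (b i) else 0 := by
    intro j
    rw [← Algebra.smul_def, map_smul, Module.Basis.coord_apply, Module.Basis.repr_self,
      Finsupp.single_apply, smul_eq_mul]
    split_ifs with hij
    · subst hij; rw [mul_one]
    · rw [mul_zero]
  rw [Finset.sum_congr rfl fun j _ => h j, Finset.sum_ite_eq, if_pos (Finset.mem_univ i)]

/-- The matrix of a `B`-linear map `ω → B` in the dual basis and the basis. -/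
noncomputable def gMat (g : Omega A B →ₗ[B] B) : Matrix ι ι A :=
  Matrix.of fun i j => b.repr (g ⟨b.coord j⟩) i

omit [Fintype ι] [DecidableEq ι] in
theorem gMat_apply (g : Omega A B →ₗ[B] B) (i j : ι) :
    gMat b g i j = b.repr (g ⟨b.coord j⟩) i := rfl

theorem repr_apply_eq (g : Omega A B →ₗ[B] B) (φ : Omega A B) (k : ι) :
    b.repr (g φ) k = ∑ j, gMat b g k j * φ.toLinearMap (b j) := by
  conv_lhs => rw [omega_eq_sum b φ]
  rw [map_sum, map_sum, Finsupp.finsetSum_apply]
  refine Finset.sum_congr rfl fun j _ => ?_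
  rw [map_smul, smul_eq_mul, ← Algebra.smul_def, map_smul, Finsupp.smul_apply, smul_eq_mul,
    gMat_apply, mul_comm]

/-- The norm of an element of the different is a multiple of the discriminant. -/
theorem norm_mem_span_discr {x : B} (hx : x ∈ differentSet A B) :
    Algebra.norm A x ∈ Ideal.span {Algebra.discr A b} := by
  have hx' : ∀ φ : B →ₗ[A] A, ∃ c : B, ∀ y : B, φ (x * y) = Algebra.trace A B (c * y) := hx
  choose c hc using fun i => hx' (b.coord i)
  have hmat : Algebra.leftMulMatrix b x =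
      Matrix.of (fun i k => b.repr (c i) k) * Algebra.traceMatrix A b := by
    ext i j
    rw [Algebra.leftMulMatrix_eq_repr_mul, Matrix.mul_apply]
    have h1 := hc i (b j)
    rw [Module.Basis.coord_apply] at h1
    rw [h1]
    conv_lhs => rw [← b.sum_repr (c i)]
    rw [Finset.sum_mul, map_sum]
    refine Finset.sum_congr rfl fun k _ => ?_
    rw [Matrix.of_apply, Algebra.traceMatrix_apply, Algebra.traceForm_apply, smul_mul_assoc,
      map_smul, smul_eq_mul]
  rw [Algebra.norm_eq_matrix_det b, hmat, Matrix.det_mul, Algebra.discr_def]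
  exact Ideal.mem_span_singleton'.mpr ⟨_, rfl⟩

/-- Rank-one symmetry in an invertible module. -/
theorem smul_comm_of_invertible [Module.Invertible B (Omega A B)] (g : Omega A B →ₗ[B] B)
    (φ ψ : Omega A B) : g φ • ψ = g ψ • φ := by
  have h := congrArg (TensorProduct.lift ((LinearMap.lsmul B (Omega A B)).comp g))
    (Module.Invertible.tmul_comm (R := B) (m₁ := φ) (m₂ := ψ))
  simpa using h

theorem apply_trace_mem_differentSet [Module.Invertible B (Omega A B)]
    (g : Omega A B →ₗ[B] B) : g ⟨Algebra.trace A B⟩ ∈ differentSet A B := by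
  show ∀ φ : B →ₗ[A] A, ∃ c : B, ∀ y : B,
    φ (g ⟨Algebra.trace A B⟩ * y) = Algebra.trace A B (c * y)
  intro φ
  refine ⟨g ⟨φ⟩, fun y => ?_⟩
  have h := smul_comm_of_invertible g ⟨Algebra.trace A B⟩ ⟨φ⟩
  have h2 := congrArg (fun ψ : Omega A B => ψ.toLinearMap y) h
  simpa using h2

theorem norm_apply_trace (g : Omega A B →ₗ[B] B) :
    Algebra.norm A (g ⟨Algebra.trace A B⟩) = (gMat b g).det * Algebra.discr A b := by
  have hmat : Algebra.leftMulMatrix b (g ⟨Algebra.trace A B⟩) =
      gMat b g * Algebra.traceMatrix A b := by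
    ext i j
    rw [Algebra.leftMulMatrix_eq_repr_mul, Matrix.mul_apply]
    have h1 : g ⟨Algebra.trace A B⟩ * b j = g (b j • (⟨Algebra.trace A B⟩ : Omega A B)) := by
      rw [map_smul, smul_eq_mul, mul_comm]
    rw [h1, repr_apply_eq]
    refine Finset.sum_congr rfl fun k _ => ?_
    rw [Omega.smul_toLinearMap_apply, Algebra.traceMatrix_apply, Algebra.traceForm_apply,
      mul_comm (b j) (b k)]
  rw [Algebra.norm_eq_matrix_det b, hmat, Matrix.det_mul, Algebra.discr_def]

omit [Fintype ι] [DecidableEq ι] in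
theorem repr_mem_of_mem_map (𝔪 : Ideal A) {x : B} (hx : x ∈ 𝔪.map (algebraMap A B)) (k : ι) :
    b.repr x k ∈ 𝔪 := by
  have h1 : x ∈ (𝔪 • ⊤ : Submodule A B) := by
    rw [Ideal.smul_top_eq_map]; exact hx
  rw [← b.span_eq, Submodule.mem_ideal_smul_span_iff_exists_sum] at h1
  obtain ⟨a, ha, rfl⟩ := h1
  rw [← Finsupp.linearCombination_apply, b.repr_linearCombination]
  exact ha k

/-- Modulo every maximal ideal, some `B`-linear map `ω → B` is an isomorphism. -/
theorem exists_det_not_mem [Module.Invertible B (Omega A B)] (𝔪 : Ideal A) [h𝔪 : 𝔪.IsMaximal] :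
    ∃ g : Omega A B →ₗ[B] B, (gMat b g).det ∉ 𝔪 := by
  classical
  have hfinAB : Module.Finite A B := Module.Finite.of_basis b
  have hfinA : Module.Finite A (B ⧸ 𝔪.map (algebraMap A B)) := inferInstance
  have hfin : Module.Finite (A ⧸ 𝔪) (B ⧸ 𝔪.map (algebraMap A B)) :=
    Module.Finite.of_restrictScalars_finite A (A ⧸ 𝔪) (B ⧸ 𝔪.map (algebraMap A B))
  let _ : Field (A ⧸ 𝔪) := Ideal.Quotient.field 𝔪
  have hart : IsArtinianRing (B ⧸ 𝔪.map (algebraMap A B)) :=
    IsArtinianRing.of_finite (A ⧸ 𝔪) (B ⧸ 𝔪.map (algebraMap A B))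
  have hfree : Module.Free (B ⧸ 𝔪.map (algebraMap A B))
      ((B ⧸ 𝔪.map (algebraMap A B)) ⊗[B] Omega A B) := inferInstance
  obtain ⟨e⟩ := Module.Invertible.free_iff_linearEquiv.mp hfree
  obtain ⟨gbar, hgbar⟩ : ∃ gbar : Omega A B →ₗ[B] (B ⧸ 𝔪.map (algebraMap A B)),
      ∀ φ, gbar φ = e ((1 : B ⧸ 𝔪.map (algebraMap A B)) ⊗ₜ[B] φ) :=
    ⟨(e.toLinearMap.restrictScalars B).comp
      ((TensorProduct.mk B (B ⧸ 𝔪.map (algebraMap A B)) (Omega A B)) 1), fun φ => rfl⟩
  have hsurj : Function.Surjective gbar := by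
    intro y
    obtain ⟨w, rfl⟩ := e.surjective y
    have hw : ∃ φ : Omega A B, (1 : B ⧸ 𝔪.map (algebraMap A B)) ⊗ₜ[B] φ = w := by
      induction w using TensorProduct.induction_on with
      | zero => exact ⟨0, TensorProduct.tmul_zero _ _⟩
      | tmul c φ =>
        obtain ⟨c, rfl⟩ := Ideal.Quotient.mk_surjective c
        refine ⟨c • φ, ?_⟩
        rw [TensorProduct.tmul_smul, TensorProduct.smul_tmul']
        congr 1
        rw [Algebra.smul_def, mul_one]; rfl
      | add w₁ w₂ h₁ h₂ =>
        obtain ⟨φ₁, rfl⟩ := h₁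
        obtain ⟨φ₂, rfl⟩ := h₂
        exact ⟨φ₁ + φ₂, TensorProduct.tmul_add _ _ _⟩
    obtain ⟨φ, rfl⟩ := hw
    exact ⟨φ, hgbar φ⟩
  obtain ⟨g, hg⟩ := Module.projective_lifting_property
    (Ideal.Quotient.mkₐ B (𝔪.map (algebraMap A B))).toLinearMap gbar
    (Ideal.Quotient.mkₐ_surjective B _)
  choose φ hφ using fun i => hsurj (Ideal.Quotient.mk _ (b i))
  have hm : ∀ i, b i - g (φ i) ∈ 𝔪.map (algebraMap A B) := by
    intro i
    rw [← Ideal.Quotient.eq, ← hφ i]
    exact (LinearMap.congr_fun hg (φ i)).symm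
  -- the matrix identity `1 = G * Φ + M`
  have hone : (1 : Matrix ι ι A) = gMat b g * Matrix.of (fun j i => (φ i).toLinearMap (b j))
      + Matrix.of (fun k i => b.repr (b i - g (φ i)) k) := by
    ext k i
    rw [Matrix.add_apply, Matrix.mul_apply, Matrix.of_apply]
    have h1 : b.repr (g (φ i)) k = ∑ j, gMat b g k j * (φ i).toLinearMap (b j) :=
      repr_apply_eq b g (φ i) k
    simp only [Matrix.of_apply]
    rw [← h1, map_sub, Finsupp.sub_apply, add_sub_cancel, Module.Basis.repr_self,
      Finsupp.single_apply, Matrix.one_apply]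
    simp only [eq_comm]
  have hMm : (Ideal.Quotient.mk 𝔪).mapMatrix
      (Matrix.of (fun k i => b.repr (b i - g (φ i)) k)) = 0 := by
    ext k i
    rw [RingHom.mapMatrix_apply, Matrix.map_apply, Matrix.zero_apply, Matrix.of_apply]
    exact Ideal.Quotient.eq_zero_iff_mem.mpr (repr_mem_of_mem_map b 𝔪 (hm i) k)
  have h1 := congrArg (Ideal.Quotient.mk 𝔪).mapMatrix hone
  rw [map_one, map_add, map_mul, hMm, add_zero] at h1
  have h2 := congrArg Matrix.det h1
  rw [Matrix.det_one, Matrix.det_mul, ← RingHom.map_det, ← RingHom.map_det] at h2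
  refine ⟨g, fun hmem => ?_⟩
  rw [← Ideal.Quotient.eq_zero_iff_mem] at hmem
  rw [hmem, zero_mul] at h2
  exact one_ne_zero h2

/-- The ideal generated by the norms of the elements of the different is generated by the
discriminant. -/
theorem span_norm_eq [Module.Invertible B (Omega A B)] :
    Ideal.span (Algebra.norm A '' differentSet A B) = Ideal.span {Algebra.discr A b} := by
  apply le_antisymm
  · rw [Ideal.span_le]
    rintro _ ⟨x, hx, rfl⟩
    exact norm_mem_span_discr b hx
  · rw [Ideal.span_singleton_le_iff_mem]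
    have hJ : Ideal.span (Set.range fun g : Omega A B →ₗ[B] B => (gMat b g).det) = ⊤ := by
      by_contra hne
      obtain ⟨𝔪, h𝔪, hle⟩ := Ideal.exists_le_maximal _ hne
      obtain ⟨g, hg⟩ := exists_det_not_mem b 𝔪
      exact hg (hle (Ideal.subset_span ⟨g, rfl⟩))
    have key : ∀ y ∈ Ideal.span (Set.range fun g : Omega A B →ₗ[B] B => (gMat b g).det),
        y * Algebra.discr A b ∈ Ideal.span (Algebra.norm A '' differentSet A B) := by
      intro y hy
      induction hy using Submodule.span_induction with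
      | mem y hy =>
        obtain ⟨g, rfl⟩ := hy
        rw [← norm_apply_trace b g]
        exact Ideal.subset_span ⟨_, apply_trace_mem_differentSet g, rfl⟩
      | zero => rw [zero_mul]; exact Ideal.zero_mem _
      | add y z _ _ hy hz => rw [add_mul]; exact Ideal.add_mem _ hy hz
      | smul a y _ hy => rw [smul_eq_mul, mul_assoc]; exact Ideal.mul_mem_left _ a hy
    have h1 := key 1 (by rw [hJ]; exact Submodule.mem_top)
    rwa [one_mul] at h1

end Groth.Agent.Helper25.DiscNorm
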