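import Mathlib

/-!
# Exterior powers of a module with a "one extra coordinate" filtration

Abstract linear algebra behind the normal decomposition of the exterior power of a 3n-display
with tangent module of rank one.
-/

namespace Groth.Agent.Helper25.DispExtA

open Module

section abstract

variable {A : Type*} [CommRing A] {P : Type*} [AddCommGroup P] [Module A P]

lemma det_mem_of_col {n : ℕ} (I : Ideal A) (M : Matrix (Fin n) (Fin n) A) (j0 : Fin n)
    (h : ∀ i, M i j0 ∈ I) : M.det ∈ I := by
  rw [Matrix.det_apply']
  refine Ideal.sum_mem _ fun σ _ => ?_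
  apply Ideal.mul_mem_left
  obtain ⟨c, hc⟩ := Finset.dvd_prod_of_mem (fun i => M (σ i) i) (Finset.mem_univ j0)
  rw [hc]
  exact I.mul_mem_right _ (h _)

lemma isCompl_span_image {ι M : Type*} [AddCommGroup M] [Module A M] (B : Basis ι A M)
    (S : Set ι) :
    IsCompl (Submodule.span A (B '' Sᶜ)) (Submodule.span A (B '' S)) := by
  constructor
  · exact B.linearIndependent.disjoint_span_image disjoint_compl_left
  · rw [codisjoint_iff, ← Submodule.span_union, ← Set.image_union, Set.compl_union_self,
      Set.image_univ, B.span_eq]

lemma card_powersetCard_mem {ι : Type*} [Fintype ι] [DecidableEq ι] (t0 : ι) (m r : ℕ)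
    (hcard : Fintype.card ι = m + 1) (hr : 1 ≤ r) :
    (((Finset.univ : Finset ι).powersetCard r).filter (fun s => t0 ∈ s)).card =
      m.choose (r - 1) := by
  obtain ⟨k, rfl⟩ : ∃ k, r = k + 1 := ⟨r - 1, by omega⟩
  have hins : (Finset.univ : Finset ι) = insert t0 (Finset.univ.erase t0) := by
    rw [Finset.insert_erase (Finset.mem_univ t0)]
  have hnot : t0 ∉ (Finset.univ.erase t0 : Finset ι) := Finset.notMem_erase t0 _
  rw [hins, Finset.powersetCard_succ_insert hnot, Finset.filter_union]
  have h1 : ((Finset.univ.erase t0).powersetCard (k + 1)).filter (fun s => t0 ∈ s) = ∅ := by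
    apply Finset.filter_eq_empty_iff.mpr
    intro s hs ht
    rw [Finset.mem_powersetCard] at hs
    exact hnot (hs.1 ht)
  have h2 : (((Finset.univ.erase t0).powersetCard k).image (insert t0)).filter
      (fun s => t0 ∈ s) = ((Finset.univ.erase t0).powersetCard k).image (insert t0) := by
    apply Finset.filter_true_of_mem
    intro s hs
    rw [Finset.mem_image] at hs
    obtain ⟨u, _, rfl⟩ := hs
    exact Finset.mem_insert_self _ _
  rw [h1, h2, Finset.empty_union, Finset.card_image_of_injOn, Finset.card_powersetCard,
    Finset.card_erase_of_mem (Finset.mem_univ _), Finset.card_univ, hcard]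
  · simp
  · intro u hu v hv huv
    have hu' : t0 ∉ u := fun h => hnot ((Finset.mem_powersetCard.mp hu).1 h)
    have hv' : t0 ∉ v := fun h => hnot ((Finset.mem_powersetCard.mp hv).1 h)
    have := congrArg (fun s => s.erase t0) huv
    simpa [Finset.erase_insert hu', Finset.erase_insert hv'] using this

theorem main {ι : Type*} [Fintype ι] [LinearOrder ι] (b : Basis ι A P) (t0 : ι) (I : Ideal A)
    [Nontrivial A] (m r : ℕ) (hcard : Fintype.card ι = m + 1) (hr : 1 ≤ r)
    (Q : Submodule A P) (hQ : ∀ x, x ∈ Q ↔ b.coord t0 x ∈ I) :
    ∃ L' T' : Submodule A (⋀[A]^r P), IsCompl L' T' ∧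
      Submodule.span A (Set.range fun q : Fin r → Q =>
        exteriorPower.ιMulti A r (fun i => (q i : P))) = L' ⊔ I • T' ∧
      Module.Free A T' ∧ Module.finrank A T' = m.choose (r - 1) := by
  classical
  set B := b.exteriorPower r with hB
  set S : Set (Set.powersetCard ι r) := {s | t0 ∈ s} with hS
  have hemb : ∀ s : Set.powersetCard ι r, t0 ∈ s →
      ∃ j0, Set.powersetCard.ofFinEmbEquiv.symm s j0 = t0 := by
    intro s hs
    exact (Set.powersetCard.mem_range_ofFinEmbEquiv_symm_iff_mem s t0).mpr hs
  have hBs : ∀ s : Set.powersetCard ι r, B s = exteriorPower.ιMulti A r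
      (fun j => b (Set.powersetCard.ofFinEmbEquiv.symm s j)) := by
    intro s
    rw [hB, exteriorPower.basis_apply]
    rfl
  refine ⟨Submodule.span A (B '' Sᶜ), Submodule.span A (B '' S), isCompl_span_image B S,
    ?_, ?_, ?_⟩
  · apply le_antisymm
    · rw [Submodule.span_le]
      rintro _ ⟨q, rfl⟩
      show exteriorPower.ιMulti A r (fun i => (q i : P)) ∈
        Submodule.span A (B '' Sᶜ) ⊔ I • Submodule.span A (B '' S)
      rw [← B.sum_repr (exteriorPower.ιMulti A r (fun i => (q i : P)))]
      refine Submodule.sum_mem _ fun s _ => ?_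
      by_cases hs : t0 ∈ s
      · apply Submodule.mem_sup_right
        apply Submodule.smul_mem_smul
        · have hdet : B.repr (exteriorPower.ιMulti A r (fun i => (q i : P))) s =
              (Matrix.of fun i j =>
                b.coord (Set.powersetCard.ofFinEmbEquiv.symm s j) ((q i : P))).det := by
            rw [← Basis.coord_apply, hB, exteriorPower.basis_coord,
              exteriorPower.ιMultiDual_apply_ιMulti]
          rw [hdet]
          obtain ⟨j0, hj0⟩ := hemb s hs
          apply det_mem_of_col I _ j0
          intro i
          rw [Matrix.of_apply, hj0]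
          exact (hQ _).mp (q i).2
        · exact Submodule.subset_span ⟨s, hs, rfl⟩
      · apply Submodule.mem_sup_left
        exact Submodule.smul_mem _ _ (Submodule.subset_span ⟨s, hs, rfl⟩)
    · apply sup_le
      · rw [Submodule.span_le]
        rintro _ ⟨s, hs, rfl⟩
        have hmemQ : ∀ j, b (Set.powersetCard.ofFinEmbEquiv.symm s j) ∈ Q := by
          intro j
          rw [hQ, Basis.coord_apply, Basis.repr_self, Finsupp.single_apply, if_neg]
          · exact I.zero_mem
          · intro h
            apply hs
            show t0 ∈ s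
            rw [← h]
            exact (Set.powersetCard.mem_range_ofFinEmbEquiv_symm_iff_mem s _).mp ⟨j, rfl⟩
        apply Submodule.subset_span
        refine ⟨fun j => ⟨_, hmemQ j⟩, ?_⟩
        rw [hBs]
      · rw [Submodule.smul_le]
        intro a ha z hz
        induction hz using Submodule.span_induction with
        | mem z hz =>
          obtain ⟨s, hs, rfl⟩ := hz
          obtain ⟨j0, hj0⟩ := hemb s hs
          have hmemQ : ∀ j, Function.update
              (fun j => b (Set.powersetCard.ofFinEmbEquiv.symm s j)) j0 (a • b t0) j ∈ Q := by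
            intro j
            by_cases hj : j = j0
            · subst hj
              rw [Function.update_self, hQ, map_smul, Basis.coord_apply, Basis.repr_self,
                Finsupp.single_eq_same, smul_eq_mul, mul_one]
              exact ha
            · rw [Function.update_of_ne hj, hQ, Basis.coord_apply, Basis.repr_self,
                Finsupp.single_apply, if_neg]
              · exact I.zero_mem
              · intro h
                apply hj
                apply (Set.powersetCard.ofFinEmbEquiv.symm s).injective
                rw [h, hj0]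
          apply Submodule.subset_span
          refine ⟨fun j => ⟨_, hmemQ j⟩, ?_⟩
          show exteriorPower.ιMulti A r (Function.update
              (fun j => b (Set.powersetCard.ofFinEmbEquiv.symm s j)) j0 (a • b t0)) = a • B s
          rw [← hj0, AlternatingMap.map_update_smul, Function.update_eq_self, hBs]
        | zero => rw [smul_zero]; exact Submodule.zero_mem _
        | add x y _ _ hx hy => rw [smul_add]; exact Submodule.add_mem _ hx hy
        | smul c x _ hx => rw [smul_comm]; exact Submodule.smul_mem _ _ hx
  · have hli : LinearIndependent A (fun s : S => B s) :=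
      B.linearIndependent.comp _ Subtype.val_injective
    have hrange : B '' S = Set.range (fun s : S => B s) := Set.image_eq_range _ _
    rw [hrange]
    exact Module.Free.of_basis (Basis.span hli)
  · have hli : LinearIndependent A (fun s : S => B s) :=
      B.linearIndependent.comp _ Subtype.val_injective
    have hrange : B '' S = Set.range (fun s : S => B s) := Set.image_eq_range _ _
    rw [hrange, Module.finrank_eq_card_basis (Basis.span hli)]
    let e : ↥S ≃ {u : Finset ι //
        u ∈ ((Finset.univ : Finset ι).powersetCard r).filter (fun s => t0 ∈ s)} :=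
      { toFun := fun s => ⟨s.1.1, by
            rw [Finset.mem_filter, Finset.mem_powersetCard]
            exact ⟨⟨Finset.subset_univ _, s.1.2⟩, s.2⟩⟩
        invFun := fun u => ⟨⟨u.1, by
            have := u.2
            rw [Finset.mem_filter, Finset.mem_powersetCard] at this
            exact this.1.2⟩, by
            have := u.2
            rw [Finset.mem_filter] at this
            exact this.2⟩
        left_inv := fun s => rfl
        right_inv := fun u => rfl }
    rw [Fintype.card_congr e, Fintype.card_coe, card_powersetCard_mem t0 m r hcard hr]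

end abstract

section concrete

variable {A : Type*} [CommRing A] [Nontrivial A] {P : Type*} [AddCommGroup P] [Module A P]

theorem main2 [Module.Finite A P] (I : Ideal A) (L T : Submodule A P) (hLT : IsCompl L T)
    (Q : Submodule A P) (hQ : Q = L ⊔ I • T) (m : ℕ) (hL : Module.Free A L)
    (hLr : Module.finrank A L = m) (hT : Nonempty (T ≃ₗ[A] A)) (r : ℕ) (hr : 1 ≤ r) :
    ∃ L' T' : Submodule A (⋀[A]^r P), IsCompl L' T' ∧
      Submodule.span A (Set.range fun q : Fin r → Q =>
        exteriorPower.ιMulti A r (fun i => (q i : P))) = L' ⊔ I • T' ∧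
      Module.Free A T' ∧ Module.finrank A T' = m.choose (r - 1) := by
  classical
  obtain ⟨τ⟩ := hT
  haveI : Module.Finite A L :=
    Module.Finite.equiv (Submodule.quotientEquivOfIsCompl T L hLT.symm)
  haveI := hL
  let bL : Basis (Fin m) A L := Module.finBasisOfFinrankEq A L hLr
  let bT : Basis (Fin 1) A T :=
    Basis.ofEquivFun (τ.trans (LinearEquiv.funUnique (Fin 1) A A).symm)
  let b0 : Basis (Fin m ⊕ Fin 1) A P :=
    (bL.prod bT).map (Submodule.prodEquivOfIsCompl L T hLT)
  let b : Basis (Fin (m + 1)) A P := b0.reindex finSumFinEquiv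
  obtain ⟨t0, ht0⟩ : ∃ t0 : Fin (m + 1), t0 = finSumFinEquiv (Sum.inr 0) := ⟨_, rfl⟩
  have hb0l : ∀ j, b0 (Sum.inl j) = (bL j : P) := by
    intro j
    show ((bL.prod bT).map (Submodule.prodEquivOfIsCompl L T hLT)) (Sum.inl j) = _
    rw [Basis.map_apply, Submodule.coe_prodEquivOfIsCompl', Basis.prod_apply_inl_fst,
      Basis.prod_apply_inl_snd]
    simp
  have hb0r : ∀ j, b0 (Sum.inr j) = (bT j : P) := by
    intro j
    show ((bL.prod bT).map (Submodule.prodEquivOfIsCompl L T hLT)) (Sum.inr j) = _
    rw [Basis.map_apply, Submodule.coe_prodEquivOfIsCompl', Basis.prod_apply_inr_fst,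
      Basis.prod_apply_inr_snd]
    simp
  have hbb0 : ∀ j, b (finSumFinEquiv j) = b0 j := by
    intro j
    show (b0.reindex finSumFinEquiv) (finSumFinEquiv j) = _
    rw [Basis.reindex_apply, Equiv.symm_apply_apply]
  have hbL : ∀ i, i ≠ t0 → b i ∈ L := by
    intro i hi
    obtain ⟨j, rfl⟩ := finSumFinEquiv.surjective i
    cases j with
    | inl j =>
      rw [hbb0, hb0l]
      exact (bL j).2
    | inr j =>
      exfalso
      apply hi
      rw [ht0, Subsingleton.elim j 0]
  have hbT : b t0 ∈ T := by
    rw [ht0, hbb0, hb0r]
    exact (bT 0).2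
  have hcoordL : ∀ l ∈ L, b.coord t0 l = 0 := by
    intro l hl
    have hsum : ∑ i, b.coord i l • b i = l := by
      simpa [Basis.coord_apply] using b.sum_repr l
    rw [← Finset.add_sum_erase _ _ (Finset.mem_univ t0)] at hsum
    have h1 : b.coord t0 l • b t0 ∈ L := by
      have : b.coord t0 l • b t0 = l - ∑ i ∈ Finset.univ.erase t0, b.coord i l • b i := by
        rw [eq_sub_iff_add_eq]
        exact hsum
      rw [this]
      exact L.sub_mem hl
        (L.sum_mem fun i hi => L.smul_mem _ (hbL i (Finset.ne_of_mem_erase hi)))
    have h2 : b.coord t0 l • b t0 ∈ T := T.smul_mem _ hbT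
    have h0 : b.coord t0 l • b t0 = 0 :=
      (Submodule.disjoint_def.mp hLT.disjoint) _ h1 h2
    have := congrArg (b.coord t0) h0
    rw [map_smul, map_zero, Basis.coord_apply, Basis.coord_apply, Basis.repr_self,
      Finsupp.single_eq_same, smul_eq_mul, mul_one] at this
    rw [Basis.coord_apply]
    exact this
  have hQ' : ∀ x, x ∈ Q ↔ b.coord t0 x ∈ I := by
    intro x
    rw [hQ]
    constructor
    · intro hx
      obtain ⟨l, hl, y, hy, rfl⟩ := Submodule.mem_sup.mp hx
      rw [map_add, hcoordL l hl, zero_add]
      refine Submodule.smul_induction_on hy ?_ ?_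
      · intro a ha t' _
        rw [map_smul, smul_eq_mul]
        exact I.mul_mem_right _ ha
      · intro y1 y2 h1 h2
        rw [map_add]
        exact I.add_mem h1 h2
    · intro hx
      have hsum : ∑ i, b.coord i x • b i = x := by
        simpa [Basis.coord_apply] using b.sum_repr x
      rw [← hsum, ← Finset.add_sum_erase _ _ (Finset.mem_univ t0), add_comm]
      apply Submodule.add_mem_sup
      · exact L.sum_mem fun i hi => L.smul_mem _ (hbL i (Finset.ne_of_mem_erase hi))
      · exact Submodule.smul_mem_smul hx hbT
  have hcard : Fintype.card (Fin (m + 1)) = m + 1 := Fintype.card_fin _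
  exact main b t0 I m r hcard hr Q hQ'

end concrete

end Groth.Agent.Helper25.DispExtA
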