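import Mathlib
import Groth.Prelude.Def_W4c1extbt610Disp

/-!
# The wedge map is an alternating multilinear morphism of 3n-displays, and the universal property
-/

namespace Groth.Agent.Helper25.DispExtB

open W4c1extbt610

universe u v w

variable {p : ℕ} [Fact p.Prime] {R : Type u} [CommRing R]
variable {P : Type v} [AddCommGroup P] [Module (WittVector p R) P]

local notation "V1" => (WittVector.verschiebung (1 : WittVector p R))

lemma V1_smul_mem (D : Display3n p R P) (x : P) : V1 • x ∈ D.Q :=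
  D.IV_smul_le (Submodule.smul_mem_smul (verschiebung_mem_IV p R 1) Submodule.mem_top)

lemma F_eq (D : Display3n p R P) (x : P) :
    D.F x = D.Vinv ⟨V1 • x, V1_smul_mem D x⟩ := by
  have := D.Vinv_verschiebung_smul 1 x
  rw [one_smul] at this
  exact this.symm

theorem isAltMult_ιMulti (D : Display3n p R P) (r : ℕ)
    (E : Display3n p R (⋀[WittVector p R]^r P)) (hE : IsExtPow D r E) :
    IsAltMult D E (exteriorPower.ιMulti (WittVector p R) r) := by
  classical
  have hmaps : ∀ q : Fin r → D.Q,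
      exteriorPower.ιMulti (WittVector p R) r (fun i => (q i : P)) ∈ E.Q := by
    intro q
    rw [hE.1]
    exact Submodule.subset_span ⟨q, rfl⟩
  refine ⟨hmaps, fun q => hE.2 q _, ?_⟩
  intro i x q
  rw [F_eq E]
  have hq' : (fun j => ((Function.update q i ⟨V1 • x, V1_smul_mem D x⟩ j : D.Q) : P)) =
      Function.update (fun j => (q j : P)) i (V1 • x) := by
    funext j
    by_cases hj : j = i
    · subst hj
      rw [Function.update_self, Function.update_self]
    · rw [Function.update_of_ne hj, Function.update_of_ne hj]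
  have h1 : V1 • exteriorPower.ιMulti (WittVector p R) r
        (Function.update (fun j => (q j : P)) i x) =
      exteriorPower.ιMulti (WittVector p R) r
        (fun j => ((Function.update q i ⟨V1 • x, V1_smul_mem D x⟩ j : D.Q) : P)) := by
    rw [hq', ← AlternatingMap.map_update_smul]
  have h2 : E.Vinv ⟨V1 • exteriorPower.ιMulti (WittVector p R) r
        (Function.update (fun j => (q j : P)) i x), V1_smul_mem E _⟩ =
      E.Vinv ⟨exteriorPower.ιMulti (WittVector p R) r
        (fun j => ((Function.update q i ⟨V1 • x, V1_smul_mem D x⟩ j : D.Q) : P)),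
        hmaps _⟩ :=
    congrArg E.Vinv (Subtype.ext h1)
  rw [h2, hE.2 _ (hmaps _)]
  refine congrArg _ (funext fun j => ?_)
  by_cases hj : j = i
  · subst hj
    rw [Function.update_self, Function.update_self]
    exact (F_eq D x).symm
  · rw [Function.update_of_ne hj, Function.update_of_ne hj]

theorem universal (D : Display3n p R P) (r : ℕ)
    (E : Display3n p R (⋀[WittVector p R]^r P)) (hE : IsExtPow D r E)
    {P' : Type w} [AddCommGroup P'] [Module (WittVector p R) P'] (D' : Display3n p R P')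
    (φ : P [⋀^Fin r]→ₗ[WittVector p R] P') (hφ : IsAltMult D D' φ) :
    ∃! ψ : ⋀[WittVector p R]^r P →ₗ[WittVector p R] P',
      IsHom E D' ψ ∧
        ψ.compAlternatingMap (exteriorPower.ιMulti (WittVector p R) r) = φ := by
  obtain ⟨ψ, hψdef⟩ : ∃ ψ : ⋀[WittVector p R]^r P →ₗ[WittVector p R] P',
      ψ = exteriorPower.alternatingMapLinearEquiv φ := ⟨_, rfl⟩
  have hψι : ∀ x : Fin r → P, ψ (exteriorPower.ιMulti (WittVector p R) r x) = φ x := by
    intro x
    rw [hψdef]
    exact exteriorPower.alternatingMapLinearEquiv_apply_ιMulti φ x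
  have hmaps : ∀ y : ⋀[WittVector p R]^r P, y ∈ E.Q → ψ y ∈ D'.Q := by
    intro y hy
    rw [hE.1] at hy
    induction hy using Submodule.span_induction with
    | mem y hy =>
      obtain ⟨q, rfl⟩ := hy
      rw [hψι]
      exact hφ.mapsTo q
    | zero => rw [map_zero]; exact D'.Q.zero_mem
    | add x y _ _ hx hy => rw [map_add]; exact D'.Q.add_mem hx hy
    | smul a x _ hx => rw [map_smul]; exact D'.Q.smul_mem a hx
  have hVinv : ∀ (y : ⋀[WittVector p R]^r P) (hy : y ∈ E.Q),
      ψ (E.Vinv ⟨y, hy⟩) = D'.Vinv ⟨ψ y, hmaps y hy⟩ := by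
    intro y hy
    have hy' : y ∈ Submodule.span (WittVector p R)
        (Set.range fun q : Fin r → D.Q =>
          exteriorPower.ιMulti (WittVector p R) r (fun i => (q i : P))) := by
      rw [← hE.1]
      exact hy
    revert hy
    induction hy' using Submodule.span_induction with
    | mem y hy0 =>
      intro hy
      obtain ⟨q, rfl⟩ := hy0
      rw [hE.2 q hy, hψι, ← hφ.vCond q]
      exact congrArg D'.Vinv (Subtype.ext (hψι _).symm)
    | zero =>
      intro hy
      have h1 : (⟨0, hy⟩ : E.Q) = 0 := rfl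
      have h2 : (⟨ψ 0, hmaps 0 hy⟩ : D'.Q) = 0 := Subtype.ext (map_zero ψ)
      rw [h1, h2, map_zero, map_zero, map_zero]
    | add x y hx0 hy0 hx hy =>
      intro hxy
      have hxQ : x ∈ E.Q := by rw [hE.1]; exact hx0
      have hyQ : y ∈ E.Q := by rw [hE.1]; exact hy0
      have h1 : (⟨x + y, hxy⟩ : E.Q) = ⟨x, hxQ⟩ + ⟨y, hyQ⟩ := rfl
      have h2 : (⟨ψ (x + y), hmaps _ hxy⟩ : D'.Q) =
          ⟨ψ x, hmaps x hxQ⟩ + ⟨ψ y, hmaps y hyQ⟩ := Subtype.ext (map_add ψ x y)
      rw [h1, h2, map_add, map_add, map_add, hx hxQ, hy hyQ]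
    | smul a x hx0 hx =>
      intro hax
      have hxQ : x ∈ E.Q := by rw [hE.1]; exact hx0
      have h1 : (⟨a • x, hax⟩ : E.Q) = a • ⟨x, hxQ⟩ := rfl
      have h2 : (⟨ψ (a • x), hmaps _ hax⟩ : D'.Q) = a • ⟨ψ x, hmaps x hxQ⟩ :=
        Subtype.ext (map_smul ψ a x)
      rw [h1, h2, LinearMap.map_smulₛₗ E.Vinv, map_smul ψ, hx hxQ, LinearMap.map_smulₛₗ D'.Vinv]
  have hF : ∀ y, ψ (E.F y) = D'.F (ψ y) := by
    intro y
    rw [F_eq E, F_eq D', hVinv _ (V1_smul_mem E y)]
    exact congrArg D'.Vinv (Subtype.ext (map_smul ψ _ y))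
  have hcomp : ψ.compAlternatingMap (exteriorPower.ιMulti (WittVector p R) r) = φ := by
    rw [hψdef]
    exact exteriorPower.alternatingMapLinearEquiv_comp_ιMulti φ
  refine ⟨ψ, ⟨⟨hmaps, hF, fun q => hVinv q.1 q.2⟩, hcomp⟩, ?_⟩
  rintro ψ' ⟨_, hψ'⟩
  apply exteriorPower.linearMap_ext
  rw [hψ', hcomp]

end Groth.Agent.Helper25.DispExtB
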