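import Mathlib
import Groth.Prelude.Def_W4c1extbt610Disp
import Groth.Agent.Lib.Helper25.DispExtB

/-!
# Existence and uniqueness of the exterior power of a 3n-display with tangent module of rank one
-/

namespace Groth.Agent.Helper25.DispExtC

open W4c1extbt610

universe u v

/-! ### general alternating map lemmas -/
section Alt

variable {A : Type*} [CommRing A] {M : Type*} [AddCommGroup M] [Module A M]
  {N : Type*} [AddCommGroup N] [Module A N] {r : ℕ}

lemma alt_smul_slot (f : M [⋀^Fin r]→ₗ[A] N) (w : Fin r → M) (j : Fin r) (b : A) (t : M)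
    (hj : w j = b • t) : f w = b • f (Function.update w j t) := by
  calc f w = f (Function.update w j (b • t)) := by rw [← hj, Function.update_eq_self]
    _ = b • f (Function.update w j t) := f.map_update_smul w j b t

lemma alt_two_zero (f : M [⋀^Fin r]→ₗ[A] N) (t : M) (w : Fin r → M) (i j : Fin r) (hij : i ≠ j)
    (a b : A) (hi : w i = a • t) (hj : w j = b • t) : f w = 0 := by
  rw [alt_smul_slot f w j b t hj,
    alt_smul_slot f (Function.update w j t) i a t (by rw [Function.update_of_ne hij, hi])]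
  have : f (Function.update (Function.update w j t) i t) = 0 := by
    apply f.map_eq_zero_of_eq _ _ hij
    rw [Function.update_self, Function.update_of_ne hij.symm, Function.update_self]
  rw [this, smul_zero, smul_zero]

lemma alt_expand (f : M [⋀^Fin r]→ₗ[A] N) (u v : Fin r → M) (t : M) (a : Fin r → A)
    (hv : ∀ i, v i = a i • t) :
    f (fun i => u i + v i) = f u + ∑ i, f (Function.update u i (v i)) := by
  have h : f (v + u) = ∑ s : Finset (Fin r), f (s.piecewise v u) :=
    f.toMultilinearMap.map_add_univ v u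
  have hsum : (fun i => u i + v i) = v + u := by
    funext i
    simp [add_comm]
  rw [hsum, h]
  have hzero : ∀ s ∈ (Finset.univ : Finset (Finset (Fin r))),
      s ∉ insert (∅ : Finset (Fin r)) (Finset.univ.image (fun i => ({i} : Finset (Fin r)))) →
      f (s.piecewise v u) = 0 := by
    intro s _ hs
    have h1 : 1 < s.card := by
      by_contra hcon
      apply hs
      rcases Nat.lt_or_ge s.card 1 with h0 | h1'
      · have hc0 : s.card = 0 := by omega
        have : s = ∅ := Finset.card_eq_zero.mp hc0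
        rw [this]
        exact Finset.mem_insert_self _ _
      · have hc1 : s.card = 1 := by omega
        obtain ⟨i, rfl⟩ := Finset.card_eq_one.mp hc1
        exact Finset.mem_insert_of_mem (Finset.mem_image_of_mem _ (Finset.mem_univ i))
    obtain ⟨i, hi, j, hj, hij⟩ := Finset.one_lt_card.mp h1
    exact alt_two_zero f t _ i j hij (a i) (a j)
      (by rw [Finset.piecewise_eq_of_mem _ _ _ hi, hv])
      (by rw [Finset.piecewise_eq_of_mem _ _ _ hj, hv])
  rw [← Finset.sum_subset (Finset.subset_univ _) hzero, Finset.sum_insert, Finset.sum_image,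
    Finset.piecewise_empty]
  · congr 1
    apply Finset.sum_congr rfl
    intro i _
    rw [Finset.piecewise_singleton]
  · intro i _ j _ hij
    exact Finset.singleton_injective hij
  · intro h'
    obtain ⟨i, _, hi⟩ := Finset.mem_image.mp h'
    exact Finset.singleton_ne_empty i hi

lemma ind_ι {C : ⋀[A]^r M → Prop} (hι : ∀ x : Fin r → M, C (exteriorPower.ιMulti A r x))
    (h0 : C 0) (hadd : ∀ a b, C a → C b → C (a + b)) (hsmul : ∀ (c : A) a, C a → C (c • a))
    (y : ⋀[A]^r M) : C y := by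
  have hy : y ∈ Submodule.span A (Set.range (exteriorPower.ιMulti A r (M := M))) := by
    rw [exteriorPower.ιMulti_span]
    exact Submodule.mem_top
  induction hy using Submodule.span_induction with
  | mem y hy =>
    obtain ⟨x, rfl⟩ := hy
    exact hι x
  | zero => exact h0
  | add a b _ _ ha hb => exact hadd a b ha hb
  | smul c a _ ha => exact hsmul c a ha

lemma extPow_projective [Module.Finite A M] [Module.Projective A M] (r : ℕ) :
    Module.Projective A (⋀[A]^r M) := by
  obtain ⟨n, f, g, _, _, hfg⟩ := Module.Finite.exists_comp_eq_id_of_projective A M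
  apply Module.Projective.of_split (exteriorPower.map r g) (exteriorPower.map r f)
  rw [← exteriorPower.map_comp, hfg, exteriorPower.map_id]

end Alt

/-! ### Witt vector preliminaries -/
section Witt

variable {p : ℕ} [Fact p.Prime] {R : Type u} [CommRing R]

local notation "Wt" => WittVector p R
local notation "σ" => (WittVector.frobenius : WittVector p R →+* WittVector p R)

lemma mem_IV_iff (a : Wt) : a ∈ IV p R ↔ ∃ w : Wt, WittVector.verschiebung w = a := by
  constructor
  · intro ha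
    unfold IV at ha
    induction ha using Submodule.span_induction with
    | mem x hx => exact hx
    | zero => exact ⟨0, map_zero _⟩
    | add x y _ _ hx hy =>
      obtain ⟨u, rfl⟩ := hx
      obtain ⟨v, rfl⟩ := hy
      exact ⟨u + v, map_add _ _ _⟩
    | smul c x _ hx =>
      obtain ⟨u, rfl⟩ := hx
      exact ⟨u * WittVector.frobenius c, by
        rw [WittVector.verschiebung_mul_frobenius, smul_eq_mul, mul_comm]⟩
  · rintro ⟨w, rfl⟩
    exact verschiebung_mem_IV p R w

noncomputable def ViFun (a : IV p R) : Wt := Classical.choose ((mem_IV_iff a.1).mp a.2)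

lemma V_ViFun (a : IV p R) : WittVector.verschiebung (ViFun a) = a.1 :=
  Classical.choose_spec ((mem_IV_iff a.1).mp a.2)

lemma V_inj {x y : Wt} (h : WittVector.verschiebung x = WittVector.verschiebung y) : x = y :=
  WittVector.verschiebung_injective p R h

noncomputable def Vi : (IV p R) →ₛₗ[σ] Wt where
  toFun := ViFun
  map_add' a b := by
    apply V_inj
    rw [map_add, V_ViFun, V_ViFun, V_ViFun]
    rfl
  map_smul' c a := by
    apply V_inj
    rw [V_ViFun, smul_eq_mul, mul_comm, WittVector.verschiebung_mul_frobenius, V_ViFun]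
    show c * a.1 = a.1 * c
    exact mul_comm _ _

lemma V_Vi (a : IV p R) : WittVector.verschiebung (Vi a) = a.1 := V_ViFun a

/-- `N` with scalars acting through Frobenius. -/
def Tw (p : ℕ) (R : Type u) (N : Type v) : Type v := N

instance instTwAdd (N : Type v) [AddCommGroup N] : AddCommGroup (Tw p R N) :=
  inferInstanceAs (AddCommGroup N)

noncomputable instance instTwModule (N : Type v) [AddCommGroup N] [Module Wt N] :
    Module Wt (Tw p R N) :=
  Module.compHom N σ

variable {P : Type v} [AddCommGroup P] [Module (WittVector p R) P]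
  {P' : Type v} [AddCommGroup P'] [Module (WittVector p R) P']

lemma update_comp_semi (Φ : P →ₛₗ[σ] P') {r : ℕ} [DecidableEq (Fin r)] (m : Fin r → P)
    (i : Fin r) (z : P) :
    (fun j => Φ (Function.update m i z j)) = Function.update (fun j => Φ (m j)) i (Φ z) := by
  funext j
  by_cases hj : j = i
  · subst hj
    rw [Function.update_self, Function.update_self]
  · rw [Function.update_of_ne hj, Function.update_of_ne hj]

noncomputable def altSemi (r : ℕ) (Φ : P →ₛₗ[σ] P') :
    P [⋀^Fin r]→ₗ[Wt] Tw p R (⋀[Wt]^r P') where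
  toFun x := (exteriorPower.ιMulti Wt r (fun i => Φ (x i)) : ⋀[Wt]^r P')
  map_update_add' := by
    intro _ m i x y
    show (exteriorPower.ιMulti Wt r (fun j => Φ (Function.update m i (x + y) j)) : ⋀[Wt]^r P') =
      (exteriorPower.ιMulti Wt r (fun j => Φ (Function.update m i x j)) : ⋀[Wt]^r P') +
        exteriorPower.ιMulti Wt r (fun j => Φ (Function.update m i y j))
    rw [update_comp_semi, update_comp_semi, update_comp_semi, map_add]
    exact (exteriorPower.ιMulti Wt r).map_update_add (fun j => Φ (m j)) i (Φ x) (Φ y)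
  map_update_smul' := by
    intro _ m i c x
    show (exteriorPower.ιMulti Wt r (fun j => Φ (Function.update m i (c • x) j)) : ⋀[Wt]^r P') =
      σ c • (exteriorPower.ιMulti Wt r (fun j => Φ (Function.update m i x j)) : ⋀[Wt]^r P')
    rw [update_comp_semi, update_comp_semi, LinearMap.map_smulₛₗ]
    exact (exteriorPower.ιMulti Wt r).map_update_smul (fun j => Φ (m j)) i (σ c) (Φ x)
  map_eq_zero_of_eq' := by
    intro v i j h hij
    exact (exteriorPower.ιMulti Wt r).map_eq_zero_of_eq _ (congrArg Φ h) hij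

noncomputable def extSemi (r : ℕ) (Φ : P →ₛₗ[σ] P') : ⋀[Wt]^r P →ₛₗ[σ] ⋀[Wt]^r P' where
  toFun y := (exteriorPower.alternatingMapLinearEquiv (altSemi r Φ) y : Tw p R (⋀[Wt]^r P'))
  map_add' a b := map_add (exteriorPower.alternatingMapLinearEquiv (altSemi r Φ)) a b
  map_smul' c a := map_smul (exteriorPower.alternatingMapLinearEquiv (altSemi r Φ)) c a

lemma extSemi_ιMulti (r : ℕ) (Φ : P →ₛₗ[σ] P') (x : Fin r → P) :
    extSemi r Φ (exteriorPower.ιMulti Wt r x) = exteriorPower.ιMulti Wt r (fun i => Φ (x i)) :=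
  exteriorPower.alternatingMapLinearEquiv_apply_ιMulti (altSemi r Φ) x

end Witt


/-! ### the construction -/

/-- The data used in the construction. -/
structure Setup (p : ℕ) [Fact p.Prime] (R : Type u) [CommRing R] (P : Type v) [AddCommGroup P]
    [Module (WittVector p R) P] (r : ℕ) where
  D : Display3n p R P
  L : Submodule (WittVector p R) P
  T : Submodule (WittVector p R) P
  hLT : IsCompl L T
  hQ : D.Q = L ⊔ IV p R • T
  τ : T ≃ₗ[WittVector p R] WittVector p R
  n : ℕ
  f : (Fin n → WittVector p R) →ₗ[WittVector p R] ⋀[WittVector p R]^r P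
  g : ⋀[WittVector p R]^r P →ₗ[WittVector p R] (Fin n → WittVector p R)
  hfg : f ∘ₗ g = LinearMap.id

namespace Setup

variable {p : ℕ} [Fact p.Prime] {R : Type u} [CommRing R] {P : Type v} [AddCommGroup P]
  [Module (WittVector p R) P] {r : ℕ} (S : Setup p R P r)

local notation "Wt" => WittVector p R
local notation "σ" => (WittVector.frobenius : WittVector p R →+* WittVector p R)
local notation "Vs" => (WittVector.verschiebung : WittVector p R →+ WittVector p R)

noncomputable def piL : P →ₗ[Wt] P := S.L.projection S.T S.hLT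
noncomputable def piT : P →ₗ[Wt] P := S.T.projection S.L S.hLT.symm
noncomputable def tvec : P := ((S.τ.symm 1 : S.T) : P)
noncomputable def cT : P →ₗ[Wt] Wt := S.τ.toLinearMap ∘ₗ S.T.projectionOnto S.L S.hLT.symm

lemma piL_add_piT (x : P) : S.piL x + S.piT x = x :=
  Submodule.projection_add_projection_eq_self S.hLT x
lemma piL_mem (x : P) : S.piL x ∈ S.L := Submodule.projection_apply_mem S.hLT x
lemma piT_mem (x : P) : S.piT x ∈ S.T := Submodule.projection_apply_mem S.hLT.symm x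
lemma piL_of_mem {l : P} (hl : l ∈ S.L) : S.piL l = l :=
  Submodule.projection_apply_of_mem_left S.hLT hl
lemma piL_of_memT {t : P} (ht : t ∈ S.T) : S.piL t = 0 :=
  Submodule.projection_apply_of_mem_right S.hLT ht
lemma piT_of_mem {t : P} (ht : t ∈ S.T) : S.piT t = t :=
  Submodule.projection_apply_of_mem_left S.hLT.symm ht
lemma piT_of_memL {l : P} (hl : l ∈ S.L) : S.piT l = 0 :=
  Submodule.projection_apply_of_mem_right S.hLT.symm hl
lemma tvec_mem : S.tvec ∈ S.T := (S.τ.symm 1).2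

lemma piT_eq (x : P) : S.piT x = S.cT x • S.tvec := by
  have h : S.T.projectionOnto S.L S.hLT.symm x = S.cT x • S.τ.symm 1 := by
    rw [← map_smul, smul_eq_mul, mul_one]
    exact (S.τ.symm_apply_apply _).symm
  exact congrArg Subtype.val h

lemma cT_of_memL {l : P} (hl : l ∈ S.L) : S.cT l = 0 := by
  show S.τ (S.T.projectionOnto S.L S.hLT.symm l) = 0
  rw [Submodule.projectionOnto_apply_of_mem_right S.hLT.symm hl, map_zero]

lemma L_le_Q : S.L ≤ S.D.Q := by
  rw [S.hQ]
  exact le_sup_left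

lemma IT_le_Q : IV p R • S.T ≤ S.D.Q := by
  rw [S.hQ]
  exact le_sup_right

lemma smul_tvec_mem_Q {a : Wt} (ha : a ∈ IV p R) : a • S.tvec ∈ S.D.Q :=
  S.IT_le_Q (Submodule.smul_mem_smul ha S.tvec_mem)

lemma cT_mem_of_mem_Q {x : P} (hx : x ∈ S.D.Q) : S.cT x ∈ IV p R := by
  rw [S.hQ] at hx
  obtain ⟨l, hl, y, hy, rfl⟩ := Submodule.mem_sup.mp hx
  rw [map_add, S.cT_of_memL hl, zero_add]
  refine Submodule.smul_induction_on hy ?_ ?_
  · intro a ha t' _
    rw [map_smul, smul_eq_mul]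
    exact (IV p R).mul_mem_right _ ha
  · intro y1 y2 h1 h2
    rw [map_add]
    exact (IV p R).add_mem h1 h2

/-! #### the operators `A` and `B` -/

noncomputable def Aop : ⋀[Wt]^r P →ₗ[Wt] ⋀[Wt]^r P := exteriorPower.map r S.piL

lemma Aop_ι (x : Fin r → P) :
    S.Aop (exteriorPower.ιMulti Wt r x) = exteriorPower.ιMulti Wt r (fun i => S.piL (x i)) := by
  unfold Aop
  rw [exteriorPower.map_apply_ιMulti]
  rfl

lemma Aop_idem : S.Aop ∘ₗ S.Aop = S.Aop := by
  unfold Aop
  rw [← exteriorPower.map_comp]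
  congr 1
  exact Submodule.isIdempotentElem_projection S.hLT

lemma Aop_isCompl : IsCompl (LinearMap.range S.Aop) (LinearMap.ker S.Aop) := by
  apply LinearMap.IsIdempotentElem.isCompl
  show S.Aop * S.Aop = S.Aop
  exact S.Aop_idem

noncomputable def Zf (x : Fin r → P) (i : Fin r) : ⋀[Wt]^r P :=
  exteriorPower.ιMulti Wt r (Function.update (fun j => S.piL (x j)) i S.tvec)

lemma expand (x : Fin r → P) :
    exteriorPower.ιMulti Wt r x =
      S.Aop (exteriorPower.ιMulti Wt r x) + ∑ i, S.cT (x i) • S.Zf x i := by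
  have hx : x = fun i => S.piL (x i) + S.piT (x i) := by
    funext i
    exact (S.piL_add_piT (x i)).symm
  have h := alt_expand (exteriorPower.ιMulti Wt r) (fun i => S.piL (x i))
    (fun i => S.piT (x i)) S.tvec (fun i => S.cT (x i)) (fun i => S.piT_eq (x i))
  rw [S.Aop_ι]
  conv_lhs => rw [hx]
  rw [h]
  congr 1
  apply Finset.sum_congr rfl
  intro i _
  show _ = S.cT (x i) •
    exteriorPower.ιMulti Wt r (Function.update (fun j => S.piL (x j)) i S.tvec)
  rw [← AlternatingMap.map_update_smul, ← S.piT_eq]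

lemma sub_Aop_ι (x : Fin r → P) :
    exteriorPower.ιMulti Wt r x - S.Aop (exteriorPower.ιMulti Wt r x) =
      ∑ i, S.cT (x i) • S.Zf x i := by
  rw [sub_eq_iff_eq_add']
  exact S.expand x

lemma Aop_Zf (x : Fin r → P) (i : Fin r) : S.Aop (S.Zf x i) = 0 := by
  unfold Zf
  rw [S.Aop_ι]
  apply (exteriorPower.ιMulti Wt r).map_coord_zero i
  show S.piL (Function.update (fun j => S.piL (x j)) i S.tvec i) = 0
  rw [Function.update_self]
  exact S.piL_of_memT S.tvec_mem

/-- the distinguished submodule of the exterior power -/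
noncomputable def Qp : Submodule Wt (⋀[Wt]^r P) :=
  Submodule.span Wt (Set.range fun q : Fin r → S.D.Q =>
    exteriorPower.ιMulti Wt r (fun i => (q i : P)))

lemma ι_mem_Qp (x : Fin r → P) (hx : ∀ i, x i ∈ S.D.Q) :
    exteriorPower.ιMulti Wt r x ∈ S.Qp :=
  Submodule.subset_span ⟨fun i => ⟨x i, hx i⟩, rfl⟩

lemma Aop_mem_Qp (y : ⋀[Wt]^r P) : S.Aop y ∈ S.Qp := by
  refine ind_ι (C := fun y => S.Aop y ∈ S.Qp) ?_ ?_ ?_ ?_ y
  · intro x
    show S.Aop (exteriorPower.ιMulti Wt r x) ∈ S.Qp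
    rw [S.Aop_ι]
    exact S.ι_mem_Qp _ (fun i => S.L_le_Q (S.piL_mem _))
  · show S.Aop 0 ∈ S.Qp
    rw [map_zero]
    exact Submodule.zero_mem _
  · intro a b ha hb
    show S.Aop (a + b) ∈ S.Qp
    rw [map_add]
    exact Submodule.add_mem _ ha hb
  · intro c a ha
    show S.Aop (c • a) ∈ S.Qp
    rw [map_smul]
    exact Submodule.smul_mem _ _ ha

lemma smul_Zf_mem_Qp {a : Wt} (ha : a ∈ IV p R) (x : Fin r → P) (i : Fin r) :
    a • S.Zf x i ∈ S.Qp := by
  unfold Zf
  rw [← AlternatingMap.map_update_smul]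
  apply S.ι_mem_Qp
  intro j
  by_cases hj : j = i
  · subst hj
    rw [Function.update_self]
    exact S.smul_tvec_mem_Q ha
  · rw [Function.update_of_ne hj]
    exact S.L_le_Q (S.piL_mem _)

lemma smul_sub_Aop_mem_Qp {a : Wt} (ha : a ∈ IV p R) (y : ⋀[Wt]^r P) :
    a • (y - S.Aop y) ∈ S.Qp := by
  refine ind_ι (C := fun y => a • (y - S.Aop y) ∈ S.Qp) ?_ ?_ ?_ ?_ y
  · intro x
    show a • (exteriorPower.ιMulti Wt r x - S.Aop (exteriorPower.ιMulti Wt r x)) ∈ S.Qp
    rw [S.sub_Aop_ι, Finset.smul_sum]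
    apply Submodule.sum_mem
    intro i _
    rw [smul_comm]
    exact Submodule.smul_mem _ _ (S.smul_Zf_mem_Qp ha x i)
  · show a • ((0 : ⋀[Wt]^r P) - S.Aop 0) ∈ S.Qp
    rw [map_zero, sub_zero, smul_zero]
    exact Submodule.zero_mem _
  · intro b c hb hc
    show a • ((b + c) - S.Aop (b + c)) ∈ S.Qp
    rw [map_add, add_sub_add_comm, smul_add]
    exact Submodule.add_mem _ hb hc
  · intro c b hb
    show a • (c • b - S.Aop (c • b)) ∈ S.Qp
    rw [S.Aop.map_smul]
    have e : c • b - c • S.Aop b = c • (b - S.Aop b) := (smul_sub _ _ _).symm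
    rw [e, smul_comm]
    exact Submodule.smul_mem _ _ hb

lemma IV_smul_le_Qp : IV p R • (⊤ : Submodule Wt (⋀[Wt]^r P)) ≤ S.Qp := by
  rw [Submodule.smul_le]
  intro a ha y _
  have : a • y = a • S.Aop y + a • (y - S.Aop y) := by
    rw [← smul_add, add_sub_cancel]
  rw [this]
  exact Submodule.add_mem _ (Submodule.smul_mem _ _ (S.Aop_mem_Qp y))
    (S.smul_sub_Aop_mem_Qp ha y)

lemma sub_Aop_mem_smul_ker {y : ⋀[Wt]^r P} (hy : y ∈ S.Qp) :
    y - S.Aop y ∈ IV p R • LinearMap.ker S.Aop := by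
  unfold Qp at hy
  induction hy using Submodule.span_induction with
  | mem y hy =>
    obtain ⟨q, rfl⟩ := hy
    show exteriorPower.ιMulti Wt r (fun i => (q i : P)) -
      S.Aop (exteriorPower.ιMulti Wt r (fun i => (q i : P))) ∈ _
    rw [S.sub_Aop_ι]
    exact Submodule.sum_mem _ fun i _ =>
      Submodule.smul_mem_smul (S.cT_mem_of_mem_Q (q i).2)
        (LinearMap.mem_ker.mpr (S.Aop_Zf _ i))
  | zero =>
    rw [map_zero, sub_zero]
    exact Submodule.zero_mem _
  | add a b _ _ ha hb =>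
    rw [map_add, add_sub_add_comm]
    exact Submodule.add_mem _ ha hb
  | smul c a _ ha =>
    rw [map_smul, ← smul_sub]
    exact Submodule.smul_mem _ _ ha

lemma sub_Aop_mem_top {y : ⋀[Wt]^r P} (hy : y ∈ S.Qp) :
    y - S.Aop y ∈ IV p R • (⊤ : Submodule Wt (⋀[Wt]^r P)) :=
  Submodule.smul_mono le_rfl le_top (S.sub_Aop_mem_smul_ker hy)

lemma Qp_eq : S.Qp = LinearMap.range S.Aop ⊔ IV p R • LinearMap.ker S.Aop := by
  apply le_antisymm
  · intro y hy
    have : y = S.Aop y + (y - S.Aop y) := (add_sub_cancel _ _).symm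
    rw [this]
    exact Submodule.add_mem_sup (LinearMap.mem_range_self _ _) (S.sub_Aop_mem_smul_ker hy)
  · apply sup_le
    · rintro _ ⟨y, rfl⟩
      exact S.Aop_mem_Qp y
    · rw [Submodule.smul_le]
      intro a ha z hz
      have : a • z = a • (z - S.Aop z) := by
        rw [LinearMap.mem_ker.mp hz, sub_zero]
      rw [this]
      exact S.smul_sub_Aop_mem_Qp ha z

/-! #### the structure map `Φ` -/

noncomputable def piLQ : P →ₗ[Wt] S.D.Q :=
  LinearMap.codRestrict S.D.Q S.piL (fun x => S.L_le_Q (S.piL_mem x))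

noncomputable def Phi : P →ₛₗ[σ] P := S.D.Vinv.comp S.piLQ + S.D.F.comp S.piT

lemma Phi_apply (x : P) :
    S.Phi x = S.D.Vinv ⟨S.piL x, S.L_le_Q (S.piL_mem x)⟩ + S.D.F (S.piT x) := rfl

lemma Phi_tvec : S.Phi S.tvec = S.D.F S.tvec := by
  rw [S.Phi_apply, S.piT_of_mem S.tvec_mem]
  have : (⟨S.piL S.tvec, S.L_le_Q (S.piL_mem S.tvec)⟩ : S.D.Q) = 0 :=
    Subtype.ext (S.piL_of_memT S.tvec_mem)
  rw [this, map_zero, zero_add]

lemma Phi_piL (x : P) :
    S.Phi (S.piL x) = S.D.Vinv ⟨S.piL x, S.L_le_Q (S.piL_mem x)⟩ := by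
  rw [S.Phi_apply, S.piT_of_memL (S.piL_mem x), map_zero, add_zero]
  exact congrArg S.D.Vinv (Subtype.ext (S.piL_of_mem (S.piL_mem x)))

lemma Vinv_eq (q : S.D.Q) :
    S.D.Vinv q = S.Phi (S.piL q) + Vi ⟨S.cT q, S.cT_mem_of_mem_Q q.2⟩ • S.Phi S.tvec := by
  have hVw : WittVector.verschiebung (Vi ⟨S.cT q, S.cT_mem_of_mem_Q q.2⟩) = S.cT q := V_Vi _
  have hmem : WittVector.verschiebung (Vi ⟨S.cT q, S.cT_mem_of_mem_Q q.2⟩) • S.tvec ∈ S.D.Q :=
    S.smul_tvec_mem_Q (verschiebung_mem_IV p R _)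
  have hq : q = ⟨S.piL q, S.L_le_Q (S.piL_mem q)⟩ +
      ⟨WittVector.verschiebung (Vi ⟨S.cT q, S.cT_mem_of_mem_Q q.2⟩) • S.tvec, hmem⟩ := by
    apply Subtype.ext
    show (q : P) = S.piL q +
      WittVector.verschiebung (Vi ⟨S.cT q, S.cT_mem_of_mem_Q q.2⟩) • S.tvec
    rw [hVw, ← S.piT_eq, S.piL_add_piT]
  conv_lhs => rw [hq]
  rw [map_add, S.Phi_piL, S.Phi_tvec]
  congr 1
  exact S.D.Vinv_verschiebung_smul _ S.tvec

/-! #### division by Verschiebung on `I • N` -/

/-- elements all of whose coordinates (w.r.t. the dual basis) lie in `I` -/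
noncomputable def NI : Submodule Wt (⋀[Wt]^r P) where
  carrier := {y | ∀ k, S.g y k ∈ IV p R}
  add_mem' := by
    intro a b ha hb k
    rw [map_add]
    exact (IV p R).add_mem (ha k) (hb k)
  zero_mem' := by
    intro k
    rw [map_zero]
    exact (IV p R).zero_mem
  smul_mem' := by
    intro c a ha k
    rw [map_smul]
    exact (IV p R).mul_mem_left c (ha k)

lemma smul_top_le_NI : IV p R • (⊤ : Submodule Wt (⋀[Wt]^r P)) ≤ S.NI := by
  rw [Submodule.smul_le]
  intro a ha y _ k
  rw [map_smul]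
  exact (IV p R).mul_mem_right _ ha

noncomputable def kap (Ψ : ⋀[Wt]^r P →ₛₗ[σ] ⋀[Wt]^r P) : S.NI →ₛₗ[σ] ⋀[Wt]^r P where
  toFun y := ∑ k, Vi ⟨S.g y.1 k, y.2 k⟩ • Ψ (S.f (fun j => if k = j then 1 else 0))
  map_add' y y' := by
    rw [← Finset.sum_add_distrib]
    apply Finset.sum_congr rfl
    intro k _
    have : (⟨S.g (y + y').1 k, (y + y').2 k⟩ : IV p R) =
        ⟨S.g y.1 k, y.2 k⟩ + ⟨S.g y'.1 k, y'.2 k⟩ := by
      apply Subtype.ext
      show S.g ((y : ⋀[Wt]^r P) + y') k = S.g y k + S.g y' k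
      rw [map_add]
      rfl
    rw [this, map_add, add_smul]
  map_smul' c y := by
    rw [Finset.smul_sum]
    apply Finset.sum_congr rfl
    intro k _
    have : (⟨S.g (c • y).1 k, (c • y).2 k⟩ : IV p R) = c • ⟨S.g y.1 k, y.2 k⟩ := by
      apply Subtype.ext
      show S.g (c • (y : ⋀[Wt]^r P)) k = c • S.g y k
      rw [map_smul]
      rfl
    rw [this, LinearMap.map_smulₛₗ, smul_assoc]

lemma kap_V (Ψ : ⋀[Wt]^r P →ₛₗ[σ] ⋀[Wt]^r P) (w : Wt) (z : ⋀[Wt]^r P)
    (h : WittVector.verschiebung w • z ∈ S.NI) :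
    S.kap Ψ ⟨WittVector.verschiebung w • z, h⟩ = w • Ψ z := by
  show ∑ k, Vi ⟨S.g (WittVector.verschiebung w • z) k, h k⟩ •
    Ψ (S.f (fun j => if k = j then 1 else 0)) = w • Ψ z
  have hk : ∀ k, Vi ⟨S.g (WittVector.verschiebung w • z) k, h k⟩ = w * σ (S.g z k) := by
    intro k
    apply V_inj
    rw [V_Vi]
    show S.g (WittVector.verschiebung w • z) k = _
    rw [map_smul, WittVector.verschiebung_mul_frobenius]
    rfl
  have hz : z = ∑ k, S.g z k • S.f (fun j => if k = j then 1 else 0) := by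
    have h1 : S.f (S.g z) = z := LinearMap.congr_fun S.hfg z
    rw [← LinearMap.pi_apply_eq_sum_univ, h1]
  simp_rw [hk]
  conv_rhs => rw [hz]
  rw [map_sum, Finset.smul_sum]
  apply Finset.sum_congr rfl
  intro k _
  rw [LinearMap.map_smulₛₗ, mul_smul]

/-! #### the operators of the exterior power display -/

noncomputable def Bop : ⋀[Wt]^r P →ₗ[Wt] ⋀[Wt]^r P := LinearMap.id - S.Aop

lemma Bop_apply (y : ⋀[Wt]^r P) : S.Bop y = y - S.Aop y := rfl

noncomputable def BQ : S.Qp →ₗ[Wt] S.NI :=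
  LinearMap.codRestrict S.NI (S.Bop ∘ₗ S.Qp.subtype)
    (fun y => S.smul_top_le_NI (S.sub_Aop_mem_top y.2))

noncomputable def LPhi : ⋀[Wt]^r P →ₛₗ[σ] ⋀[Wt]^r P := extSemi r S.Phi

lemma LPhi_ι (x : Fin r → P) :
    S.LPhi (exteriorPower.ιMulti Wt r x) = exteriorPower.ιMulti Wt r (fun i => S.Phi (x i)) :=
  extSemi_ιMulti r S.Phi x

noncomputable def Vinv' : S.Qp →ₛₗ[σ] ⋀[Wt]^r P :=
  S.LPhi.comp (S.Aop ∘ₗ S.Qp.subtype) + (S.kap S.LPhi).comp S.BQ

noncomputable def F' : ⋀[Wt]^r P →ₛₗ[σ] ⋀[Wt]^r P :=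
  S.LPhi.comp ((p : Wt) • S.Aop + S.Bop)

lemma Vinv'_apply (y : S.Qp) :
    S.Vinv' y = S.LPhi (S.Aop y) + S.kap S.LPhi (S.BQ y) := rfl

lemma F'_apply (x : ⋀[Wt]^r P) :
    S.F' x = S.LPhi ((p : Wt) • S.Aop x + (x - S.Aop x)) := rfl

lemma Vinv'_V (w : Wt) (x : ⋀[Wt]^r P) (h : WittVector.verschiebung w • x ∈ S.Qp) :
    S.Vinv' ⟨WittVector.verschiebung w • x, h⟩ = w • S.F' x := by
  have hmem : WittVector.verschiebung w • (x - S.Aop x) ∈ S.NI :=
    S.smul_top_le_NI (Submodule.smul_mem_smul (verschiebung_mem_IV p R w) Submodule.mem_top)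
  have hB : S.BQ ⟨WittVector.verschiebung w • x, h⟩ =
      ⟨WittVector.verschiebung w • (x - S.Aop x), hmem⟩ := by
    apply Subtype.ext
    show WittVector.verschiebung w • x - S.Aop (WittVector.verschiebung w • x) =
      WittVector.verschiebung w • (x - S.Aop x)
    rw [S.Aop.map_smul, smul_sub]
  have e1 : S.LPhi (S.Aop (WittVector.verschiebung w • x)) =
      (w * (p : Wt)) • S.LPhi (S.Aop x) := by
    rw [S.Aop.map_smul, LinearMap.map_smulₛₗ, WittVector.frobenius_verschiebung]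
  have e2 : S.LPhi ((p : Wt) • S.Aop x + (x - S.Aop x)) =
      (p : Wt) • S.LPhi (S.Aop x) + S.LPhi (x - S.Aop x) := by
    rw [map_add, LinearMap.map_smulₛₗ, map_natCast]
  rw [S.Vinv'_apply, S.F'_apply, hB, S.kap_V, e2, smul_add]
  show S.LPhi (S.Aop (WittVector.verschiebung w • x)) + _ = _
  rw [e1, mul_smul]

lemma Vinv'_ι (q : Fin r → S.D.Q)
    (hy : exteriorPower.ιMulti Wt r (fun i => (q i : P)) ∈ S.Qp) :
    S.Vinv' ⟨_, hy⟩ = exteriorPower.ιMulti Wt r (fun i => S.D.Vinv (q i)) := by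
  have hR : exteriorPower.ιMulti Wt r (fun i => S.D.Vinv (q i)) =
      exteriorPower.ιMulti Wt r (fun i => S.Phi (S.piL (q i))) +
        ∑ i, Vi ⟨S.cT (q i), S.cT_mem_of_mem_Q (q i).2⟩ •
          exteriorPower.ιMulti Wt r
            (Function.update (fun i => S.Phi (S.piL (q i))) i (S.Phi S.tvec)) := by
    have h1 : (fun i => S.D.Vinv (q i)) = fun i => S.Phi (S.piL (q i)) +
        Vi ⟨S.cT (q i), S.cT_mem_of_mem_Q (q i).2⟩ • S.Phi S.tvec := by
      funext i
      exact S.Vinv_eq (q i)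
    rw [h1, alt_expand (exteriorPower.ιMulti Wt r) (fun i => S.Phi (S.piL (q i)))
      (fun i => Vi ⟨S.cT (q i), S.cT_mem_of_mem_Q (q i).2⟩ • S.Phi S.tvec) (S.Phi S.tvec)
      (fun i => Vi ⟨S.cT (q i), S.cT_mem_of_mem_Q (q i).2⟩) (fun i => rfl)]
    congr 1
    apply Finset.sum_congr rfl
    intro i _
    exact AlternatingMap.map_update_smul _ _ i _ _
  have hA : S.LPhi (S.Aop (exteriorPower.ιMulti Wt r (fun i => (q i : P)))) =
      exteriorPower.ιMulti Wt r (fun i => S.Phi (S.piL (q i))) := by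
    rw [S.Aop_ι, S.LPhi_ι]
  have hZ : ∀ i, S.LPhi (S.Zf (fun i => (q i : P)) i) = exteriorPower.ιMulti Wt r
      (Function.update (fun i => S.Phi (S.piL (q i))) i (S.Phi S.tvec)) := by
    intro i
    unfold Zf
    rw [S.LPhi_ι, update_comp_semi]
  have hmemi : ∀ i, WittVector.verschiebung (Vi ⟨S.cT (q i), S.cT_mem_of_mem_Q (q i).2⟩) •
      S.Zf (fun i => (q i : P)) i ∈ S.NI := fun i =>
    S.smul_top_le_NI (Submodule.smul_mem_smul (verschiebung_mem_IV p R _) Submodule.mem_top)
  have hB : S.BQ ⟨exteriorPower.ιMulti Wt r (fun i => (q i : P)), hy⟩ =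
      ∑ i, (⟨WittVector.verschiebung (Vi ⟨S.cT (q i), S.cT_mem_of_mem_Q (q i).2⟩) •
        S.Zf (fun i => (q i : P)) i, hmemi i⟩ : S.NI) := by
    apply Subtype.ext
    rw [Submodule.coe_sum]
    show exteriorPower.ιMulti Wt r (fun i => (q i : P)) -
      S.Aop (exteriorPower.ιMulti Wt r (fun i => (q i : P))) =
      ∑ i, WittVector.verschiebung (Vi ⟨S.cT (q i), S.cT_mem_of_mem_Q (q i).2⟩) •
        S.Zf (fun i => (q i : P)) i
    rw [S.sub_Aop_ι]
    apply Finset.sum_congr rfl
    intro i _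
    rw [V_Vi]
  rw [S.Vinv'_apply, hB, map_sum, hR]
  show S.LPhi (S.Aop (exteriorPower.ιMulti Wt r (fun i => (q i : P)))) + _ = _
  rw [hA]
  congr 1
  apply Finset.sum_congr rfl
  intro i _
  rw [S.kap_V, hZ]

lemma span_range_Vinv' (hD : Submodule.span Wt (Set.range S.D.Vinv) = ⊤) :
    Submodule.span Wt (Set.range S.Vinv') = ⊤ := by
  rw [eq_top_iff, ← exteriorPower.ιMulti_span_of_span (R := Wt) (n := r) (M := P) hD]
  apply Submodule.span_mono
  rintro _ ⟨a, ha, rfl⟩
  have hq : ∀ i, ∃ q : S.D.Q, S.D.Vinv q = a i := fun i => ha ⟨i, rfl⟩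
  choose q hq using hq
  refine ⟨⟨exteriorPower.ιMulti Wt r (fun i => (q i : P)),
    S.ι_mem_Qp _ (fun i => (q i).2)⟩, ?_⟩
  rw [S.Vinv'_ι q]
  congr 1
  funext i
  exact hq i

end Setup

/-! ### uniqueness -/
section Unique

variable {p : ℕ} [Fact p.Prime] {R : Type u} [CommRing R]

theorem display_ext {N : Type v} [AddCommGroup N] [Module (WittVector p R) N]
    (E E' : Display3n p R N) (hQ : E.Q = E'.Q)
    (hV : ∀ (y : N) (h : y ∈ E.Q) (h' : y ∈ E'.Q), E.Vinv ⟨y, h⟩ = E'.Vinv ⟨y, h'⟩) :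
    E = E' := by
  have hF : E.F = E'.F := by
    apply LinearMap.ext
    intro x
    rw [DispExtB.F_eq E, DispExtB.F_eq E']
    exact hV _ _ _
  obtain ⟨Q, F, Vinv, h1, h2, h3, h4, h5, h6⟩ := E
  obtain ⟨Q', F', Vinv', h1', h2', h3', h4', h5', h6'⟩ := E'
  simp only at hQ hF hV
  subst hQ
  subst hF
  have : Vinv = Vinv' := by
    apply LinearMap.ext
    rintro ⟨y, hy⟩
    exact hV y hy hy
  subst this
  rfl

variable {P : Type v} [AddCommGroup P] [Module (WittVector p R) P]

theorem isExtPow_unique (D : Display3n p R P) (r : ℕ)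
    (E E' : Display3n p R (⋀[WittVector p R]^r P)) (hE : IsExtPow D r E)
    (hE' : IsExtPow D r E') : E' = E := by
  apply display_ext E' E (hE'.1.trans hE.1.symm)
  intro y h' h
  have hy : y ∈ Submodule.span (WittVector p R) (Set.range fun q : Fin r → D.Q =>
      exteriorPower.ιMulti (WittVector p R) r (fun i => (q i : P))) := by
    rw [← hE.1]
    exact h
  revert h h'
  induction hy using Submodule.span_induction with
  | mem y hy0 =>
    intro h' h
    obtain ⟨q, rfl⟩ := hy0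
    rw [hE'.2 q h', hE.2 q h]
  | zero =>
    intro h' h
    have e1 : (⟨0, h'⟩ : E'.Q) = 0 := rfl
    have e2 : (⟨0, h⟩ : E.Q) = 0 := rfl
    rw [e1, e2, map_zero, map_zero]
  | add a b ha0 hb0 ha hb =>
    intro h' h
    have haE : a ∈ E.Q := by rw [hE.1]; exact ha0
    have hbE : b ∈ E.Q := by rw [hE.1]; exact hb0
    have haE' : a ∈ E'.Q := by rw [hE'.1]; exact ha0
    have hbE' : b ∈ E'.Q := by rw [hE'.1]; exact hb0
    have e1 : (⟨a + b, h'⟩ : E'.Q) = ⟨a, haE'⟩ + ⟨b, hbE'⟩ := rfl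
    have e2 : (⟨a + b, h⟩ : E.Q) = ⟨a, haE⟩ + ⟨b, hbE⟩ := rfl
    rw [e1, e2, map_add, map_add, ha haE' haE, hb hbE' hbE]
  | smul c a ha0 ha =>
    intro h' h
    have haE : a ∈ E.Q := by rw [hE.1]; exact ha0
    have haE' : a ∈ E'.Q := by rw [hE'.1]; exact ha0
    have e1 : (⟨c • a, h'⟩ : E'.Q) = c • ⟨a, haE'⟩ := rfl
    have e2 : (⟨c • a, h⟩ : E.Q) = c • ⟨a, haE⟩ := rfl
    rw [e1, e2, LinearMap.map_smulₛₗ, LinearMap.map_smulₛₗ, ha haE' haE]

theorem existsUnique (D : Display3n p R P)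
    (hT : ∃ L T : Submodule (WittVector p R) P, IsCompl L T ∧ D.Q = L ⊔ IV p R • T ∧
      Nonempty (T ≃ₗ[WittVector p R] WittVector p R))
    (r : ℕ) :
    ∃ E : Display3n p R (⋀[WittVector p R]^r P), IsExtPow D r E ∧
      ∀ E' : Display3n p R (⋀[WittVector p R]^r P), IsExtPow D r E' → E' = E := by
  obtain ⟨L, T, hLT, hQ, ⟨τ⟩⟩ := hT
  haveI := D.finite
  haveI := D.projective
  haveI : Module.Projective (WittVector p R) (⋀[WittVector p R]^r P) := extPow_projective r
  obtain ⟨n, f, g, _, _, hfg⟩ := Module.Finite.exists_comp_eq_id_of_projective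
    (WittVector p R) (⋀[WittVector p R]^r P)
  let S : Setup p R P r := ⟨D, L, T, hLT, hQ, τ, n, f, g, hfg⟩
  let E : Display3n p R (⋀[WittVector p R]^r P) :=
    { Q := S.Qp
      F := S.F'
      Vinv := S.Vinv'
      finite := inferInstance
      projective := inferInstance
      IV_smul_le := S.IV_smul_le_Qp
      exists_normal := ⟨_, _, S.Aop_isCompl, S.Qp_eq⟩
      span_range_Vinv := S.span_range_Vinv' D.span_range_Vinv
      Vinv_verschiebung_smul := fun w x => S.Vinv'_V w x _ }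
  have hE : IsExtPow D r E := ⟨rfl, fun q hq => S.Vinv'_ι q hq⟩
  exact ⟨E, hE, fun E' hE' => isExtPow_unique D r E E' hE hE'⟩

end Unique

end Groth.Agent.Helper25.DispExtC
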