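import Mathlib.LinearAlgebra.Charpoly.BaseChange
import Mathlib.LinearAlgebra.Eigenspace.Charpoly
import Mathlib.LinearAlgebra.Eigenspace.Minpoly
import Mathlib.LinearAlgebra.Matrix.Charpoly.LinearMap
import Mathlib.RingTheory.IntegralClosure.IsIntegral.Basic
import Mathlib.LinearAlgebra.TensorProduct.Tower

/-!
# Eigenvalues of lattice-preserving operators are integral (helper25)
-/

set_option autoImplicit false
set_option linter.unusedSectionVars false

noncomputable section

open Polynomial TensorProduct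

namespace Groth.Agent.Helper25.EigenIntegral

variable {R : Type*} [CommRing R] {K : Type*} [Field K] [Algebra R K]
variable {V : Type*} [AddCommGroup V] [Module R V] [Module K V] [IsScalarTower R K V]

/-- An operator preserving a finitely generated spanning `R`-submodule is killed by a monic
polynomial with coefficients in `R`. -/
theorem exists_monic_aeval_eq_zero {M : Submodule R V} (hfg : M.FG)
    (hsp : Submodule.span K (M : Set V) = ⊤) (A : V →ₗ[K] V) (hA : ∀ x ∈ M, A x ∈ M) :
    ∃ P : R[X], P.Monic ∧ aeval A (P.map (algebraMap R K)) = 0 := by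
  have : Module.Finite R M := Module.Finite.iff_fg.mpr hfg
  let AM : Module.End R M := (A.restrictScalars R).restrict hA
  have hAM : ∀ x : M, ((AM x : M) : V) = A (x : V) := fun x => rfl
  obtain ⟨P, hP, hPA⟩ := LinearMap.exists_monic_and_aeval_eq_zero R AM
  refine ⟨P, hP, ?_⟩
  have hpow : ∀ (n : ℕ) (x : M), (((AM ^ n) x : M) : V) = (A ^ n) (x : V) := by
    intro n
    induction n with
    | zero => intro x; rfl
    | succ n ih =>
      intro x
      rw [pow_succ', pow_succ', Module.End.mul_apply, Module.End.mul_apply, hAM, ih]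
  have key : ∀ (q : R[X]) (x : M),
      aeval A (q.map (algebraMap R K)) (x : V) = ((aeval AM q x : M) : V) := by
    intro q
    induction q using Polynomial.induction_on' with
    | add q₁ q₂ h₁ h₂ =>
      intro x
      rw [Polynomial.map_add, map_add, map_add, LinearMap.add_apply, LinearMap.add_apply, h₁, h₂]
      rfl
    | monomial n r =>
      intro x
      rw [Polynomial.map_monomial, aeval_monomial, aeval_monomial, Module.End.mul_apply,
        Module.End.mul_apply, Module.algebraMap_end_apply, Module.algebraMap_end_apply,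
        Submodule.coe_smul, hpow, algebraMap_smul]
  have hker : Submodule.span K (M : Set V) ≤
      LinearMap.ker (aeval A (P.map (algebraMap R K))) := by
    apply Submodule.span_le.mpr
    intro x hx
    rw [SetLike.mem_coe, LinearMap.mem_ker]
    have := key P ⟨x, hx⟩
    rw [hPA] at this
    exact this
  rw [hsp, top_le_iff, LinearMap.ker_eq_top] at hker
  exact hker

/-- Eigenvalues (after base change to a field `Ω`) of an operator killed by a monic polynomial
over `R` are integral over `R`. -/
theorem isIntegral_of_eigenvector {Ω : Type*} [Field Ω] [Algebra R Ω] [Algebra K Ω]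
    [IsScalarTower R K Ω] (A : V →ₗ[K] V) {P : R[X]} (hP : P.Monic)
    (hPA : aeval A (P.map (algebraMap R K)) = 0) {v : Ω ⊗[K] V} (hv : v ≠ 0) {lam : Ω}
    (hAv : A.baseChange Ω v = lam • v) : IsIntegral R lam := by
  refine ⟨P, hP, ?_⟩
  have hev : Module.End.HasEigenvector (A.baseChange Ω) lam v :=
    ⟨Module.End.mem_eigenspace_iff.mpr hAv, hv⟩
  have h1 := Module.End.aeval_apply_of_hasEigenvector
    (p := (P.map (algebraMap R K)).map (algebraMap K Ω)) hev
  have h2 : aeval (A.baseChange Ω) ((P.map (algebraMap R K)).map (algebraMap K Ω)) = 0 := by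
    rw [aeval_map_algebraMap]
    have := aeval_algHom_apply (Module.End.baseChangeHom K Ω V) A (P.map (algebraMap R K))
    rw [hPA, map_zero] at this
    exact this
  rw [h2, LinearMap.zero_apply] at h1
  have h3 := (smul_eq_zero.mp h1.symm).resolve_right hv
  rw [Polynomial.map_map, ← IsScalarTower.algebraMap_eq, eval_map] at h3
  exact h3

theorem exists_eigenvector_of_isRoot [Module.Finite K V] {Ω : Type*} [Field Ω] [Algebra K Ω]
    (T : V →ₗ[K] V) {α : Ω} (hα : (T.charpoly.map (algebraMap K Ω)).IsRoot α) :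
    ∃ v : Ω ⊗[K] V, v ≠ 0 ∧ T.baseChange Ω v = α • v := by
  rw [← LinearMap.charpoly_baseChange] at hα
  have h1 := (Module.End.hasEigenvalue_iff_isRoot_charpoly (T.baseChange Ω) α).mpr hα
  obtain ⟨v, hv⟩ := h1.exists_hasEigenvector
  exact ⟨v, hv.2, Module.End.mem_eigenspace_iff.mp hv.1⟩

/-- If `g = c T^s` is an automorphism of a lattice, then `c α^s` is a unit of the integral
closure for every eigenvalue `α` of `T`. -/
theorem isIntegral_of_isRoot_charpoly [Module.Finite K V] {Ω : Type*} [Field Ω] [Algebra R Ω]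
    [Algebra K Ω] [IsScalarTower R K Ω] {M : Submodule R V} (hfg : M.FG)
    (hsp : Submodule.span K (M : Set V) = ⊤) (T : V →ₗ[K] V) (c : K) (s : ℕ)
    (hgb : Function.Bijective (c • T ^ s))
    (hg : ∀ x ∈ M, (c • T ^ s) x ∈ M) (hginv : ∀ x ∈ M, ∃ y ∈ M, (c • T ^ s) y = x)
    {α : Ω} (hα : (T.charpoly.map (algebraMap K Ω)).IsRoot α) :
    IsIntegral R (algebraMap K Ω c * α ^ s) ∧ IsIntegral R (algebraMap K Ω c * α ^ s)⁻¹ := by
  obtain ⟨v, hv0, hv⟩ := exists_eigenvector_of_isRoot T hα
  have hev : Module.End.HasEigenvector (T.baseChange Ω) α v :=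
    ⟨Module.End.mem_eigenspace_iff.mpr hv, hv0⟩
  have hgv : (c • T ^ s).baseChange Ω v = (algebraMap K Ω c * α ^ s) • v := by
    rw [LinearMap.baseChange_smul, LinearMap.baseChange_pow, LinearMap.smul_apply,
      hev.pow_apply, ← algebraMap_smul Ω c, smul_smul]
  obtain ⟨P₁, hP₁, hP₁g⟩ := exists_monic_aeval_eq_zero hfg hsp (c • T ^ s) hg
  have hint1 := isIntegral_of_eigenvector (c • T ^ s) hP₁ hP₁g hv0 hgv
  refine ⟨hint1, ?_⟩
  -- the inverse
  let ge := LinearEquiv.ofBijective (c • T ^ s) hgb
  have hge : ∀ x, ge x = (c • T ^ s) x := fun x => rfl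
  have hginvM : ∀ x ∈ M, (ge.symm : V →ₗ[K] V) x ∈ M := by
    intro x hx
    obtain ⟨y, hy, hyx⟩ := hginv x hx
    have : (ge.symm : V →ₗ[K] V) x = y := by
      show ge.symm x = y
      rw [← hyx, ← hge, ge.symm_apply_apply]
    rw [this]
    exact hy
  obtain ⟨P₂, hP₂, hP₂g⟩ := exists_monic_aeval_eq_zero hfg hsp (ge.symm : V →ₗ[K] V) hginvM
  have hcomp : ((ge.symm : V →ₗ[K] V) * (c • T ^ s) : Module.End K V) = 1 := by
    ext x
    show ge.symm ((c • T ^ s) x) = x
    rw [← hge, ge.symm_apply_apply]
  have hne : algebraMap K Ω c * α ^ s ≠ 0 := by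
    intro h0
    rw [h0, zero_smul] at hgv
    have h1 : ((ge.symm : V →ₗ[K] V) * (c • T ^ s) : Module.End K V).baseChange Ω v = v := by
      rw [hcomp, LinearMap.baseChange_one]
      rfl
    rw [LinearMap.baseChange_mul, Module.End.mul_apply, hgv, map_zero] at h1
    exact hv0 h1.symm
  have hinvv : (ge.symm : V →ₗ[K] V).baseChange Ω v = (algebraMap K Ω c * α ^ s)⁻¹ • v := by
    have h1 : ((ge.symm : V →ₗ[K] V) * (c • T ^ s) : Module.End K V).baseChange Ω v = v := by
      rw [hcomp, LinearMap.baseChange_one]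
      rfl
    rw [LinearMap.baseChange_mul, Module.End.mul_apply, hgv, map_smul] at h1
    calc (ge.symm : V →ₗ[K] V).baseChange Ω v
        = (algebraMap K Ω c * α ^ s)⁻¹ • ((algebraMap K Ω c * α ^ s) •
            (ge.symm : V →ₗ[K] V).baseChange Ω v) := by
          rw [smul_smul, inv_mul_cancel₀ hne, one_smul]
      _ = (algebraMap K Ω c * α ^ s)⁻¹ • v := by rw [h1]
  exact isIntegral_of_eigenvector _ hP₂ hP₂g hv0 hinvv

theorem ne_zero_of_isRoot_charpoly [Module.Finite K V] {Ω : Type*} [Field Ω] [Algebra K Ω]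
    (T : V →ₗ[K] V) (hT : Function.Bijective T) {α : Ω}
    (hα : (T.charpoly.map (algebraMap K Ω)).IsRoot α) : α ≠ 0 := by
  obtain ⟨v, hv0, hv⟩ := exists_eigenvector_of_isRoot T hα
  rintro rfl
  rw [zero_smul] at hv
  let Te := LinearEquiv.ofBijective T hT
  have hcomp : ((Te.symm : V →ₗ[K] V) * T : Module.End K V) = 1 := by
    ext x
    show Te.symm (T x) = x
    exact Te.symm_apply_apply x
  have h1 : ((Te.symm : V →ₗ[K] V) * T : Module.End K V).baseChange Ω v = v := by
    rw [hcomp, LinearMap.baseChange_one]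
    rfl
  rw [LinearMap.baseChange_mul, Module.End.mul_apply, hv, map_zero] at h1
  exact hv0 h1.symm

end Groth.Agent.Helper25.EigenIntegral

end
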