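import Mathlib

namespace Groth.Agent.Helper25.TraceFormula

open Polynomial Matrix

variable {R : Type*} [CommRing R] {m : Type*} [Fintype m] [DecidableEq m]

/-- Jacobi's formula, column form -/
theorem derivative_det (N : Matrix m m R[X]) :
    derivative N.det = ∑ k, (N.updateCol k (fun r => derivative (N r k))).det := by
  simp only [Matrix.det_apply']
  rw [map_sum, Finset.sum_comm]
  apply Finset.sum_congr rfl
  intro σ _
  rw [derivative_intCast_mul, derivative_prod_finset, Finset.mul_sum]
  apply Finset.sum_congr rfl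
  intro k _
  congr 1
  rw [← Finset.prod_erase_mul Finset.univ _ (Finset.mem_univ k)]
  congr 1
  · apply Finset.prod_congr rfl
    intro i hi
    rw [Matrix.updateCol_apply, if_neg (Finset.ne_of_mem_erase hi)]
  · rw [Matrix.updateCol_apply, if_pos rfl]

theorem derivative_det_eq_trace (N : Matrix m m R[X]) :
    derivative N.det = Matrix.trace (N.adjugate * N.map (⇑derivative)) := by
  rw [derivative_det, Matrix.trace]
  apply Finset.sum_congr rfl
  intro k _
  rw [Matrix.diag_apply, Matrix.mul_apply, ← Matrix.cramer_apply,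
    Matrix.cramer_eq_adjugate_mulVec]
  simp only [Matrix.mulVec, dotProduct, Matrix.map_apply]

theorem map_derivative_N (A : Matrix m m R) :
    (1 - (X : R[X]) • A.map C).map (⇑derivative) = -(A.map C) := by
  ext i j
  simp only [Matrix.map_apply, Matrix.sub_apply, Matrix.smul_apply, Matrix.neg_apply, smul_eq_mul,
    Matrix.one_apply]
  split_ifs <;> simp

theorem neg_X_mul_derivative (A : Matrix m m R) :
    -(X * derivative A.charpolyRev) =
      Matrix.trace (1 - (X : R[X]) • A.map C).adjugate -
        (Fintype.card m : R[X]) * A.charpolyRev := by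
  obtain ⟨N, hN⟩ : ∃ N : Matrix m m R[X], N = 1 - (X : R[X]) • A.map C := ⟨_, rfl⟩
  have hP : A.charpolyRev = N.det := by rw [hN]; rfl
  have hD : N.map (⇑derivative) = -(A.map C) := by rw [hN, map_derivative_N]
  rw [← hN, hP, derivative_det_eq_trace, hD, Matrix.mul_neg, Matrix.trace_neg, mul_neg, neg_neg]
  have h1 : X * Matrix.trace (N.adjugate * A.map C) =
      Matrix.trace (N.adjugate * ((X : R[X]) • A.map C)) := by
    rw [Matrix.mul_smul, Matrix.trace_smul, smul_eq_mul]
  have h2 : (X : R[X]) • A.map C = 1 - N := by rw [hN, sub_sub_cancel]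
  rw [h1, h2, Matrix.mul_sub, Matrix.mul_one, Matrix.adjugate_mul, Matrix.trace_sub,
    Matrix.trace_smul, Matrix.trace_one, smul_eq_mul, mul_comm]

/-- the matrix of generating functions of powers of `A` -/
noncomputable def G (A : Matrix m m R) : Matrix m m (PowerSeries R) :=
  Matrix.of fun i j => PowerSeries.mk fun k => (A ^ k) i j

theorem N_mul_G (A : Matrix m m R) :
    (1 - (PowerSeries.X : PowerSeries R) • A.map (PowerSeries.C)) * G A = 1 := by
  rw [sub_mul, one_mul, Matrix.smul_mul]
  refine Matrix.ext (fun i j => ?_)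
  rw [Matrix.sub_apply, Matrix.smul_apply, smul_eq_mul]
  refine PowerSeries.ext (fun k => ?_)
  rw [map_sub]
  have hAG : ∀ k', PowerSeries.coeff k' ((A.map PowerSeries.C * G A) i j) =
      (A ^ (k' + 1)) i j := by
    intro k'
    rw [Matrix.mul_apply, map_sum, pow_succ', Matrix.mul_apply]
    apply Finset.sum_congr rfl
    intro l _
    rw [Matrix.map_apply, PowerSeries.coeff_C_mul, G, Matrix.of_apply, PowerSeries.coeff_mk]
  cases k with
  | zero =>
    rw [PowerSeries.coeff_zero_X_mul, sub_zero, G, Matrix.of_apply, PowerSeries.coeff_mk,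
      pow_zero, Matrix.one_apply, Matrix.one_apply]
    split_ifs <;> simp
  | succ k =>
    rw [PowerSeries.coeff_succ_X_mul, hAG, G, Matrix.of_apply, PowerSeries.coeff_mk, sub_self,
      Matrix.one_apply]
    split_ifs <;> simp

theorem map_coe_N (A : Matrix m m R) :
    (1 - (X : R[X]) • A.map C).map (Polynomial.coeToPowerSeries.ringHom) =
      1 - (PowerSeries.X : PowerSeries R) • A.map PowerSeries.C := by
  ext i j
  simp only [Matrix.map_apply, Matrix.sub_apply, Matrix.smul_apply, smul_eq_mul,
    Matrix.one_apply, map_sub, map_mul]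
  congr 1
  · split_ifs <;> simp
  · simp

theorem map_adjugate_eq (A : Matrix m m R) :
    ((1 - (X : R[X]) • A.map C).adjugate).map (Polynomial.coeToPowerSeries.ringHom) =
      (A.charpolyRev : PowerSeries R) • G A := by
  obtain ⟨N, hN⟩ : ∃ N : Matrix m m R[X], N = 1 - (X : R[X]) • A.map C := ⟨_, rfl⟩
  have hP : A.charpolyRev = N.det := by rw [hN]; rfl
  have h2 : N.map (Polynomial.coeToPowerSeries.ringHom) * G A = 1 := by
    rw [hN, map_coe_N, N_mul_G]
  rw [← hN, hP]
  have h1 : N.adjugate.map (Polynomial.coeToPowerSeries.ringHom) *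
      N.map (Polynomial.coeToPowerSeries.ringHom) =
      ((N.det : R[X]) : PowerSeries R) • (1 : Matrix m m (PowerSeries R)) := by
    rw [← Matrix.map_mul, Matrix.adjugate_mul]
    ext i j
    rw [Matrix.map_apply, Matrix.smul_apply, Matrix.smul_apply, Matrix.one_apply,
      Matrix.one_apply, smul_eq_mul, smul_eq_mul, map_mul]
    split_ifs <;> simp
  calc N.adjugate.map (Polynomial.coeToPowerSeries.ringHom)
      = N.adjugate.map (Polynomial.coeToPowerSeries.ringHom) *
        (N.map (Polynomial.coeToPowerSeries.ringHom) * G A) := by rw [h2, mul_one]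
    _ = (N.adjugate.map (Polynomial.coeToPowerSeries.ringHom) *
        N.map (Polynomial.coeToPowerSeries.ringHom)) * G A := by rw [mul_assoc]
    _ = _ := by rw [h1, Matrix.smul_mul, one_mul]

theorem s3134 (A : Matrix m m R) :
    ((-(X * Polynomial.derivative A.charpolyRev) : R[X]) : PowerSeries R) =
      (A.charpolyRev : PowerSeries R) *
        PowerSeries.mk (fun n => if n = 0 then 0 else (A ^ n).trace) := by
  rw [neg_X_mul_derivative]
  have hφ : ∀ x : R[X], (x : PowerSeries R) = Polynomial.coeToPowerSeries.ringHom x :=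
    fun _ => rfl
  rw [hφ, map_sub, map_mul, map_natCast]
  have h1 : Polynomial.coeToPowerSeries.ringHom
      (Matrix.trace (1 - (X : R[X]) • A.map C).adjugate) =
      Matrix.trace (((1 - (X : R[X]) • A.map C).adjugate).map
        Polynomial.coeToPowerSeries.ringHom) := by
    simp only [Matrix.trace, Matrix.diag_apply, map_sum, Matrix.map_apply]
  rw [h1, map_adjugate_eq, Matrix.trace_smul, smul_eq_mul, ← hφ]
  have h2 : Matrix.trace (G A) - (Fintype.card m : PowerSeries R) =
      PowerSeries.mk (fun n => if n = 0 then 0 else (A ^ n).trace) := by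
    ext k
    rw [map_sub, Matrix.trace, map_sum, PowerSeries.coeff_mk]
    simp only [Matrix.diag_apply, G, Matrix.of_apply, PowerSeries.coeff_mk]
    rw [← map_natCast (PowerSeries.C : R →+* PowerSeries R), PowerSeries.coeff_C]
    cases k with
    | zero => simp
    | succ k => simp [Matrix.trace]
  rw [← h2]; ring

open scoped PowerSeries in
theorem ode_unique {K : Type*} [Field K] [CharZero K] (h w : PowerSeries K)
    (hh : PowerSeries.coeff 0 h = 0)
    (hw : PowerSeries.X * d⁄dX K w = w * h) (hw0 : PowerSeries.coeff 0 w = 0) : w = 0 := by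
  ext n
  induction n using Nat.strong_induction_on with
  | _ n ih =>
    rw [map_zero]
    cases n with
    | zero => exact hw0
    | succ n =>
      have h1 := congrArg (PowerSeries.coeff (n + 1)) hw
      rw [PowerSeries.coeff_succ_X_mul, PowerSeries.coeff_derivative, PowerSeries.coeff_mul] at h1
      have h2 : ∑ x ∈ Finset.HasAntidiagonal.antidiagonal (n + 1),
          PowerSeries.coeff x.1 w * PowerSeries.coeff x.2 h = 0 := by
        apply Finset.sum_eq_zero
        intro x hx
        rw [Finset.HasAntidiagonal.mem_antidiagonal] at hx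
        by_cases hx1 : x.1 < n + 1
        · have h3 := ih x.1 hx1
          rw [map_zero] at h3
          rw [h3, zero_mul]
        · have h3 : x.2 = 0 := by omega
          rw [h3, hh, mul_zero]
      rw [h2] at h1
      have h3 : ((n : K) + 1) ≠ 0 := by exact_mod_cast Nat.succ_ne_zero n
      exact (mul_eq_zero.mp h1).resolve_right h3

open scoped PowerSeries in
theorem s13056 {K : Type*} [Field K] [CharZero K]
    {n : Type*} [Fintype n] [DecidableEq n] (M : Matrix n n K) :
    ((M.charpolyRev : Polynomial K) : PowerSeries K) =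
      PowerSeries.subst (PowerSeries.mk fun m : ℕ => -(Matrix.trace (M ^ m)) / (m : K))
        (PowerSeries.exp K) := by
  obtain ⟨g, hg⟩ : ∃ g : PowerSeries K,
      g = PowerSeries.mk fun m : ℕ => -(Matrix.trace (M ^ m)) / (m : K) := ⟨_, rfl⟩
  rw [← hg]
  have hg0 : PowerSeries.constantCoeff g = 0 := by
    rw [hg, ← PowerSeries.coeff_zero_eq_constantCoeff_apply, PowerSeries.coeff_mk]; simp
  have hsub : PowerSeries.HasSubst g := PowerSeries.HasSubst.of_constantCoeff_zero' hg0
  obtain ⟨h, hh⟩ : ∃ h : PowerSeries K,
      h = - PowerSeries.mk (fun n => if n = 0 then 0 else (M ^ n).trace) := ⟨_, rfl⟩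
  have hh0 : PowerSeries.coeff 0 h = 0 := by rw [hh]; simp
  have hP : PowerSeries.X * d⁄dX K (M.charpolyRev : PowerSeries K) =
      (M.charpolyRev : PowerSeries K) * h := by
    have h1 := s3134 M
    rw [Polynomial.coe_neg, Polynomial.coe_mul, Polynomial.coe_X] at h1
    rw [PowerSeries.derivative_coe, hh, mul_neg, ← h1, neg_neg]
  have hXg : PowerSeries.X * d⁄dX K g = h := by
    ext k
    cases k with
    | zero => rw [PowerSeries.coeff_zero_X_mul, hh0]
    | succ k =>
      rw [PowerSeries.coeff_succ_X_mul, PowerSeries.coeff_derivative, hg, hh, PowerSeries.coeff_mk,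
        map_neg, PowerSeries.coeff_mk, if_neg (Nat.succ_ne_zero k)]
      have h3 : ((k : K) + 1) ≠ 0 := by exact_mod_cast Nat.succ_ne_zero k
      push_cast
      field_simp
  have hF : PowerSeries.X * d⁄dX K (PowerSeries.subst g (PowerSeries.exp K)) =
      PowerSeries.subst g (PowerSeries.exp K) * h := by
    rw [PowerSeries.derivative_subst hsub, PowerSeries.derivative_exp, ← hXg]; ring
  have hP0 : PowerSeries.coeff 0 (M.charpolyRev : PowerSeries K) = 1 := by
    rw [Polynomial.coeff_coe, Polynomial.coeff_zero_eq_eval_zero, Matrix.eval_charpolyRev]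
  have hF0 : PowerSeries.coeff 0 (PowerSeries.subst g (PowerSeries.exp K)) = 1 := by
    have h1 : PowerSeries.exp K = PowerSeries.C 1 + (PowerSeries.exp K - 1) := by
      rw [map_one]; ring
    have h3 : PowerSeries.subst g (PowerSeries.C (1 : K)) = (PowerSeries.C 1 : PowerSeries K) :=
      PowerSeries.subst_C 1
    have h2 : PowerSeries.coeff 0 (PowerSeries.subst g (PowerSeries.exp K - 1)) = 0 := by
      rw [PowerSeries.coeff_zero_eq_constantCoeff_apply]
      exact PowerSeries.constantCoeff_subst_eq_zero hg0 _
        (by rw [map_sub, PowerSeries.constantCoeff_exp, map_one, sub_self])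
    rw [h1, PowerSeries.subst_add hsub, h3, map_add, h2, add_zero, PowerSeries.coeff_zero_C]
  have hfin := ode_unique h
    ((M.charpolyRev : PowerSeries K) - PowerSeries.subst g (PowerSeries.exp K)) hh0
    (by rw [map_sub, mul_sub, hP, hF, sub_mul]) (by rw [map_sub, hP0, hF0, sub_self])
  exact sub_eq_zero.mp hfin

end Groth.Agent.Helper25.TraceFormula
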