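import Mathlib
import Groth.Agent.Lib.Helper25.TraceFormula

namespace Groth.Agent.Helper25.ExpProd

open scoped PowerSeries

noncomputable def s (a : ℚ) : PowerSeries ℚ :=
  PowerSeries.mk fun v => if v = 0 then 0 else a ^ v

noncomputable def u (a : ℚ) : PowerSeries ℚ := 1 - PowerSeries.C a * PowerSeries.X

theorem constantCoeff_s (a : ℚ) : PowerSeries.constantCoeff (s a) = 0 := by
  rw [s, ← PowerSeries.coeff_zero_eq_constantCoeff_apply, PowerSeries.coeff_mk, if_pos rfl]

theorem constantCoeff_u (a : ℚ) : PowerSeries.constantCoeff (u a) = 1 := by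
  rw [u]; simp

theorem u_mul_s (a : ℚ) : u a * s a = PowerSeries.C a * PowerSeries.X := by
  ext n
  rw [u, sub_mul, one_mul, map_sub, mul_assoc, PowerSeries.coeff_C_mul, PowerSeries.coeff_C_mul]
  cases n with
  | zero =>
    rw [PowerSeries.coeff_zero_X_mul, PowerSeries.coeff_zero_X, s, PowerSeries.coeff_mk]
    simp
  | succ n =>
    rw [PowerSeries.coeff_succ_X_mul, s, PowerSeries.coeff_mk, PowerSeries.coeff_mk,
      if_neg (Nat.succ_ne_zero n), PowerSeries.coeff_X]
    by_cases hn : n = 0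
    · subst hn; simp
    · rw [if_neg hn, if_neg (by omega)]; ring

theorem X_mul_deriv_u_pow (a : ℚ) (k : ℕ) :
    PowerSeries.X * d⁄dX ℚ (u a ^ k) = u a ^ k * (-(k : PowerSeries ℚ) * s a) := by
  have hdu : d⁄dX ℚ (u a) = - PowerSeries.C a := by
    rw [u, map_sub, PowerSeries.derivative_one, Derivation.leibniz, PowerSeries.derivative_C,
      PowerSeries.derivative_X]
    simp
  rw [PowerSeries.derivative_pow, hdu]
  cases k with
  | zero => simp
  | succ k =>
    rw [Nat.add_sub_cancel, pow_succ]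
    have h := u_mul_s a
    linear_combination (((k + 1 : ℕ) : PowerSeries ℚ) * u a ^ k) * h

theorem X_mul_deriv_prod {ι : Type*} [DecidableEq ι] (S : Finset ι) (y h : ι → PowerSeries ℚ)
    (hy : ∀ i ∈ S, PowerSeries.X * d⁄dX ℚ (y i) = y i * h i) :
    PowerSeries.X * d⁄dX ℚ (∏ i ∈ S, y i) = (∏ i ∈ S, y i) * ∑ i ∈ S, h i := by
  induction S using Finset.induction_on with
  | empty => simp
  | insert a S ha ih =>
    rw [Finset.prod_insert ha, Finset.sum_insert ha, Derivation.leibniz, smul_eq_mul, smul_eq_mul]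
    have h1 := hy a (Finset.mem_insert_self a S)
    have h2 := ih (fun i hi => hy i (Finset.mem_insert_of_mem hi))
    linear_combination (∏ i ∈ S, y i) * h1 + y a * h2

theorem coeff_zero_exp_subst (g : PowerSeries ℚ) (hg0 : PowerSeries.constantCoeff g = 0) :
    PowerSeries.coeff 0 (PowerSeries.subst g (PowerSeries.exp ℚ)) = 1 := by
  have hsub : PowerSeries.HasSubst g := PowerSeries.HasSubst.of_constantCoeff_zero' hg0
  have h1 : PowerSeries.exp ℚ = PowerSeries.C 1 + (PowerSeries.exp ℚ - 1) := by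
    rw [map_one]; ring
  have h3 : PowerSeries.subst g (PowerSeries.C (1 : ℚ)) = (PowerSeries.C 1 : PowerSeries ℚ) :=
    PowerSeries.subst_C 1
  have h2 : PowerSeries.coeff 0 (PowerSeries.subst g (PowerSeries.exp ℚ - 1)) = 0 := by
    rw [PowerSeries.coeff_zero_eq_constantCoeff_apply]
    exact PowerSeries.constantCoeff_subst_eq_zero hg0 _
      (by rw [map_sub, PowerSeries.constantCoeff_exp, map_one, sub_self])
  rw [h1, PowerSeries.subst_add hsub, h3, map_add, h2, add_zero, PowerSeries.coeff_zero_C]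

theorem X_mul_deriv_exp_subst (g : PowerSeries ℚ) (hg0 : PowerSeries.constantCoeff g = 0) :
    PowerSeries.X * d⁄dX ℚ (PowerSeries.subst g (PowerSeries.exp ℚ)) =
      PowerSeries.subst g (PowerSeries.exp ℚ) * (PowerSeries.X * d⁄dX ℚ g) := by
  have hsub : PowerSeries.HasSubst g := PowerSeries.HasSubst.of_constantCoeff_zero' hg0
  rw [PowerSeries.derivative_subst hsub, PowerSeries.derivative_exp]; ring

theorem main (c : ℤ →₀ ℤ) (q : ℚ) :
    PowerSeries.subst
        (PowerSeries.mk fun v : ℕ => if v = 0 then (0 : ℚ)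
          else (c.sum fun (n : ℤ) (r : ℤ) => (r : ℚ) * q ^ (n * (v : ℤ))) / (v : ℚ))
        (PowerSeries.exp ℚ)
      * ∏ n ∈ c.support, (1 - PowerSeries.C (q ^ n) * PowerSeries.X) ^ (c n).toNat
    = ∏ n ∈ c.support, (1 - PowerSeries.C (q ^ n) * PowerSeries.X) ^ (-(c n)).toNat := by
  classical
  obtain ⟨g, hg⟩ : ∃ g : PowerSeries ℚ, g = PowerSeries.mk fun v : ℕ => if v = 0 then (0 : ℚ)
      else (c.sum fun (n : ℤ) (r : ℤ) => (r : ℚ) * q ^ (n * (v : ℤ))) / (v : ℚ) := ⟨_, rfl⟩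
  rw [← hg]
  have hg0 : PowerSeries.constantCoeff g = 0 := by
    rw [hg, ← PowerSeries.coeff_zero_eq_constantCoeff_apply, PowerSeries.coeff_mk, if_pos rfl]
  have hXg : PowerSeries.X * d⁄dX ℚ g =
      ∑ n ∈ c.support, PowerSeries.C ((c n : ℤ) : ℚ) * s (q ^ n) := by
    ext v
    rw [map_sum]
    cases v with
    | zero =>
      rw [PowerSeries.coeff_zero_X_mul]
      symm
      apply Finset.sum_eq_zero
      intro n _
      rw [PowerSeries.coeff_C_mul, s, PowerSeries.coeff_mk, if_pos rfl, mul_zero]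
    | succ v =>
      rw [PowerSeries.coeff_succ_X_mul, PowerSeries.coeff_derivative, hg, PowerSeries.coeff_mk,
        if_neg (Nat.succ_ne_zero v), Finsupp.sum]
      have h3 : ((v : ℚ) + 1) ≠ 0 := by exact_mod_cast Nat.succ_ne_zero v
      have h4 : (((v + 1 : ℕ) : ℚ)) = (v : ℚ) + 1 := by push_cast; ring
      rw [h4, div_mul_cancel₀ _ h3]
      apply Finset.sum_congr rfl
      intro n _
      rw [PowerSeries.coeff_C_mul, s, PowerSeries.coeff_mk, if_neg (Nat.succ_ne_zero v), zpow_mul,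
        zpow_natCast]
  obtain ⟨E, hE⟩ : ∃ E, E = PowerSeries.subst g (PowerSeries.exp ℚ) := ⟨_, rfl⟩
  rw [← hE]
  have hE1 : PowerSeries.X * d⁄dX ℚ E = E * (PowerSeries.X * d⁄dX ℚ g) := by
    rw [hE]; exact X_mul_deriv_exp_subst g hg0
  have hE0 : PowerSeries.coeff 0 E = 1 := by rw [hE]; exact coeff_zero_exp_subst g hg0
  obtain ⟨P, hP⟩ : ∃ P, P = ∏ n ∈ c.support, u (q ^ n) ^ (c n).toNat := ⟨_, rfl⟩
  obtain ⟨Z, hZ⟩ : ∃ Z, Z = ∏ n ∈ c.support, u (q ^ n) ^ (-(c n)).toNat := ⟨_, rfl⟩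
  show E * ∏ n ∈ c.support, u (q ^ n) ^ (c n).toNat =
    ∏ n ∈ c.support, u (q ^ n) ^ (-(c n)).toNat
  rw [← hP, ← hZ]
  have hP1 : PowerSeries.X * d⁄dX ℚ P =
      P * ∑ n ∈ c.support, (-(((c n).toNat : ℕ) : PowerSeries ℚ) * s (q ^ n)) := by
    rw [hP]; exact X_mul_deriv_prod _ _ _ (fun n _ => X_mul_deriv_u_pow (q ^ n) _)
  have hZ1 : PowerSeries.X * d⁄dX ℚ Z =
      Z * ∑ n ∈ c.support, (-(((-(c n)).toNat : ℕ) : PowerSeries ℚ) * s (q ^ n)) := by
    rw [hZ]; exact X_mul_deriv_prod _ _ _ (fun n _ => X_mul_deriv_u_pow (q ^ n) _)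
  obtain ⟨h, hh⟩ : ∃ h, h =
      ∑ n ∈ c.support, (-(((-(c n)).toNat : ℕ) : PowerSeries ℚ) * s (q ^ n)) := ⟨_, rfl⟩
  have hsum : PowerSeries.X * d⁄dX ℚ g +
      ∑ n ∈ c.support, (-(((c n).toNat : ℕ) : PowerSeries ℚ) * s (q ^ n)) = h := by
    rw [hXg, hh, ← Finset.sum_add_distrib]
    apply Finset.sum_congr rfl
    intro n _
    have h1 : (PowerSeries.C ((c n : ℤ) : ℚ) : PowerSeries ℚ) =
        (((c n).toNat : ℕ) : PowerSeries ℚ) - (((-(c n)).toNat : ℕ) : PowerSeries ℚ) := by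
      have h2 := Int.toNat_sub_toNat_neg (c n)
      have h3 : (PowerSeries.C ((c n : ℤ) : ℚ) : PowerSeries ℚ) = ((c n : ℤ) : PowerSeries ℚ) := by
        rw [map_intCast]
      rw [h3]
      conv_lhs => rw [← h2]
      push_cast
      ring
    rw [h1]; ring
  have hW1 : PowerSeries.X * d⁄dX ℚ (E * P) = (E * P) * h := by
    rw [Derivation.leibniz, smul_eq_mul, smul_eq_mul, ← hsum]
    linear_combination E * hP1 + P * hE1
  have hZ1' : PowerSeries.X * d⁄dX ℚ Z = Z * h := by rw [hZ1, hh]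
  have hh0 : PowerSeries.coeff 0 h = 0 := by
    rw [hh, map_sum]
    apply Finset.sum_eq_zero
    intro n _
    rw [PowerSeries.coeff_zero_eq_constantCoeff_apply, map_mul, constantCoeff_s, mul_zero]
  have hP0 : PowerSeries.constantCoeff P = 1 := by
    rw [hP, map_prod]
    apply Finset.prod_eq_one
    intro n _
    rw [map_pow, constantCoeff_u, one_pow]
  have hZ0 : PowerSeries.constantCoeff Z = 1 := by
    rw [hZ, map_prod]
    apply Finset.prod_eq_one
    intro n _
    rw [map_pow, constantCoeff_u, one_pow]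
  have hfin := TraceFormula.ode_unique h (E * P - Z) hh0
    (by rw [map_sub, mul_sub, hW1, hZ1', sub_mul])
    (by
      rw [map_sub, PowerSeries.coeff_zero_eq_constantCoeff_apply,
        PowerSeries.coeff_zero_eq_constantCoeff_apply, map_mul, hP0, hZ0,
        ← PowerSeries.coeff_zero_eq_constantCoeff_apply, hE0, mul_one, sub_self])
  exact sub_eq_zero.mp hfin

end Groth.Agent.Helper25.ExpProd
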