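import Mathlib

namespace Groth.Agent.Helper25.LTCore

open MvPowerSeries

variable {R : Type*} [CommRing R] {σ τ : Type*}

/-- power series whose coefficients of degree `≤ N` vanish -/
def J (σ : Type*) (R : Type*) [CommRing R] (N : ℕ) : Ideal (MvPowerSeries σ R) where
  carrier := {E | ∀ m : σ →₀ ℕ, m.degree ≤ N → coeff m E = 0}
  zero_mem' := by intro m _; simp
  add_mem' := by
    intro a b ha hb m hm
    rw [map_add, ha m hm, hb m hm, add_zero]
  smul_mem' := by
    intro c x hx m hm
    classical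
    rw [smul_eq_mul, coeff_mul]
    apply Finset.sum_eq_zero
    rintro ⟨p1, p2⟩ hp
    rw [Finset.HasAntidiagonal.mem_antidiagonal] at hp
    have h2 : p2.degree ≤ N := by
      have h3 := congrArg Finsupp.degree hp
      rw [map_add] at h3
      simp only at h3
      omega
    rw [hx p2 h2, mul_zero]

lemma mem_J {N : ℕ} {E : MvPowerSeries σ R} :
    E ∈ J σ R N ↔ ∀ m : σ →₀ ℕ, m.degree ≤ N → coeff m E = 0 := Iff.rfl

lemma J_anti {M N : ℕ} (h : M ≤ N) : J σ R N ≤ J σ R M :=
  fun _ hE m hm => hE m (hm.trans h)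

lemma mem_J_zero {E : MvPowerSeries σ R} : E ∈ J σ R 0 ↔ constantCoeff E = 0 := by
  rw [mem_J]
  constructor
  · intro h
    have := h 0 (by simp)
    rwa [coeff_zero_eq_constantCoeff_apply] at this
  · intro h m hm
    have h0 : m = 0 := by rw [← Finsupp.degree_eq_zero_iff]; omega
    rw [h0, coeff_zero_eq_constantCoeff_apply, h]

lemma constantCoeff_of_mem_J {N : ℕ} {E : MvPowerSeries σ R} (h : E ∈ J σ R N) :
    constantCoeff E = 0 := mem_J_zero.mp (J_anti (Nat.zero_le N) h)

/-- product of an element of `J N` with a series without constant term lies in `J (N+1)` -/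
lemma mul_mem_J_succ {N : ℕ} {E W : MvPowerSeries σ R} (hE : E ∈ J σ R N)
    (hW : constantCoeff W = 0) : E * W ∈ J σ R (N + 1) := by
  classical
  intro m hm
  rw [coeff_mul]
  apply Finset.sum_eq_zero
  rintro ⟨p1, p2⟩ hp
  rw [Finset.HasAntidiagonal.mem_antidiagonal] at hp
  have hdeg := congrArg Finsupp.degree hp
  rw [map_add] at hdeg
  simp only at hdeg
  by_cases h2 : p2 = 0
  · subst h2
    rw [coeff_zero_eq_constantCoeff_apply, hW, mul_zero]
  · have h3 : 1 ≤ p2.degree := by
      rcases Nat.eq_zero_or_pos p2.degree with h0 | h0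
      · exact absurd ((Finsupp.degree_eq_zero_iff _).mp h0) h2
      · exact h0
    have h1 : p1.degree ≤ N := by omega
    rw [hE p1 h1, zero_mul]

lemma eq_of_forall_mem_J {Φ Ψ : MvPowerSeries σ R} (h : ∀ N, Φ - Ψ ∈ J σ R N) : Φ = Ψ := by
  ext m
  have := h m.degree m le_rfl
  rw [map_sub] at this
  exact sub_eq_zero.mp this

variable (π : R) (q : ℕ)

/-- the family `π X_i + X_i^q` -/
noncomputable def th (σ : Type*) : σ → MvPowerSeries σ R := fun i => C π * X i + X i ^ q

lemma th_eq (hq : 1 ≤ q) (i : σ) : th π q σ i = X i * (C π + X i ^ (q - 1)) := by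
  unfold th
  obtain ⟨q', rfl⟩ : ∃ q', q = q' + 1 := ⟨q - 1, by omega⟩
  rw [Nat.add_sub_cancel, pow_succ]
  ring

lemma constantCoeff_th (hq : 1 ≤ q) (i : σ) : constantCoeff (th π q σ i) = 0 := by
  unfold th
  have : q ≠ 0 := by omega
  simp [this]

lemma hasSubst_th [Finite σ] (hq : 1 ≤ q) : HasSubst (th π q σ) :=
  hasSubst_of_constantCoeff_zero (constantCoeff_th π q hq)

lemma prod_X_pow (d : σ →₀ ℕ) :
    (d.prod fun s n => (X s : MvPowerSeries σ R) ^ n) = monomial d 1 := by
  unfold Finsupp.prod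
  simp_rw [X_pow_eq]
  rw [prod_monomial]
  have h : ∑ i ∈ d.support, Finsupp.single i (d i) = d := Finsupp.sum_single d
  rw [h, Finset.prod_const_one]

open scoped Classical in
lemma coeff_th_prod (hq : 2 ≤ q) (d e : σ →₀ ℕ) (h : e.degree ≤ d.degree) :
    coeff e (d.prod fun s n => (th π q σ s) ^ n) = if d = e then π ^ d.degree else 0 := by
  classical
  have h1 : (d.prod fun s n => (th π q σ s) ^ n)
      = monomial d 1 * (d.prod fun s n => (C π + X s ^ (q - 1)) ^ n) := by
    rw [← prod_X_pow, ← Finsupp.prod_mul]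
    apply Finsupp.prod_congr
    intro s _
    rw [← mul_pow, th_eq π q (by omega)]
  rw [h1, coeff_monomial_mul]
  by_cases hde : d = e
  · subst hde
    simp only [le_refl, if_true, tsub_self, one_mul, coeff_zero_eq_constantCoeff_apply]
    rw [map_finsuppProd]
    have hq1 : q - 1 ≠ 0 := by omega
    simp only [map_pow, map_add, constantCoeff_C, constantCoeff_X, zero_pow hq1, add_zero]
    unfold Finsupp.prod
    rw [Finset.prod_pow_eq_pow_sum]
    rfl
  · rw [if_neg hde, if_neg]
    intro hle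
    apply hde
    have h2 : e = d + (e - d) := (add_tsub_cancel_of_le hle).symm
    have h3 := congrArg Finsupp.degree h2
    rw [map_add] at h3
    have h4 : (e - d).degree = 0 := by omega
    rw [Finsupp.degree_eq_zero_iff] at h4
    rw [h2, h4, add_zero]

lemma coeff_subst_th [Finite σ] (hq : 2 ≤ q) {r : ℕ} {E : MvPowerSeries σ R}
    (hE : E ∈ J σ R r) (m : σ →₀ ℕ) (hm : m.degree ≤ r + 1) :
    coeff m (subst (th π q σ) E) = π ^ m.degree * coeff m E := by
  have hs : HasSubst (th π q σ) := hasSubst_th π q (by omega)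
  rw [coeff_subst hs, finsum_eq_single _ m]
  · rw [coeff_th_prod π q hq m m le_rfl, if_pos rfl, smul_eq_mul, mul_comm]
  · intro d hd
    by_cases hdr : d.degree ≤ r
    · rw [hE d hdr, zero_smul]
    · rw [coeff_th_prod π q hq d m (by omega), if_neg hd, smul_zero]

lemma subst_th_mem_J [Finite σ] (hq : 2 ≤ q) {N : ℕ} {E : MvPowerSeries σ R}
    (hE : E ∈ J σ R N) : subst (th π q σ) E ∈ J σ R N := by
  intro m hm
  rw [coeff_subst_th π q hq hE m (by omega), hE m hm, mul_zero]

/-- the defect of commutation with `πT + T^q` -/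
noncomputable def Δ (Φ : MvPowerSeries σ R) : MvPowerSeries σ R :=
  subst (th π q σ) Φ - C π * Φ - Φ ^ q

lemma step [Finite σ] (hq : 2 ≤ q) {r : ℕ} {Φ E : MvPowerSeries σ R}
    (hΦ : constantCoeff Φ = 0) (hE : E ∈ J σ R r) :
    Δ π q (Φ + E) - Δ π q Φ - (C π ^ (r + 1) - C π) * E ∈ J σ R (r + 1) := by
  have hs : HasSubst (th π q σ) := hasSubst_th π q (by omega)
  have hE0 : constantCoeff E = 0 := constantCoeff_of_mem_J hE
  have h1 : Δ π q (Φ + E) - Δ π q Φ - (C π ^ (r + 1) - C π) * E
      = (subst (th π q σ) E - C π ^ (r + 1) * E) - ((Φ + E) ^ q - Φ ^ q) := by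
    unfold Δ
    rw [subst_add hs]
    ring
  rw [h1]
  apply Ideal.sub_mem
  · intro m hm
    rw [map_sub, coeff_subst_th π q hq hE m hm, ← map_pow, coeff_C_mul]
    rcases Nat.lt_or_ge m.degree (r + 1) with h | h
    · rw [hE m (by omega)]; ring
    · have : m.degree = r + 1 := by omega
      rw [this]; ring
  · have h2 : (Φ + E) ^ q - Φ ^ q
        = E * ∑ i ∈ Finset.range q, (Φ + E) ^ i * Φ ^ (q - 1 - i) := by
      rw [← (Commute.all (Φ + E) Φ).geom_sum₂_mul q, add_sub_cancel_left, mul_comm]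
    rw [h2]
    apply mul_mem_J_succ hE
    rw [map_sum]
    apply Finset.sum_eq_zero
    intro i hi
    rw [map_mul, map_pow, map_pow, map_add, hΦ, hE0, add_zero]
    rcases Nat.eq_zero_or_pos i with h0 | h0
    · subst h0
      have : q - 1 - 0 ≠ 0 := by omega
      rw [pow_zero, one_mul, zero_pow this]
    · rw [zero_pow h0.ne', zero_mul]

lemma Δ_congr [Finite σ] (hq : 2 ≤ q) {N : ℕ} {Φ Ψ : MvPowerSeries σ R}
    (hΨ : constantCoeff Ψ = 0) (h : Φ - Ψ ∈ J σ R N) : Δ π q Φ - Δ π q Ψ ∈ J σ R N := by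
  have h1 := step π q hq hΨ h
  rw [add_sub_cancel] at h1
  have h2 : Δ π q Φ - Δ π q Ψ = (Δ π q Φ - Δ π q Ψ - (C π ^ (N + 1) - C π) * (Φ - Ψ))
      + (C π ^ (N + 1) - C π) * (Φ - Ψ) := by ring
  rw [h2]
  exact Ideal.add_mem _ (J_anti (Nat.le_succ N) h1) (Ideal.mul_mem_left _ _ h)

/-- regularity condition on `π` -/
def Reg (π : R) : Prop := ∀ r : ℕ, 1 ≤ r → ∀ c : R, (π ^ (r + 1) - π) * c = 0 → c = 0

lemma mem_J_one_of {E : MvPowerSeries σ R} (h0 : constantCoeff E = 0)
    (h1 : ∀ i, coeff (Finsupp.single i 1) E = 0) : E ∈ J σ R 1 := by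
  intro m hm
  rcases Nat.eq_zero_or_pos m.degree with h | h
  · rw [Finsupp.degree_eq_zero_iff] at h
    rw [h, coeff_zero_eq_constantCoeff_apply, h0]
  · have h2 : m ∈ {d : σ →₀ ℕ | d.degree = 1} := by
      show m.degree = 1
      omega
    rw [← Finsupp.range_single_one] at h2
    obtain ⟨i, rfl⟩ := h2
    exact h1 i

theorem unique_of_Δ [Finite σ] (hq : 2 ≤ q) (hreg : Reg π)
    {Φ Ψ : MvPowerSeries σ R} (hΦ0 : constantCoeff Φ = 0) (hΨ0 : constantCoeff Ψ = 0)
    (hlin : ∀ i, coeff (Finsupp.single i 1) Φ = coeff (Finsupp.single i 1) Ψ)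
    (hΦ : Δ π q Φ = 0) (hΨ : Δ π q Ψ = 0) : Φ = Ψ := by
  have key : ∀ r : ℕ, 1 ≤ r → Φ - Ψ ∈ J σ R r := by
    intro r hr
    induction r, hr using Nat.le_induction with
    | base =>
      apply mem_J_one_of
      · rw [map_sub, hΦ0, hΨ0, sub_zero]
      · intro i; rw [map_sub, hlin i, sub_self]
    | succ r hr ih =>
      have hst := step π q hq hΨ0 ih
      rw [add_sub_cancel, hΦ, hΨ] at hst
      intro m hm
      rcases Nat.lt_or_ge m.degree (r + 1) with h | h
      · exact ih m (by omega)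
      · have h3 := hst m hm
        rw [sub_zero, zero_sub, map_neg, neg_eq_zero, ← map_pow, ← map_sub, coeff_C_mul] at h3
        exact hreg r hr _ h3
  apply eq_of_forall_mem_J
  intro N
  exact J_anti (Nat.le_succ N) (key (N + 1) (by omega))

theorem eq_zero_of_subst_th [Finite σ] (hq : 2 ≤ q) (hreg : Reg π)
    {E : MvPowerSeries σ R} (hE1 : E ∈ J σ R 1) (h : subst (th π q σ) E = C π * E) : E = 0 := by
  have key : ∀ r : ℕ, 1 ≤ r → E ∈ J σ R r := by
    intro r hr
    induction r, hr using Nat.le_induction with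
    | base => exact hE1
    | succ r hr ih =>
      intro m hm
      rcases Nat.lt_or_ge m.degree (r + 1) with h1 | h1
      · exact ih m (by omega)
      · have h2 := coeff_subst_th π q hq ih m hm
        rw [h, coeff_C_mul] at h2
        have h3 : m.degree = r + 1 := by omega
        rw [h3] at h2
        apply hreg r hr
        linear_combination -h2
  have : E - 0 = 0 := by
    apply eq_of_forall_mem_J
    intro N
    rw [sub_zero, sub_zero]
    exact J_anti (Nat.le_succ N) (key (N + 1) (by omega))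
  simpa using this

/-! ### linear coefficients of a substitution -/

lemma order_prod_ge (a : τ → MvPowerSeries σ R) (ha0 : ∀ t, constantCoeff (a t) = 0)
    (d : τ →₀ ℕ) : (d.degree : ℕ∞) ≤ (d.prod fun s n => a s ^ n).order := by
  unfold Finsupp.prod
  refine le_trans ?_ (le_order_prod _ _)
  rw [Finsupp.degree_apply, Nat.cast_sum]
  exact Finset.sum_le_sum fun s _ => le_order_pow_of_constantCoeff_eq_zero _ (ha0 s)

lemma coeff_single_subst [Fintype τ] (a : τ → MvPowerSeries σ R)
    (ha0 : ∀ t, constantCoeff (a t) = 0)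
    (G : MvPowerSeries τ R) (hG : constantCoeff G = 0) (i : σ) :
    coeff (Finsupp.single i 1) (subst a G) =
      ∑ t, coeff (Finsupp.single t 1) G * coeff (Finsupp.single i 1) (a t) := by
  classical
  have ha : HasSubst a := hasSubst_of_constantCoeff_zero ha0
  rw [coeff_subst ha]
  rw [finsum_eq_sum_of_support_subset (s := Finset.univ.image (fun t : τ => Finsupp.single t 1))]
  · rw [Finset.sum_image]
    · apply Finset.sum_congr rfl
      intro t _
      rw [Finsupp.prod_single_index (by simp), pow_one, smul_eq_mul]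
    · intro t _ t' _ h
      exact Finsupp.single_left_injective one_ne_zero h
  · intro d hd
    rw [Function.mem_support] at hd
    rw [Finset.coe_image, Finset.coe_univ, Set.image_univ, Finsupp.range_single_one]
    show d.degree = 1
    by_contra hne
    apply hd
    rcases Nat.lt_or_ge d.degree 1 with h | h
    · have h0 : d = 0 := by rw [← Finsupp.degree_eq_zero_iff]; omega
      subst h0
      rw [coeff_zero_eq_constantCoeff_apply, hG, zero_smul]
    · have h2 : 2 ≤ d.degree := by omega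
      have hz : coeff (Finsupp.single i 1) (d.prod fun s e => a s ^ e) = 0 := by
        apply coeff_of_lt_order
        refine lt_of_lt_of_le ?_ (order_prod_ge a ha0 d)
        rw [Finsupp.degree_single]
        exact_mod_cast h2
      rw [hz, smul_zero]

lemma constantCoeff_subst_zero [Finite τ] (a : τ → MvPowerSeries σ R)
    (ha0 : ∀ t, constantCoeff (a t) = 0) (G : MvPowerSeries τ R) (hG : constantCoeff G = 0) :
    constantCoeff (subst a G) = 0 :=
  constantCoeff_subst_eq_zero (hasSubst_of_constantCoeff_zero ha0) ha0 hG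

/-! ### the commutation property -/

/-- `Φ` commutes with `πT + T^q`. -/
def IsLT (Φ : MvPowerSeries σ R) : Prop := subst (th π q σ) Φ = C π * Φ + Φ ^ q

lemma isLT_iff_Δ (Φ : MvPowerSeries σ R) : IsLT π q Φ ↔ Δ π q Φ = 0 := by
  unfold IsLT Δ
  constructor
  · intro h; rw [h]; ring
  · intro h; linear_combination h

lemma isLT_X [Finite σ] (hq : 1 ≤ q) (i : σ) : IsLT π q (X i : MvPowerSeries σ R) := by
  unfold IsLT
  rw [subst_X (hasSubst_th π q hq)]
  rfl

lemma isLT_subst [Finite τ] [Finite σ] (hq : 1 ≤ q) {G : MvPowerSeries τ R} (hG : IsLT π q G)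
    {a : τ → MvPowerSeries σ R} (ha0 : ∀ t, constantCoeff (a t) = 0)
    (ha : ∀ t, IsLT π q (a t)) : IsLT π q (subst a G) := by
  have hsa : HasSubst a := hasSubst_of_constantCoeff_zero ha0
  have hsσ : HasSubst (th π q σ) := hasSubst_th π q hq
  have hsτ : HasSubst (th π q τ) := hasSubst_th π q hq
  unfold IsLT
  rw [subst_comp_subst_apply hsa hsσ]
  have h1 : (fun t => subst (th π q σ) (a t)) = fun t => subst a (th π q τ t) := by
    funext t
    rw [ha t]
    unfold th
    rw [subst_add hsa, subst_mul hsa, subst_C, subst_pow hsa, subst_X hsa]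
  rw [h1, ← subst_comp_subst_apply hsτ hsa, hG, subst_add hsa, subst_mul hsa, subst_C,
    subst_pow hsa]

theorem unique_of_isLT [Finite σ] (hq : 2 ≤ q) (hreg : Reg π)
    {Φ Ψ : MvPowerSeries σ R} (hΦ0 : constantCoeff Φ = 0) (hΨ0 : constantCoeff Ψ = 0)
    (hlin : ∀ i, coeff (Finsupp.single i 1) Φ = coeff (Finsupp.single i 1) Ψ)
    (hΦ : IsLT π q Φ) (hΨ : IsLT π q Ψ) : Φ = Ψ :=
  unique_of_Δ π q hq hreg hΦ0 hΨ0 hlin ((isLT_iff_Δ π q Φ).mp hΦ) ((isLT_iff_Δ π q Ψ).mp hΨ)

/-- `f(Φ) = π Φ + Φ^q` -/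
lemma ps_subst_f (Φ : MvPowerSeries σ R) (hΦ : constantCoeff Φ = 0) :
    PowerSeries.subst Φ (π • PowerSeries.X + PowerSeries.X ^ q : PowerSeries R)
      = C π * Φ + Φ ^ q := by
  have h : PowerSeries.HasSubst Φ := PowerSeries.HasSubst.of_constantCoeff_zero hΦ
  rw [PowerSeries.subst_add h, PowerSeries.subst_smul h, PowerSeries.subst_pow h,
    PowerSeries.subst_X h, smul_eq_C_mul]

lemma th_eq_ps_subst (i : σ) :
    PowerSeries.subst (X i : MvPowerSeries σ R)
      (π • PowerSeries.X + PowerSeries.X ^ q : PowerSeries R) = th π q σ i := by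
  rw [ps_subst_f π q _ (constantCoeff_X i)]
  rfl

/-- the commutation property in the form used in the statements -/
lemma isLT_iff_statement (Φ : MvPowerSeries σ R) (hΦ : constantCoeff Φ = 0) :
    IsLT π q Φ ↔
      PowerSeries.subst Φ (π • PowerSeries.X + PowerSeries.X ^ q : PowerSeries R) =
        MvPowerSeries.subst (fun i : σ => PowerSeries.subst (MvPowerSeries.X i : MvPowerSeries σ R)
          (π • PowerSeries.X + PowerSeries.X ^ q : PowerSeries R)) Φ := by
  rw [ps_subst_f π q Φ hΦ]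
  have : (fun i : σ => PowerSeries.subst (MvPowerSeries.X i : MvPowerSeries σ R)
          (π • PowerSeries.X + PowerSeries.X ^ q : PowerSeries R)) = th π q σ := by
    funext i; exact th_eq_ps_subst π q i
  rw [this]
  unfold IsLT
  exact eq_comm

end Groth.Agent.Helper25.LTCore
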