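import Mathlib
import Groth.Agent.Lib.Helper25.LTCore

namespace Groth.Agent.Helper25.LTExist

open MvPowerSeries Groth.Agent.Helper25.LTCore

variable {R : Type*} [CommRing R] {σ : Type*}

/-- homogeneous component -/
noncomputable def hcomp (n : ℕ) (Ψ : MvPowerSeries σ R) : MvPowerSeries σ R :=
  fun m => if m.degree = n then coeff m Ψ else 0

lemma coeff_hcomp (n : ℕ) (Ψ : MvPowerSeries σ R) (m : σ →₀ ℕ) :
    coeff m (hcomp n Ψ) = if m.degree = n then coeff m Ψ else 0 := rfl

theorem exists_limit (Λ : MvPowerSeries σ R → MvPowerSeries σ R)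
    (hcongr : ∀ (N : ℕ) (Φ Ψ : MvPowerSeries σ R), constantCoeff Ψ = 0 → Φ - Ψ ∈ J σ R N →
      Λ Φ - Λ Ψ ∈ J σ R N)
    (Q : ℕ → MvPowerSeries σ R) (hQ0 : ∀ n, constantCoeff (Q n) = 0)
    (hQstep : ∀ n, Q (n + 1) - Q n ∈ J σ R (n + 1))
    (hΛ : ∀ n, Λ (Q n) ∈ J σ R (n + 1)) :
    ∃ Φ : MvPowerSeries σ R, (∀ n, Φ - Q n ∈ J σ R (n + 1)) ∧ Λ Φ = 0 := by
  classical
  let Φ : MvPowerSeries σ R := fun m => coeff m (Q m.degree)
  have hstab : ∀ (m : σ →₀ ℕ) (k : ℕ), m.degree ≤ k → coeff m (Q k) = coeff m (Q m.degree) := by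
    intro m k hk
    induction k, hk using Nat.le_induction with
    | base => rfl
    | succ k hk ih =>
      have := hQstep k m (by omega)
      rw [map_sub, sub_eq_zero] at this
      rw [this, ih]
  have hΦ : ∀ n, Φ - Q n ∈ J σ R (n + 1) := by
    intro n m hm
    rw [map_sub, sub_eq_zero]
    show coeff m (Q m.degree) = coeff m (Q n)
    rcases Nat.lt_or_ge n m.degree with h | h
    · have h1 : m.degree = n + 1 := by omega
      have := hQstep n m hm
      rw [map_sub, sub_eq_zero] at this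
      rw [h1, this]
    · exact (hstab m n h).symm
  refine ⟨Φ, hΦ, ?_⟩
  apply eq_of_forall_mem_J
  intro N
  rw [sub_zero]
  have h1 : Λ Φ - Λ (Q N) ∈ J σ R N :=
    hcongr N Φ (Q N) (hQ0 N) (J_anti (Nat.le_succ N) (hΦ N))
  have h2 : Λ (Q N) ∈ J σ R N := J_anti (Nat.le_succ N) (hΛ N)
  have := Ideal.add_mem _ h1 h2
  rwa [sub_add_cancel] at this

variable (π : R) (q : ℕ)

open scoped Classical in
/-- coefficientwise quotient of the defect by `π` -/
noncomputable def dv (Φ : MvPowerSeries σ R) : MvPowerSeries σ R :=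
  fun m => if h : π ∣ coeff m (Δ π q Φ) then Classical.choose h else 0

open scoped Classical in
lemma dv_spec {Φ : MvPowerSeries σ R} (hdiv : ∀ m, π ∣ coeff m (Δ π q Φ)) (m : σ →₀ ℕ) :
    coeff m (Δ π q Φ) = π * coeff m (dv π q Φ) := by
  have h : coeff m (dv π q Φ) = Classical.choose (hdiv m) := by
    show (if h : π ∣ coeff m (Δ π q Φ) then Classical.choose h else 0) = _
    rw [dif_pos (hdiv m)]
  rw [h]
  exact Classical.choose_spec (hdiv m)

/-- the approximating sequence -/
noncomputable def Qs [Fintype σ] (a : σ → R) : ℕ → MvPowerSeries σ R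
  | 0 => ∑ i, C (a i) * X i
  | (n + 1) => Qs a n + C (Ring.inverse (1 - π ^ (n + 1))) * hcomp (n + 2) (dv π q (Qs a n))

theorem exists_isLT [Fintype σ] (hq : 2 ≤ q)
    (hdiv : ∀ Φ : MvPowerSeries σ R, constantCoeff Φ = 0 → ∀ m, π ∣ coeff m (Δ π q Φ))
    (hunit : ∀ r : ℕ, 1 ≤ r → IsUnit (1 - π ^ r)) (a : σ → R) :
    ∃ Φ : MvPowerSeries σ R, constantCoeff Φ = 0 ∧
      (∀ i, coeff (Finsupp.single i 1) Φ = a i) ∧ IsLT π q Φ := by
  classical
  have hE : ∀ n, C (Ring.inverse (1 - π ^ (n + 1))) * hcomp (n + 2) (dv π q (Qs π q a n))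
      ∈ J σ R (n + 1) := by
    intro n
    apply Ideal.mul_mem_left
    intro m hm
    rw [coeff_hcomp, if_neg (by omega)]
  have hQ0 : ∀ n, constantCoeff (Qs π q a n) = 0 := by
    intro n
    induction n with
    | zero => simp [Qs]
    | succ n ih =>
      show constantCoeff (Qs π q a n + _) = 0
      rw [map_add, ih, constantCoeff_of_mem_J (hE n), add_zero]
  have hΔ0 : Δ π q (0 : MvPowerSeries σ R) = 0 := by
    unfold Δ
    rw [← coe_substAlgHom (hasSubst_th π q (by omega)), map_zero, mul_zero,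
      zero_pow (by omega), sub_zero, sub_zero]
  have hΛ : ∀ n, Δ π q (Qs π q a n) ∈ J σ R (n + 1) := by
    intro n
    induction n with
    | zero =>
      have hL : Qs π q a 0 ∈ J σ R 0 := mem_J_zero.mpr (hQ0 0)
      have := step π q hq (Φ := 0) (map_zero _) hL
      rw [zero_add, hΔ0, sub_zero, zero_add, pow_one, sub_self, zero_mul, sub_zero] at this
      exact this
    | succ n ih =>
      have hst := step π q hq (hQ0 n) (hE n)
      have hC : (C π ^ (n + 1 + 1) - C π : MvPowerSeries σ R) *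
          (C (Ring.inverse (1 - π ^ (n + 1))) * hcomp (n + 2) (dv π q (Qs π q a n)))
          = C ((π ^ (n + 1 + 1) - π) * Ring.inverse (1 - π ^ (n + 1))) *
            hcomp (n + 2) (dv π q (Qs π q a n)) := by
        rw [map_mul, map_sub, map_pow]; ring
      have h2 : Δ π q (Qs π q a n) + (C π ^ (n + 1 + 1) - C π) *
          (C (Ring.inverse (1 - π ^ (n + 1))) * hcomp (n + 2) (dv π q (Qs π q a n)))
          ∈ J σ R (n + 1 + 1) := by
        intro m hm
        rw [hC, map_add, coeff_C_mul, coeff_hcomp]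
        by_cases hdeg : m.degree = n + 2
        · rw [if_pos hdeg, dv_spec π q (hdiv _ (hQ0 n)) m]
          have hu := Ring.mul_inverse_cancel _ (hunit (n + 1) (by omega))
          linear_combination (-π * coeff m (dv π q (Qs π q a n))) * hu
        · rw [if_neg hdeg, mul_zero, add_zero]
          exact ih m (by omega)
      have := Ideal.add_mem _ hst h2
      convert this using 1
      show Δ π q (Qs π q a n + _) = _
      ring
  obtain ⟨Φ, hΦ, hΦΔ⟩ := exists_limit (Δ π q) (fun N Φ Ψ hΨ h => Δ_congr π q hq hΨ h)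
    (Qs π q a) hQ0 (fun n => by
      show Qs π q a n + _ - Qs π q a n ∈ _
      rw [add_sub_cancel_left]; exact hE n) hΛ
  refine ⟨Φ, ?_, ?_, (isLT_iff_Δ π q Φ).mpr hΦΔ⟩
  · have := hΦ 0 0 (by simp)
    rw [map_sub, sub_eq_zero, coeff_zero_eq_constantCoeff_apply,
      coeff_zero_eq_constantCoeff_apply, hQ0 0] at this
    exact this
  · intro i
    have := hΦ 0 (Finsupp.single i 1) (by rw [Finsupp.degree_single])
    rw [map_sub, sub_eq_zero] at this
    rw [this]
    show coeff (Finsupp.single i 1) (∑ j, C (a j) * X j) = a i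
    rw [map_sum]
    simp only [coeff_C_mul, coeff_index_single_X]
    simp

/-! ### divisibility of the defect -/

section Frob

variable {k : Type*} [Field k] [Fintype k]

lemma aeval_pow_card (P : MvPolynomial σ k) :
    MvPolynomial.aeval (fun i => (X i : MvPowerSeries σ k) ^ (Fintype.card k)) P
      = (↑P : MvPowerSeries σ k) ^ (Fintype.card k) := by
  obtain ⟨p, hp⟩ := CharP.exists k
  obtain ⟨n, hpr, hcard⟩ := FiniteField.card k p
  have : Fact p.Prime := ⟨hpr⟩
  have : CharP (MvPowerSeries σ k) p :=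
    charP_of_injective_algebraMap (algebraMap k (MvPowerSeries σ k)).injective p
  induction P using MvPolynomial.induction_on with
  | C c =>
    rw [MvPolynomial.aeval_C, MvPolynomial.coe_C, ← map_pow, FiniteField.pow_card,
      MvPowerSeries.algebraMap_apply, Algebra.algebraMap_self, RingHom.id_apply]
  | add P Q hP hQ =>
    rw [map_add, hP, hQ, MvPolynomial.coe_add, hcard, add_pow_char_pow]
  | mul_X P i hP =>
    rw [map_mul, hP, MvPolynomial.aeval_X, MvPolynomial.coe_mul, MvPolynomial.coe_X, mul_pow]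

lemma Δ_zero_eq_zero [Finite σ] (Ψ : MvPowerSeries σ k) (hΨ : constantCoeff Ψ = 0) :
    Δ (0 : k) (Fintype.card k) Ψ = 0 := by
  have hq : 2 ≤ Fintype.card k := Fintype.one_lt_card
  apply eq_of_forall_mem_J
  intro N
  rw [sub_zero]
  obtain ⟨P, hPdef⟩ : ∃ P : MvPolynomial σ k, P = truncTotal (N + 1) Ψ := ⟨_, rfl⟩
  have hP : Ψ - (↑P : MvPowerSeries σ k) ∈ J σ k N := by
    intro m hm
    rw [map_sub, MvPolynomial.coeff_coe, hPdef, coeff_truncTotal _ (by omega), sub_self]
  have hP0 : constantCoeff (↑P : MvPowerSeries σ k) = 0 := by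
    rw [← coeff_zero_eq_constantCoeff_apply, MvPolynomial.coeff_coe, hPdef,
      coeff_truncTotal _ (by simp), coeff_zero_eq_constantCoeff_apply, hΨ]
  have h1 := Δ_congr 0 (Fintype.card k) hq hP0 hP
  have h2 : Δ 0 (Fintype.card k) (↑P : MvPowerSeries σ k) = 0 := by
    unfold Δ
    rw [subst_coe, map_zero, zero_mul, sub_zero]
    have hth : th (0 : k) (Fintype.card k) σ = fun i => (X i : MvPowerSeries σ k) ^ (Fintype.card k) := by
      funext i; unfold th; rw [map_zero, zero_mul, zero_add]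
    rw [hth, aeval_pow_card, sub_self]
  rw [h2, sub_zero] at h1
  exact h1

end Frob

lemma dvd_coeff_Δ {O : Type*} [CommRing O] [IsLocalRing O]
    [Finite (IsLocalRing.ResidueField O)] [Finite σ]
    (π : O) (hπ : IsLocalRing.maximalIdeal O = Ideal.span {π}) (Φ : MvPowerSeries σ O)
    (hΦ : constantCoeff Φ = 0) (m : σ →₀ ℕ) :
    π ∣ coeff m (Δ π (Nat.card (IsLocalRing.ResidueField O)) Φ) := by
  letI : Fintype (IsLocalRing.ResidueField O) := Fintype.ofFinite _
  have hρπ : IsLocalRing.residue O π = 0 := by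
    rw [IsLocalRing.residue_eq_zero_iff, hπ]; exact Ideal.mem_span_singleton_self π
  have hq : 1 ≤ Nat.card (IsLocalRing.ResidueField O) := Nat.one_le_iff_ne_zero.mpr Nat.card_pos.ne'
  have h1 : MvPowerSeries.map (IsLocalRing.residue O)
      (Δ π (Nat.card (IsLocalRing.ResidueField O)) Φ)
      = Δ (0 : IsLocalRing.ResidueField O) (Nat.card (IsLocalRing.ResidueField O))
        (MvPowerSeries.map (IsLocalRing.residue O) Φ) := by
    unfold Δ
    rw [map_sub, map_sub, map_mul, map_pow, map_subst (hasSubst_th π _ hq), map_C, hρπ]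
    congr 3
    funext i
    unfold th
    rw [map_add, map_mul, map_pow, map_C, map_X, hρπ]
  have h2 : Δ (0 : IsLocalRing.ResidueField O) (Nat.card (IsLocalRing.ResidueField O))
      (MvPowerSeries.map (IsLocalRing.residue O) Φ) = 0 := by
    rw [Nat.card_eq_fintype_card]
    exact Δ_zero_eq_zero _ (by rw [constantCoeff_map, hΦ, map_zero])
  have h3 : IsLocalRing.residue O (coeff m (Δ π (Nat.card (IsLocalRing.ResidueField O)) Φ)) = 0 := by
    rw [← coeff_map, h1, h2, map_zero]
  rw [IsLocalRing.residue_eq_zero_iff, hπ, Ideal.mem_span_singleton] at h3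
  exact h3

theorem exists_isLT_dvr {O : Type*} [CommRing O] [IsDomain O] [IsDiscreteValuationRing O]
    [Finite (IsLocalRing.ResidueField O)] [Fintype σ] (π : O) (hπ : Irreducible π) (a : σ → O) :
    ∃ Φ : MvPowerSeries σ O, constantCoeff Φ = 0 ∧
      (∀ i, coeff (Finsupp.single i 1) Φ = a i) ∧
      IsLT π (Nat.card (IsLocalRing.ResidueField O)) Φ := by
  apply exists_isLT π _ Finite.one_lt_card
  · intro Φ hΦ m
    exact dvd_coeff_Δ π hπ.maximalIdeal_eq Φ hΦ m
  · intro r hr
    apply IsLocalRing.isUnit_one_sub_self_of_mem_nonunits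
    show ¬ IsUnit (π ^ r)
    rw [isUnit_pow_iff (by omega)]
    exact hπ.not_isUnit

end Groth.Agent.Helper25.LTExist
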