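import Mathlib
import Groth.Agent.Lib.Helper25.LTCore
import Groth.Agent.Lib.Helper25.LTExist

namespace Groth.Agent.Helper25.FGInv

open MvPowerSeries Groth.Agent.Helper25.LTCore Groth.Agent.Helper25.LTExist

variable {R : Type*} [CommRing R] {σ : Type*}

lemma hasSubst_pair (A B : MvPowerSeries σ R) (hA : constantCoeff A = 0)
    (hB : constantCoeff B = 0) : HasSubst ![A, B] :=
  hasSubst_of_constantCoeff_zero (by intro s; fin_cases s <;> simpa)

lemma prod_pair (A B : MvPowerSeries σ R) (d : Fin 2 →₀ ℕ) :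
    (d.prod fun s e => (![A, B] s) ^ e) = A ^ d 0 * B ^ d 1 := by
  rw [Finsupp.prod_fintype _ _ (fun i => pow_zero _), Fin.prod_univ_two]
  rfl

lemma coeff_subst_fin2 (A B : MvPowerSeries σ R) (hA : constantCoeff A = 0)
    (hB : constantCoeff B = 0) (G : MvPowerSeries (Fin 2) R) (m : σ →₀ ℕ) :
    coeff m (subst ![A, B] G) = ∑ᶠ d : Fin 2 →₀ ℕ, coeff d G • coeff m (A ^ d 0 * B ^ d 1) := by
  rw [coeff_subst (hasSubst_pair A B hA hB)]
  apply finsum_congr
  intro d
  rw [prod_pair]

lemma finite_subst_fin2 (A B : MvPowerSeries σ R) (hA : constantCoeff A = 0)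
    (hB : constantCoeff B = 0) (G : MvPowerSeries (Fin 2) R) (m : σ →₀ ℕ) :
    (fun d : Fin 2 →₀ ℕ => coeff d G • coeff m (A ^ d 0 * B ^ d 1)).HasFiniteSupport := by
  have h := coeff_subst_finite (hasSubst_pair A B hA hB) G m
  have hfun : (fun d : Fin 2 →₀ ℕ => coeff d G • coeff m (d.prod fun s e => (![A, B] s) ^ e))
      = fun d : Fin 2 →₀ ℕ => coeff d G • coeff m (A ^ d 0 * B ^ d 1) := by
    funext d; rw [prod_pair]
  rw [hfun] at h
  exact h

lemma subst_snd_add {r : ℕ} (A B E : MvPowerSeries σ R) (hA : constantCoeff A = 0)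
    (hB : constantCoeff B = 0) (hE : E ∈ J σ R r) (G : MvPowerSeries (Fin 2) R) :
    subst ![A, B + E] G - subst ![A, B] G - C (coeff (Finsupp.single 1 1) G) * E
      ∈ J σ R (r + 1) := by
  classical
  have hE0 := constantCoeff_of_mem_J hE
  have hBE : constantCoeff (B + E) = 0 := by rw [map_add, hB, hE0, add_zero]
  intro m hm
  rw [map_sub, map_sub, coeff_subst_fin2 A (B + E) hA hBE G m, coeff_subst_fin2 A B hA hB G m,
    ← finsum_sub_distrib (finite_subst_fin2 A (B + E) hA hBE G m) (finite_subst_fin2 A B hA hB G m)]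
  rw [finsum_eq_single _ (Finsupp.single 1 1)]
  · have h0 : (Finsupp.single (1 : Fin 2) 1 : Fin 2 →₀ ℕ) 0 = 0 := by simp
    have h1 : (Finsupp.single (1 : Fin 2) 1 : Fin 2 →₀ ℕ) 1 = 1 := by simp
    rw [h0, h1, pow_zero, pow_one, pow_one, one_mul, one_mul, coeff_C_mul, map_add, smul_eq_mul,
      smul_eq_mul]
    ring
  · intro d hd
    have hT : A ^ d 0 * (B + E) ^ d 1 - A ^ d 0 * B ^ d 1 ∈ J σ R (r + 1) := by
      have h2 : (B + E) ^ d 1 - B ^ d 1
          = E * ∑ i ∈ Finset.range (d 1), (B + E) ^ i * B ^ (d 1 - 1 - i) := by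
        rw [← (Commute.all (B + E) B).geom_sum₂_mul (d 1), add_sub_cancel_left, mul_comm]
      rw [← mul_sub, h2]
      rcases Nat.lt_or_ge (d 1) 2 with hlt | hge
      · interval_cases hd1 : d 1
        · simp
        · -- d 1 = 1, so d 0 ≠ 0
          have hd0 : d 0 ≠ 0 := by
            intro h0
            apply hd
            ext i
            fin_cases i
            · simpa using h0
            · simpa using hd1
          simp only [Finset.range_one, Finset.sum_singleton, pow_zero, one_mul, Nat.sub_self,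
            mul_one]
          rw [mul_comm]
          exact mul_mem_J_succ hE (by rw [map_pow, hA, zero_pow hd0])
      · apply Ideal.mul_mem_left
        apply mul_mem_J_succ hE
        rw [map_sum]
        apply Finset.sum_eq_zero
        intro i hi
        rw [map_mul, map_pow, map_pow, hBE, hB]
        rcases Nat.eq_zero_or_pos i with hi0 | hi0
        · subst hi0
          have : d 1 - 1 - 0 ≠ 0 := by omega
          rw [pow_zero, one_mul, zero_pow this]
        · rw [zero_pow hi0.ne', zero_mul]
    rw [← smul_sub, ← map_sub, hT m hm, smul_zero]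

/-- `F(X, g)` as a function of `g` -/
noncomputable def ΛF (F : FormalGroup R) (g : PowerSeries R) : PowerSeries R :=
  subst ![(PowerSeries.X : PowerSeries R), g] F.toPowerSeries

/-- the approximating sequence -/
noncomputable def Gs (F : FormalGroup R) : ℕ → PowerSeries R
  | 0 => -PowerSeries.X
  | (n + 1) => Gs F n - hcomp (n + 2) (ΛF F (Gs F n))

lemma ΛF_step (F : FormalGroup R) {r : ℕ} (g E : PowerSeries R) (hg : constantCoeff g = 0)
    (hE : E ∈ J Unit R r) : ΛF F (g + E) - ΛF F g - E ∈ J Unit R (r + 1) := by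
  have h := subst_snd_add (PowerSeries.X : PowerSeries R) g E (constantCoeff_X ()) hg hE
    F.toPowerSeries
  rw [F.lin_coeff_Y, map_one, one_mul] at h
  exact h

theorem exists_right_inv (F : FormalGroup R) :
    ∃ g : PowerSeries R, constantCoeff g = 0 ∧
      subst ![(PowerSeries.X : PowerSeries R), g] F.toPowerSeries = (0 : PowerSeries R) := by
  classical
  have hE : ∀ n, -hcomp (n + 2) (ΛF F (Gs F n)) ∈ J Unit R (n + 1) := by
    intro n
    apply neg_mem
    intro m hm
    rw [coeff_hcomp, if_neg (by omega)]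
  have hQ0 : ∀ n, constantCoeff (Gs F n) = 0 := by
    intro n
    induction n with
    | zero =>
      show constantCoeff (-(PowerSeries.X : PowerSeries R)) = 0
      rw [map_neg, neg_eq_zero]
      exact constantCoeff_X ()
    | succ n ih =>
      show constantCoeff (Gs F n - _) = 0
      rw [sub_eq_add_neg, map_add, ih, constantCoeff_of_mem_J (hE n), add_zero]
  have hΛ : ∀ n, ΛF F (Gs F n) ∈ J Unit R (n + 1) := by
    intro n
    induction n with
    | zero =>
      have hX : (-(PowerSeries.X : PowerSeries R)) ∈ J Unit R 0 := by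
        rw [mem_J_zero, map_neg, neg_eq_zero]; exact constantCoeff_X ()
      have h := ΛF_step F 0 (-PowerSeries.X) (map_zero _) hX
      have h0 : ΛF F 0 = PowerSeries.X := by
        unfold ΛF
        exact F.add_zero (PowerSeries.HasSubst.of_constantCoeff_zero (constantCoeff_X ()))
      simp only [zero_add] at h
      rw [h0] at h
      show ΛF F (-PowerSeries.X) ∈ _
      have h2 : ΛF F (-PowerSeries.X) = ΛF F (-PowerSeries.X) - PowerSeries.X - -PowerSeries.X := by
        ring
      rw [h2]; exact h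
    | succ n ih =>
      have h := ΛF_step F (Gs F n) _ (hQ0 n) (hE n)
      have h2 : ΛF F (Gs F n) + -hcomp (n + 2) (ΛF F (Gs F n)) ∈ J Unit R (n + 1 + 1) := by
        intro m hm
        rw [map_add, map_neg, coeff_hcomp]
        by_cases hdeg : m.degree = n + 2
        · rw [if_pos hdeg, add_neg_cancel]
        · rw [if_neg hdeg, neg_zero, add_zero]
          exact ih m (by omega)
      have h3 := Ideal.add_mem _ h h2
      show ΛF F (Gs F n - _) ∈ _
      rw [sub_eq_add_neg]
      convert h3 using 1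
      ring
  have hcongr : ∀ (N : ℕ) (Φ Ψ : PowerSeries R), constantCoeff Ψ = 0 → Φ - Ψ ∈ J Unit R N →
      ΛF F Φ - ΛF F Ψ ∈ J Unit R N := by
    intro N Φ Ψ hΨ h
    have h1 := ΛF_step F Ψ (Φ - Ψ) hΨ h
    rw [add_sub_cancel] at h1
    have h2 : ΛF F Φ - ΛF F Ψ = (ΛF F Φ - ΛF F Ψ - (Φ - Ψ)) + (Φ - Ψ) := by ring
    rw [h2]
    exact Ideal.add_mem _ (J_anti (Nat.le_succ N) h1) h
  obtain ⟨g, hg, hgΛ⟩ := exists_limit (ΛF F) hcongr (Gs F) hQ0 (fun n => by
      show Gs F n - _ - Gs F n ∈ _
      rw [sub_sub_cancel_left]; exact hE n) hΛ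
  refine ⟨g, ?_, hgΛ⟩
  have := hg 0 0 (by simp)
  rw [map_sub, sub_eq_zero, coeff_zero_eq_constantCoeff_apply,
    coeff_zero_eq_constantCoeff_apply, hQ0 0] at this
  exact this

theorem exists_inv_unique (F : FormalGroup R) :
    ∃ g : PowerSeries R, PowerSeries.constantCoeff g = 0 ∧
      F.toPowerSeries.subst ![PowerSeries.X, g] = (0 : PowerSeries R) ∧
      F.toPowerSeries.subst ![g, PowerSeries.X] = (0 : PowerSeries R) ∧
      ∀ k : PowerSeries R, PowerSeries.constantCoeff k = 0 →
        (F.toPowerSeries.subst ![PowerSeries.X, k] = (0 : PowerSeries R) ∨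
          F.toPowerSeries.subst ![k, PowerSeries.X] = (0 : PowerSeries R)) → k = g := by
  obtain ⟨g, hg0, hg⟩ := exists_right_inv F
  have hsX : PowerSeries.HasSubst (PowerSeries.X : PowerSeries R) :=
    PowerSeries.HasSubst.of_constantCoeff_zero (constantCoeff_X ())
  have hsg : PowerSeries.HasSubst g := PowerSeries.HasSubst.of_constantCoeff_zero hg0
  have hb : HasSubst (fun _ : Unit => g) := hsg.const
  have ha : HasSubst ![(PowerSeries.X : PowerSeries R), g] :=
    hasSubst_pair _ _ (constantCoeff_X ()) hg0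
  let x : F.Point Unit := ⟨PowerSeries.X, hsX⟩
  let r : F.Point Unit := ⟨g, hsg⟩
  let s : F.Point Unit := ⟨subst (fun _ : Unit => g) g,
    IsNilpotent_subst hb (by rw [hg0]; exact IsNilpotent.zero)⟩
  have hxr : x + r = 0 := Subtype.ext hg
  have hrs : r + s = 0 := by
    apply Subtype.ext
    show subst ![g, subst (fun _ : Unit => g) g] F.toPowerSeries = 0
    have h1 := subst_comp_subst_apply ha hb F.toPowerSeries
    rw [hg] at h1
    have h2 : (fun s => subst (fun _ : Unit => g) (![(PowerSeries.X : PowerSeries R), g] s))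
        = ![g, subst (fun _ : Unit => g) g] := by
      funext s
      fin_cases s
      · show subst (fun _ : Unit => g) (MvPowerSeries.X ()) = g
        rw [subst_X hb]
      · rfl
    rw [h2] at h1
    rw [← h1, ← coe_substAlgHom hb, map_zero]
  have hxs : x = s := by
    calc x = x + (r + s) := by rw [hrs, _root_.add_zero]
      _ = (x + r) + s := (add_assoc _ _ _).symm
      _ = s := by rw [hxr, _root_.zero_add]
  have hrx : r + x = 0 := by rw [hxs]; exact hrs
  refine ⟨g, hg0, hg, congrArg Subtype.val hrx, ?_⟩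
  intro k hk0 hk
  have hsk : PowerSeries.HasSubst k := PowerSeries.HasSubst.of_constantCoeff_zero hk0
  let κ : F.Point Unit := ⟨k, hsk⟩
  suffices h : κ = r from congrArg Subtype.val h
  rcases hk with hk | hk
  · have hxκ : x + κ = 0 := Subtype.ext hk
    calc κ = (r + x) + κ := by rw [hrx, _root_.zero_add]
      _ = r + (x + κ) := add_assoc _ _ _
      _ = r := by rw [hxκ, _root_.add_zero]
  · have hκx : κ + x = 0 := Subtype.ext hk
    calc κ = κ + (x + r) := by rw [hxr, _root_.add_zero]
      _ = (κ + x) + r := (add_assoc _ _ _).symm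
      _ = r := by rw [hκx, _root_.zero_add]

end Groth.Agent.Helper25.FGInv
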