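import Mathlib
import Groth.Prelude.Def_StabCat

/-!
# A nonzero map between filtered objects induces a nonzero map between some factors
(lemma (HNC) requested by helper22 for S15199; backup of helper11's version)
-/

set_option autoImplicit false

open CategoryTheory CategoryTheory.Limits

universe v u

namespace Groth.Agent.Helper25.FactorMapNe

/-- a predicate on `Fin (n+1)` that fails at `0` and holds at `last` switches somewhere -/
theorem exists_switch {n : ℕ} (P : Fin (n + 1) → Prop) (h0 : ¬ P 0) (h1 : P (Fin.last n)) :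
    ∃ i : Fin n, ¬ P i.castSucc ∧ P i.succ := by
  classical
  have hex : ∃ m : ℕ, ∃ h : m < n + 1, P ⟨m, h⟩ := ⟨n, Nat.lt_succ_self n, h1⟩
  obtain ⟨hm, hPm⟩ := Nat.find_spec hex
  set m := Nat.find hex with hmdef
  have hm0 : m ≠ 0 := by
    intro h
    apply h0
    have : (⟨m, hm⟩ : Fin (n + 1)) = 0 := Fin.ext h
    rwa [this] at hPm
  obtain ⟨i, hi⟩ := Nat.exists_eq_succ_of_ne_zero hm0
  have hin : i < n := by omega
  refine ⟨⟨i, hin⟩, ?_, ?_⟩
  · intro hP
    have : m ≤ i := Nat.find_min' hex ⟨by omega, hP⟩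
    omega
  · have : (Fin.succ ⟨i, hin⟩ : Fin (n + 1)) = ⟨m, hm⟩ := Fin.ext (by simp [hi])
    rw [this]
    exact hPm

theorem exists_factor_map_ne_zero {C : Type u} [Category.{v} C] [Abelian C] {F G : C}
    (s : LTSeries (Subobject F)) (t : LTSeries (Subobject G)) (hs0 : s.head = ⊥) (hs1 : s.last = ⊤)
    (ht0 : t.head = ⊥) (ht1 : t.last = ⊤) (φ : F ⟶ G) (hφ : φ ≠ 0) :
    ∃ (i : Fin s.length) (j : Fin t.length) (ψ : StabCat.factor s i ⟶ StabCat.factor t j),
      ψ ≠ 0 := by
  -- step 1: the first index where `φ` becomes nonzero on the filtration of `F`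
  obtain ⟨i, hi0, hi1⟩ := exists_switch (fun a : Fin (s.length + 1) => (s a).arrow ≫ φ ≠ 0)
    (by
      intro h
      apply h
      have : s 0 = ⊥ := hs0
      rw [this, Subobject.bot_arrow, zero_comp])
    (by
      have : s (Fin.last s.length) = ⊤ := hs1
      rw [this]
      intro h
      apply hφ
      haveI : IsIso (⊤ : Subobject F).arrow := inferInstance
      exact (cancel_epi (⊤ : Subobject F).arrow).1 (by rw [h, comp_zero]))
  have hi0' : (s i.castSucc).arrow ≫ φ = 0 := not_not.1 hi0
  have hle : s i.castSucc ≤ s i.succ := le_of_lt (s.step i)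
  have hw : Subobject.ofLE (s i.castSucc) (s i.succ) hle ≫ (s i.succ).arrow ≫ φ = 0 := by
    rw [← Category.assoc, Subobject.ofLE_arrow, hi0']
  let ψ0 : StabCat.factor s i ⟶ G :=
    cokernel.desc (Subobject.ofLE (s i.castSucc) (s i.succ) hle) ((s i.succ).arrow ≫ φ) hw
  have hψ0 : ψ0 ≠ 0 := by
    intro h
    apply hi1
    have : cokernel.π (Subobject.ofLE (s i.castSucc) (s i.succ) hle) ≫ ψ0 =
        (s i.succ).arrow ≫ φ := cokernel.π_desc _ _ _
    rw [← this, h]
    exact comp_zero
  -- step 2: the first index of the filtration of `G` through which `ψ0` factors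
  obtain ⟨j, hj0, hj1⟩ := exists_switch (fun b : Fin (t.length + 1) => (t b).Factors ψ0)
    (by
      intro h
      have : t 0 = ⊥ := ht0
      rw [this, Subobject.bot_factors_iff_zero] at h
      exact hψ0 h)
    (by
      have : t (Fin.last t.length) = ⊤ := ht1
      rw [this]
      exact Subobject.top_factors ψ0)
  have hle' : t j.castSucc ≤ t j.succ := le_of_lt (t.step j)
  refine ⟨i, j, (t j.succ).factorThru ψ0 hj1 ≫
    cokernel.π (Subobject.ofLE (t j.castSucc) (t j.succ) hle'), ?_⟩
  intro h
  apply hj0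
  have hl := Abelian.monoLift_comp (Subobject.ofLE (t j.castSucc) (t j.succ) hle')
    ((t j.succ).factorThru ψ0 hj1) h
  have : ψ0 = Abelian.monoLift (Subobject.ofLE (t j.castSucc) (t j.succ) hle')
      ((t j.succ).factorThru ψ0 hj1) h ≫ (t j.castSucc).arrow := by
    rw [← Subobject.ofLE_arrow hle', ← Category.assoc, hl, Subobject.factorThru_arrow]
  change (t j.castSucc).Factors ψ0
  rw [this]
  exact Subobject.factors_comp_arrow _

end Groth.Agent.Helper25.FactorMapNe
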