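import Mathlib

/-!
# F-finiteness of local rings of finite type algebras over `k[[t]]`, `k` finite
-/

namespace Groth.Agent.Helper25.FrobFin

universe u

/-- `B` is generated by finitely many elements as a module over its `p`-th powers. -/
def FFin (p : ℕ) (B : Type*) [CommRing B] : Prop :=
  ∃ (ι : Type) (_ : Fintype ι) (g : ι → B), ∀ b : B, ∃ c : ι → B, b = ∑ i, c i ^ p * g i

/-- the "span over `p`-th powers" of a finite family -/
def FS (p : ℕ) {A ι : Type*} [CommRing A] [Fintype ι] (G : ι → A) : Set A :=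
  {a | ∃ c : ι → A, a = ∑ i, c i ^ p * G i}

section FS

variable {p : ℕ} {A ι : Type*} [CommRing A] [Fintype ι] {G : ι → A}

theorem FS.zero_mem (hp : 0 < p) : (0 : A) ∈ FS p G :=
  ⟨0, by simp [zero_pow (by omega : p ≠ 0)]⟩

theorem FS.add_mem (hadd : ∀ x y : A, (x + y) ^ p = x ^ p + y ^ p) {a b : A}
    (ha : a ∈ FS p G) (hb : b ∈ FS p G) : a + b ∈ FS p G := by
  obtain ⟨c, rfl⟩ := ha
  obtain ⟨c', rfl⟩ := hb
  refine ⟨c + c', ?_⟩
  rw [← Finset.sum_add_distrib]
  refine Finset.sum_congr rfl fun i _ => ?_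
  rw [Pi.add_apply, hadd, add_mul]

theorem FS.pow_mul_mem (z : A) {a : A} (ha : a ∈ FS p G) : z ^ p * a ∈ FS p G := by
  obtain ⟨c, rfl⟩ := ha
  refine ⟨fun i => z * c i, ?_⟩
  rw [Finset.mul_sum]
  refine Finset.sum_congr rfl fun i _ => ?_
  rw [mul_pow, mul_assoc]

theorem FS.gen_mem (hp : 0 < p) (i : ι) : G i ∈ FS p G := by
  classical
  refine ⟨fun j => if j = i then 1 else 0, ?_⟩
  rw [Finset.sum_eq_single i]
  · simp
  · intro j _ hj
    simp [hj, zero_pow (by omega : p ≠ 0)]
  · intro h; exact absurd (Finset.mem_univ _) h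

theorem FS.sum_mem (hp : 0 < p) (hadd : ∀ x y : A, (x + y) ^ p = x ^ p + y ^ p)
    {κ : Type*} (s : Finset κ) (F : κ → A) (hF : ∀ j ∈ s, F j ∈ FS p G) :
    ∑ j ∈ s, F j ∈ FS p G := by
  classical
  induction s using Finset.induction_on with
  | empty => simpa using FS.zero_mem (G := G) hp
  | insert a s ha ih =>
    rw [Finset.sum_insert ha]
    exact FS.add_mem hadd (hF _ (Finset.mem_insert_self _ _))
      (ih fun j hj => hF j (Finset.mem_insert_of_mem hj))

end FS

theorem FFin.localization {p : ℕ} {A : Type*} [CommRing A] (M : Submonoid A) (L : Type*)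
    [CommRing L] [Algebra A L] [IsLocalization M L] (hp : 0 < p) (h : FFin p A) : FFin p L := by
  obtain ⟨ι, _, g, hg⟩ := h
  refine ⟨ι, inferInstance, fun i => algebraMap A L (g i), fun y => ?_⟩
  obtain ⟨a, s, rfl⟩ := IsLocalization.exists_mk'_eq M y
  obtain ⟨q, rfl⟩ : ∃ q, p = q + 1 := ⟨p - 1, by omega⟩
  obtain ⟨c, hc⟩ := hg (a * (s : A) ^ q)
  refine ⟨fun i => algebraMap A L (c i) * IsLocalization.mk' L 1 s, ?_⟩
  have hσu : algebraMap A L (s : A) * IsLocalization.mk' L 1 s = 1 := by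
    rw [mul_comm, IsLocalization.mk'_spec, map_one]
  have h' : algebraMap A L (s : A) ^ q * IsLocalization.mk' L (1 : A) s ^ q = 1 := by
    rw [← mul_pow, hσu, one_pow]
  have h1 : IsLocalization.mk' L a s
      = algebraMap A L (a * (s : A) ^ q) * (IsLocalization.mk' L 1 s) ^ (q + 1) := by
    rw [IsLocalization.mk'_eq_mul_mk'_one, map_mul, map_pow, pow_succ]
    linear_combination (-(algebraMap A L a * IsLocalization.mk' L 1 s)) * h'
  rw [h1, hc, map_sum, Finset.sum_mul]
  refine Finset.sum_congr rfl fun i _ => ?_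
  rw [map_mul, map_pow, mul_pow]
  ring

theorem FFin.finiteType {p : ℕ} {B A : Type*} [CommRing B] [CommRing A] [Algebra B A]
    [Algebra.FiniteType B A] (hp : 0 < p) (hadd : ∀ x y : A, (x + y) ^ p = x ^ p + y ^ p)
    (h : FFin p B) : FFin p A := by
  classical
  obtain ⟨ι, _, g, hg⟩ := h
  obtain ⟨n, f, hf⟩ := Algebra.FiniteType.iff_quotient_mvPolynomial''.mp ‹Algebra.FiniteType B A›
  obtain ⟨x, hx⟩ : ∃ x : Fin n → A, ∀ j, x j = f (MvPolynomial.X j) := ⟨_, fun _ => rfl⟩
  obtain ⟨G', hG'⟩ : ∃ G' : ι × (Fin n → Fin p) → A, ∀ i β,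
      G' (i, β) = algebraMap B A (g i) * ∏ j, x j ^ (β j : ℕ) :=
    ⟨fun iβ => algebraMap B A (g iβ.1) * ∏ j, x j ^ (iβ.2 j : ℕ), fun _ _ => rfl⟩
  have ha : ∀ (b : B) (β : Fin n → Fin p),
      algebraMap B A b * ∏ j, x j ^ (β j : ℕ) ∈ FS p G' := by
    intro b β
    obtain ⟨c, hc⟩ := hg b
    have e : algebraMap B A b * ∏ j, x j ^ (β j : ℕ)
        = ∑ i, (algebraMap B A (c i)) ^ p * G' (i, β) := by
      rw [hc, map_sum, Finset.sum_mul]
      refine Finset.sum_congr rfl fun i _ => ?_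
      rw [hG', map_mul, map_pow, mul_assoc]
    rw [e]
    exact FS.sum_mem hp hadd _ _ fun i _ => FS.pow_mul_mem _ (FS.gen_mem hp _)
  have hxstep : ∀ (j0 : Fin n) (iβ : ι × (Fin n → Fin p)), x j0 * G' iβ ∈ FS p G' := by
    rintro j0 ⟨i, β⟩
    have hprod : ∀ γ : Fin n → Fin p, ∏ j, x j ^ (γ j : ℕ)
        = x j0 ^ (γ j0 : ℕ) * ∏ j ∈ Finset.univ.erase j0, x j ^ (γ j : ℕ) := fun γ =>
      (Finset.mul_prod_erase Finset.univ (fun j => x j ^ (γ j : ℕ)) (Finset.mem_univ j0)).symm
    have hupd : ∀ e : Fin p,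
        ∏ j ∈ Finset.univ.erase j0, x j ^ ((Function.update β j0 e) j : ℕ)
        = ∏ j ∈ Finset.univ.erase j0, x j ^ (β j : ℕ) := fun e =>
      Finset.prod_congr rfl fun j hj => by
        rw [Function.update_of_ne (Finset.ne_of_mem_erase hj)]
    by_cases hlt : (β j0 : ℕ) + 1 < p
    · have e : x j0 * G' (i, β) = G' (i, Function.update β j0 ⟨(β j0 : ℕ) + 1, hlt⟩) := by
        rw [hG', hG', hprod β, hprod (Function.update β j0 _), hupd, Function.update_self,
          pow_succ]
        ring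
      rw [e]; exact FS.gen_mem hp _
    · have hpe : (β j0 : ℕ) + 1 = p := by have := (β j0).2; omega
      have hpow : x j0 ^ p = x j0 ^ (β j0 : ℕ) * x j0 := by rw [← pow_succ, hpe]
      have e : x j0 * G' (i, β) = x j0 ^ p * G' (i, Function.update β j0 ⟨0, hp⟩) := by
        rw [hG', hG', hprod β, hprod (Function.update β j0 _), hupd, Function.update_self, hpow]
        simp only [pow_zero, one_mul]
        ring
      rw [e]; exact FS.pow_mul_mem _ (FS.gen_mem hp _)
  have hmul : ∀ Q : MvPolynomial (Fin n) B, ∀ y ∈ FS p G', f Q * y ∈ FS p G' := by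
    intro Q
    induction Q using MvPolynomial.induction_on with
    | C b =>
      rintro y ⟨c, rfl⟩
      rw [Finset.mul_sum]
      refine FS.sum_mem hp hadd _ _ fun iβ _ => ?_
      obtain ⟨i, β⟩ := iβ
      have e : f (MvPolynomial.C b) * (c (i, β) ^ p * G' (i, β))
          = c (i, β) ^ p * (algebraMap B A (b * g i) * ∏ j, x j ^ (β j : ℕ)) := by
        rw [← MvPolynomial.algebraMap_eq, AlgHom.commutes, map_mul, hG']
        ring
      rw [e]
      exact FS.pow_mul_mem _ (ha _ _)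
    | add Q1 Q2 h1 h2 =>
      intro y hy
      rw [map_add, add_mul]
      exact FS.add_mem hadd (h1 y hy) (h2 y hy)
    | mul_X Q j hQ =>
      rintro y ⟨c, rfl⟩
      rw [map_mul, mul_assoc]
      apply hQ
      rw [Finset.mul_sum]
      refine FS.sum_mem hp hadd _ _ fun iβ _ => ?_
      have e : f (MvPolynomial.X j) * (c iβ ^ p * G' iβ) = c iβ ^ p * (x j * G' iβ) := by
        rw [← hx j]; ring
      rw [e]
      exact FS.pow_mul_mem _ (hxstep j iβ)
  have h1 : (1 : A) ∈ FS p G' := by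
    have := ha 1 (fun _ => ⟨0, hp⟩)
    simpa using this
  refine ⟨ι × (Fin n → Fin p), inferInstance, G', fun a => ?_⟩
  obtain ⟨Q, rfl⟩ := hf a
  have := hmul Q 1 h1
  rw [mul_one] at this
  exact this

theorem FFin.powerSeries (p : ℕ) [Fact p.Prime] (k : Type*) [Field k] [Finite k] [CharP k p] :
    FFin p (PowerSeries k) := by
  classical
  have hp : p ≠ 0 := (Fact.out : p.Prime).ne_zero
  haveI : PerfectRing k p := PerfectRing.ofFiniteOfIsReduced p k
  refine ⟨Fin p, inferInstance, fun i => PowerSeries.X ^ (i : ℕ), fun h => ?_⟩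
  obtain ⟨c, hc⟩ : ∃ c : Fin p → PowerSeries k, ∀ i n,
      PowerSeries.coeff n (c i) = (frobeniusEquiv k p).symm (PowerSeries.coeff (p * n + i) h) :=
    ⟨fun i => PowerSeries.mk fun n => (frobeniusEquiv k p).symm (PowerSeries.coeff (p * n + i) h),
      fun i n => PowerSeries.coeff_mk _ _⟩
  refine ⟨c, ?_⟩
  have hcp : ∀ (i : Fin p) (N : ℕ), PowerSeries.coeff N (c i ^ p)
      = if p ∣ N then PowerSeries.coeff (N + i) h else 0 := by
    intro i N
    have h1 : c i ^ p = PowerSeries.map (frobenius k p) (PowerSeries.expand p hp (c i)) :=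
      (MvPowerSeries.map_frobenius_expand p hp).symm
    rw [h1, PowerSeries.coeff_map, PowerSeries.coeff_expand]
    split_ifs with hd
    · obtain ⟨q, rfl⟩ := hd
      rw [Nat.mul_div_cancel_left _ (Nat.pos_of_ne_zero hp), hc, frobenius_def,
        frobeniusEquiv_symm_pow_p]
    · rw [map_zero]
  ext N
  rw [map_sum]
  rw [Finset.sum_eq_single (⟨N % p, Nat.mod_lt _ (Nat.pos_of_ne_zero hp)⟩ : Fin p)]
  · rw [PowerSeries.coeff_mul_X_pow', if_pos (Nat.mod_le _ _), hcp, if_pos (Nat.dvd_sub_mod N),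
      Nat.sub_add_cancel (Nat.mod_le _ _)]
  · intro i _ hi
    rw [PowerSeries.coeff_mul_X_pow']
    split_ifs with hle
    · rw [hcp, if_neg]
      intro hdvd
      apply hi
      apply Fin.ext
      show (i : ℕ) = N % p
      obtain ⟨q, hq⟩ := hdvd
      have hN : N = i + p * q := by omega
      rw [hN, Nat.add_mul_mod_self_left, Nat.mod_eq_of_lt i.2]
    · rfl
  · intro h'; exact absurd (Finset.mem_univ _) h'

theorem finite_aux {A B : Type*} [CommRing A] [CommRing B] (f : A →+* B) {ι : Type}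
    [Fintype ι] (g : ι → B) (hg : ∀ b : B, ∃ c : ι → A, b = ∑ i, f (c i) * g i) :
    f.Finite := by
  classical
  letI := f.toAlgebra
  show Module.Finite A B
  refine ⟨⟨Finset.univ.image g, ?_⟩⟩
  rw [eq_top_iff]
  intro b _
  obtain ⟨c, hb⟩ := hg b
  rw [hb]
  refine Submodule.sum_mem _ fun i _ => ?_
  have e : f (c i) * g i = c i • g i := (Algebra.smul_def (c i) (g i)).symm
  rw [e]
  exact Submodule.smul_mem _ (c i)
    (Submodule.subset_span (Finset.mem_coe.mpr (Finset.mem_image_of_mem g (Finset.mem_univ i))))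

theorem finite_of_FFin {p : ℕ} [Fact p.Prime] {L : Type*} [CommRing L] [CharP L p]
    (h : FFin p L) : (frobenius L p).Finite := by
  obtain ⟨ι, _, g, hg⟩ := h
  exact finite_aux (frobenius L p) g hg

theorem main (p : ℕ) [Fact p.Prime]
    (k : Type u) [Field k] [Finite k] [CharP k p]
    (A : Type u) [CommRing A] [Algebra (PowerSeries k) A] [Algebra.FiniteType (PowerSeries k) A]
    (P : Ideal A) [P.IsPrime] [CharP (Localization.AtPrime P) p] :
    (frobenius (Localization.AtPrime P) p).Finite := by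
  have hp : 0 < p := (Fact.out : p.Prime).pos
  have hpA : (p : A) = 0 := by
    have h0 : (p : PowerSeries k) = 0 := by
      rw [← map_natCast (PowerSeries.C (R := k)), CharP.cast_eq_zero, map_zero]
    rw [← map_natCast (algebraMap (PowerSeries k) A), h0, map_zero]
  haveI : Nontrivial A := ⟨⟨0, 1, fun h => (‹P.IsPrime›.ne_top)
    ((Ideal.eq_top_iff_one P).mpr (by rw [← h]; exact P.zero_mem))⟩⟩
  haveI : CharP A p := (CharP.charP_iff_prime_eq_zero Fact.out).mpr hpA
  have h1 := FFin.powerSeries p k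
  have h2 : FFin p A := FFin.finiteType hp (fun x y => add_pow_char x y p) h1
  have h3 : FFin p (Localization.AtPrime P) := FFin.localization P.primeCompl _ hp h2
  exact finite_of_FFin h3

end Groth.Agent.Helper25.FrobFin
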