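import Mathlib

/-!
# Fixed points of a Frobenius-semilinear map after base change to an algebraically closed field
(helper25, for S8618).
-/

set_option autoImplicit false
open TensorProduct

namespace Groth.Agent.Helper25.FrobFixA

universe u

/-- periodicity of powers: if `x^(A+B) = x^A` then `x^(n+mB) = x^n` for `n ≥ A`. -/
theorem pow_period {R : Type*} [Monoid R] (x : R) (A B : ℕ) (h : x ^ (A + B) = x ^ A) (n : ℕ)
    (hn : A ≤ n) (m : ℕ) : x ^ (n + m * B) = x ^ n := by
  obtain ⟨d, rfl⟩ := Nat.exists_eq_add_of_le hn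
  induction m with
  | zero => simp
  | succ m ih =>
    calc x ^ (A + d + (m + 1) * B) = x ^ (A + B) * x ^ (d + m * B) := by
          rw [← pow_add]; congr 1; ring
      _ = x ^ A * x ^ (d + m * B) := by rw [h]
      _ = x ^ (A + d + m * B) := by rw [← pow_add]; congr 1; ring
      _ = x ^ (A + d) := ih

theorem period_facts {R : Type*} [Ring R] (E : R) (A B : ℕ) (hB : 1 ≤ B) (h : E ^ (A + B) = E ^ A) :
    (E ^ (A * B)) * (E ^ (A * B)) = E ^ (A * B) ∧ IsNilpotent (E - E * E ^ (A * B)) := by
  have hper := pow_period E A B h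
  have hAAB : A ≤ A * B := Nat.le_mul_of_pos_right A hB
  have hPP : (E ^ (A * B)) * (E ^ (A * B)) = E ^ (A * B) := by
    rw [← pow_add]; exact hper (A * B) hAAB A
  refine ⟨hPP, A + 1, ?_⟩
  have hEP : Commute E (E ^ (A * B)) := (Commute.refl E).pow_right _
  have hc : Commute E (1 - E ^ (A * B)) := (Commute.one_right E).sub_right hEP
  have : E - E * E ^ (A * B) = E * (1 - E ^ (A * B)) := by rw [mul_sub, mul_one]
  rw [this, hc.mul_pow, (IsIdempotentElem.one_sub hPP).pow_succ_eq A, mul_sub, mul_one, ← pow_add,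
    hper (A + 1) (Nat.le_succ A) A, sub_self]

theorem exists_pow_period (k V : Type*) [Field k] [Finite k] [AddCommGroup V] [Module k V]
    [FiniteDimensional k V] (F : V →ₗ[k] V) : ∃ A B : ℕ, 1 ≤ B ∧ F ^ (A + B) = F ^ A := by
  haveI : Finite V := Module.finite_of_finite k
  haveI : Finite (V →ₗ[k] V) :=
    Finite.of_injective (fun g : V →ₗ[k] V => (g : V → V)) DFunLike.coe_injective
  obtain ⟨a, b, hab, h⟩ := Finite.exists_ne_map_eq_of_infinite (fun n : ℕ => F ^ n)
  rcases lt_or_gt_of_ne hab with h1 | h1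
  · exact ⟨a, b - a, by omega, by rw [Nat.add_sub_cancel' h1.le]; exact h.symm⟩
  · exact ⟨b, a - b, by omega, by rw [Nat.add_sub_cancel' h1.le]; exact h⟩

section

variable {p : ℕ} [Fact p.Prime] {k : Type*} [Field k] [CharP k p] {K : Type*} [Field K]
  [Algebra k K] {V : Type*} [AddCommGroup V] [Module k V]
  (φ : V →ₛₗ[frobenius k p] V) (φK : K ⊗[k] V →+ K ⊗[k] V)
  (hφK : ∀ (μ : K) (v : V), φK (μ ⊗ₜ[k] v) = (μ ^ p) ⊗ₜ[k] φ v)

theorem baseChange_pow (F : V →ₗ[k] V) (n : ℕ) :
    (F ^ n).baseChange K = (F.baseChange K) ^ n := by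
  induction n with
  | zero => simp
  | succ n ih => rw [pow_succ, pow_succ, LinearMap.baseChange_mul, ih]

include hφK in
theorem phiK_smul (c : K) (m : K ⊗[k] V) : φK (c • m) = c ^ p • φK m := by
  induction m using TensorProduct.induction_on with
  | zero => simp
  | tmul μ v =>
    rw [TensorProduct.smul_tmul', hφK, hφK, TensorProduct.smul_tmul', smul_eq_mul, smul_eq_mul,
      mul_pow]
  | add x y hx hy => rw [smul_add, map_add, hx, hy, map_add, smul_add]

include hφK in
theorem iter_tmul (n : ℕ) (μ : K) (v : V) :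
    φK^[n] (μ ⊗ₜ[k] v) = (μ ^ (p ^ n)) ⊗ₜ[k] ((⇑φ)^[n] v) := by
  induction n with
  | zero => simp
  | succ n ih =>
    rw [Function.iterate_succ_apply', ih, hφK, Function.iterate_succ_apply', ← pow_mul, ← pow_succ]

include hφK in
theorem iter_smul (n : ℕ) (c : K) (m : K ⊗[k] V) :
    φK^[n] (c • m) = c ^ (p ^ n) • φK^[n] m := by
  induction n with
  | zero => simp
  | succ n ih =>
    rw [Function.iterate_succ_apply', ih, phiK_smul φ φK hφK, Function.iterate_succ_apply',
      ← pow_mul, ← pow_succ]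

variable (F : V →ₗ[k] V) (f : ℕ) (hF : ∀ x, F x = (⇑φ)^[f] x)

include hF in
theorem pow_eq_iter (n : ℕ) (v : V) : (F ^ n) v = (⇑φ)^[n * f] v := by
  induction n with
  | zero => simp
  | succ n ih =>
    rw [pow_succ', Module.End.mul_apply, ih, hF, ← Function.iterate_add_apply]
    congr 1; ring

include hφK hF in
theorem comm_E (m : K ⊗[k] V) : φK (F.baseChange K m) = F.baseChange K (φK m) := by
  induction m using TensorProduct.induction_on with
  | zero => simp
  | tmul μ v =>
    rw [LinearMap.baseChange_tmul, hφK, hφK, LinearMap.baseChange_tmul, hF, hF]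
    congr 1
    exact (Function.iterate_succ_apply' (⇑φ) f v).symm.trans (Function.iterate_succ_apply (⇑φ) f v)
  | add x y hx hy => rw [map_add, map_add, hx, hy, map_add, map_add]

include hφK hF in
theorem iter_mem_range (n : ℕ) (m : K ⊗[k] V) :
    φK^[n * f] m ∈ LinearMap.range ((F ^ n).baseChange K) := by
  induction m using TensorProduct.induction_on with
  | zero => rw [iterate_map_zero]; exact zero_mem _
  | tmul μ v =>
    rw [iter_tmul φ φK hφK]
    refine ⟨(μ ^ (p ^ (n * f))) ⊗ₜ[k] v, ?_⟩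
    rw [LinearMap.baseChange_tmul, pow_eq_iter φ F f hF]
  | add x y hx hy => rw [iterate_map_add]; exact add_mem hx hy

/-- elements of `K` fixed by the `p`-Frobenius come from the prime field of `k`. -/
theorem exists_prime_of_pow_eq (c : K) (hc : c ^ p = c) :
    ∃ a : ↥(⊥ : Subfield k), algebraMap k K (a : k) = c := by
  haveI : CharP K p := charP_of_injective_algebraMap (algebraMap k K).injective p
  have h1 : c ∈ (⊥ : Subfield K) := (Subfield.mem_bot_iff_pow_eq_self (F := K) (p := p)).2 hc
  rw [← Subfield.map_bot (algebraMap k K)] at h1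
  obtain ⟨a, ha, hac⟩ := h1
  exact ⟨⟨a, ha⟩, hac⟩

include hφK in
/-- Fixed vectors independent over the Frobenius-fixed scalars are independent over `K`. -/
theorem li_of_fixed {ι : Type*} (w : ι → K ⊗[k] V) (hw : ∀ i, φK (w i) = w i)
    (h0 : ∀ (s : Finset ι) (g : ι → K), (∀ i ∈ s, g i ^ p = g i) → ∑ i ∈ s, g i • w i = 0 →
      ∀ i ∈ s, g i = 0) :
    LinearIndependent K w := by
  classical
  rw [linearIndependent_iff']
  intro s
  induction s using Finset.induction_on with
  | empty => intro g _ i hi; simp at hi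
  | insert a s ha ih =>
    intro g hg
    rw [Finset.sum_insert ha] at hg
    by_cases hga : g a = 0
    · rw [hga, zero_smul, zero_add] at hg
      intro i hi
      rcases Finset.mem_insert.mp hi with rfl | hi
      · exact hga
      · exact ih g hg i hi
    · exfalso
      have e1 : w a + ∑ i ∈ s, ((g a)⁻¹ * g i) • w i = 0 := by
        have := congrArg (fun x => (g a)⁻¹ • x) hg
        simp only [smul_add, smul_zero, Finset.smul_sum, smul_smul] at this
        rw [inv_mul_cancel₀ hga, one_smul] at this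
        exact this
      have e2 : w a + ∑ i ∈ s, (((g a)⁻¹ * g i) ^ p) • w i = 0 := by
        have := congrArg φK e1
        rw [map_add, map_sum, map_zero, hw a] at this
        rw [← this]
        congr 1
        refine Finset.sum_congr rfl fun i _ => ?_
        rw [phiK_smul φ φK hφK, hw i]
      have e3 : ∑ i ∈ s, ((((g a)⁻¹ * g i) ^ p) - ((g a)⁻¹ * g i)) • w i = 0 := by
        have h5 : ∀ i ∈ s, ((((g a)⁻¹ * g i) ^ p) - ((g a)⁻¹ * g i)) • w i =
            (((g a)⁻¹ * g i) ^ p) • w i - ((g a)⁻¹ * g i) • w i := fun i _ => sub_smul (((g a)⁻¹ * g i) ^ p) ((g a)⁻¹ * g i) (w i)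
        rw [Finset.sum_congr rfl h5, Finset.sum_sub_distrib]
        have h3 : ∑ i ∈ s, (((g a)⁻¹ * g i) ^ p) • w i = - w a := by
          rw [eq_neg_iff_add_eq_zero, add_comm]; exact e2
        have h4 : ∑ i ∈ s, ((g a)⁻¹ * g i) • w i = - w a := by
          rw [eq_neg_iff_add_eq_zero, add_comm]; exact e1
        rw [h3, h4, sub_self]
      have e4 := ih _ e3
      have key := h0 (insert a s) (fun i => if i = a then 1 else (g a)⁻¹ * g i) ?_ ?_ a
        (Finset.mem_insert_self a s)
      · simp at key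
      · intro i hi
        by_cases hia : i = a
        · simp [hia]
        · simp only [hia, if_false]
          rcases Finset.mem_insert.mp hi with h | h
          · exact absurd h hia
          · exact sub_eq_zero.mp (e4 i h)
      · rw [Finset.sum_insert ha]
        simp only [if_true, one_smul]
        rw [← e1]
        congr 1
        refine Finset.sum_congr rfl fun i hi => ?_
        have : i ≠ a := fun h => ha (h ▸ hi)
        simp [this]

include hφK in
/-- Dedekind averaging: a vector fixed by the `N`-th iterate lies in the span of the fixed vectors. -/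
theorem mem_span_fixed [IsAlgClosed K] (N : ℕ) (hN : 1 ≤ N) (u : K ⊗[k] V) (hu : φK^[N] u = u) :
    u ∈ Submodule.span K {y : K ⊗[k] V | φK y = y} := by
  classical
  haveI : CharP K p := charP_of_injective_algebraMap (algebraMap k K).injective p
  have hp : p.Prime := Fact.out
  rcases Nat.lt_or_ge N 2 with hN2 | hN2
  · have : N = 1 := by omega
    subst this
    exact Submodule.subset_span (by simpa using hu)
  set q := p ^ N with hq
  have hq1 : 1 < q := Nat.one_lt_pow (by omega) hp.one_lt
  haveI : NeZero ((q - 1 : ℕ) : K) := ⟨by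
    intro h
    rw [CharP.cast_eq_zero_iff K p] at h
    have h2 : p ∣ q := dvd_pow_self p (by omega)
    have h3 : p ∣ q - (q - 1) := Nat.dvd_sub h2 h
    rw [Nat.sub_sub_self hq1.le] at h3
    exact hp.one_lt.ne' (Nat.dvd_one.mp h3)⟩
  obtain ⟨ζ, hζ⟩ := HasEnoughRootsOfUnity.exists_primitiveRoot K (q - 1)
  have hζq : ζ ^ q = ζ := by
    have : q = (q - 1) + 1 := by omega
    rw [this, pow_succ, hζ.pow_eq_one, one_mul]
  -- p^j < q - 1 for j < N
  have hlt : ∀ j : ℕ, j < N → p ^ j < q - 1 := by
    intro j hj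
    have h1 : p ^ j ≤ p ^ (N - 1) := Nat.pow_le_pow_right hp.pos (by omega)
    have h2 : p ^ N = p ^ (N - 1) * p := by rw [← pow_succ]; congr 1; omega
    have h3 : 2 ≤ p ^ (N - 1) := by
      calc 2 ≤ p := hp.two_le
        _ = p ^ 1 := (pow_one p).symm
        _ ≤ p ^ (N - 1) := Nat.pow_le_pow_right hp.pos (by omega)
    have h4 : 2 * p ^ (N - 1) ≤ p ^ (N - 1) * p := by
      rw [mul_comm]; exact Nat.mul_le_mul_left _ hp.two_le
    rw [hq]; omega
  -- the characters
  let χ : Fin N → (Multiplicative ℕ →* K) := fun j => powersHom K (ζ ^ (p ^ (j : ℕ)))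
  have hχinj : Function.Injective χ := by
    intro j j' h
    have h1 : ζ ^ (p ^ (j : ℕ)) = ζ ^ (p ^ (j' : ℕ)) := by
      have := congrArg (fun g : Multiplicative ℕ →* K => g (Multiplicative.ofAdd 1)) h
      simpa [χ] using this
    have h2 := hζ.pow_inj (hlt j j.2) (hlt j' j'.2) h1
    exact Fin.ext (Nat.pow_right_injective hp.two_le h2)
  have hχli : LinearIndependent K (fun j : Fin N => (χ j : Multiplicative ℕ → K)) :=
    (linearIndependent_monoidHom (Multiplicative ℕ) K).comp χ hχinj
  -- the span of the character vectors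
  let vec : ℕ → (Fin N → K) := fun n j => (ζ ^ n) ^ (p ^ (j : ℕ))
  have hR : Submodule.span K (Set.range vec) = ⊤ := by
    by_contra hne
    obtain ⟨g, hg0, hgker⟩ := Submodule.exists_le_ker_of_lt_top _ (lt_top_iff_ne_top.mpr hne)
    apply hg0
    have hg : ∀ n : ℕ, g (vec n) = 0 := fun n =>
      LinearMap.mem_ker.mp (hgker (Submodule.subset_span ⟨n, rfl⟩))
    let μ : Fin N → K := fun j => g fun j' => if j = j' then 1 else 0
    have hsum : ∑ j, μ j • (χ j : Multiplicative ℕ → K) = 0 := by
      funext m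
      have := hg (Multiplicative.toAdd m)
      rw [LinearMap.pi_apply_eq_sum_univ] at this
      rw [Finset.sum_apply, Pi.zero_apply, ← this]
      refine Finset.sum_congr rfl fun j _ => ?_
      simp only [Pi.smul_apply, smul_eq_mul, χ, powersHom_apply, vec, μ]
      rw [mul_comm, ← pow_mul, ← pow_mul, mul_comm (p ^ (j : ℕ))]
    have hμ : ∀ j, μ j = 0 := fun j => (Fintype.linearIndependent_iff.mp hχli) μ hsum j
    refine LinearMap.ext fun x => ?_
    rw [LinearMap.pi_apply_eq_sum_univ, LinearMap.zero_apply]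
    exact Finset.sum_eq_zero fun j _ => by
      show x j • μ j = 0
      rw [hμ j, smul_zero]
  -- the linear map Θ
  let Θ : (Fin N → K) →ₗ[K] K ⊗[k] V := Fintype.linearCombination K (fun j : Fin N => φK^[(j : ℕ)] u)
  have hΘ : ∀ a, Θ a = ∑ j : Fin N, a j • φK^[(j : ℕ)] u := fun a =>
    Fintype.linearCombination_apply K _ a
  have hΘfix : ∀ n : ℕ, φK (Θ (vec n)) = Θ (vec n) := by
    intro n
    have hc : (ζ ^ n) ^ q = ζ ^ n := by rw [← pow_mul, mul_comm, pow_mul, hζq]
    rw [hΘ, map_sum]
    have e1 : ∀ j : Fin N, φK (vec n j • φK^[(j : ℕ)] u) =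
        (ζ ^ n) ^ (p ^ ((j : ℕ) + 1)) • φK^[(j : ℕ) + 1] u := by
      intro j
      rw [phiK_smul φ φK hφK, Function.iterate_succ_apply']
      simp only [vec]
      rw [← pow_mul, ← pow_succ]
    set c := ζ ^ n with hcdef
    let h : ℕ → K ⊗[k] V := fun j => c ^ (p ^ j) • φK^[j] u
    have hh0 : h 0 = c • u := by simp [h]
    have hhN : h N = c • u := by simp only [h]; rw [← hq, hc, hu]
    have s1 : ∑ j ∈ Finset.range N, h (j + 1) = ∑ j ∈ Finset.range N, h j := by
      have a1 := Finset.sum_range_succ' h N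
      have a2 := Finset.sum_range_succ h N
      rw [a2, hhN, hh0] at a1
      exact (add_right_cancel a1).symm
    calc ∑ j : Fin N, φK (vec n j • φK^[(j : ℕ)] u) = ∑ j : Fin N, h ((j : ℕ) + 1) :=
          Finset.sum_congr rfl fun j _ => e1 j
      _ = ∑ j ∈ Finset.range N, h (j + 1) := Fin.sum_univ_eq_sum_range (fun j => h (j + 1)) N
      _ = ∑ j ∈ Finset.range N, h j := s1
      _ = ∑ j : Fin N, h (j : ℕ) := (Fin.sum_univ_eq_sum_range h N).symm
      _ = ∑ j : Fin N, vec n j • φK^[(j : ℕ)] u := rfl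
  have hΘspan : ∀ a ∈ Submodule.span K (Set.range vec),
      Θ a ∈ Submodule.span K {y : K ⊗[k] V | φK y = y} := by
    intro a ha
    induction ha using Submodule.span_induction with
    | mem x hx => obtain ⟨n, rfl⟩ := hx; exact Submodule.subset_span (hΘfix n)
    | zero => simp
    | add x y _ _ hx hy => rw [map_add]; exact add_mem hx hy
    | smul c x _ hx => rw [map_smul]; exact Submodule.smul_mem _ _ hx
  have he0 : Θ (Pi.single (⟨0, by omega⟩ : Fin N) (1 : K)) = u := by
    rw [hΘ, Finset.sum_eq_single (⟨0, by omega⟩ : Fin N)]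
    · simp
    · intro j _ hj; simp [Pi.single_apply, hj]
    · intro h; exact absurd (Finset.mem_univ _) h
  have := hΘspan (Pi.single (⟨0, by omega⟩ : Fin N) (1 : K)) (hR ▸ Submodule.mem_top)
  rwa [he0] at this

end

section Main

theorem main {p : ℕ} [Fact p.Prime] (k : Type u) [Field k] [Fintype k]
    [CharP k p] (f : ℕ) (hq : Fintype.card k = p ^ f) (K : Type u) [Field K] [Algebra k K] [IsAlgClosed K]
    (V : Type u) [AddCommGroup V] [Module k V] [FiniteDimensional k V]
    (φ : V →ₛₗ[frobenius k p] V) (F : V →ₗ[k] V) (hF : ∀ x, F x = (⇑φ)^[f] x)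
    (φK : K ⊗[k] V →+ K ⊗[k] V) (hφK : ∀ (μ : K) (v : V), φK (μ ⊗ₜ[k] v) = (μ ^ p) ⊗ₜ[k] φ v)
    (W : Submodule (↥(⊥ : Subfield k)) (K ⊗[k] V)) (hW : ∀ y, y ∈ W ↔ φK y = y) :
    (∀ y, φK y = y → φK (F.baseChange K y) = F.baseChange K y) ∧
    Module.Finite (↥(⊥ : Subfield k)) ↥W ∧
    ∀ (G : ↥W →ₗ[↥(⊥ : Subfield k)] ↥W), (∀ y : ↥W, (↑(G y) : K ⊗[k] V) = F.baseChange K ↑y) →
      algebraMap k K (algebraMap (↥(⊥ : Subfield k)) k (LinearMap.trace (↥(⊥ : Subfield k)) ↥W G)) =
        algebraMap k K (LinearMap.trace k V F) := by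
  classical
  have hp : p.Prime := Fact.out
  have hcomm : ∀ m, φK (F.baseChange K m) = F.baseChange K (φK m) := comm_E φ φK hφK F f hF
  refine ⟨fun y hy => by rw [hcomm, hy], ?_⟩
  have hf1 : 1 ≤ f := by
    rcases Nat.eq_zero_or_pos f with h | h
    · exfalso
      rw [h, pow_zero] at hq
      exact absurd hq (Fintype.one_lt_card (α := k)).ne'
    · exact h
  obtain ⟨A, B, hB, hAB⟩ := exists_pow_period k V F
  set E : Module.End K (K ⊗[k] V) := F.baseChange K with hE
  have hEpow : ∀ n, (F ^ n).baseChange K = E ^ n := fun n => baseChange_pow F n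
  have hEAB : E ^ (A + B) = E ^ A := by rw [← hEpow, ← hEpow, hAB]
  have hperE := pow_period E A B hEAB
  have hperF := pow_period F A B hAB
  have hAAB : A ≤ A * B := Nat.le_mul_of_pos_right A hB
  obtain ⟨hPP0, hD0⟩ := period_facts E A B hB hEAB
  set P : Module.End K (K ⊗[k] V) := E ^ (A * B) with hP
  have hPP : P * P = P := hPP0
  have hEP : Commute E P := (Commute.refl E).pow_right _
  have e2 : LinearMap.trace K (K ⊗[k] V) E = LinearMap.trace K (K ⊗[k] V) (E * P) := by
    have h0 := (LinearMap.isNilpotent_trace_of_isNilpotent hD0).eq_zero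
    have h1 : LinearMap.trace K (K ⊗[k] V) E - LinearMap.trace K (K ⊗[k] V) (E * P) = 0 :=
      ((LinearMap.trace K (K ⊗[k] V)).map_sub E (E * P)).symm.trans h0
    exact sub_eq_zero.mp h1
  have hWfix : ∀ y : W, φK (y : K ⊗[k] V) = y := fun y => (hW _).1 y.2
  have hWP : ∀ y, φK y = y → P y = y := by
    intro y hy
    have h1 : φK^[(A * B) * f] y = y := Function.iterate_fixed hy _
    have h2 := iter_mem_range φ φK hφK F f hF (A * B) y
    rw [h1, hEpow] at h2
    obtain ⟨z, hz⟩ := h2
    rw [← hz]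
    show P (P z) = P z
    rw [← Module.End.mul_apply, hPP]
  have hPspan : ∀ m, P m ∈ Submodule.span K {y : K ⊗[k] V | φK y = y} := by
    intro m
    induction m using TensorProduct.induction_on with
    | zero => rw [map_zero]; exact zero_mem _
    | tmul μ v =>
      have h1 : P (μ ⊗ₜ[k] v) = μ • ((1 : K) ⊗ₜ[k] ((F ^ (A * B)) v)) := by
        rw [hP, ← hEpow, LinearMap.baseChange_tmul, TensorProduct.smul_tmul', smul_eq_mul, mul_one]
      rw [h1]
      refine Submodule.smul_mem _ _ ?_
      apply mem_span_fixed φ φK hφK (B * f) (Nat.mul_pos hB hf1)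
      rw [iter_tmul φ φK hφK, one_pow, ← pow_eq_iter φ F f hF B, ← Module.End.mul_apply, ← pow_add]
      have := hperF (A * B) hAAB 1
      rw [one_mul, add_comm] at this
      rw [this]
    | add x y hx hy => rw [map_add]; exact add_mem hx hy
  let bW := Module.Basis.ofVectorSpace (↥(⊥ : Subfield k)) ↥W
  let w : Module.Basis.ofVectorSpaceIndex (↥(⊥ : Subfield k)) ↥W → K ⊗[k] V :=
    fun i => ((bW i : W) : K ⊗[k] V)
  have hwfix : ∀ i, φK (w i) = w i := fun i => hWfix (bW i)
  have hsm : ∀ (a : ↥(⊥ : Subfield k)) (m : K ⊗[k] V), a • m = (algebraMap k K (a : k)) • m := by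
    intro a m
    rw [algebraMap_smul]
    rfl
  have hwK : LinearIndependent K w := by
    apply li_of_fixed φ φK hφK w hwfix
    intro s g hg hsum i hi
    have hex : ∀ j, ∃ a : ↥(⊥ : Subfield k), j ∈ s → algebraMap k K (a : k) = g j := by
      intro j
      by_cases hjs : j ∈ s
      · obtain ⟨a, ha⟩ := exists_prime_of_pow_eq (k := k) (g j) (hg j hjs)
        exact ⟨a, fun _ => ha⟩
      · exact ⟨0, fun h => absurd h hjs⟩
    choose a ha using hex
    have hsum' : ∑ j ∈ s, a j • bW j = 0 := by
      apply Subtype.ext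
      rw [Submodule.coe_sum, Submodule.coe_zero, ← hsum]
      refine Finset.sum_congr rfl fun j hj => ?_
      rw [Submodule.coe_smul, hsm, ha j hj]
    have h1 := (linearIndependent_iff'.mp bW.linearIndependent) s a hsum' i hi
    rw [← ha i hi, h1]
    simp
  haveI : Finite (Module.Basis.ofVectorSpaceIndex (↥(⊥ : Subfield k)) ↥W) :=
    hwK.finite_of_isNoetherian
  have hfin : Module.Finite (↥(⊥ : Subfield k)) ↥W := Module.Finite.of_basis bW
  refine ⟨hfin, fun G hG => ?_⟩
  haveI : Fintype (Module.Basis.ofVectorSpaceIndex (↥(⊥ : Subfield k)) ↥W) := Fintype.ofFinite _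
  let ps : Submodule K (K ⊗[k] V) := Submodule.span K (Set.range w)
  let bs : Module.Basis _ K ps := Module.Basis.span hwK
  have hbs : ∀ i, ((bs i : ps) : K ⊗[k] V) = w i := fun i => Module.Basis.coe_span_apply hwK i
  have hFixps : ∀ y, φK y = y → y ∈ ps := by
    intro y hy
    have hyW : y ∈ W := (hW y).2 hy
    have h1 := congrArg Subtype.val (bW.sum_repr ⟨y, hyW⟩)
    rw [Submodule.coe_sum] at h1
    have h2 : y = ∑ i, (algebraMap k K ((bW.repr ⟨y, hyW⟩ i : ↥(⊥ : Subfield k)) : k)) • w i :=
      h1.symm.trans (Finset.sum_congr rfl fun i _ => by rw [Submodule.coe_smul, hsm])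
    rw [h2]
    exact Submodule.sum_mem _ fun i _ => Submodule.smul_mem _ _ (Submodule.subset_span ⟨i, rfl⟩)
  have hspanle : Submodule.span K {y : K ⊗[k] V | φK y = y} ≤ ps := Submodule.span_le.mpr hFixps
  have hEPmem : ∀ x, (E * P) x ∈ ps := fun x => by
    rw [hEP.eq, Module.End.mul_apply]
    exact hspanle (hPspan (E x))
  have htr1 := LinearMap.trace_restrict_eq_of_forall_mem ps (E * P) hEPmem
  have hmat : LinearMap.toMatrix bs bs ((E * P).restrict (fun x _ => hEPmem x)) =
      (LinearMap.toMatrix bW bW G).map (algebraMap (↥(⊥ : Subfield k)) K) := by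
    ext i j
    rw [LinearMap.toMatrix_apply, Matrix.map_apply, LinearMap.toMatrix_apply]
    have key : ((E * P).restrict (fun x _ => hEPmem x)) (bs j) =
        ∑ l, (algebraMap (↥(⊥ : Subfield k)) K (bW.repr (G (bW j)) l)) • bs l := by
      apply Subtype.ext
      rw [LinearMap.restrict_coe_apply, hbs, Module.End.mul_apply, hWP _ (hwfix j), Submodule.coe_sum]
      have h1 := congrArg Subtype.val (bW.sum_repr (G (bW j)))
      rw [Submodule.coe_sum] at h1
      have h2 : E (w j) = ((G (bW j) : W) : K ⊗[k] V) := (hG (bW j)).symm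
      rw [h2, ← h1]
      refine Finset.sum_congr rfl fun l _ => ?_
      rw [Submodule.coe_smul, Submodule.coe_smul, hbs, hsm]
      rfl
    rw [key]
    exact congrFun (bs.repr_sum_self _) i
  have e1 : LinearMap.trace K (K ⊗[k] V) E = algebraMap k K (LinearMap.trace k V F) :=
    LinearMap.trace_baseChange F K
  rw [← e1, e2, ← htr1, LinearMap.trace_eq_matrix_trace K bs, hmat,
    LinearMap.trace_eq_matrix_trace (↥(⊥ : Subfield k)) bW G]
  simp only [Matrix.trace, Matrix.diag_apply, Matrix.map_apply, map_sum]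
  rfl

end Main

end Groth.Agent.Helper25.FrobFixA
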