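import Mathlib

/-!
# Surjectivity criterion for continuous homomorphisms to `GL₂(ℤ_p)`
-/

namespace Groth.Agent.Helper25.GL2Surj

open Matrix

section Basic

variable (p : ℕ) [Fact p.Prime]

/-- reduction mod `p^m` -/
noncomputable def rho (m : ℕ) :
    Matrix (Fin 2) (Fin 2) ℤ_[p] →+* Matrix (Fin 2) (Fin 2) (ZMod (p ^ m)) :=
  (PadicInt.toZModPow m).mapMatrix

/-- reduction mod `p` -/
noncomputable def r1 : Matrix (Fin 2) (Fin 2) ℤ_[p] →+* Matrix (Fin 2) (Fin 2) (ZMod p) :=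
  (PadicInt.toZMod).mapMatrix

variable {p}

lemma exists_of_toZMod_eq {x y : ℤ_[p]} (h : PadicInt.toZMod x = PadicInt.toZMod y) :
    ∃ z, y = x + (p : ℤ_[p]) * z := by
  have h1 : y - x ∈ RingHom.ker (PadicInt.toZMod (p := p)) := by
    rw [RingHom.mem_ker, map_sub, h, sub_self]
  rw [PadicInt.ker_toZMod, PadicInt.maximalIdeal_eq_span_p, Ideal.mem_span_singleton'] at h1
  obtain ⟨z, hz⟩ := h1
  exact ⟨z, by rw [mul_comm, hz]; ring⟩

lemma exists_of_toZModPow_eq {m : ℕ} {x y : ℤ_[p]}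
    (h : PadicInt.toZModPow m x = PadicInt.toZModPow m y) :
    ∃ z, y = x + (p : ℤ_[p]) ^ m * z := by
  have h1 : y - x ∈ RingHom.ker (PadicInt.toZModPow (p := p) m) := by
    rw [RingHom.mem_ker, map_sub, h, sub_self]
  rw [PadicInt.ker_toZModPow, Ideal.mem_span_singleton'] at h1
  obtain ⟨z, hz⟩ := h1
  exact ⟨z, by rw [mul_comm, hz]; ring⟩

lemma toZModPow_pow (m : ℕ) : PadicInt.toZModPow m ((p : ℤ_[p]) ^ m) = 0 := by
  have : (p : ℤ_[p]) ^ m ∈ RingHom.ker (PadicInt.toZModPow (p := p) m) := by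
    rw [PadicInt.ker_toZModPow]; exact Ideal.mem_span_singleton_self _
  exact RingHom.mem_ker.mp this

lemma toZMod_p : PadicInt.toZMod (p : ℤ_[p]) = 0 := by
  rw [map_natCast, ZMod.natCast_self]

lemma toZModPow_add_pow_mul (m : ℕ) (x z : ℤ_[p]) :
    PadicInt.toZModPow m (x + (p : ℤ_[p]) ^ m * z) = PadicInt.toZModPow m x := by
  rw [map_add, map_mul, toZModPow_pow, zero_mul, add_zero]

lemma isUnit_of_toZMod_ne_zero {z : ℤ_[p]} (h : PadicInt.toZMod z ≠ 0) : IsUnit z := by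
  by_contra hu
  have h1 : z ∈ IsLocalRing.maximalIdeal ℤ_[p] := (IsLocalRing.mem_maximalIdeal z).mpr hu
  rw [← PadicInt.ker_toZMod, RingHom.mem_ker] at h1
  exact h h1

lemma rho_smul (m : ℕ) (c : ℤ_[p]) (Z : Matrix (Fin 2) (Fin 2) ℤ_[p]) :
    rho p m (c • Z) = PadicInt.toZModPow m c • rho p m Z := by
  ext i j
  simp [rho, RingHom.mapMatrix_apply, Matrix.map_apply, Matrix.smul_apply]

lemma rho_pow_smul (m : ℕ) (Z : Matrix (Fin 2) (Fin 2) ℤ_[p]) :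
    rho p m ((p : ℤ_[p]) ^ m • Z) = 0 := by
  rw [rho_smul, toZModPow_pow, zero_smul]

lemma one_add_smul_mul (a : ℤ_[p]) (X Y : Matrix (Fin 2) (Fin 2) ℤ_[p]) :
    (1 + a • X) * (1 + a • Y) = 1 + a • (X + Y) + (a * a) • (X * Y) := by
  simp only [add_mul, mul_add, one_mul, mul_one, Matrix.smul_mul, Matrix.mul_smul, smul_smul,
    smul_add]
  abel

lemma p_nsmul_eq_zero (M : Matrix (Fin 2) (Fin 2) (ZMod p)) : p • M = 0 := by
  ext i j
  simp [Matrix.smul_apply]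

lemma GL_map_surj :
    Function.Surjective (Matrix.GeneralLinearGroup.map (n := Fin 2) (PadicInt.toZMod (p := p))) := by
  intro U
  have hs : Function.Surjective (PadicInt.toZMod (p := p)) := ZMod.ringHom_surjective _
  choose X hX using fun i j => hs ((U : Matrix (Fin 2) (Fin 2) (ZMod p)) i j)
  have hmap : (PadicInt.toZMod (p := p)).mapMatrix (Matrix.of X) =
      (U : Matrix (Fin 2) (Fin 2) (ZMod p)) := by
    ext i j
    simp [RingHom.mapMatrix_apply, hX]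
  have hdet : IsUnit (Matrix.det (Matrix.of X : Matrix (Fin 2) (Fin 2) ℤ_[p])) := by
    apply isUnit_of_toZMod_ne_zero
    rw [RingHom.map_det, hmap]
    exact ((Matrix.isUnit_iff_isUnit_det _).mp U.isUnit).ne_zero
  refine ⟨Matrix.GeneralLinearGroup.mk'' (Matrix.of X) hdet, ?_⟩
  apply Units.ext
  ext i j
  have := congrArg (fun M : Matrix (Fin 2) (Fin 2) (ZMod p) => M i j) hmap
  simpa [RingHom.mapMatrix_apply] using this

end Basic

section Group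

variable {p : ℕ} [Fact p.Prime] {𝔊 : Type*} [Group 𝔊] (ϕ : 𝔊 →* GL (Fin 2) ℤ_[p])

/-- the level-`n` approximation predicate -/
def RR (n : ℕ) (X : Matrix (Fin 2) (Fin 2) ℤ_[p]) : Prop :=
  ∃ h : 𝔊, rho p (n + 1) ((ϕ h : GL (Fin 2) ℤ_[p]) : Matrix (Fin 2) (Fin 2) ℤ_[p]) =
    rho p (n + 1) (1 + (p : ℤ_[p]) ^ n • X)

variable {ϕ}

lemma RR_congr {n : ℕ} {X X' : Matrix (Fin 2) (Fin 2) ℤ_[p]} (h : r1 p X = r1 p X')
    (hX : RR ϕ n X) : RR ϕ n X' := by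
  obtain ⟨g, hg⟩ := hX
  have hz : ∀ i j, ∃ z, X' i j = X i j + (p : ℤ_[p]) * z := fun i j =>
    exists_of_toZMod_eq (by
      have := congrArg (fun M : Matrix (Fin 2) (Fin 2) (ZMod p) => M i j) h
      simpa [r1, RingHom.mapMatrix_apply] using this)
  choose z hz using hz
  refine ⟨g, ?_⟩
  have e : 1 + (p : ℤ_[p]) ^ n • X' =
      (1 + (p : ℤ_[p]) ^ n • X) + (p : ℤ_[p]) ^ (n + 1) • Matrix.of z := by
    ext i j
    simp only [Matrix.add_apply, Matrix.smul_apply, Matrix.of_apply, smul_eq_mul, hz i j]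
    ring
  rw [hg, e, (rho p (n + 1)).map_add (1 + (p : ℤ_[p]) ^ n • X) _, rho_pow_smul, add_zero]

lemma RR_zero (n : ℕ) : RR ϕ n 0 := by
  refine ⟨1, ?_⟩
  rw [map_one, Units.val_one, smul_zero, add_zero]

lemma RR_add {n : ℕ} (hn : 1 ≤ n) {X Y : Matrix (Fin 2) (Fin 2) ℤ_[p]}
    (hX : RR ϕ n X) (hY : RR ϕ n Y) : RR ϕ n (X + Y) := by
  obtain ⟨g, hg⟩ := hX
  obtain ⟨h, hh⟩ := hY
  refine ⟨g * h, ?_⟩
  have hp : (p : ℤ_[p]) ^ n * (p : ℤ_[p]) ^ n = (p : ℤ_[p]) ^ (n + 1) * (p : ℤ_[p]) ^ (n - 1) := by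
    rw [← pow_add, ← pow_add]; congr 1; omega
  have e : (1 + (p : ℤ_[p]) ^ n • X) * (1 + (p : ℤ_[p]) ^ n • Y) =
      (1 + (p : ℤ_[p]) ^ n • (X + Y)) +
        (p : ℤ_[p]) ^ (n + 1) • ((p : ℤ_[p]) ^ (n - 1) • (X * Y)) := by
    rw [one_add_smul_mul, hp, smul_smul]
  rw [map_mul, Units.val_mul, map_mul, hg, hh, ← map_mul, e, map_add, rho_pow_smul, add_zero]

lemma RR_nsmul {n : ℕ} (hn : 1 ≤ n) {X : Matrix (Fin 2) (Fin 2) ℤ_[p]} (hX : RR ϕ n X)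
    (k : ℕ) : RR ϕ n (k • X) := by
  induction k with
  | zero => rw [zero_smul]; exact RR_zero n
  | succ k ih => rw [succ_nsmul]; exact RR_add hn ih hX

lemma RR_neg {n : ℕ} (hn : 1 ≤ n) {X : Matrix (Fin 2) (Fin 2) ℤ_[p]} (hX : RR ϕ n X) :
    RR ϕ n (-X) := by
  refine RR_congr ?_ (RR_nsmul hn hX (p - 1))
  rw [map_nsmul, map_neg, eq_neg_iff_add_eq_zero, ← succ_nsmul,
    Nat.sub_add_cancel (Fact.out : p.Prime).one_le, p_nsmul_eq_zero]

lemma RR_conj {n : ℕ} {X : Matrix (Fin 2) (Fin 2) ℤ_[p]} (hX : RR ϕ n X) (g' : 𝔊) :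
    RR ϕ n (((ϕ g' : GL (Fin 2) ℤ_[p]) : Matrix (Fin 2) (Fin 2) ℤ_[p]) * X *
      (((ϕ g')⁻¹ : GL (Fin 2) ℤ_[p]) : Matrix (Fin 2) (Fin 2) ℤ_[p])) := by
  obtain ⟨h, hh⟩ := hX
  refine ⟨g' * h * g'⁻¹, ?_⟩
  have e : ((ϕ g' : GL (Fin 2) ℤ_[p]) : Matrix (Fin 2) (Fin 2) ℤ_[p]) *
      (1 + (p : ℤ_[p]) ^ n • X) *
      (((ϕ g')⁻¹ : GL (Fin 2) ℤ_[p]) : Matrix (Fin 2) (Fin 2) ℤ_[p]) =
      1 + (p : ℤ_[p]) ^ n • (((ϕ g' : GL (Fin 2) ℤ_[p]) : Matrix (Fin 2) (Fin 2) ℤ_[p]) * X *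
        (((ϕ g')⁻¹ : GL (Fin 2) ℤ_[p]) : Matrix (Fin 2) (Fin 2) ℤ_[p])) := by
    rw [mul_add, add_mul, mul_one, Matrix.mul_smul, Matrix.smul_mul]
    congr 1
    rw [← Units.val_mul, mul_inv_cancel, Units.val_one]
  rw [map_mul, map_mul, map_inv, Units.val_mul, Units.val_mul, map_mul, map_mul, hh, ← map_mul,
    ← map_mul, e]

lemma exists_conj
    (hi : Function.Surjective
      ((Matrix.GeneralLinearGroup.map (n := Fin 2) (PadicInt.toZMod (p := p))).comp ϕ))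
    (W W' : Matrix (Fin 2) (Fin 2) (ZMod p)) (hW : W' * W = 1) (hWW' : W * W' = 1) :
    ∃ g' : 𝔊, r1 p ((ϕ g' : GL (Fin 2) ℤ_[p]) : Matrix (Fin 2) (Fin 2) ℤ_[p]) = W ∧
      r1 p (((ϕ g')⁻¹ : GL (Fin 2) ℤ_[p]) : Matrix (Fin 2) (Fin 2) ℤ_[p]) = W' := by
  obtain ⟨g', hg'⟩ := hi ⟨W, W', hWW', hW⟩
  refine ⟨g', ?_, ?_⟩
  · exact congrArg (fun G : GL (Fin 2) (ZMod p) => (G : Matrix (Fin 2) (Fin 2) (ZMod p))) hg'
  · have h2 : (Matrix.GeneralLinearGroup.map (n := Fin 2) (PadicInt.toZMod (p := p))) (ϕ g')⁻¹ =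
        (⟨W, W', hWW', hW⟩ : GL (Fin 2) (ZMod p))⁻¹ := by
      rw [map_inv]; exact congrArg _ hg'
    exact congrArg (fun G : GL (Fin 2) (ZMod p) => (G : Matrix (Fin 2) (Fin 2) (ZMod p))) h2

lemma RR_conj' {n : ℕ}
    (hi : Function.Surjective
      ((Matrix.GeneralLinearGroup.map (n := Fin 2) (PadicInt.toZMod (p := p))).comp ϕ))
    {X T : Matrix (Fin 2) (Fin 2) ℤ_[p]} (hX : RR ϕ n X)
    (W W' : Matrix (Fin 2) (Fin 2) (ZMod p)) (hW : W' * W = 1) (hWW' : W * W' = 1)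
    (hT : W * r1 p X * W' = r1 p T) : RR ϕ n T := by
  obtain ⟨g', h1, h2⟩ := exists_conj hi W W' hW hWW'
  refine RR_congr ?_ (RR_conj hX g')
  rw [map_mul, map_mul, h1, h2, hT]

theorem RR_all
    (hi : Function.Surjective
      ((Matrix.GeneralLinearGroup.map (n := Fin 2) (PadicInt.toZMod (p := p))).comp ϕ))
    {n : ℕ} (hn : 1 ≤ n)
    (hii : ∃ (g : 𝔊) (a b c d : ℤ_[p]), ¬ ((p : ℤ_[p]) ∣ a) ∧
      ((ϕ g : GL (Fin 2) ℤ_[p]) : Matrix (Fin 2) (Fin 2) ℤ_[p]) =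
        !![1 + (p : ℤ_[p]) ^ n * a, (p : ℤ_[p]) ^ (n + 1) * b;
           (p : ℤ_[p]) ^ (n + 1) * c, 1 + (p : ℤ_[p]) ^ (n + 1) * d])
    (X : Matrix (Fin 2) (Fin 2) ℤ_[p]) : RR ϕ n X := by
  obtain ⟨g, a, b, c, d, ha, hg⟩ := hii
  have s1 : RR ϕ n !![a, (p : ℤ_[p]) * b; (p : ℤ_[p]) * c, (p : ℤ_[p]) * d] := by
    refine ⟨g, ?_⟩
    rw [hg]
    congr 1
    ext i j
    fin_cases i <;> fin_cases j <;> simp [pow_succ] <;> ring
  have s2 : RR ϕ n !![a, 0; 0, 0] := by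
    refine RR_congr ?_ s1
    ext i j
    fin_cases i <;> fin_cases j <;> simp [r1, RingHom.mapMatrix_apply, toZMod_p]
  have hā : PadicInt.toZMod a ≠ 0 := by
    intro h0
    apply ha
    have h1 : a ∈ RingHom.ker (PadicInt.toZMod (p := p)) := RingHom.mem_ker.mpr h0
    rw [PadicInt.ker_toZMod, PadicInt.maximalIdeal_eq_span_p, Ideal.mem_span_singleton] at h1
    exact h1
  have h00 : (((PadicInt.toZMod a)⁻¹.val : ℕ) : ZMod p) * PadicInt.toZMod a = 1 := by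
    rw [ZMod.natCast_zmod_val, inv_mul_cancel₀ hā]
  have E11 : RR ϕ n !![1, 0; 0, 0] := by
    refine RR_congr ?_ (RR_nsmul hn s2 (PadicInt.toZMod a)⁻¹.val)
    ext i j
    fin_cases i <;> fin_cases j <;>
      simp [r1, RingHom.mapMatrix_apply, Matrix.smul_apply, inv_mul_cancel₀ hā]
  have hr11 : r1 p !![1, 0; 0, 0] = !![1, 0; 0, 0] := by
    ext i j
    fin_cases i <;> fin_cases j <;> simp [r1, RingHom.mapMatrix_apply]
  have E22 : RR ϕ n !![0, 0; 0, 1] := by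
    refine RR_conj' hi E11 !![0, 1; 1, 0] !![0, 1; 1, 0] ?_ ?_ ?_
    · ext i j; fin_cases i <;> fin_cases j <;> simp [Matrix.mul_apply, Fin.sum_univ_two]
    · ext i j; fin_cases i <;> fin_cases j <;> simp [Matrix.mul_apply, Fin.sum_univ_two]
    · rw [hr11]
      ext i j
      fin_cases i <;> fin_cases j <;>
        simp [r1, RingHom.mapMatrix_apply, Matrix.mul_apply, Fin.sum_univ_two]
  have E12' : RR ϕ n !![1, 1; 0, 0] := by
    refine RR_conj' hi E11 !![1, -1; 0, 1] !![1, 1; 0, 1] ?_ ?_ ?_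
    · ext i j; fin_cases i <;> fin_cases j <;> simp [Matrix.mul_apply, Fin.sum_univ_two]
    · ext i j; fin_cases i <;> fin_cases j <;> simp [Matrix.mul_apply, Fin.sum_univ_two]
    · rw [hr11]
      ext i j
      fin_cases i <;> fin_cases j <;>
        simp [r1, RingHom.mapMatrix_apply, Matrix.mul_apply, Fin.sum_univ_two]
  have E21' : RR ϕ n !![1, 0; -1, 0] := by
    refine RR_conj' hi E11 !![1, 0; -1, 1] !![1, 0; 1, 1] ?_ ?_ ?_
    · ext i j; fin_cases i <;> fin_cases j <;> simp [Matrix.mul_apply, Fin.sum_univ_two]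
    · ext i j; fin_cases i <;> fin_cases j <;> simp [Matrix.mul_apply, Fin.sum_univ_two]
    · rw [hr11]
      ext i j
      fin_cases i <;> fin_cases j <;>
        simp [r1, RingHom.mapMatrix_apply, Matrix.mul_apply, Fin.sum_univ_two]
  have E12 : RR ϕ n !![0, 1; 0, 0] := by
    have h := RR_add hn E12' (RR_neg hn E11)
    have e : (!![1, 1; 0, 0] : Matrix (Fin 2) (Fin 2) ℤ_[p]) + -!![1, 0; 0, 0] = !![0, 1; 0, 0] := by
      ext i j; fin_cases i <;> fin_cases j <;> simp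
    rwa [e] at h
  have E21 : RR ϕ n !![0, 0; 1, 0] := by
    have h := RR_add hn E11 (RR_neg hn E21')
    have e : (!![1, 0; 0, 0] : Matrix (Fin 2) (Fin 2) ℤ_[p]) + -!![1, 0; -1, 0] = !![0, 0; 1, 0] := by
      ext i j; fin_cases i <;> fin_cases j <;> simp
    rwa [e] at h
  have hX' := RR_add hn (RR_add hn (RR_add hn
    (RR_nsmul hn E11 (PadicInt.toZMod (X 0 0)).val)
    (RR_nsmul hn E12 (PadicInt.toZMod (X 0 1)).val))
    (RR_nsmul hn E21 (PadicInt.toZMod (X 1 0)).val))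
    (RR_nsmul hn E22 (PadicInt.toZMod (X 1 1)).val)
  refine RR_congr ?_ hX'
  ext i j
  fin_cases i <;> fin_cases j <;>
    simp [r1, RingHom.mapMatrix_apply, Matrix.smul_apply, Matrix.add_apply] <;> rfl

theorem approx
    (hi : Function.Surjective
      ((Matrix.GeneralLinearGroup.map (n := Fin 2) (PadicInt.toZMod (p := p))).comp ϕ))
    (hii : ∀ n : ℕ, 1 ≤ n → ∃ (g : 𝔊) (a b c d : ℤ_[p]), ¬ ((p : ℤ_[p]) ∣ a) ∧
      ((ϕ g : GL (Fin 2) ℤ_[p]) : Matrix (Fin 2) (Fin 2) ℤ_[p]) =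
        !![1 + (p : ℤ_[p]) ^ n * a, (p : ℤ_[p]) ^ (n + 1) * b;
           (p : ℤ_[p]) ^ (n + 1) * c, 1 + (p : ℤ_[p]) ^ (n + 1) * d])
    (n : ℕ) (hn : 1 ≤ n) (G : GL (Fin 2) ℤ_[p]) :
    ∃ g : 𝔊, rho p n ((ϕ g : GL (Fin 2) ℤ_[p]) : Matrix (Fin 2) (Fin 2) ℤ_[p]) =
      rho p n (G : Matrix (Fin 2) (Fin 2) ℤ_[p]) := by
  induction n, hn using Nat.le_induction generalizing G with
  | base =>
    obtain ⟨g, hg⟩ := hi (Matrix.GeneralLinearGroup.map (n := Fin 2) (PadicInt.toZMod (p := p)) G)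
    refine ⟨g, ?_⟩
    ext i j
    have h1 : PadicInt.toZMod (((ϕ g : GL (Fin 2) ℤ_[p]) : Matrix (Fin 2) (Fin 2) ℤ_[p]) i j) =
        PadicInt.toZMod ((G : Matrix (Fin 2) (Fin 2) ℤ_[p]) i j) :=
      congrArg (fun U : GL (Fin 2) (ZMod p) => (U : Matrix (Fin 2) (Fin 2) (ZMod p)) i j) hg
    obtain ⟨z, hz⟩ := exists_of_toZMod_eq h1
    show PadicInt.toZModPow 1 _ = PadicInt.toZModPow 1 _
    rw [hz]
    have hp1 : PadicInt.toZModPow 1 (p : ℤ_[p]) = 0 := by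
      conv_lhs => rw [← pow_one (p : ℤ_[p])]
      exact toZModPow_pow 1
    rw [map_add, map_mul, hp1, zero_mul, add_zero]
  | succ n hn ih =>
    obtain ⟨g₀, hg₀⟩ := ih G
    set G' : GL (Fin 2) ℤ_[p] := (ϕ g₀)⁻¹ * G with hG'
    have h1 : rho p n (G' : Matrix (Fin 2) (Fin 2) ℤ_[p]) = 1 := by
      rw [hG', Units.val_mul, map_mul, ← hg₀, ← map_mul, ← Units.val_mul, inv_mul_cancel,
        Units.val_one, map_one]
    have hz : ∀ i j, ∃ z, (G' : Matrix (Fin 2) (Fin 2) ℤ_[p]) i j =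
        (1 : Matrix (Fin 2) (Fin 2) ℤ_[p]) i j + (p : ℤ_[p]) ^ n * z := fun i j =>
      exists_of_toZModPow_eq (by
        have := congrArg (fun M : Matrix (Fin 2) (Fin 2) (ZMod (p ^ n)) => M i j) h1
        have h2 : (1 : Matrix (Fin 2) (Fin 2) (ZMod (p ^ n))) i j =
            PadicInt.toZModPow n ((1 : Matrix (Fin 2) (Fin 2) ℤ_[p]) i j) := by
          by_cases hij : i = j <;> simp [Matrix.one_apply, hij]
        rw [← h2]
        exact this.symm)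
    choose z hz using hz
    have hGX : (G' : Matrix (Fin 2) (Fin 2) ℤ_[p]) = 1 + (p : ℤ_[p]) ^ n • Matrix.of z := by
      ext i j
      rw [hz i j]
      simp [Matrix.add_apply, Matrix.smul_apply]
    obtain ⟨h, hh⟩ := RR_all hi hn (hii n hn) (Matrix.of z)
    refine ⟨g₀ * h, ?_⟩
    rw [map_mul, Units.val_mul, map_mul, hh, ← hGX, ← map_mul, ← Units.val_mul, hG',
      mul_inv_cancel_left]

theorem surj_of_approx [TopologicalSpace 𝔊] [CompactSpace 𝔊]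
    (hϕ : Continuous fun g => ((ϕ g : GL (Fin 2) ℤ_[p]) : Matrix (Fin 2) (Fin 2) ℤ_[p]))
    (happ : ∀ n, 1 ≤ n → ∀ G : GL (Fin 2) ℤ_[p],
      ∃ g : 𝔊, rho p n ((ϕ g : GL (Fin 2) ℤ_[p]) : Matrix (Fin 2) (Fin 2) ℤ_[p]) =
        rho p n (G : Matrix (Fin 2) (Fin 2) ℤ_[p])) :
    Function.Surjective ϕ := by
  intro G
  have hK : IsClosed (Set.range fun g =>
      ((ϕ g : GL (Fin 2) ℤ_[p]) : Matrix (Fin 2) (Fin 2) ℤ_[p])) := (isCompact_range hϕ).isClosed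
  choose gs hgs using fun n : ℕ => happ (n + 1) (Nat.succ_le_succ (Nat.zero_le n)) G
  have hlim : Filter.Tendsto
      (fun n => ((ϕ (gs n) : GL (Fin 2) ℤ_[p]) : Matrix (Fin 2) (Fin 2) ℤ_[p]))
      Filter.atTop (nhds (G : Matrix (Fin 2) (Fin 2) ℤ_[p])) := by
    refine tendsto_pi_nhds.mpr fun i => tendsto_pi_nhds.mpr fun j => ?_
    rw [tendsto_iff_norm_sub_tendsto_zero]
    have hb : ∀ n, ‖((ϕ (gs n) : GL (Fin 2) ℤ_[p]) : Matrix (Fin 2) (Fin 2) ℤ_[p]) i j -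
        (G : Matrix (Fin 2) (Fin 2) ℤ_[p]) i j‖ ≤ (p : ℝ) ^ (-((n + 1 : ℕ) : ℤ)) := by
      intro n
      rw [PadicInt.norm_le_pow_iff_mem_span_pow, ← PadicInt.ker_toZModPow, RingHom.mem_ker,
        map_sub, sub_eq_zero]
      exact congrArg (fun M : Matrix (Fin 2) (Fin 2) (ZMod (p ^ (n + 1))) => M i j) (hgs n)
    refine squeeze_zero (fun _ => norm_nonneg _) hb ?_
    have hp1 : (1 : ℝ) < p := Nat.one_lt_cast.mpr (Fact.out : p.Prime).one_lt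
    have h0 : Filter.Tendsto (fun n : ℕ => ((p : ℝ)⁻¹) ^ n) Filter.atTop (nhds 0) :=
      tendsto_pow_atTop_nhds_zero_of_lt_one (inv_nonneg.mpr (by positivity))
        (inv_lt_one_of_one_lt₀ hp1)
    have h1 := h0.comp (Filter.tendsto_add_atTop_nat 1)
    refine h1.congr fun n => ?_
    rw [Function.comp_apply, inv_pow, _root_.zpow_neg, zpow_natCast]
  have hmem := hK.mem_of_tendsto hlim (Filter.Eventually.of_forall fun n => Set.mem_range_self _)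
  obtain ⟨g, hg⟩ := hmem
  exact ⟨g, Units.ext hg⟩

theorem main_iff [TopologicalSpace 𝔊] [CompactSpace 𝔊]
    (hϕ : Continuous fun g => ((ϕ g : GL (Fin 2) ℤ_[p]) : Matrix (Fin 2) (Fin 2) ℤ_[p])) :
    Function.Surjective ϕ ↔
      (Function.Surjective
        ((Matrix.GeneralLinearGroup.map (n := Fin 2) (PadicInt.toZMod (p := p))).comp ϕ) ∧
        ∀ n : ℕ, 1 ≤ n → ∃ (g : 𝔊) (a b c d : ℤ_[p]), ¬ ((p : ℤ_[p]) ∣ a) ∧
          ((ϕ g : GL (Fin 2) ℤ_[p]) : Matrix (Fin 2) (Fin 2) ℤ_[p]) =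
            !![1 + (p : ℤ_[p]) ^ n * a, (p : ℤ_[p]) ^ (n + 1) * b;
               (p : ℤ_[p]) ^ (n + 1) * c, 1 + (p : ℤ_[p]) ^ (n + 1) * d]) := by
  constructor
  · intro hs
    refine ⟨?_, ?_⟩
    · rw [MonoidHom.coe_comp]
      exact GL_map_surj.comp hs
    · intro n hn
      have hdet : IsUnit (Matrix.det (!![1 + (p : ℤ_[p]) ^ n * 1, (p : ℤ_[p]) ^ (n + 1) * 0;
          (p : ℤ_[p]) ^ (n + 1) * 0, 1 + (p : ℤ_[p]) ^ (n + 1) * 0] :
          Matrix (Fin 2) (Fin 2) ℤ_[p])) := by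
        apply isUnit_of_toZMod_ne_zero
        rw [Matrix.det_fin_two_of]
        have hn0 : n ≠ 0 := by omega
        simp [toZMod_p, hn0]
      obtain ⟨g, hg⟩ := hs (Matrix.GeneralLinearGroup.mk'' _ hdet)
      refine ⟨g, 1, 0, 0, 0, ?_, ?_⟩
      · intro hdvd
        obtain ⟨c, hc⟩ := hdvd
        have := congrArg (PadicInt.toZMod (p := p)) hc
        rw [map_one, map_mul, toZMod_p, zero_mul] at this
        exact one_ne_zero this
      · rw [hg]; rfl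
  · rintro ⟨hi, hii⟩
    exact surj_of_approx hϕ (approx hi hii)

end Group

end Groth.Agent.Helper25.GL2Surj
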