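import Mathlib

/-!
# Characters of the additive group: coefficient calculus in two variables (helper25)
-/

set_option autoImplicit false

namespace Groth.Agent.Helper25.GaDual

open MvPolynomial

section Coeff

variable {A : Type*} [CommRing A]

/-- the exponent vector `(m, n)` -/
noncomputable def mon (m n : ℕ) : Fin 2 →₀ ℕ := Finsupp.single 0 m + Finsupp.single 1 n

theorem mon_zero (m n : ℕ) : mon m n 0 = m := by simp [mon]

theorem mon_one (m n : ℕ) : mon m n 1 = n := by simp [mon]

theorem mon_inj {m n m' n' : ℕ} : mon m n = mon m' n' ↔ m = m' ∧ n = n' := by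
  constructor
  · intro h
    have h0 := DFunLike.congr_fun h 0
    have h1 := DFunLike.congr_fun h 1
    rw [mon_zero, mon_zero] at h0
    rw [mon_one, mon_one] at h1
    exact ⟨h0, h1⟩
  · rintro ⟨rfl, rfl⟩
    rfl

theorem eq_mon (d : Fin 2 →₀ ℕ) : d = mon (d 0) (d 1) := by
  ext i
  fin_cases i
  · show d 0 = mon (d 0) (d 1) 0
    exact (mon_zero _ _).symm
  · show d 1 = mon (d 0) (d 1) 1
    exact (mon_one _ _).symm

theorem ext_mon {P Q : MvPolynomial (Fin 2) A} :
    P = Q ↔ ∀ m n, coeff (mon m n) P = coeff (mon m n) Q := by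
  constructor
  · rintro rfl _ _
    rfl
  · intro h
    ext d
    rw [eq_mon d]
    exact h _ _

theorem X_pow_mul_X_pow (i j : ℕ) :
    (X 0 ^ i * X 1 ^ j : MvPolynomial (Fin 2) A) = monomial (mon i j) 1 := by
  rw [X_pow_eq_monomial, X_pow_eq_monomial, monomial_mul, one_mul]
  rfl

theorem coeff_X_pow_mul_X_pow (m n i j : ℕ) :
    coeff (mon m n) (X 0 ^ i * X 1 ^ j : MvPolynomial (Fin 2) A) =
      if i = m ∧ j = n then 1 else 0 := by
  rw [X_pow_mul_X_pow, coeff_monomial]
  by_cases h : i = m ∧ j = n
  · rw [if_pos h, if_pos (mon_inj.mpr h)]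
  · rw [if_neg h, if_neg (fun h' => h (mon_inj.mp h'))]

theorem coeff_add_pow (m n k : ℕ) :
    coeff (mon m n) ((X 0 + X 1 : MvPolynomial (Fin 2) A) ^ k) =
      if k = m + n then ((k.choose m : ℕ) : A) else 0 := by
  rw [add_pow, coeff_sum]
  have hterm : ∀ i ∈ Finset.range (k + 1), coeff (mon m n)
      (X 0 ^ i * X 1 ^ (k - i) * ((k.choose i : ℕ) : MvPolynomial (Fin 2) A)) =
      if i = m ∧ k - i = n then ((k.choose i : ℕ) : A) else 0 := by
    intro i _
    rw [← C_eq_coe_nat, mul_comm, coeff_C_mul, coeff_X_pow_mul_X_pow]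
    split_ifs <;> simp
  rw [Finset.sum_congr rfl hterm]
  split_ifs with hk
  · subst hk
    rw [Finset.sum_eq_single m]
    · rw [if_pos ⟨rfl, by omega⟩]
    · intro i _ him
      rw [if_neg]
      rintro ⟨h, _⟩
      exact him h
    · intro hm
      exfalso
      apply hm
      rw [Finset.mem_range]
      omega
  · apply Finset.sum_eq_zero
    intro i hi
    rw [if_neg]
    rintro ⟨rfl, h2⟩
    rw [Finset.mem_range] at hi
    omega

theorem coeff_aeval_add (f : Polynomial A) (m n : ℕ) :
    coeff (mon m n) (Polynomial.aeval (X 0 + X 1 : MvPolynomial (Fin 2) A) f) =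
      (((m + n).choose m : ℕ) : A) * f.coeff (m + n) := by
  induction f using Polynomial.induction_on' with
  | add p q hp hq => rw [map_add, coeff_add, hp, hq, Polynomial.coeff_add, mul_add]
  | monomial k c =>
    rw [← Polynomial.C_mul_X_pow_eq_monomial, map_mul, map_pow, Polynomial.aeval_C,
      Polynomial.aeval_X, algebraMap_eq, coeff_C_mul, coeff_add_pow, Polynomial.coeff_C_mul,
      Polynomial.coeff_X_pow]
    by_cases hk : k = m + n
    · subst hk
      rw [if_pos rfl, if_pos rfl, mul_one, mul_comm]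
    · rw [if_neg hk, if_neg (fun h => hk h.symm), mul_zero, mul_zero]

theorem coeff_aeval_mul (g h : Polynomial A) (m n : ℕ) :
    coeff (mon m n) (Polynomial.aeval (X 0 : MvPolynomial (Fin 2) A) g *
      Polynomial.aeval (X 1 : MvPolynomial (Fin 2) A) h) = g.coeff m * h.coeff n := by
  induction g using Polynomial.induction_on' with
  | add p q hp hq => rw [map_add, add_mul, coeff_add, hp, hq, Polynomial.coeff_add, add_mul]
  | monomial i c =>
    induction h using Polynomial.induction_on' with
    | add p q hp hq => rw [map_add, mul_add, coeff_add, hp, hq, Polynomial.coeff_add, mul_add]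
    | monomial j d =>
      rw [← Polynomial.C_mul_X_pow_eq_monomial, ← Polynomial.C_mul_X_pow_eq_monomial, map_mul,
        map_mul, map_pow, map_pow, Polynomial.aeval_C, Polynomial.aeval_C, Polynomial.aeval_X,
        Polynomial.aeval_X, algebraMap_eq]
      have e : (C c * X 0 ^ i * (C d * X 1 ^ j) : MvPolynomial (Fin 2) A) =
          C (c * d) * (X 0 ^ i * X 1 ^ j) := by
        rw [C_mul]
        ring
      rw [e, coeff_C_mul, coeff_X_pow_mul_X_pow, Polynomial.coeff_C_mul, Polynomial.coeff_C_mul,
        Polynomial.coeff_X_pow, Polynomial.coeff_X_pow]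
      by_cases h1 : m = i
      · by_cases h2 : n = j
        · rw [if_pos ⟨h1.symm, h2.symm⟩, if_pos h1, if_pos h2]
          ring
        · rw [if_neg (fun h => h2 h.2.symm), if_neg h2]
          ring
      · rw [if_neg (fun h => h1 h.1.symm), if_neg h1]
        ring

theorem coeff_aeval_X0 (g : Polynomial A) (m n : ℕ) :
    coeff (mon m n) (Polynomial.aeval (X 0 : MvPolynomial (Fin 2) A) g) =
      if n = 0 then g.coeff m else 0 := by
  have h := coeff_aeval_mul g 1 m n
  rw [map_one, mul_one, Polynomial.coeff_one] at h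
  rw [h]
  split_ifs <;> simp

theorem coeff_aeval_X1 (h : Polynomial A) (m n : ℕ) :
    coeff (mon m n) (Polynomial.aeval (X 1 : MvPolynomial (Fin 2) A) h) =
      if m = 0 then h.coeff n else 0 := by
  have h' := coeff_aeval_mul 1 h m n
  rw [map_one, one_mul, Polynomial.coeff_one] at h'
  rw [h']
  split_ifs <;> simp

/-- the multiplicativity identity in terms of coefficients -/
theorem mul_iff (f : Polynomial A) :
    Polynomial.aeval (X 0 + X 1 : MvPolynomial (Fin 2) A) f =
        Polynomial.aeval (X 0 : MvPolynomial (Fin 2) A) f *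
          Polynomial.aeval (X 1 : MvPolynomial (Fin 2) A) f ↔
      ∀ m n, (((m + n).choose m : ℕ) : A) * f.coeff (m + n) = f.coeff m * f.coeff n := by
  rw [ext_mon]
  refine forall_congr' fun m => forall_congr' fun n => ?_
  rw [coeff_aeval_add, coeff_aeval_mul]

theorem coeff_eq_zero_of_mem_span {q : ℕ} {P : MvPolynomial (Fin 2) A}
    (hP : P ∈ Ideal.span ({X 0 ^ q, X 1 ^ q} : Set (MvPolynomial (Fin 2) A))) (m n : ℕ)
    (hm : m < q) (hn : n < q) : coeff (mon m n) P = 0 := by
  have hset : ({X 0 ^ q, X 1 ^ q} : Set (MvPolynomial (Fin 2) A)) =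
      (fun s => monomial s (1 : A)) '' {Finsupp.single 0 q, Finsupp.single 1 q} := by
    rw [Set.image_pair, X_pow_eq_monomial, X_pow_eq_monomial]
  rw [hset, mem_ideal_span_monomial_image] at hP
  by_contra hne
  obtain ⟨si, hsi, hle⟩ := hP (mon m n) (mem_support_iff.mpr hne)
  rcases hsi with rfl | rfl
  · have h0 := hle 0
    rw [mon_zero, Finsupp.single_eq_same] at h0
    omega
  · have h1 := hle 1
    rw [mon_one, Finsupp.single_eq_same] at h1
    omega

end Coeff

end Groth.Agent.Helper25.GaDual
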