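import Mathlib
import Groth.Agent.Lib.Helper25.GaDualCore

/-!
# Characters of the additive group in characteristic `p`: structure (helper25)
-/

set_option autoImplicit false

namespace Groth.Agent.Helper25.GaDual

open Polynomial

section CharP

variable {p : ℕ} [hp : Fact p.Prime] {A : Type*} [CommRing A] [CharP A p]

theorem isUnit_natCast_of_not_dvd {n : ℕ} (hn : ¬ p ∣ n) : IsUnit ((n : ℕ) : A) := by
  have h1 : IsUnit ((n : ℕ) : ZMod p) := by
    rw [isUnit_iff_ne_zero, Ne, ZMod.natCast_eq_zero_iff]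
    exact hn
  have h2 := h1.map (ZMod.castHom (dvd_refl p) A)
  rwa [map_natCast] at h2

theorem isUnit_factorial {j : ℕ} (hj : j < p) : IsUnit ((j.factorial : ℕ) : A) :=
  isUnit_natCast_of_not_dvd (fun h => by
    have := (Nat.Prime.dvd_factorial hp.out).mp h
    omega)

theorem natCast_choose_lucas (n k : ℕ) : ((n.choose k : ℕ) : A) =
    (((n % p).choose (k % p) * (n / p).choose (k / p) : ℕ) : A) :=
  CharP.natCast_eq_natCast' A p Choose.choose_modEq_choose_mod_mul_choose_div_nat

/-- the multiplicativity relation on a coefficient sequence -/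
def Rel (c : ℕ → A) (m k : ℕ) : Prop :=
  (((m + k).choose m : ℕ) : A) * c (m + k) = c m * c k

omit hp [CharP A p] in
theorem fact_mul_eq_pow (c : ℕ → A) (h0 : c 0 = 1) (r : ℕ) (hrel : ∀ j < r, Rel c 1 j) :
    ((r.factorial : ℕ) : A) * c r = c 1 ^ r := by
  induction r with
  | zero => simp [h0]
  | succ r ih =>
    have h := hrel r (Nat.lt_succ_self r)
    unfold Rel at h
    rw [add_comm 1 r, Nat.choose_one_right] at h
    rw [Nat.factorial_succ, Nat.cast_mul, pow_succ, ← ih (fun j hj => hrel j (by omega))]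
    linear_combination ((r.factorial : ℕ) : A) * h

theorem rel_descend (c : ℕ → A) (m k : ℕ) (h : Rel c (p * m) (p * k)) :
    Rel (fun j => c (p * j)) m k := by
  unfold Rel at h ⊢
  have hp0 : 0 < p := hp.out.pos
  have e : (((p * m + p * k).choose (p * m) : ℕ) : A) = (((m + k).choose m : ℕ) : A) := by
    rw [natCast_choose_lucas (p := p)]
    have e1 : (p * m + p * k) % p = 0 := by
      rw [← Nat.mul_add]; exact Nat.mul_mod_right _ _
    have e2 : (p * m) % p = 0 := Nat.mul_mod_right _ _
    have e3 : (p * m + p * k) / p = m + k := by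
      rw [← Nat.mul_add]; exact Nat.mul_div_cancel_left _ hp0
    have e4 : (p * m) / p = m := Nat.mul_div_cancel_left _ hp0
    rw [e1, e2, e3, e4, Nat.choose_self, one_mul]
  rw [e] at h
  show (((m + k).choose m : ℕ) : A) * c (p * (m + k)) = c (p * m) * c (p * k)
  rw [Nat.mul_add]
  exact h

theorem rel_split (c : ℕ → A) (r m : ℕ) (hr : r < p) (h : Rel c r (p * m)) :
    c (r + p * m) = c r * c (p * m) := by
  unfold Rel at h
  have hp0 : 0 < p := hp.out.pos
  have e : (((r + p * m).choose r : ℕ) : A) = 1 := by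
    rw [natCast_choose_lucas (p := p)]
    have e1 : (r + p * m) % p = r := by
      rw [Nat.add_mul_mod_self_left, Nat.mod_eq_of_lt hr]
    have e2 : r % p = r := Nat.mod_eq_of_lt hr
    have e4 : r / p = 0 := Nat.div_eq_of_lt hr
    have e3 : (r + p * m) / p = m := by
      rw [Nat.add_mul_div_left _ _ hp0, e4, zero_add]
    rw [e1, e2, e3, e4, Nat.choose_self, Nat.choose_zero_right, mul_one, Nat.cast_one]
  rw [e, one_mul] at h
  exact h

/-- `c (p^i) ^ p = 0` -/
theorem pow_p_eq_zero (i : ℕ) : ∀ (c : ℕ → A), c 0 = 1 →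
    (∀ m k, m < p ^ (i + 1) → k < p ^ (i + 1) → Rel c m k) → c (p ^ i) ^ p = 0 := by
  induction i with
  | zero =>
    intro c h0 hrel
    have h1 := fact_mul_eq_pow c h0 p (fun j hj => hrel 1 j (by simpa using hp.out.one_lt)
      (by simpa using hj))
    rw [pow_zero, ← h1]
    have : ((p.factorial : ℕ) : A) = 0 :=
      (CharP.cast_eq_zero_iff A p _).mpr (Nat.dvd_factorial hp.out.pos le_rfl)
    rw [this, zero_mul]
  | succ i ih =>
    intro c h0 hrel
    have h1 := ih (fun j => c (p * j)) (by simpa using h0) (fun m k hm hk => by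
      apply rel_descend
      apply hrel
      · rw [pow_succ']; exact Nat.mul_lt_mul_of_pos_left hm hp.out.pos
      · rw [pow_succ']; exact Nat.mul_lt_mul_of_pos_left hk hp.out.pos)
    have h1' : c (p * p ^ i) ^ p = 0 := h1
    rwa [← pow_succ'] at h1'

variable (p) in
/-- the truncated exponential factor `exp_p(b X^q)` -/
noncomputable def Ef (b : A) (q : ℕ) : A[X] :=
  ∑ j ∈ Finset.range p, C (Ring.inverse ((j.factorial : ℕ) : A) * b ^ j) * X ^ (j * q)

omit hp [CharP A p] in
theorem expand_Ef (b : A) (q : ℕ) : expand A p (Ef p b q) = Ef p b (p * q) := by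
  unfold Ef
  rw [map_sum]
  refine Finset.sum_congr rfl fun j _ => ?_
  rw [map_mul, expand_C, map_pow, expand_X, ← pow_mul]
  congr 2
  ring

omit [CharP A p] in
theorem coeff_Ef_mul_expand (b : A) (G : A[X]) (k : ℕ) :
    (Ef p b 1 * expand A p G).coeff k =
      Ring.inverse (((k % p).factorial : ℕ) : A) * b ^ (k % p) * G.coeff (k / p) := by
  have hp0 : 0 < p := hp.out.pos
  unfold Ef
  rw [Finset.sum_mul, finset_sum_coeff]
  have hterm : ∀ j ∈ Finset.range p, (C (Ring.inverse ((j.factorial : ℕ) : A) * b ^ j) *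
      X ^ (j * 1) * expand A p G).coeff k =
      if j = k % p then Ring.inverse ((j.factorial : ℕ) : A) * b ^ j * G.coeff (k / p) else 0 := by
    intro j hj
    rw [Finset.mem_range] at hj
    rw [mul_one, mul_assoc, coeff_C_mul, coeff_X_pow_mul', coeff_expand hp0]
    by_cases hjk : j = k % p
    · rw [if_pos hjk]
      have hle : j ≤ k := hjk ▸ Nat.mod_le k p
      have hdvd : p ∣ k - j := by
        rw [hjk]; exact Nat.dvd_sub_mod k
      have hdiv : (k - j) / p = k / p := by
        rw [hjk]
        have h1 : k - k % p = p * (k / p) := by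
          have := Nat.mod_add_div k p; omega
        rw [h1, Nat.mul_div_cancel_left _ hp0]
      rw [if_pos hle, if_pos hdvd, hdiv]
    · rw [if_neg hjk]
      by_cases hle : j ≤ k
      · rw [if_pos hle, if_neg, mul_zero]
        intro hdvd
        apply hjk
        have h1 : k % p = j % p := by
          obtain ⟨t, ht⟩ := hdvd
          have h2 : k = j + p * t := by omega
          rw [h2, Nat.add_mul_mod_self_left]
        rw [h1, Nat.mod_eq_of_lt hj]
      · rw [if_neg hle, mul_zero]
  rw [Finset.sum_congr rfl hterm, Finset.sum_ite_eq' (Finset.range p) (k % p), if_pos]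
  rw [Finset.mem_range]
  exact Nat.mod_lt k hp0

/-- digit formula -/
theorem coeff_eq_coeff_prod (N : ℕ) : ∀ (c : ℕ → A), c 0 = 1 →
    (∀ m k, m + k < p ^ N → Rel c m k) → ∀ k < p ^ N,
      c k = (∏ i ∈ Finset.range N, Ef p (c (p ^ i)) (p ^ i)).coeff k := by
  induction N with
  | zero =>
    intro c h0 _ k hk
    have : k = 0 := by simpa using hk
    subst this
    simp [h0]
  | succ N ih =>
    intro c h0 hrel k hk
    have hp0 : 0 < p := hp.out.pos
    have hprod : ∏ i ∈ Finset.range (N + 1), Ef p (c (p ^ i)) (p ^ i) =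
        Ef p (c 1) 1 *
          expand A p (∏ i ∈ Finset.range N, Ef p ((fun j => c (p * j)) (p ^ i)) (p ^ i)) := by
      rw [Finset.prod_range_succ', pow_zero, mul_comm, map_prod]
      congr 1
      refine Finset.prod_congr rfl fun i _ => ?_
      rw [expand_Ef]
      show Ef p (c (p ^ (i + 1))) (p ^ (i + 1)) = Ef p (c (p * p ^ i)) (p * p ^ i)
      rw [← pow_succ']
    rw [hprod, coeff_Ef_mul_expand]
    have hkdiv : k / p < p ^ N := by
      rw [Nat.div_lt_iff_lt_mul hp0, mul_comm, ← pow_succ']
      exact hk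
    rw [← ih (fun j => c (p * j)) (by simpa using h0) (fun m k' hmk => by
      apply rel_descend
      apply hrel
      rw [← Nat.mul_add, pow_succ']
      exact Nat.mul_lt_mul_of_pos_left hmk hp0) (k / p) hkdiv]
    have hk' : k = k % p + p * (k / p) := (Nat.mod_add_div k p).symm
    have hr : k % p < p := Nat.mod_lt k hp0
    have h1 : c k = c (k % p) * c (p * (k / p)) := by
      conv_lhs => rw [hk']
      apply rel_split c _ _ hr
      apply hrel
      rw [← hk']
      exact hk
    have h2 := fact_mul_eq_pow c h0 (k % p) (fun j hj => hrel 1 j (by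
      have := Nat.mod_le k p; omega))
    have h3 : c (k % p) = Ring.inverse (((k % p).factorial : ℕ) : A) * c 1 ^ (k % p) := by
      rw [← h2, ← mul_assoc, Ring.inverse_mul_cancel _ (isUnit_factorial hr), one_mul]
    rw [h1, h3]

omit [CharP A p] in
theorem natDegree_Ef_le (b : A) (q : ℕ) : (Ef p b q).natDegree ≤ (p - 1) * q := by
  unfold Ef
  apply natDegree_sum_le_of_forall_le
  intro j hj
  rw [Finset.mem_range] at hj
  calc (C (Ring.inverse ((j.factorial : ℕ) : A) * b ^ j) * X ^ (j * q)).natDegree ≤ j * q :=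
        natDegree_C_mul_X_pow_le _ _
    _ ≤ (p - 1) * q := Nat.mul_le_mul_right q (by omega)

omit [CharP A p] in
theorem natDegree_prod_Ef_lt (a : ℕ → A) (N : ℕ) :
    (∏ i ∈ Finset.range N, Ef p (a i) (p ^ i)).natDegree < p ^ N := by
  induction N with
  | zero => simp
  | succ N ih =>
    rw [Finset.prod_range_succ]
    have h1 := natDegree_mul_le (p := ∏ i ∈ Finset.range N, Ef p (a i) (p ^ i))
      (q := Ef p (a N) (p ^ N))
    have h2 := natDegree_Ef_le (p := p) (a N) (p ^ N)
    have hp1 : p - 1 + 1 = p := Nat.sub_add_cancel hp.out.one_lt.le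
    have h3 : (p - 1) * p ^ N + p ^ N = p ^ (N + 1) := by
      calc (p - 1) * p ^ N + p ^ N = (p - 1 + 1) * p ^ N := by ring
        _ = p ^ (N + 1) := by rw [hp1, pow_succ']
    omega

theorem struct_of_rel (f : A[X]) (N : ℕ) (hdeg : f.natDegree < p ^ N) (h0 : f.coeff 0 = 1)
    (hrel : ∀ m k, m + k < p ^ N → Rel f.coeff m k) :
    f = ∏ i ∈ Finset.range N, Ef p (f.coeff (p ^ i)) (p ^ i) := by
  ext k
  by_cases hk : k < p ^ N
  · exact coeff_eq_coeff_prod N f.coeff h0 hrel k hk
  · push Not at hk
    rw [coeff_eq_zero_of_natDegree_lt (lt_of_lt_of_le hdeg hk),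
      coeff_eq_zero_of_natDegree_lt (lt_of_lt_of_le (natDegree_prod_Ef_lt _ N) hk)]

end CharP

end Groth.Agent.Helper25.GaDual
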