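import Mathlib
import Groth.Agent.Lib.Helper25.GaDualStruct

/-!
# Characters of the additive group in characteristic `p`: the truncated exponentials are characters
(helper25)
-/

set_option autoImplicit false

namespace Groth.Agent.Helper25.GaDual

open Polynomial

section CharP

variable {p : ℕ} [hp : Fact p.Prime] {A : Type*} [CommRing A] [CharP A p]

omit hp [CharP A p] in
theorem coeff_Ef_one (b : A) (k : ℕ) : (Ef p b 1).coeff k =
    if k < p then Ring.inverse ((k.factorial : ℕ) : A) * b ^ k else 0 := by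
  unfold Ef
  rw [finset_sum_coeff]
  simp only [mul_one, coeff_C_mul, coeff_X_pow, mul_ite, mul_zero]
  rw [Finset.sum_ite_eq]
  simp only [Finset.mem_range]

theorem choose_mul_inv (m n : ℕ) (h : m + n < p) :
    (((m + n).choose m : ℕ) : A) * Ring.inverse (((m + n).factorial : ℕ) : A) =
      Ring.inverse ((m.factorial : ℕ) : A) * Ring.inverse ((n.factorial : ℕ) : A) := by
  have hu := isUnit_factorial (p := p) (A := A) h
  have hm := isUnit_factorial (p := p) (A := A) (show m < p by omega)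
  have hn := isUnit_factorial (p := p) (A := A) (show n < p by omega)
  apply hu.mul_right_cancel
  rw [mul_assoc, Ring.inverse_mul_cancel _ hu, mul_one]
  have e : (((m + n).factorial : ℕ) : A) =
      (((m + n).choose m : ℕ) : A) * ((m.factorial : ℕ) : A) * ((n.factorial : ℕ) : A) := by
    have h1 := Nat.choose_mul_factorial_mul_factorial (Nat.le_add_right m n)
    rw [Nat.add_sub_cancel_left] at h1
    rw [← Nat.cast_mul, ← Nat.cast_mul, h1]
  rw [e]
  calc (((m + n).choose m : ℕ) : A) = (((m + n).choose m : ℕ) : A) *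
        (Ring.inverse ((m.factorial : ℕ) : A) * ((m.factorial : ℕ) : A)) *
        (Ring.inverse ((n.factorial : ℕ) : A) * ((n.factorial : ℕ) : A)) := by
        rw [Ring.inverse_mul_cancel _ hm, Ring.inverse_mul_cancel _ hn, mul_one, mul_one]
    _ = _ := by ring

theorem Ef_one_mul (b : A) (hb : b ^ p = 0) :
    aeval (MvPolynomial.X 0 + MvPolynomial.X 1 : MvPolynomial (Fin 2) A) (Ef p b 1) =
      aeval (MvPolynomial.X 0 : MvPolynomial (Fin 2) A) (Ef p b 1) *
        aeval (MvPolynomial.X 1 : MvPolynomial (Fin 2) A) (Ef p b 1) := by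
  rw [mul_iff]
  intro m n
  rw [coeff_Ef_one, coeff_Ef_one, coeff_Ef_one]
  by_cases hmn : m + n < p
  · rw [if_pos hmn, if_pos (by omega), if_pos (by omega), ← mul_assoc, choose_mul_inv m n hmn,
      pow_add]
    ring
  · rw [if_neg hmn, mul_zero]
    by_cases hm : m < p
    · by_cases hn : n < p
      · rw [if_pos hm, if_pos hn]
        have h1 : b ^ m * b ^ n = 0 := by
          rw [← pow_add, show m + n = p + (m + n - p) by omega, pow_add, hb, zero_mul]
        calc (0 : A) = Ring.inverse ((m.factorial : ℕ) : A) *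
              Ring.inverse ((n.factorial : ℕ) : A) * (b ^ m * b ^ n) := by rw [h1, mul_zero]
          _ = _ := by ring
      · rw [if_neg hn, mul_zero]
    · rw [if_neg hm, zero_mul]

omit hp [CharP A p] in
theorem Ef_eq_expand (b : A) (q : ℕ) : Ef p b q = expand A q (Ef p b 1) := by
  unfold Ef
  rw [map_sum]
  refine Finset.sum_congr rfl fun j _ => ?_
  rw [map_mul (expand A q), expand_C, map_pow, expand_X, ← pow_mul]
  congr 2
  ring

theorem Ef_mul (b : A) (hb : b ^ p = 0) (n : ℕ) :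
    aeval (MvPolynomial.X 0 + MvPolynomial.X 1 : MvPolynomial (Fin 2) A) (Ef p b (p ^ n)) =
      aeval (MvPolynomial.X 0 : MvPolynomial (Fin 2) A) (Ef p b (p ^ n)) *
        aeval (MvPolynomial.X 1 : MvPolynomial (Fin 2) A) (Ef p b (p ^ n)) := by
  rw [Ef_eq_expand, expand_aeval, expand_aeval, expand_aeval, add_pow_char_pow]
  obtain ⟨θ, hθ⟩ : ∃ θ : MvPolynomial (Fin 2) A →ₐ[A] MvPolynomial (Fin 2) A,
      ∀ i, θ (MvPolynomial.X i) = MvPolynomial.X i ^ (p ^ n) :=
    ⟨MvPolynomial.aeval (fun i => MvPolynomial.X i ^ (p ^ n)),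
      fun i => MvPolynomial.aeval_X _ i⟩
  have h := congrArg θ (Ef_one_mul b hb)
  rw [map_mul, ← aeval_algHom_apply, ← aeval_algHom_apply, ← aeval_algHom_apply, map_add, hθ,
    hθ] at h
  exact h

theorem prod_Ef_mul (a : ℕ → A) (ha : ∀ n, a n ^ p = 0) (N : ℕ) :
    aeval (MvPolynomial.X 0 + MvPolynomial.X 1 : MvPolynomial (Fin 2) A)
        (∏ n ∈ Finset.range N, Ef p (a n) (p ^ n)) =
      aeval (MvPolynomial.X 0 : MvPolynomial (Fin 2) A)
          (∏ n ∈ Finset.range N, Ef p (a n) (p ^ n)) *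
        aeval (MvPolynomial.X 1 : MvPolynomial (Fin 2) A)
          (∏ n ∈ Finset.range N, Ef p (a n) (p ^ n)) := by
  rw [map_prod, map_prod, map_prod, ← Finset.prod_mul_distrib]
  exact Finset.prod_congr rfl fun n _ => Ef_mul (a n) (ha n) n

omit [CharP A p] in
theorem coeff_zero_Ef (b : A) (q : ℕ) (hq : 0 < q) : (Ef p b q).coeff 0 = 1 := by
  rw [Ef_eq_expand, coeff_expand hq, if_pos (dvd_zero q), Nat.zero_div, coeff_Ef_one,
    if_pos hp.out.pos]
  simp

theorem eval_zero_prod_Ef (a : ℕ → A) (N : ℕ) :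
    (∏ n ∈ Finset.range N, Ef p (a n) (p ^ n)).eval 0 = 1 := by
  rw [eval_prod]
  apply Finset.prod_eq_one
  intro n _
  rw [← coeff_zero_eq_eval_zero]
  exact coeff_zero_Ef (a n) (p ^ n) (pow_pos hp.out.pos n)

theorem polyChar_iff (f : A[X]) :
    (f.eval 0 = 1 ∧
      aeval (MvPolynomial.X 0 + MvPolynomial.X 1 : MvPolynomial (Fin 2) A) f =
        aeval (MvPolynomial.X 0 : MvPolynomial (Fin 2) A) f *
          aeval (MvPolynomial.X 1 : MvPolynomial (Fin 2) A) f) ↔
      ∃ (N : ℕ) (a : ℕ → A), (∀ n, a n ^ p = 0) ∧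
        f = ∏ n ∈ Finset.range N, Ef p (a n) (p ^ n) := by
  constructor
  · rintro ⟨h0, hmul⟩
    rw [mul_iff] at hmul
    have h0' : f.coeff 0 = 1 := by rw [coeff_zero_eq_eval_zero]; exact h0
    refine ⟨f.natDegree, fun i => f.coeff (p ^ i), fun i => ?_, ?_⟩
    · exact pow_p_eq_zero i f.coeff h0' (fun m k _ _ => hmul m k)
    · exact struct_of_rel f f.natDegree (Nat.lt_pow_self hp.out.one_lt) h0'
        (fun m k _ => hmul m k)
  · rintro ⟨N, a, ha, rfl⟩
    exact ⟨eval_zero_prod_Ef a N, prod_Ef_mul a ha N⟩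

theorem truncChar (n : ℕ) (f : A[X]) (hdeg : f.natDegree < p ^ n) (h0 : f.eval 0 = 1)
    (hmul : Ideal.Quotient.mk
        (Ideal.span {(MvPolynomial.X 0 ^ p ^ n : MvPolynomial (Fin 2) A), MvPolynomial.X 1 ^ p ^ n})
        (aeval (MvPolynomial.X 0 + MvPolynomial.X 1 : MvPolynomial (Fin 2) A) f) =
      Ideal.Quotient.mk
        (Ideal.span {(MvPolynomial.X 0 ^ p ^ n : MvPolynomial (Fin 2) A), MvPolynomial.X 1 ^ p ^ n})
        (aeval (MvPolynomial.X 0 : MvPolynomial (Fin 2) A) f *
          aeval (MvPolynomial.X 1 : MvPolynomial (Fin 2) A) f)) :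
    ∃ a : ℕ → A, (∀ i, a i ^ p = 0) ∧
      f = ∏ i ∈ Finset.range n, Ef p (a i) (p ^ i) := by
  have h0' : f.coeff 0 = 1 := by rw [coeff_zero_eq_eval_zero]; exact h0
  have hrel : ∀ m k, m < p ^ n → k < p ^ n → Rel f.coeff m k := by
    intro m k hm hk
    have h1 := coeff_eq_zero_of_mem_span (Ideal.Quotient.eq.mp hmul) m k hm hk
    rw [MvPolynomial.coeff_sub, coeff_aeval_add, coeff_aeval_mul, sub_eq_zero] at h1
    exact h1
  refine ⟨fun i => if i < n then f.coeff (p ^ i) else 0, fun i => ?_, ?_⟩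
  · by_cases hi : i < n
    · simp only [if_pos hi]
      apply pow_p_eq_zero i f.coeff h0'
      intro m k hm hk
      have hle : p ^ (i + 1) ≤ p ^ n := Nat.pow_le_pow_right hp.out.pos hi
      exact hrel m k (lt_of_lt_of_le hm hle) (lt_of_lt_of_le hk hle)
    · simp only [if_neg hi]
      exact zero_pow hp.out.ne_zero
  · refine (struct_of_rel f n hdeg h0' (fun m k hmk => hrel m k (by omega) (by omega))).trans ?_
    refine Finset.prod_congr rfl fun i hi => ?_
    show Ef p (f.coeff (p ^ i)) (p ^ i) = Ef p (if i < n then f.coeff (p ^ i) else 0) (p ^ i)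
    rw [if_pos (Finset.mem_range.mp hi)]

end CharP

end Groth.Agent.Helper25.GaDual
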