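import Mathlib
import Groth.Agent.Lib.Helper25.GaDualMul

/-!
# Formal characters of the additive group (power series versions) (helper25)
-/

set_option autoImplicit false

namespace Groth.Agent.Helper25.GaDual

open PowerSeries

section PS

variable {A : Type*} [CommRing A]

theorem ps_coeff_add_pow (m n d : ℕ) :
    MvPowerSeries.coeff (mon m n)
      ((MvPowerSeries.X 0 + MvPowerSeries.X 1 : MvPowerSeries (Fin 2) A) ^ d) =
      if d = m + n then ((d.choose m : ℕ) : A) else 0 := by
  have h : ((MvPowerSeries.X 0 + MvPowerSeries.X 1 : MvPowerSeries (Fin 2) A) ^ d) =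
      (((MvPolynomial.X 0 + MvPolynomial.X 1 : MvPolynomial (Fin 2) A) ^ d :
        MvPolynomial (Fin 2) A) : MvPowerSeries (Fin 2) A) := by
    rw [MvPolynomial.coe_pow, MvPolynomial.coe_add, MvPolynomial.coe_X, MvPolynomial.coe_X]
  rw [h, MvPolynomial.coeff_coe, coeff_add_pow]

theorem ps_coeff_subst_add (χ : PowerSeries A) (m n : ℕ) :
    MvPowerSeries.coeff (mon m n)
      (subst (MvPowerSeries.X 0 + MvPowerSeries.X 1 : MvPowerSeries (Fin 2) A) χ) =
      (((m + n).choose m : ℕ) : A) * coeff (m + n) χ := by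
  have ha : HasSubst (MvPowerSeries.X 0 + MvPowerSeries.X 1 : MvPowerSeries (Fin 2) A) :=
    (HasSubst.X 0).add (HasSubst.X 1)
  rw [coeff_subst ha, finsum_eq_single _ (m + n)]
  · rw [ps_coeff_add_pow, if_pos rfl, smul_eq_mul, mul_comm]
  · intro d hd
    rw [ps_coeff_add_pow, if_neg hd, smul_zero]

theorem ps_coeff_subst_X0 (χ : PowerSeries A) (d : Fin 2 →₀ ℕ) :
    MvPowerSeries.coeff d (subst (MvPowerSeries.X 0 : MvPowerSeries (Fin 2) A) χ) =
      if d 1 = 0 then coeff (d 0) χ else 0 := by
  rw [coeff_subst_single]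
  by_cases h : d 1 = 0
  · rw [if_pos h, if_pos]
    ext t
    fin_cases t
    · simp
    · simpa using h
  · rw [if_neg h, if_neg]
    intro h'
    apply h
    have h1 := DFunLike.congr_fun h' 1
    rw [h1]
    simp

theorem ps_coeff_subst_X1 (χ : PowerSeries A) (d : Fin 2 →₀ ℕ) :
    MvPowerSeries.coeff d (subst (MvPowerSeries.X 1 : MvPowerSeries (Fin 2) A) χ) =
      if d 0 = 0 then coeff (d 1) χ else 0 := by
  rw [coeff_subst_single]
  by_cases h : d 0 = 0
  · rw [if_pos h, if_pos]
    ext t
    fin_cases t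
    · simpa using h
    · simp
  · rw [if_neg h, if_neg]
    intro h'
    apply h
    have h1 := DFunLike.congr_fun h' 0
    rw [h1]
    simp

theorem ps_coeff_mul (χ ψ : PowerSeries A) (m n : ℕ) :
    MvPowerSeries.coeff (mon m n)
      (subst (MvPowerSeries.X 0 : MvPowerSeries (Fin 2) A) χ *
        subst (MvPowerSeries.X 1 : MvPowerSeries (Fin 2) A) ψ) = coeff m χ * coeff n ψ := by
  classical
  rw [MvPowerSeries.coeff_mul, Finset.sum_eq_single (mon m 0, mon 0 n)]
  · rw [ps_coeff_subst_X0, ps_coeff_subst_X1, mon_one, mon_zero, mon_zero, mon_one, if_pos rfl,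
      if_pos rfl]
  · rintro ⟨u, v⟩ huv hne
    rw [Finset.HasAntidiagonal.mem_antidiagonal] at huv
    dsimp only at huv ⊢
    rw [ps_coeff_subst_X0, ps_coeff_subst_X1]
    by_cases h1 : u 1 = 0
    · by_cases h2 : v 0 = 0
      · exfalso
        apply hne
        have e0 : u 0 + v 0 = m := by
          have h3 := DFunLike.congr_fun huv 0
          rwa [mon_zero] at h3
        have e1 : u 1 + v 1 = n := by
          have h3 := DFunLike.congr_fun huv 1
          rwa [mon_one] at h3
        refine Prod.ext ?_ ?_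
        · ext t
          fin_cases t
          · show u 0 = mon m 0 0
            rw [mon_zero]; omega
          · show u 1 = mon m 0 1
            rw [mon_one]; exact h1
        · ext t
          fin_cases t
          · show v 0 = mon 0 n 0
            rw [mon_zero]; exact h2
          · show v 1 = mon 0 n 1
            rw [mon_one]; omega
      · rw [if_neg h2, mul_zero]
    · rw [if_neg h1, zero_mul]
  · intro h
    exfalso
    apply h
    rw [Finset.HasAntidiagonal.mem_antidiagonal]
    ext t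
    fin_cases t
    · show mon m 0 0 + mon 0 n 0 = mon m n 0
      rw [mon_zero, mon_zero, mon_zero, add_zero]
    · show mon m 0 1 + mon 0 n 1 = mon m n 1
      rw [mon_one, mon_one, mon_one, zero_add]

theorem ps_mul_iff (χ : PowerSeries A) :
    subst (MvPowerSeries.X 0 + MvPowerSeries.X 1 : MvPowerSeries (Fin 2) A) χ =
        subst (MvPowerSeries.X 0 : MvPowerSeries (Fin 2) A) χ *
          subst (MvPowerSeries.X 1 : MvPowerSeries (Fin 2) A) χ ↔
      ∀ m n, (((m + n).choose m : ℕ) : A) * coeff (m + n) χ = coeff m χ * coeff n χ := by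
  constructor
  · intro h m n
    have h1 := congrArg (MvPowerSeries.coeff (mon m n)) h
    rwa [ps_coeff_subst_add, ps_coeff_mul] at h1
  · intro h
    ext d
    rw [eq_mon d, ps_coeff_subst_add, ps_coeff_mul]
    exact h _ _

end PS

section CharP

variable {p : ℕ} [hp : Fact p.Prime] {A : Type*} [CommRing A] [CharP A p]

theorem formalChar_iff (χ : PowerSeries A) :
    (PowerSeries.constantCoeff χ = 1 ∧
      subst (MvPowerSeries.X 0 + MvPowerSeries.X 1 : MvPowerSeries (Fin 2) A) χ =
        subst (MvPowerSeries.X 0 : MvPowerSeries (Fin 2) A) χ *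
          subst (MvPowerSeries.X 1 : MvPowerSeries (Fin 2) A) χ) ↔
      ∃ a : ℕ → A, (∀ n, a n ^ p = 0) ∧ ∀ m : ℕ,
        PowerSeries.trunc (p ^ m) χ = ∏ n ∈ Finset.range m, Ef p (a n) (p ^ n) := by
  constructor
  · rintro ⟨h0, hmul⟩
    rw [ps_mul_iff] at hmul
    have h0' : (fun n => coeff n χ) 0 = 1 := by
      show coeff 0 χ = 1
      rw [coeff_zero_eq_constantCoeff_apply]; exact h0
    refine ⟨fun i => coeff (p ^ i) χ, fun i => ?_, fun m => ?_⟩
    · exact pow_p_eq_zero i (fun n => coeff n χ) h0' (fun m k _ _ => hmul m k)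
    · ext k
      rw [coeff_trunc]
      by_cases hk : k < p ^ m
      · rw [if_pos hk]
        exact coeff_eq_coeff_prod m (fun n => coeff n χ) h0' (fun m' k' _ => hmul m' k') k hk
      · rw [if_neg hk]
        push Not at hk
        rw [Polynomial.coeff_eq_zero_of_natDegree_lt
          (lt_of_lt_of_le (natDegree_prod_Ef_lt _ m) hk)]
  · rintro ⟨a, ha, htr⟩
    have hco : ∀ M k, k < p ^ M →
        coeff k χ = (∏ n ∈ Finset.range M, Ef p (a n) (p ^ n)).coeff k := by
      intro M k hk
      rw [← htr M, coeff_trunc, if_pos hk]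
    refine ⟨?_, ?_⟩
    · rw [← coeff_zero_eq_constantCoeff_apply, hco 0 0 (by simp)]
      simp
    · rw [ps_mul_iff]
      intro m n
      have hM : m + n < p ^ (m + n) := Nat.lt_pow_self hp.out.one_lt
      rw [hco (m + n) (m + n) hM, hco (m + n) m (by omega), hco (m + n) n (by omega)]
      exact (mul_iff _).mp (prod_Ef_mul a ha (m + n)) m n

end CharP

section Rat

variable {A : Type*} [CommRing A] [Algebra ℚ A]

theorem eq_of_fact_mul (x a : A) (r : ℕ) (h : ((r.factorial : ℕ) : A) * x = a ^ r) :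
    x = a ^ r * algebraMap ℚ A (1 / (r.factorial : ℚ)) := by
  have h1 : algebraMap ℚ A (1 / (r.factorial : ℚ)) * ((r.factorial : ℕ) : A) = 1 := by
    rw [← map_natCast (algebraMap ℚ A), ← map_mul, one_div,
      inv_mul_cancel₀ (Nat.cast_ne_zero.mpr (Nat.factorial_ne_zero r)), map_one]
  calc x = (algebraMap ℚ A (1 / (r.factorial : ℚ)) * ((r.factorial : ℕ) : A)) * x := by
        rw [h1, one_mul]
    _ = a ^ r * algebraMap ℚ A (1 / (r.factorial : ℚ)) := by
        rw [mul_assoc, h, mul_comm]

theorem exp_rel (a : A) (m n : ℕ) :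
    (((m + n).choose m : ℕ) : A) * (a ^ (m + n) * algebraMap ℚ A (1 / ((m + n).factorial : ℚ))) =
      (a ^ m * algebraMap ℚ A (1 / (m.factorial : ℚ))) *
        (a ^ n * algebraMap ℚ A (1 / (n.factorial : ℚ))) := by
  have h1 : (((m + n).choose m : ℕ) : ℚ) * (1 / ((m + n).factorial : ℚ)) =
      (1 / (m.factorial : ℚ)) * (1 / (n.factorial : ℚ)) := by
    have h2 := Nat.choose_mul_factorial_mul_factorial (Nat.le_add_right m n)
    rw [Nat.add_sub_cancel_left] at h2
    have h3 : ((m + n).factorial : ℚ) =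
        (((m + n).choose m : ℕ) : ℚ) * (m.factorial : ℚ) * (n.factorial : ℚ) := by
      rw [← h2]; push_cast; ring
    have hm : (m.factorial : ℚ) ≠ 0 := Nat.cast_ne_zero.mpr (Nat.factorial_ne_zero m)
    have hn : (n.factorial : ℚ) ≠ 0 := Nat.cast_ne_zero.mpr (Nat.factorial_ne_zero n)
    have hmn : ((m + n).factorial : ℚ) ≠ 0 := Nat.cast_ne_zero.mpr (Nat.factorial_ne_zero _)
    field_simp
    rw [h3]
  have h4 := congrArg (algebraMap ℚ A) h1
  rw [map_mul, map_mul, map_natCast] at h4
  rw [pow_add]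
  linear_combination (a ^ m * a ^ n) * h4

theorem formalChar_rat_iff (χ : PowerSeries A) :
    (PowerSeries.constantCoeff χ = 1 ∧
      subst (MvPowerSeries.X 0 + MvPowerSeries.X 1 : MvPowerSeries (Fin 2) A) χ =
        subst (MvPowerSeries.X 0 : MvPowerSeries (Fin 2) A) χ *
          subst (MvPowerSeries.X 1 : MvPowerSeries (Fin 2) A) χ) ↔
      ∃ a : A, χ = PowerSeries.rescale a (PowerSeries.exp A) := by
  constructor
  · rintro ⟨h0, hmul⟩
    rw [ps_mul_iff] at hmul
    have h0' : (fun n => coeff n χ) 0 = 1 := by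
      show coeff 0 χ = 1
      rw [coeff_zero_eq_constantCoeff_apply]; exact h0
    refine ⟨coeff 1 χ, ?_⟩
    ext r
    rw [coeff_rescale, coeff_exp]
    exact eq_of_fact_mul _ _ r
      (fact_mul_eq_pow (fun n => coeff n χ) h0' r (fun j _ => hmul 1 j))
  · rintro ⟨a, rfl⟩
    refine ⟨?_, ?_⟩
    · rw [← coeff_zero_eq_constantCoeff_apply, coeff_rescale, coeff_exp]
      simp
    · rw [ps_mul_iff]
      intro m n
      rw [coeff_rescale, coeff_rescale, coeff_rescale, coeff_exp, coeff_exp, coeff_exp]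
      exact exp_rel a m n

theorem polyChar_rat_iff (f : Polynomial A) :
    (f.eval 0 = 1 ∧
      Polynomial.aeval (MvPolynomial.X 0 + MvPolynomial.X 1 : MvPolynomial (Fin 2) A) f =
        Polynomial.aeval (MvPolynomial.X 0 : MvPolynomial (Fin 2) A) f *
          Polynomial.aeval (MvPolynomial.X 1 : MvPolynomial (Fin 2) A) f) ↔
      ∃ a : A, IsNilpotent a ∧ (f : PowerSeries A) = PowerSeries.rescale a (PowerSeries.exp A) := by
  constructor
  · rintro ⟨h0, hmul⟩
    rw [mul_iff] at hmul
    have h0' : f.coeff 0 = 1 := by rw [Polynomial.coeff_zero_eq_eval_zero]; exact h0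
    have hfact : ∀ r, ((r.factorial : ℕ) : A) * f.coeff r = f.coeff 1 ^ r := fun r =>
      fact_mul_eq_pow f.coeff h0' r (fun j _ => hmul 1 j)
    refine ⟨f.coeff 1, ⟨f.natDegree + 1, ?_⟩, ?_⟩
    · rw [← hfact, Polynomial.coeff_eq_zero_of_natDegree_lt (Nat.lt_succ_self _), mul_zero]
    · ext r
      rw [Polynomial.coeff_coe, coeff_rescale, coeff_exp]
      exact eq_of_fact_mul _ _ r (hfact r)
  · rintro ⟨a, -, hf⟩
    have hco : ∀ r, f.coeff r = a ^ r * algebraMap ℚ A (1 / (r.factorial : ℚ)) := by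
      intro r
      rw [← Polynomial.coeff_coe, hf, coeff_rescale, coeff_exp]
    refine ⟨?_, ?_⟩
    · rw [← Polynomial.coeff_zero_eq_eval_zero, hco]
      simp
    · rw [mul_iff]
      intro m n
      rw [hco, hco, hco]
      exact exp_rel a m n

end Rat

end Groth.Agent.Helper25.GaDual
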