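import Mathlib

namespace Groth.Agent.Helper25.GalCohH90

variable {K L : Type*} [Field K] [Field L] [Algebra K L]

/-- restriction of an automorphism to an intermediate field, as an embedding -/
noncomputable def res (E : IntermediateField K L) (σ : L ≃ₐ[K] L) : E →ₐ[K] L :=
  (σ : L →ₐ[K] L).comp E.val

theorem res_apply (E : IntermediateField K L) (σ : L ≃ₐ[K] L) (x : E) :
    res E σ x = σ (x : L) := rfl

theorem res_mul (E : IntermediateField K L) (σ τ : L ≃ₐ[K] L) :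
    res E (σ * τ) = (σ : L →ₐ[K] L).comp (res E τ) := by
  ext x; rfl

theorem exists_ext [Normal K L] (E : IntermediateField K L) (φ : E →ₐ[K] L) :
    ∃ σ : L ≃ₐ[K] L, res E σ = φ := by
  obtain ⟨φ', hφ'⟩ := IntermediateField.exists_algHom_of_splits
    (normal_iff.mp (inferInstance : Normal K L)) φ
  refine ⟨AlgEquiv.ofBijective φ' (Algebra.IsAlgebraic.algHom_bijective φ'), ?_⟩
  ext x
  exact DFunLike.congr_fun hφ' x

theorem exists_field_const {X : Type*} (a : (L ≃ₐ[K] L) → X) (hlc : IsLocallyConstant a) :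
    ∃ E : IntermediateField K L, FiniteDimensional K E ∧ ∀ h ∈ E.fixingSubgroup, a h = a 1 := by
  have hopen : IsOpen {σ | a σ = a 1} := hlc.isOpen_fiber (a 1)
  have hmem : {σ | a σ = a 1} ∈ nhds (1 : L ≃ₐ[K] L) := hopen.mem_nhds rfl
  rw [krullTopology_mem_nhds_one_iff] at hmem
  obtain ⟨E, hfin, hE⟩ := hmem
  exact ⟨E, hfin, fun h hh => hE hh⟩

theorem inv_mul_mem_fixing (E : IntermediateField K L) (σ τ : L ≃ₐ[K] L)
    (h : res E σ = res E τ) : σ⁻¹ * τ ∈ E.fixingSubgroup := by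
  rw [IntermediateField.mem_fixingSubgroup_iff]
  intro x hx
  have h1 : σ x = τ x := DFunLike.congr_fun h ⟨x, hx⟩
  rw [AlgEquiv.mul_apply, ← h1, AlgEquiv.aut_inv, AlgEquiv.symm_apply_apply]

/-- the bijection `φ ↦ τ ∘ φ` on embeddings -/
noncomputable def compEquiv (E : IntermediateField K L) (τ : L ≃ₐ[K] L) :
    (E →ₐ[K] L) ≃ (E →ₐ[K] L) where
  toFun φ := (τ : L →ₐ[K] L).comp φ
  invFun φ := (τ.symm : L →ₐ[K] L).comp φ
  left_inv φ := by ext x; simp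
  right_inv φ := by ext x; simp

theorem compEquiv_apply (E : IntermediateField K L) (τ : L ≃ₐ[K] L) (φ : E →ₐ[K] L) (x : E) :
    compEquiv E τ φ x = τ (φ x) := rfl

/-- Dedekind independence: a combination of embeddings with a nonzero coefficient is nonzero
somewhere. -/
theorem exists_sum_ne_zero (E : IntermediateField K L) [FiniteDimensional K E]
    (A : (E →ₐ[K] L) → L) (φ₀ : E →ₐ[K] L) (h0 : A φ₀ ≠ 0) :
    ∃ x : E, ∑ φ : E →ₐ[K] L, A φ * φ x ≠ 0 := by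
  by_contra hcon
  push Not at hcon
  have hli := linearIndependent_toLinearMap K E L
  rw [Fintype.linearIndependent_iff] at hli
  have hz : ∑ φ : E →ₐ[K] L, A φ • (φ.toLinearMap : E →ₗ[K] L) = 0 := by
    ext x
    rw [LinearMap.sum_apply]
    simp only [LinearMap.smul_apply, AlgHom.toLinearMap_apply, smul_eq_mul, LinearMap.zero_apply]
    exact hcon x
  exact h0 (hli A hz φ₀)

theorem hilbert90_mul [IsGalois K L] (a : (L ≃ₐ[K] L) → Lˣ)
    (ha : ∀ σ τ : L ≃ₐ[K] L, a (σ * τ) = a σ * σ • a τ) (hlc : IsLocallyConstant a) :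
    ∃ c : Lˣ, ∀ σ : L ≃ₐ[K] L, a σ = c⁻¹ * σ • c := by
  have ha1 : a 1 = 1 := by
    have h := ha 1 1
    rw [mul_one, one_smul] at h
    have h2 : a 1 * a 1 = a 1 * 1 := by rw [mul_one]; exact h.symm
    exact mul_left_cancel h2
  obtain ⟨E, hfin, hE⟩ := exists_field_const a hlc
  have hB : ∀ σ τ : L ≃ₐ[K] L, res E σ = res E τ → a σ = a τ := by
    intro σ τ hστ
    have hmem := inv_mul_mem_fixing E σ τ hστ
    have h1 : τ = σ * (σ⁻¹ * τ) := by group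
    have h2 := ha σ (σ⁻¹ * τ)
    rw [← h1, hE _ hmem, ha1, smul_one, mul_one] at h2
    exact h2.symm
  choose ext hext using (exists_ext (K := K) (L := L) E)
  obtain ⟨A, hAdef⟩ : ∃ A : (E →ₐ[K] L) → L, A = fun φ => ((a (ext φ) : Lˣ) : L) := ⟨_, rfl⟩
  have hA : ∀ σ : L ≃ₐ[K] L, A (res E σ) = ((a σ : Lˣ) : L) := by
    intro σ
    rw [hAdef]
    show ((a (ext (res E σ)) : Lˣ) : L) = _
    rw [hB _ _ (hext (res E σ))]
  have hkey : ∀ (τ : L ≃ₐ[K] L) (φ : E →ₐ[K] L),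
      ((a τ : Lˣ) : L) * τ (A φ) = A (compEquiv E τ φ) := by
    intro τ φ
    have h1 : compEquiv E τ φ = res E (τ * ext φ) := by
      rw [res_mul, hext φ]; rfl
    rw [h1, hA, ha τ (ext φ), hAdef]
    rfl
  have hne : A E.val ≠ 0 := by
    rw [hAdef]; exact Units.ne_zero _
  obtain ⟨x, hx⟩ := exists_sum_ne_zero E A E.val hne
  obtain ⟨c, hcdef⟩ : ∃ c : L, c = ∑ φ : E →ₐ[K] L, A φ * φ x := ⟨_, rfl⟩
  have hc : c ≠ 0 := by rw [hcdef]; exact hx
  have hτc : ∀ τ : L ≃ₐ[K] L, ((a τ : Lˣ) : L) * τ c = c := by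
    intro τ
    rw [hcdef, map_sum, Finset.mul_sum]
    apply Fintype.sum_equiv (compEquiv E τ)
    intro φ
    rw [map_mul, ← mul_assoc, hkey τ φ, compEquiv_apply]
  refine ⟨(Units.mk0 c hc)⁻¹, fun σ => ?_⟩
  rw [inv_inv, smul_inv', eq_mul_inv_iff_mul_eq]
  apply Units.ext
  rw [Units.val_mul]
  exact hτc σ

theorem hilbert90_add [IsGalois K L] (a : (L ≃ₐ[K] L) → L)
    (ha : ∀ σ τ : L ≃ₐ[K] L, a (σ * τ) = a σ + σ (a τ)) (hlc : IsLocallyConstant a) :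
    ∃ y : L, ∀ σ : L ≃ₐ[K] L, a σ = σ y - y := by
  have ha1 : a 1 = 0 := by
    have h := ha 1 1
    rw [mul_one, AlgEquiv.one_apply] at h
    have h2 : a 1 + a 1 = a 1 + 0 := by rw [add_zero]; exact h.symm
    exact add_left_cancel h2
  obtain ⟨E, hfin, hE⟩ := exists_field_const a hlc
  have hB : ∀ σ τ : L ≃ₐ[K] L, res E σ = res E τ → a σ = a τ := by
    intro σ τ hστ
    have hmem := inv_mul_mem_fixing E σ τ hστ
    have h1 : τ = σ * (σ⁻¹ * τ) := by group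
    have h2 := ha σ (σ⁻¹ * τ)
    rw [← h1, hE _ hmem, ha1, map_zero, add_zero] at h2
    exact h2.symm
  choose ext hext using (exists_ext (K := K) (L := L) E)
  obtain ⟨A, hAdef⟩ : ∃ A : (E →ₐ[K] L) → L, A = fun φ => a (ext φ) := ⟨_, rfl⟩
  have hA : ∀ σ : L ≃ₐ[K] L, A (res E σ) = a σ := by
    intro σ
    rw [hAdef]
    show a (ext (res E σ)) = _
    rw [hB _ _ (hext (res E σ))]
  have hkey : ∀ (τ : L ≃ₐ[K] L) (φ : E →ₐ[K] L),
      a τ + τ (A φ) = A (compEquiv E τ φ) := by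
    intro τ φ
    have h1 : compEquiv E τ φ = res E (τ * ext φ) := by
      rw [res_mul, hext φ]; rfl
    rw [h1, hA, ha τ (ext φ), hAdef]
  obtain ⟨θ, hθ⟩ := exists_sum_ne_zero E (fun _ => (1 : L)) E.val one_ne_zero
  simp only [one_mul] at hθ
  obtain ⟨t, htdef⟩ : ∃ t : L, t = ∑ φ : E →ₐ[K] L, φ θ := ⟨_, rfl⟩
  have ht : t ≠ 0 := by rw [htdef]; exact hθ
  obtain ⟨b, hbdef⟩ : ∃ b : L, b = ∑ φ : E →ₐ[K] L, A φ * φ θ := ⟨_, rfl⟩
  have hτt : ∀ τ : L ≃ₐ[K] L, τ t = t := by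
    intro τ
    rw [htdef, map_sum]
    apply Fintype.sum_equiv (compEquiv E τ)
    intro φ
    rw [compEquiv_apply]
  have hτb : ∀ τ : L ≃ₐ[K] L, τ b + a τ * t = b := by
    intro τ
    have hts : ∑ φ : E →ₐ[K] L, a τ * φ θ = ∑ φ : E →ₐ[K] L, a τ * τ (φ θ) := by
      symm
      apply Fintype.sum_equiv (compEquiv E τ)
      intro φ
      rw [compEquiv_apply]
    rw [hbdef, htdef, map_sum, Finset.mul_sum, hts, ← Finset.sum_add_distrib]
    apply Fintype.sum_equiv (compEquiv E τ)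
    intro φ
    rw [map_mul, ← hkey τ φ, compEquiv_apply]
    ring
  refine ⟨-b / t, fun σ => ?_⟩
  rw [map_div₀, map_neg, hτt σ]
  have h := hτb σ
  field_simp
  linear_combination h

theorem kummer [IsGalois K L] (n : ℕ)
    (a : (L ≃ₐ[K] L) → Lˣ)
    (ha : ∀ σ τ : L ≃ₐ[K] L, a (σ * τ) = a σ * σ • a τ) (hroot : ∀ σ : L ≃ₐ[K] L, a σ ^ n = 1)
    (hlc : IsLocallyConstant a) :
    ∃ α : Lˣ, ((α ^ n : Lˣ) : L) ∈ Set.range (algebraMap K L) ∧
      ∀ σ : L ≃ₐ[K] L, a σ = α⁻¹ * σ • α := by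
  obtain ⟨c, hc⟩ := hilbert90_mul a ha hlc
  refine ⟨c, ?_, hc⟩
  rw [InfiniteGalois.mem_range_algebraMap_iff_fixed]
  intro σ
  have h := hroot σ
  rw [hc σ, mul_pow, inv_pow, inv_mul_eq_one] at h
  have h2 : ((σ • c) ^ n : Lˣ) = σ • (c ^ n) := (smul_pow' σ c n).symm
  rw [h2] at h
  have h3 := congrArg (fun u : Lˣ => (u : L)) h
  exact h3.symm

theorem artin_schreier (p : ℕ) [Fact p.Prime] [CharP K p] [IsGalois K L]
    (χ : (L ≃ₐ[K] L) → ZMod p) (hχ : ∀ σ τ : L ≃ₐ[K] L, χ (σ * τ) = χ σ + χ τ)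
    (hlc : IsLocallyConstant χ) :
    ∃ x : L, x ^ p - x ∈ Set.range (algebraMap K L) ∧
      ∀ σ : L ≃ₐ[K] L, σ x - x = ((χ σ).val : L) := by
  have : CharP L p := charP_of_injective_algebraMap (algebraMap K L).injective p
  obtain ⟨ι, hιdef⟩ : ∃ ι : ZMod p →+* L, ι = ZMod.castHom (dvd_refl p) L := ⟨_, rfl⟩
  have hι : ∀ z : ZMod p, ((z.val : ℕ) : L) = ι z := by
    intro z; rw [hιdef, ZMod.natCast_val]; rfl
  have hfix : ∀ (σ : L ≃ₐ[K] L) (z : ZMod p), σ (ι z) = ι z := by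
    intro σ z; rw [← hι z, map_natCast]
  obtain ⟨y, hy⟩ := hilbert90_add (fun σ => ι (χ σ))
    (by intro σ τ; show ι (χ (σ * τ)) = ι (χ σ) + σ (ι (χ τ)); rw [hχ, map_add, hfix])
    (hlc.comp _)
  have hy' : ∀ σ : L ≃ₐ[K] L, σ y = y + ι (χ σ) := by
    intro σ
    have h : ι (χ σ) = σ y - y := hy σ
    rw [h]; ring
  refine ⟨y, ?_, fun σ => ?_⟩
  · rw [InfiniteGalois.mem_range_algebraMap_iff_fixed]
    intro σ
    rw [map_sub, map_pow, hy' σ, add_pow_char, ← map_pow, ZMod.pow_card]; ring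
  · rw [hι, hy' σ]; ring

end Groth.Agent.Helper25.GalCohH90
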