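import Mathlib

namespace Groth.Agent.Helper25.GaussJacobi

open Finset

variable {F : Type*} [Field F] [Fintype F] [DecidableEq F] {R : Type*} [CommRing R] [IsDomain R]

lemma sum_eq_sum_units (f : F → R) (h0 : f 0 = 0) : ∑ a : F, f a = ∑ x : Fˣ, f (x : F) := by
  classical
  have := Finset.sum_filter_of_ne (s := (univ : Finset F)) (f := f) (p := fun a => a ≠ 0)
    (fun a _ ha h => ha (h ▸ h0))
  rw [← this]
  refine (Finset.sum_bij (fun (x : Fˣ) _ => (x : F)) ?_ ?_ ?_ ?_).symm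
  · intro x _
    simp
  · intro x _ y _ h
    exact Units.ext h
  · intro a ha
    simp only [Finset.mem_filter, Finset.mem_univ, true_and] at ha
    exact ⟨Units.mk0 a ha, mem_univ _, rfl⟩
  · intro x _
    rfl

lemma prod_apply_unit {ι : Type*} (s : Finset ι) (φ : ι → MulChar F R) (c : Fˣ) :
    (∏ i ∈ s, φ i) (c : F) = ∏ i ∈ s, φ i (c : F) := by
  classical
  induction s using Finset.induction_on with
  | empty => simp [MulChar.one_apply_coe]
  | insert a s ha ih =>
    rw [Finset.prod_insert ha, Finset.prod_insert ha, MulChar.mul_apply, ih]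

lemma addChar_sum {ι : Type*} (Ψ : AddChar F R) (s : Finset ι) (f : ι → F) :
    Ψ (∑ i ∈ s, f i) = ∏ i ∈ s, Ψ (f i) := by
  classical
  induction s using Finset.induction_on with
  | empty => simp
  | insert a s ha ih =>
    rw [Finset.sum_insert ha, Finset.prod_insert ha, AddChar.map_add_eq_mul, ih]

noncomputable def V {N : ℕ} (φ : Fin N → MulChar F R) (w : F) : R :=
  ∑ x ∈ (univ : Finset (Fin N → Fˣ)).filter (fun x => ∑ i, ((x i : Fˣ) : F) = w),
    ∏ i, φ i ((x i : Fˣ) : F)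

lemma sum_V {N : ℕ} (φ : Fin N → MulChar F R) :
    ∑ w : F, V φ w = ∏ i, ∑ x : Fˣ, φ i (x : F) := by
  unfold V
  rw [Finset.sum_fiberwise, Finset.prod_univ_sum, Fintype.piFinset_univ]

lemma prod_gauss {N : ℕ} (φ : Fin N → MulChar F R) (Ψ : AddChar F R) :
    ∏ i, gaussSum (φ i) Ψ = ∑ w : F, Ψ w * V φ w := by
  have h1 : ∀ i, gaussSum (φ i) Ψ = ∑ x : Fˣ, φ i (x : F) * Ψ (x : F) := by
    intro i
    unfold gaussSum
    exact sum_eq_sum_units (fun a => φ i a * Ψ a)
      (by show φ i 0 * Ψ 0 = 0; rw [MulChar.map_zero, zero_mul])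
  simp_rw [h1]
  rw [Finset.prod_univ_sum, Fintype.piFinset_univ]
  rw [← Finset.sum_fiberwise (univ : Finset (Fin N → Fˣ)) (fun x => ∑ i, ((x i : Fˣ) : F))]
  apply Finset.sum_congr rfl
  intro w _
  unfold V
  rw [Finset.mul_sum]
  apply Finset.sum_congr rfl
  intro x hx
  rw [Finset.mem_filter] at hx
  rw [Finset.prod_mul_distrib, ← hx.2, addChar_sum, mul_comm]

lemma V_smul {N : ℕ} (φ : Fin N → MulChar F R) (c : Fˣ) (w : F) :
    V φ ((c : F) * w) = (∏ i, φ i) (c : F) * V φ w := by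
  unfold V
  rw [Finset.mul_sum]
  symm
  apply Finset.sum_equiv (Equiv.mulLeft (fun _ : Fin N => c))
  · intro x
    simp only [Finset.mem_filter, Finset.mem_univ, true_and, Equiv.coe_mulLeft, Pi.mul_apply,
      Units.val_mul]
    rw [← Finset.mul_sum]
    constructor
    · intro h
      rw [h]
    · intro h
      exact mul_left_cancel₀ c.ne_zero h
  · intro x _
    simp only [Equiv.coe_mulLeft, Pi.mul_apply, Units.val_mul, map_mul]
    rw [Finset.prod_mul_distrib, prod_apply_unit]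

theorem main (N : ℕ) (hN : 1 ≤ N) (χ : Fin (N + 1) → MulChar F R) (hprod : ∏ i, χ i = 1)
    (hnt : ∃ i, χ i ≠ 1) (Ψ : AddChar F R) (hΨ : Ψ ≠ 1) :
    (Fintype.card F : R) * ((-1) ^ (N - 1) *
        ∑ x ∈ (Finset.univ : Finset (Fin N → Fˣ)).filter (fun x => ∑ i, ((x i : Fˣ) : F) = -1),
          ∏ i : Fin N, (χ i.succ)⁻¹ ((x i : Fˣ) : F)) =
      ∏ i : Fin (N + 1), (-(∑ y : F, Ψ y * (χ i)⁻¹ y)) := by
  obtain ⟨M, rfl⟩ : ∃ M, N = M + 1 := ⟨N - 1, by omega⟩
  set φ : Fin (M + 1) → MulChar F R := fun i => (χ i.succ)⁻¹ with hφ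
  have hP : ∏ i, φ i = χ 0 := by
    rw [Fin.prod_univ_succ] at hprod
    rw [hφ, Finset.prod_inv_distrib]
    exact inv_eq_of_mul_eq_one_left hprod
  have hJ : (∑ x ∈ (Finset.univ : Finset (Fin (M + 1) → Fˣ)).filter
      (fun x => ∑ i, ((x i : Fˣ) : F) = -1),
      ∏ i : Fin (M + 1), (χ i.succ)⁻¹ ((x i : Fˣ) : F)) = V φ (-1) := rfl
  rw [hJ]
  have hG : ∀ i : Fin (M + 1 + 1), (∑ y : F, Ψ y * (χ i)⁻¹ y) = gaussSum (χ i)⁻¹ Ψ := by
    intro i
    unfold gaussSum
    apply Finset.sum_congr rfl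
    intro y _
    rw [mul_comm]
  simp_rw [hG]
  rw [Fin.prod_univ_succ]
  have hneg : ∀ i : Fin (M + 1), -(gaussSum (χ i.succ)⁻¹ Ψ) = (-1) * gaussSum (φ i) Ψ :=
    fun i => by rw [neg_one_mul]
  rw [Finset.prod_congr rfl (fun i _ => hneg i), Finset.prod_mul_distrib, Finset.prod_const,
    Finset.card_univ, Fintype.card_fin, prod_gauss φ Ψ]
  have hprim : Ψ.IsPrimitive := AddChar.IsPrimitive.of_ne_one hΨ
  have hVunit : ∀ w : F, w ≠ 0 → V φ w = χ 0 w * V φ 1 := by
    intro w hw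
    have := V_smul φ (Units.mk0 w hw) 1
    rw [Units.val_mk0, mul_one, hP] at this
    exact this
  have hneg1 : (-1 : F) ≠ 0 := neg_ne_zero.mpr one_ne_zero
  simp only [Nat.add_sub_cancel]
  by_cases h0 : χ 0 = 1
  · -- trivial χ 0
    have hVw : ∀ w, V φ w = V φ 1 + (if w = 0 then V φ 0 - V φ 1 else 0) := by
      intro w
      by_cases hw : w = 0
      · rw [if_pos hw, hw]; ring
      · rw [if_neg hw, add_zero, hVunit w hw, h0, MulChar.one_apply (Ne.isUnit hw), one_mul]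
    obtain ⟨i, hi⟩ := hnt
    obtain ⟨j, rfl⟩ : ∃ j : Fin (M + 1), i = j.succ := by
      have hi0 : i ≠ 0 := by
        intro hi0
        rw [hi0] at hi
        exact hi h0
      obtain ⟨j, hj⟩ := Fin.exists_succ_eq.mpr hi0
      exact ⟨j, hj.symm⟩
    have hφj : φ j ≠ 1 := inv_ne_one.mpr hi
    have hsumV : ∑ w : F, V φ w = 0 := by
      rw [sum_V]
      apply Finset.prod_eq_zero (Finset.mem_univ j)
      rw [← sum_eq_sum_units (fun a => φ j a) (by show φ j 0 = 0; exact MulChar.map_zero _)]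
      exact MulChar.sum_eq_zero_of_ne_one hφj
    have ha : ∑ w : F, Ψ w * V φ w = V φ 0 - V φ 1 := by
      rw [Finset.sum_congr rfl (fun w _ => by rw [hVw w])]
      simp only [mul_add, Finset.sum_add_distrib, ← Finset.sum_mul, mul_ite, mul_zero,
        Finset.sum_ite_eq', Finset.mem_univ, if_true, AddChar.map_zero_eq_one, one_mul]
      rw [AddChar.sum_eq_zero_of_ne_one hΨ, zero_mul, zero_add]
    have hb : (Fintype.card F : R) * V φ 1 + (V φ 0 - V φ 1) = 0 := by
      rw [← hsumV, Finset.sum_congr rfl (fun w _ => hVw w)]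
      simp only [Finset.sum_add_distrib, Finset.sum_const, Finset.card_univ, nsmul_eq_mul,
        Finset.sum_ite_eq', Finset.mem_univ, if_true]
    have hg0 : gaussSum (χ 0)⁻¹ Ψ = -1 := by
      rw [h0, inv_one]
      exact gaussSum_one_left hΨ
    have hJ' : V φ (-1) = V φ 1 := by
      rw [hVunit (-1) hneg1, h0, MulChar.one_apply (Ne.isUnit hneg1), one_mul]
    rw [hg0, ha, hJ', pow_succ]
    linear_combination ((-1) ^ M) * hb
  · -- nontrivial χ 0
    have hV0 : V φ 0 = 0 := by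
      obtain ⟨c, hc⟩ := MulChar.ne_one_iff.mp h0
      have := V_smul φ c 0
      rw [mul_zero, hP] at this
      have h2 : (1 - χ 0 c) * V φ 0 = 0 := by linear_combination this
      rcases mul_eq_zero.mp h2 with h3 | h3
      · exact absurd (sub_eq_zero.mp h3).symm hc
      · exact h3
    have hsum : ∑ w : F, Ψ w * V φ w = gaussSum (χ 0) Ψ * V φ 1 := by
      unfold gaussSum
      rw [Finset.sum_mul]
      apply Finset.sum_congr rfl
      intro w _
      by_cases hw : w = 0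
      · rw [hw, hV0, MulChar.map_zero, mul_zero, zero_mul, zero_mul]
      · rw [hVunit w hw]; ring
    have hJ' : V φ (-1) = χ 0 (-1) * V φ 1 := hVunit (-1) hneg1
    have e1 := gaussSum_mul_gaussSum_eq_card h0 hprim
    have e2 := mul_gaussSum_inv_eq_gaussSum (χ 0)⁻¹ Ψ
    have e3 : (χ 0)⁻¹ (-1) = χ 0 (-1) := by
      rw [MulChar.inv_apply', inv_neg_one]
    rw [e3] at e2
    rw [hsum, hJ', pow_succ, ← e2]
    linear_combination (-((-1) ^ M * V φ 1 * χ 0 (-1))) * e1

end Groth.Agent.Helper25.GaussJacobi
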