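import Mathlib

namespace Groth.Agent.Helper25.GenTuples

open MvPolynomial

universe u

variable {k : Type u} [Field k]

/-- polynomial functions -/
def PF (V : Type u) [AddCommGroup V] [Module k V] : Subalgebra k (V → k) :=
  Algebra.adjoin k (Set.range (fun l : Module.Dual k V => (l : V → k)))

theorem finrank_homogeneousSubmodule (N d : ℕ) :
    Module.finrank k (homogeneousSubmodule (Fin N) k d) = Nat.choose (N + d - 1) d := by
  classical
  rw [homogeneousSubmodule_eq_finsupp_supported]
  have hS : {e : Fin N →₀ ℕ | e.degree = d} =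
      ↑((Finset.univ : Finset (Fin N)).finsuppAntidiag d) := by
    ext e
    simp [Finset.mem_finsuppAntidiag, Finsupp.degree_eq_sum]
  rw [hS, (AddMonoidAlgebra.supportedEquivFinsupp _).finrank_eq, Module.finrank_finsupp_self,
    ← Nat.card_eq_fintype_card, Nat.card_coe_set_eq, Set.ncard_coe_finset,
    Finset.card_finsuppAntidiag_nat_eq_choose]
  simp only [Finset.card_univ, Fintype.card_fin]

section

variable {m n : ℕ}

theorem pf_aeval (i : Fin m) (p : MvPolynomial (Fin n) k) :
    (fun y : Fin m → (Fin n → k) => aeval (y i) p) ∈ PF (k := k) (Fin m → (Fin n → k)) := by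
  induction p using MvPolynomial.induction_on with
  | C c =>
    have h : (fun y : Fin m → (Fin n → k) => aeval (y i) (C c : MvPolynomial (Fin n) k)) =
        algebraMap k _ c := by
      funext y; simp
    rw [h]; exact Subalgebra.algebraMap_mem _ _
  | add p q hp hq =>
    have h : (fun y : Fin m → (Fin n → k) => aeval (y i) (p + q)) =
        (fun y => aeval (y i) p) + (fun y => aeval (y i) q) := by
      funext y; simp
    rw [h]; exact Subalgebra.add_mem _ hp hq
  | mul_X p j hp =>
    have h : (fun y : Fin m → (Fin n → k) => aeval (y i) (p * X j)) =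
        (fun y => aeval (y i) p) * (fun y => y i j) := by
      funext y; simp
    rw [h]
    refine Subalgebra.mul_mem _ hp (Algebra.subset_adjoin
      ⟨(LinearMap.proj j) ∘ₗ (LinearMap.proj i), ?_⟩)
    funext y; rfl

theorem pf_det {V : Type u} [AddCommGroup V] [Module k V] {N : ℕ}
    (A : V → Matrix (Fin N) (Fin N) k)
    (hA : ∀ a j, (fun y => A y a j) ∈ PF (k := k) V) :
    (fun y => (A y).det) ∈ PF (k := k) V := by
  have h : (fun y => (A y).det) = ∑ σ : Equiv.Perm (Fin N),
      algebraMap k (V → k) (((Equiv.Perm.sign σ : ℤ) : k)) * ∏ i, (fun y => A y (σ i) i) := by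
    funext y
    rw [Matrix.det_apply']
    simp [Finset.sum_apply, Finset.prod_apply]
  rw [h]
  exact Subalgebra.sum_mem _ (fun σ _ => Subalgebra.mul_mem _ (Subalgebra.algebraMap_mem _ _)
    (Subalgebra.prod_mem _ (fun i _ => hA (σ i) i)))

theorem isZOpen (W : Submodule k (MvPolynomial (Fin n) k)) [FiniteDimensional k W] (m : ℕ) :
    ∀ x ∈ {x : Fin m → (Fin n → k) | ∀ G : W, (∀ i, aeval (x i) G.1 = 0) → G = 0},
      ∃ f : (Fin m → (Fin n → k)) → k, f ∈ PF (k := k) (Fin m → (Fin n → k)) ∧ f x ≠ 0 ∧
        ∀ y, f y ≠ 0 →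
          y ∈ {x : Fin m → (Fin n → k) | ∀ G : W, (∀ i, aeval (x i) G.1 = 0) → G = 0} := by
  intro x hx
  let b : Module.Basis (Fin (Module.finrank k W)) k W := Module.finBasis k W
  let M : Matrix (Fin m) (Fin (Module.finrank k W)) k :=
    Matrix.of (fun i j => aeval (x i) (b j).1)
  have hval : ∀ (y : Fin n → k) (c : Fin (Module.finrank k W) → k),
      aeval y (∑ j, c j • b j : W).1 = ∑ j, aeval y (b j).1 * c j := by
    intro y c
    rw [Submodule.coe_sum, map_sum]
    apply Finset.sum_congr rfl
    intro j _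
    rw [Submodule.coe_smul, map_smul, smul_eq_mul, mul_comm]
  have hMinj : Function.Injective M.mulVecLin := by
    rw [← LinearMap.ker_eq_bot, LinearMap.ker_eq_bot']
    intro c hc
    have hG := hx (∑ j, c j • b j) (fun i => by
      have h1 := congrFun hc i
      rw [hval]
      exact h1)
    have hli := b.linearIndependent
    rw [Fintype.linearIndependent_iff] at hli
    funext j; exact hli c hG j
  have hrank : M.rank = Module.finrank k W := by
    rw [Matrix.rank, LinearMap.finrank_range_of_inj hMinj, Module.finrank_fin_fun]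
  have hrow : Submodule.span k (Set.range M.row) = ⊤ := by
    apply Submodule.eq_top_of_finrank_eq
    rw [← Matrix.rank_eq_finrank_span_row, hrank, Module.finrank_fin_fun]
  obtain ⟨κ, a, ha, hsp, hli⟩ := exists_linearIndependent' k M.row
  haveI : Fintype κ := Fintype.ofInjective a ha
  have hcard : Fintype.card κ = Module.finrank k W := by
    have B : Module.Basis κ k (Fin (Module.finrank k W) → k) :=
      Module.Basis.mk hli (by rw [hsp, hrow])
    rw [← Module.finrank_eq_card_basis B, Module.finrank_fin_fun]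
  let e : Fin (Module.finrank k W) ≃ κ := (Fintype.equivFinOfCardEq hcard).symm
  let A : (Fin m → (Fin n → k)) → Matrix (Fin (Module.finrank k W)) (Fin (Module.finrank k W)) k :=
    fun y => Matrix.of (fun c j => aeval (y (a (e c))) (b j).1)
  have hAx : (A x).det ≠ 0 := by
    have h1 : LinearIndependent k (A x).row := hli.comp e e.injective
    exact ((Matrix.isUnit_iff_isUnit_det _).1 (Matrix.linearIndependent_rows_iff_isUnit.1 h1)).ne_zero
  refine ⟨fun y => (A y).det, pf_det A (fun c j => pf_aeval (a (e c)) (b j).1), hAx, ?_⟩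
  intro y hy G hG
  have hmv : (A y).mulVec (fun j => b.repr G j) = 0 := by
    funext c
    have h1 := hval (y (a (e c))) (fun j => b.repr G j)
    rw [b.sum_repr G, hG] at h1
    exact h1.symm
  have hc0 := Matrix.eq_zero_of_mulVec_eq_zero hy hmv
  have h2 : b.repr G = 0 := by
    ext j; exact congrFun hc0 j
  exact (LinearEquiv.map_eq_zero_iff b.repr).1 h2

theorem exists_points [Infinite k] : ∀ (t : ℕ) (W : Submodule k (MvPolynomial (Fin n) k))
    [FiniteDimensional k W], Module.finrank k W = t →
    ∃ x : Fin t → (Fin n → k), ∀ G ∈ W, (∀ i, aeval (x i) G = 0) → G = 0 := by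
  intro t
  induction t with
  | zero =>
    intro W _ hW
    rw [Submodule.finrank_eq_zero] at hW
    refine ⟨Fin.elim0, fun G hG _ => ?_⟩
    rw [hW] at hG
    exact (Submodule.mem_bot k).1 hG
  | succ t ih =>
    intro W _ hW
    have hne : W ≠ ⊥ := by
      intro h; rw [h, finrank_bot] at hW; omega
    obtain ⟨G₀, hG₀W, hG₀⟩ := Submodule.exists_mem_ne_zero_of_ne_bot hne
    have hex : ∃ x₀ : Fin n → k, aeval x₀ G₀ ≠ 0 := by
      by_contra hno
      push_neg at hno
      apply hG₀
      apply MvPolynomial.funext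
      intro x
      rw [← MvPolynomial.aeval_eq_eval, hno x, map_zero]
    obtain ⟨x₀, hx₀⟩ := hex
    let φ : Module.Dual k W := ((aeval x₀ : MvPolynomial (Fin n) k →ₐ[k] k).toLinearMap).domRestrict W
    have hφ : φ ≠ 0 := by
      intro h
      apply hx₀
      have := LinearMap.congr_fun h ⟨G₀, hG₀W⟩
      exact this
    have hker : Module.finrank k (LinearMap.ker φ) + 1 = Module.finrank k W :=
      Module.Dual.finrank_ker_add_one_of_ne_zero hφ
    let E := W.equivSubtypeMap (LinearMap.ker φ)
    haveI : FiniteDimensional k ((LinearMap.ker φ).map W.subtype) := Module.Finite.equiv E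
    have hW' : Module.finrank k ((LinearMap.ker φ).map W.subtype) = t := by
      rw [← LinearEquiv.finrank_eq E]; omega
    obtain ⟨x', hx'⟩ := ih ((LinearMap.ker φ).map W.subtype) hW'
    refine ⟨Fin.cons x₀ x', fun G hG hvan => ?_⟩
    apply hx' G
    · refine ⟨⟨G, hG⟩, ?_, rfl⟩
      rw [SetLike.mem_coe, LinearMap.mem_ker]
      have := hvan 0
      rw [Fin.cons_zero] at this
      exact this
    · intro i
      have := hvan i.succ
      rw [Fin.cons_succ] at this
      exact this

theorem nonempty_of_le [Infinite k] (W : Submodule k (MvPolynomial (Fin n) k))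
    [FiniteDimensional k W] (m : ℕ) (hm : Module.finrank k W ≤ m) :
    ∃ x : Fin m → (Fin n → k), ∀ G : W, (∀ i, aeval (x i) G.1 = 0) → G = 0 := by
  obtain ⟨x', hx'⟩ := exists_points (Module.finrank k W) W rfl
  refine ⟨fun i => if h : (i : ℕ) < Module.finrank k W then x' ⟨i, h⟩ else 0, fun G hG => ?_⟩
  apply Subtype.ext
  apply hx' G.1 G.2
  intro j
  have := hG ⟨j, lt_of_lt_of_le j.2 hm⟩
  simp only [Fin.is_lt, dif_pos] at this
  exact this

theorem main [Infinite k] (W : Submodule k (MvPolynomial (Fin n) k))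
    [FiniteDimensional k W] (m : ℕ) (hm : Module.finrank k W ≤ m) :
    (∀ x ∈ {x : Fin m → (Fin n → k) | ∀ G : W, (∀ i, aeval (x i) G.1 = 0) → G = 0},
      ∃ f : (Fin m → (Fin n → k)) → k, f ∈ PF (k := k) (Fin m → (Fin n → k)) ∧ f x ≠ 0 ∧
        ∀ y, f y ≠ 0 →
          y ∈ {x : Fin m → (Fin n → k) | ∀ G : W, (∀ i, aeval (x i) G.1 = 0) → G = 0}) ∧
    (∃ f : (Fin m → (Fin n → k)) → k, f ∈ PF (k := k) (Fin m → (Fin n → k)) ∧ (∃ v, f v ≠ 0) ∧
        ∀ y, f y ≠ 0 →
          y ∈ {x : Fin m → (Fin n → k) | ∀ G : W, (∀ i, aeval (x i) G.1 = 0) → G = 0}) := by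
  refine ⟨isZOpen W m, ?_⟩
  obtain ⟨x, hx⟩ := nonempty_of_le W m hm
  obtain ⟨f, hf, hfx, hfS⟩ := isZOpen W m x hx
  exact ⟨f, hf, ⟨x, hfx⟩, hfS⟩

end

end Groth.Agent.Helper25.GenTuples
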