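import Mathlib

/-!
# Geometric irreducibility of a polynomial over a field (helper25)

* `irreducible_of_irreducible_map`: irreducibility descends along a field extension.
* `irreducible_map_of_isAlgClosed`: a polynomial irreducible over an algebraically closed field
  stays irreducible over every extension field (Nullstellensatz specialisation argument).
* `irreducible_map_of_irreducible_map_algClosed`: irreducible over one algebraically closed
  extension implies irreducible over every extension.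
* `isDomain_tensor_iff`: `(k[T]/(F)) ⊗[k] K` is a domain iff `F` is irreducible over `K`.
-/

namespace Groth.Agent.Helper25.GeomIrrPoly

open MvPolynomial TensorProduct

universe u

section Units

variable {σ : Type*}

theorem exists_coeff_ne_zero_of_not_isUnit {K : Type*} [Field K] {A : MvPolynomial σ K}
    (hA0 : A ≠ 0) (hA : ¬ IsUnit A) : ∃ α : σ →₀ ℕ, α ≠ 0 ∧ A.coeff α ≠ 0 := by
  classical
  by_contra h
  push Not at h
  apply hA
  rw [MvPolynomial.isUnit_iff_eq_C_of_isReduced]
  refine ⟨A.coeff 0, ?_, ?_⟩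
  · rw [isUnit_iff_ne_zero]
    intro h0
    apply hA0
    ext α
    by_cases hα : α = 0
    · subst hα
      simpa using h0
    · simpa using h α hα
  · ext α
    by_cases hα : α = 0
    · subst hα
      simp
    · rw [h α hα, coeff_C, if_neg (Ne.symm hα)]

theorem not_isUnit_of_coeff_ne_zero {R : Type*} [CommRing R] [IsReduced R]
    {A : MvPolynomial σ R} {α : σ →₀ ℕ} (hα : α ≠ 0) (h : A.coeff α ≠ 0) : ¬ IsUnit A := by
  classical
  intro hu
  rw [MvPolynomial.isUnit_iff_eq_C_of_isReduced] at hu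
  obtain ⟨r, -, rfl⟩ := hu
  rw [coeff_C, if_neg (Ne.symm hα)] at h
  exact h rfl

theorem isUnit_of_isUnit_map {K L : Type*} [Field K] [Field L] (φ : K →+* L)
    (A : MvPolynomial σ K) (hA : IsUnit (MvPolynomial.map φ A)) : IsUnit A := by
  by_contra hAn
  have hA0 : A ≠ 0 := by
    rintro rfl
    rw [_root_.map_zero] at hA
    exact not_isUnit_zero hA
  obtain ⟨α, hα, hc⟩ := exists_coeff_ne_zero_of_not_isUnit hA0 hAn
  refine not_isUnit_of_coeff_ne_zero (A := MvPolynomial.map φ A) hα ?_ hA
  rw [coeff_map]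
  exact fun h0 => hc (φ.injective (by rw [h0, _root_.map_zero]))

/-- Irreducibility descends along a field extension. -/
theorem irreducible_of_irreducible_map {K L : Type*} [Field K] [Field L] (φ : K →+* L)
    {G : MvPolynomial σ K} (h : Irreducible (MvPolynomial.map φ G)) : Irreducible G := by
  rw [irreducible_iff] at h ⊢
  refine ⟨fun hu => h.1 (hu.map _), fun a b hab => ?_⟩
  have := h.2 (show MvPolynomial.map φ G = MvPolynomial.map φ a * MvPolynomial.map φ b by
    rw [hab, _root_.map_mul])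
  exact this.imp (isUnit_of_isUnit_map φ a) (isUnit_of_isUnit_map φ b)

/-- A nontrivial finitely generated algebra over an algebraically closed field has a point. -/
theorem exists_algHom_of_finiteType {Ω : Type*} [Field Ω] [IsAlgClosed Ω] (S : Type*) [CommRing S]
    [Nontrivial S] [Algebra Ω S] [Algebra.FiniteType Ω S] : Nonempty (S →ₐ[Ω] Ω) := by
  obtain ⟨m, hm⟩ := Ideal.exists_maximal S
  let _ : Field (S ⧸ m) := Ideal.Quotient.field m
  have : Algebra.FiniteType Ω (S ⧸ m) :=
    Algebra.FiniteType.of_surjective (Ideal.Quotient.mkₐ Ω m) (Ideal.Quotient.mkₐ_surjective Ω m)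
  have : Module.Finite Ω (S ⧸ m) := finite_of_finite_type_of_isJacobsonRing Ω (S ⧸ m)
  have : Algebra.IsIntegral Ω (S ⧸ m) := Algebra.IsIntegral.of_finite Ω (S ⧸ m)
  have hbij : Function.Bijective (algebraMap Ω (S ⧸ m)) :=
    IsAlgClosed.algebraMap_bijective_of_isIntegral
  let e : Ω ≃ₐ[Ω] (S ⧸ m) := AlgEquiv.ofBijective (Algebra.ofId Ω (S ⧸ m)) hbij
  exact ⟨(e.symm : (S ⧸ m) →ₐ[Ω] Ω).comp (Ideal.Quotient.mkₐ Ω m)⟩

theorem exists_map_val_eq {Ω L : Type*} [CommRing Ω] [CommRing L] [Algebra Ω L]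
    (S : Subalgebra Ω L) (A : MvPolynomial σ L) (h : ∀ m, A.coeff m ∈ S) :
    ∃ A' : MvPolynomial σ S, MvPolynomial.map (S.val : S →+* L) A' = A := by
  classical
  refine ⟨∑ m ∈ A.support, monomial m (⟨A.coeff m, h m⟩ : S), ?_⟩
  rw [map_sum]
  conv_rhs => rw [← A.support_sum_monomial_coeff]
  refine Finset.sum_congr rfl fun m _ => ?_
  rw [map_monomial]
  rfl

theorem false_of_factorization {Ω L : Type*} [Field Ω] [IsAlgClosed Ω] [Field L] [Algebra Ω L]
    (S : Subalgebra Ω L) [Algebra.FiniteType Ω S] {G : MvPolynomial σ Ω} (hG : Irreducible G)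
    (A' B' : MvPolynomial σ S) (hAB : A' * B' = MvPolynomial.map (algebraMap Ω S) G)
    {α β : σ →₀ ℕ} (hα : α ≠ 0) (hβ : β ≠ 0) (ha : IsUnit (A'.coeff α))
    (hb : IsUnit (B'.coeff β)) : False := by
  obtain ⟨ψ⟩ := exists_algHom_of_finiteType (Ω := Ω) S
  have hcomp : (ψ : S →+* Ω).comp (algebraMap Ω S) = RingHom.id Ω :=
    RingHom.ext fun x => by
      rw [RingHom.comp_apply, RingHom.coe_coe, AlgHom.commutes]
      rfl
  have h1 : G = MvPolynomial.map (ψ : S →+* Ω) A' * MvPolynomial.map (ψ : S →+* Ω) B' := by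
    rw [← _root_.map_mul, hAB, MvPolynomial.map_map, hcomp, MvPolynomial.map_id]
  rcases hG.isUnit_or_isUnit h1 with hu | hu
  · refine not_isUnit_of_coeff_ne_zero (A := MvPolynomial.map (ψ : S →+* Ω) A') hα ?_ hu
    rw [coeff_map]
    exact (ha.map (ψ : S →+* Ω)).ne_zero
  · refine not_isUnit_of_coeff_ne_zero (A := MvPolynomial.map (ψ : S →+* Ω) B') hβ ?_ hu
    rw [coeff_map]
    exact (hb.map (ψ : S →+* Ω)).ne_zero

/-- A polynomial irreducible over an algebraically closed field stays irreducible over every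
extension field. -/
theorem irreducible_map_of_isAlgClosed {Ω L : Type*} [Field Ω] [IsAlgClosed Ω] [Field L]
    [Algebra Ω L] {G : MvPolynomial σ Ω} (h : Irreducible G) :
    Irreducible (MvPolynomial.map (algebraMap Ω L) G) := by
  classical
  have hinj : Function.Injective (MvPolynomial.map (σ := σ) (algebraMap Ω L)) :=
    MvPolynomial.map_injective _ (algebraMap Ω L).injective
  have hG0 : G ≠ 0 := h.ne_zero
  rw [irreducible_iff]
  refine ⟨fun hu => h.not_isUnit (isUnit_of_isUnit_map _ G hu), fun A B hAB => ?_⟩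
  by_contra hcon
  push Not at hcon
  obtain ⟨hAu, hBu⟩ := hcon
  have hprod0 : A * B ≠ 0 := by
    rw [← hAB]
    exact fun h0 => hG0 (hinj (by rw [h0, _root_.map_zero]))
  have hA0 : A ≠ 0 := left_ne_zero_of_mul hprod0
  have hB0 : B ≠ 0 := right_ne_zero_of_mul hprod0
  obtain ⟨α, hα, ha⟩ := exists_coeff_ne_zero_of_not_isUnit hA0 hAu
  obtain ⟨β, hβ, hb⟩ := exists_coeff_ne_zero_of_not_isUnit hB0 hBu
  obtain ⟨s, hs⟩ : ∃ s : Finset L, s = A.support.image (fun m => A.coeff m) ∪
      B.support.image (fun m => B.coeff m) ∪ {(A.coeff α * B.coeff β)⁻¹} := ⟨_, rfl⟩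
  obtain ⟨S, hS⟩ : ∃ S : Subalgebra Ω L, S = Algebra.adjoin Ω (s : Set L) := ⟨_, rfl⟩
  have hft : Algebra.FiniteType Ω S := by
    rw [hS]
    exact Algebra.FiniteType.adjoin_of_finite s.finite_toSet
  have hsub : ∀ x ∈ s, x ∈ S := fun x hx => by
    rw [hS]
    exact Algebra.subset_adjoin (Finset.mem_coe.mpr hx)
  have hAmem : ∀ m, A.coeff m ∈ S := fun m => by
    by_cases hm : m ∈ A.support
    · refine hsub _ ?_
      rw [hs]
      exact Finset.mem_union_left _ (Finset.mem_union_left _
        (Finset.mem_image_of_mem (fun m => A.coeff m) hm))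
    · have h0 : A.coeff m = 0 := by simpa [MvPolynomial.mem_support_iff] using hm
      rw [h0]
      exact S.zero_mem
  have hBmem : ∀ m, B.coeff m ∈ S := fun m => by
    by_cases hm : m ∈ B.support
    · refine hsub _ ?_
      rw [hs]
      exact Finset.mem_union_left _ (Finset.mem_union_right _
        (Finset.mem_image_of_mem (fun m => B.coeff m) hm))
    · have h0 : B.coeff m = 0 := by simpa [MvPolynomial.mem_support_iff] using hm
      rw [h0]
      exact S.zero_mem
  have hcmem : (A.coeff α * B.coeff β)⁻¹ ∈ S := by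
    refine hsub _ ?_
    rw [hs]
    exact Finset.mem_union_right _ (Finset.mem_singleton_self _)
  obtain ⟨A', hA'⟩ := exists_map_val_eq S A hAmem
  obtain ⟨B', hB'⟩ := exists_map_val_eq S B hBmem
  have hA'c : ∀ m, ((A'.coeff m : S) : L) = A.coeff m := fun m => by
    have := congrArg (coeff m) hA'
    rw [coeff_map] at this
    exact this
  have hB'c : ∀ m, ((B'.coeff m : S) : L) = B.coeff m := fun m => by
    have := congrArg (coeff m) hB'
    rw [coeff_map] at this
    exact this
  have hvalinj : Function.Injective (MvPolynomial.map (σ := σ) (S.val : S →+* L)) :=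
    MvPolynomial.map_injective _ Subtype.val_injective
  have hcomp : (S.val : S →+* L).comp (algebraMap Ω S) = algebraMap Ω L :=
    RingHom.ext fun x => rfl
  have hAB' : A' * B' = MvPolynomial.map (algebraMap Ω S) G := by
    apply hvalinj
    rw [_root_.map_mul, hA', hB', ← hAB, MvPolynomial.map_map, hcomp]
  have hmulA : A'.coeff α * (B'.coeff β * (⟨_, hcmem⟩ : S)) = 1 := by
    apply Subtype.val_injective
    show ((A'.coeff α : S) : L) * (((B'.coeff β : S) : L) * (A.coeff α * B.coeff β)⁻¹) = 1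
    rw [hA'c α, hB'c β, ← mul_assoc, mul_inv_cancel₀ (mul_ne_zero ha hb)]
  have hmulB : B'.coeff β * (A'.coeff α * (⟨_, hcmem⟩ : S)) = 1 := by
    rw [← hmulA]
    ring
  exact false_of_factorization S h A' B' hAB' hα hβ (IsUnit.of_mul_eq_one _ hmulA)
    (IsUnit.of_mul_eq_one _ hmulB)

end Units

/-- Two field extensions of `k` embed in a common field. -/
theorem exists_common_field (k K Ω : Type u) [Field k] [Field K] [Field Ω] [Algebra k K]
    [Algebra k Ω] :
    ∃ (L : Type u) (_ : Field L) (i : K →+* L) (j : Ω →+* L),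
      i.comp (algebraMap k K) = j.comp (algebraMap k Ω) := by
  have : Nontrivial (K ⊗[k] Ω) :=
    Algebra.TensorProduct.nontrivial_of_algebraMap_injective_of_isDomain k K Ω
      (algebraMap k K).injective (algebraMap k Ω).injective
  obtain ⟨m, hm⟩ := Ideal.exists_maximal (K ⊗[k] Ω)
  refine ⟨(K ⊗[k] Ω) ⧸ m, Ideal.Quotient.field m,
    (Ideal.Quotient.mk m).comp (Algebra.TensorProduct.includeLeftRingHom),
    (Ideal.Quotient.mk m).comp
      (Algebra.TensorProduct.includeRight : Ω →ₐ[k] K ⊗[k] Ω).toRingHom, ?_⟩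
  refine RingHom.ext fun x => ?_
  simp only [RingHom.comp_apply]
  congr 1
  show (algebraMap k K x) ⊗ₜ[k] (1 : Ω) = (1 : K) ⊗ₜ[k] (algebraMap k Ω x)
  rw [Algebra.algebraMap_eq_smul_one, Algebra.algebraMap_eq_smul_one, TensorProduct.smul_tmul]

/-- Irreducibility over one algebraically closed extension implies irreducibility over every
extension field. -/
theorem irreducible_map_of_irreducible_map_algClosed {k : Type u} [Field k] (Ω : Type u)
    [Field Ω] [Algebra k Ω] [IsAlgClosed Ω] {σ : Type*} (F : MvPolynomial σ k)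
    (h : Irreducible (MvPolynomial.map (algebraMap k Ω) F)) (K : Type u) [Field K]
    [Algebra k K] : Irreducible (MvPolynomial.map (algebraMap k K) F) := by
  obtain ⟨L, hL, i, j, hij⟩ := exists_common_field k K Ω
  let _ : Algebra Ω L := j.toAlgebra
  have h1 : Irreducible
      (MvPolynomial.map (algebraMap Ω L) (MvPolynomial.map (algebraMap k Ω) F)) :=
    irreducible_map_of_isAlgClosed h
  rw [MvPolynomial.map_map] at h1
  apply irreducible_of_irreducible_map i
  rw [MvPolynomial.map_map, hij]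
  exact h1

section Domain

theorem isDomain_iff_of_hom {R T : Type*} [CommRing R] [CommRing T] (G : R) (hG : G ≠ 0)
    (π : R → T) (hsurj : Function.Surjective π) (h1 : π 1 = 1)
    (hmul : ∀ p q, π (p * q) = π p * π q) (hker : ∀ p, π p = 0 ↔ G ∣ p) :
    IsDomain T ↔ Prime G := by
  have h0 : π 0 = 0 := (hker 0).mpr (dvd_zero G)
  constructor
  · intro hT
    refine ⟨hG, ?_, ?_⟩
    · intro hu
      have h10 : π 1 = 0 := (hker 1).mpr hu.dvd
      rw [h1] at h10
      exact one_ne_zero h10
    · intro a b hab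
      have hab0 : π a * π b = 0 := by rw [← hmul, (hker _).mpr hab]
      rcases mul_eq_zero.mp hab0 with h | h
      · exact Or.inl ((hker a).mp h)
      · exact Or.inr ((hker b).mp h)
  · intro hP
    have hnt : Nontrivial T := ⟨⟨π 1, π 0, by
      rw [h0]
      intro h
      exact hP.not_isUnit (isUnit_of_dvd_one ((hker 1).mp h))⟩⟩
    have hnzd : NoZeroDivisors T := ⟨by
      intro x y hxy
      obtain ⟨p, rfl⟩ := hsurj x
      obtain ⟨q, rfl⟩ := hsurj y
      rw [← hmul, hker] at hxy
      rcases hP.dvd_or_dvd hxy with h | h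
      · exact Or.inl ((hker p).mpr h)
      · exact Or.inr ((hker q).mpr h)⟩
    exact NoZeroDivisors.to_isDomain T

variable (k : Type u) [Field k] (K : Type u) [Field K] [Algebra k K] {n : ℕ}
  (F : MvPolynomial (Fin n) k)

theorem exists_hom_ker :
    ∃ π : MvPolynomial (Fin n) K →
        ((MvPolynomial (Fin n) k ⧸ Ideal.span ({F} : Set (MvPolynomial (Fin n) k))) ⊗[k] K),
      Function.Surjective π ∧ π 1 = 1 ∧ (∀ p q, π (p * q) = π p * π q) ∧
      ∀ p, π p = 0 ↔ MvPolynomial.map (algebraMap k K) F ∣ p := by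
  obtain ⟨a, ha⟩ : ∃ a : (K ⊗[k] MvPolynomial (Fin n) k) ≃ₐ[K] MvPolynomial (Fin n) K,
      ∀ (c : K) (p : MvPolynomial (Fin n) k),
        a (c ⊗ₜ p) = c • MvPolynomial.map (algebraMap k K) p :=
    ⟨MvPolynomial.algebraTensorAlgEquiv k K, MvPolynomial.algebraTensorAlgEquiv_tmul k K⟩
  obtain ⟨b, hb⟩ : ∃ b : (K ⊗[k] MvPolynomial (Fin n) k) ≃ₐ[k]
      (MvPolynomial (Fin n) k ⊗[k] K),
      ∀ (c : K) (p : MvPolynomial (Fin n) k), b (c ⊗ₜ p) = p ⊗ₜ c :=
    ⟨Algebra.TensorProduct.comm k K (MvPolynomial (Fin n) k),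
      fun c p => rfl⟩
  have hkerf : RingHom.ker (Ideal.Quotient.mkₐ k
      (Ideal.span ({F} : Set (MvPolynomial (Fin n) k)))) = Ideal.span {F} :=
    Ideal.ext fun x => by
      rw [RingHom.mem_ker, Ideal.Quotient.mkₐ_eq_mk, Ideal.Quotient.eq_zero_iff_mem]
  obtain ⟨g, hg_surj, hg_ker⟩ : ∃ g : (MvPolynomial (Fin n) k ⊗[k] K) →ₐ[k]
      ((MvPolynomial (Fin n) k ⧸ Ideal.span ({F} : Set (MvPolynomial (Fin n) k))) ⊗[k] K),
      Function.Surjective g ∧
      ∀ x, g x = 0 ↔ ∃ y, y * (F ⊗ₜ[k] (1 : K)) = x := by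
    refine ⟨Algebra.TensorProduct.map
      (Ideal.Quotient.mkₐ k (Ideal.span ({F} : Set (MvPolynomial (Fin n) k)))) (AlgHom.id k K),
      ?_, ?_⟩
    · exact Algebra.TensorProduct.map_surjective _ _ (Ideal.Quotient.mkₐ_surjective k _)
        Function.surjective_id
    · intro x
      have hk := Algebra.TensorProduct.rTensor_ker (R := k) (C := K)
        (Ideal.Quotient.mkₐ k (Ideal.span ({F} : Set (MvPolynomial (Fin n) k))))
        (Ideal.Quotient.mkₐ_surjective k _)
      have hmem : x ∈ RingHom.ker (Algebra.TensorProduct.map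
          (Ideal.Quotient.mkₐ k (Ideal.span ({F} : Set (MvPolynomial (Fin n) k))))
          (AlgHom.id k K)) ↔ (Algebra.TensorProduct.map
          (Ideal.Quotient.mkₐ k (Ideal.span ({F} : Set (MvPolynomial (Fin n) k))))
          (AlgHom.id k K)) x = 0 := RingHom.mem_ker
      rw [← hmem, hk, hkerf, Ideal.map_span, Set.image_singleton, Ideal.mem_span_singleton']
      exact Iff.rfl
  have hFK : b (a.symm (MvPolynomial.map (algebraMap k K) F)) = F ⊗ₜ[k] (1 : K) := by
    have h2 : a.symm (MvPolynomial.map (algebraMap k K) F) = (1 : K) ⊗ₜ[k] F := by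
      rw [AlgEquiv.symm_apply_eq, ha, one_smul]
    rw [h2, hb]
  have hg_one : g 1 = 1 := g.map_one
  have hg_mul : ∀ x y, g (x * y) = g x * g y := fun x y => g.map_mul x y
  refine ⟨fun p => g (b (a.symm p)), ?_, ?_, ?_, ?_⟩
  · intro y
    obtain ⟨x, rfl⟩ := hg_surj y
    refine ⟨a (b.symm x), ?_⟩
    show g (b (a.symm (a (b.symm x)))) = g x
    rw [a.symm_apply_apply, b.apply_symm_apply]
  · show g (b (a.symm 1)) = 1
    rw [_root_.map_one, _root_.map_one, hg_one]
  · intro p q
    show g (b (a.symm (p * q))) = g (b (a.symm p)) * g (b (a.symm q))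
    rw [_root_.map_mul, _root_.map_mul, hg_mul]
  · intro p
    show g (b (a.symm p)) = 0 ↔ _
    constructor
    · intro hp
      obtain ⟨y, hy⟩ := (hg_ker _).mp hp
      refine ⟨a (b.symm y), ?_⟩
      apply a.symm.injective
      apply b.injective
      rw [_root_.map_mul, _root_.map_mul, hFK, a.symm_apply_apply, b.apply_symm_apply, ← hy,
        mul_comm]
    · rintro ⟨q, rfl⟩
      rw [hg_ker]
      refine ⟨b (a.symm q), ?_⟩
      rw [_root_.map_mul, _root_.map_mul, hFK, mul_comm]

/-- `(k[T]/(F)) ⊗[k] K` is a domain iff `F` is irreducible over `K`. -/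
theorem isDomain_tensor_iff (hF : F ≠ 0) :
    IsDomain ((MvPolynomial (Fin n) k ⧸ Ideal.span ({F} : Set (MvPolynomial (Fin n) k))) ⊗[k] K) ↔
      Irreducible (MvPolynomial.map (algebraMap k K) F) := by
  obtain ⟨π, hsurj, h1, hmul, hker⟩ := exists_hom_ker k K F
  have hFK : MvPolynomial.map (algebraMap k K) F ≠ 0 := fun h0 =>
    hF (MvPolynomial.map_injective _ (algebraMap k K).injective (by rw [h0, _root_.map_zero]))
  exact (isDomain_iff_of_hom _ hFK π hsurj h1 hmul hker).trans
    UniqueFactorizationMonoid.irreducible_iff_prime.symm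

end Domain

end Groth.Agent.Helper25.GeomIrrPoly
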