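import Mathlib
import Groth.Prelude.Def_StGerb
import Groth.Agent.Lib.Helper19.FibLib3

/-!
# Formal properties of relative gerbes `Gerb.IsGerbeOver` (helper25)
-/

set_option autoImplicit false
set_option backward.isDefEq.respectTransparency false

universe v₅ u₅ v₄ u₄ v₃ u₃ v₂ u₂ v u

open CategoryTheory CategoryTheory.Limits Functor

namespace Groth.Agent.Helper25.GerbLib

open FibCat Gerb Groth.Agent.Helper19.FibLib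

variable {C : Type u} [Category.{v} C]

section fibgrpd

variable {𝒳 : Type u₂} [Category.{v₂} 𝒳] {p : 𝒳 ⥤ C}

theorem exists_lift' (hp : IsFibGrpd p) {U V : C} (x : 𝒳) (hx : p.obj x = U) (f : V ⟶ U) :
    ∃ (y : 𝒳) (φ : y ⟶ x), p.IsHomLift f φ := by
  subst hx
  exact hp.exists_lift f

theorem exists_iso_fac (hp : IsFibGrpd p) {V U : C} (f : V ⟶ U) {a a' b : 𝒳} (φ : a ⟶ b) (φ' : a' ⟶ b)
    [p.IsHomLift f φ] [p.IsHomLift f φ'] :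
    ∃ χ : a' ≅ a, p.IsHomLift (𝟙 V) χ.hom ∧ χ.hom ≫ φ = φ' := by
  obtain ⟨χ, ⟨h1, h2⟩, -⟩ := existsUnique_fac hp f φ (𝟙 V) f (by simp) φ'
  have : IsIso χ := isIso_of_isHomLift hp (𝟙 V) χ
  exact ⟨asIso χ, h1, h2⟩

end fibgrpd

section reform

variable (J : GrothendieckTopology C) {𝒳 : BasedCategory.{v₂, u₂} C} {𝒴 : BasedCategory.{v₃, u₃} C}
  (F : 𝒳 ⥤ᵇ 𝒴)

theorem locSurjObj_iff : LocSurjObj J F ↔ ∀ (U : C) (y : 𝒴.obj), 𝒴.p.obj y = U →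
    ∃ R ∈ J U, ∀ ⦃V : C⦄ (f : V ⟶ U), R f →
      ∃ (x : 𝒳.obj) (g : F.obj x ⟶ y), 𝒴.p.IsHomLift f g := by
  constructor
  · intro h U y hy
    subst hy
    exact h y
  · intro h y
    exact h _ y rfl

theorem locSurjHom_iff : LocSurjHom J F ↔ ∀ (U : C) (x x' : 𝒳.obj) (b : F.obj x ⟶ F.obj x'),
    𝒴.p.IsHomLift (𝟙 U) b → ∃ R ∈ J U, ∀ ⦃V : C⦄ (f : V ⟶ U), R f →
      ∃ (x₀ : 𝒳.obj) (φ : x₀ ⟶ x) (ψ : x₀ ⟶ x'),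
        𝒳.p.IsHomLift f φ ∧ 𝒳.p.IsHomLift f ψ ∧ F.map φ ≫ b = F.map ψ := by
  constructor
  · intro h U x x' b hb
    have hU : 𝒳.p.obj x = U := (F.w_obj x).symm.trans (IsHomLift.domain_eq 𝒴.p (𝟙 U) b)
    subst hU
    exact h x x' b hb
  · intro h x x' b hb
    exact h _ x x' b hb

end reform

section baseChange

variable (J : GrothendieckTopology C) {𝒳 : BasedCategory.{v₂, u₂} C} {𝒴 : BasedCategory.{v₃, u₃} C}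
  {𝒴' : BasedCategory.{v₄, u₄} C}

theorem locSurjObj_fpFst (h𝒴' : IsFibGrpd 𝒴'.p) (h𝒴 : IsFibGrpd 𝒴.p) (f : 𝒳 ⥤ᵇ 𝒴) (g : 𝒴' ⥤ᵇ 𝒴)
    (hf : LocSurjObj J f) : LocSurjObj J (fpFst g f) := by
  intro y'
  obtain ⟨R, hR, h⟩ := (locSurjObj_iff J f).1 hf (𝒴'.p.obj y') (g.obj y') (g.w_obj y')
  refine ⟨R, hR, fun V k hk => ?_⟩
  obtain ⟨x, a, ha⟩ := h k hk
  obtain ⟨y'', φ, hφ⟩ := h𝒴'.exists_lift k
  obtain ⟨χ, hχ1, hχ2⟩ := exists_iso_fac h𝒴 k a (g.map φ)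
  have hV : 𝒴'.p.obj y'' = V := IsHomLift.domain_eq 𝒴'.p k φ
  subst hV
  exact ⟨fpMk g f y'' x χ hχ1, φ, hφ⟩

theorem locSurjHom_fpFst (h𝒴' : IsFibGrpd 𝒴'.p) (h𝒴 : IsFibGrpd 𝒴.p) (f : 𝒳 ⥤ᵇ 𝒴) (g : 𝒴' ⥤ᵇ 𝒴)
    (hf : LocSurjHom J f) : LocSurjHom J (fpFst g f) := by
  intro w w' b hb
  have hb' : 𝒴'.p.IsHomLift (𝟙 (𝒴'.p.obj w.obj.fst)) b := hb
  have hw : 𝒴.p.IsHomLift (𝟙 (𝒴'.p.obj w.obj.fst)) w.obj.iso.hom := fp_iso_isHomLift w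
  have hw'0 : 𝒴.p.IsHomLift (𝟙 (𝒴'.p.obj w'.obj.fst)) w'.obj.iso.hom := fp_iso_isHomLift w'
  have hUU : 𝒴'.p.obj w'.obj.fst = 𝒴'.p.obj w.obj.fst := IsHomLift.codomain_eq 𝒴'.p (𝟙 (𝒴'.p.obj w.obj.fst)) b
  have hw' : 𝒴.p.IsHomLift (𝟙 (𝒴'.p.obj w.obj.fst)) w'.obj.iso.hom := by
    rw [← hUU]; exact hw'0
  have hc : 𝒴.p.IsHomLift (𝟙 (𝒴'.p.obj w.obj.fst))
      (w.obj.iso.inv ≫ g.map b ≫ w'.obj.iso.hom) := inferInstance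
  obtain ⟨R, hR, h⟩ := (locSurjHom_iff J f).1 hf (𝒴'.p.obj w.obj.fst) w.obj.snd w'.obj.snd
    (w.obj.iso.inv ≫ g.map b ≫ w'.obj.iso.hom) hc
  refine ⟨R, hR, fun V (k : V ⟶ 𝒴'.p.obj w.obj.fst) hk => ?_⟩
  obtain ⟨x₀, φ, ψ, hφ, hψ, hcomm⟩ := h k hk
  obtain ⟨y₀, β, hβ⟩ := h𝒴'.exists_lift k
  have h0 : 𝒴.p.IsHomLift k (g.map β) := inferInstance
  have h1 : 𝒴.p.IsHomLift k (g.map β ≫ w.obj.iso.hom) := inferInstance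
  obtain ⟨γ₀, hγ1, hγ2⟩ := exists_iso_fac h𝒴 k (f.map φ) (g.map β ≫ w.obj.iso.hom)
  have hV : 𝒴'.p.obj y₀ = V := IsHomLift.domain_eq 𝒴'.p k β
  subst hV
  have hβb : 𝒴'.p.IsHomLift k (β ≫ b) := inferInstance
  refine ⟨fpMk g f y₀ x₀ γ₀ hγ1, fpHomMk β φ hγ2.symm, fpHomMk (β ≫ b) ψ ?_, ?_, ?_, ?_⟩
  · change g.map (β ≫ b) ≫ w'.obj.iso.hom = γ₀.hom ≫ f.map ψ
    rw [← hcomm, ← Category.assoc γ₀.hom, hγ2]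
    simp
  · exact (fp_isHomLift_iff _ _).2 hβ
  · exact (fp_isHomLift_iff _ _).2 hβb
  · rfl

theorem isGerbeOver_fpFst (h𝒴' : IsFibGrpd 𝒴'.p) (h𝒴 : IsFibGrpd 𝒴.p) (f : 𝒳 ⥤ᵇ 𝒴) (g : 𝒴' ⥤ᵇ 𝒴)
    (hf : IsGerbeOver J f) : IsGerbeOver J (fpFst g f) :=
  ⟨locSurjObj_fpFst J h𝒴' h𝒴 f g hf.1, locSurjHom_fpFst J h𝒴' h𝒴 f g hf.2⟩

end baseChange


section bind

variable (J : GrothendieckTopology C)

/-- a property holding locally on a covering, on each member of which it holds locally, holds locally. -/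
theorem local_of_local {U : C} (P : ∀ ⦃V : C⦄, (V ⟶ U) → Prop) (R : Sieve U) (hR : R ∈ J U)
    (h : ∀ ⦃V : C⦄ (k : V ⟶ U), R k → ∃ R' ∈ J V, ∀ ⦃W : C⦄ (l : W ⟶ V), R' l → P (l ≫ k)) :
    ∃ R'' ∈ J U, ∀ ⦃W : C⦄ (l : W ⟶ U), R'' l → P l := by
  choose R' hR' hP using h
  refine ⟨Sieve.bind R (fun V k hk => R' k hk), J.bind_covering hR (fun V k hk => hR' k hk), ?_⟩
  rintro W l ⟨V, g, k, hk, hg, rfl⟩
  exact hP k hk g hg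

end bind

section invariance

variable (J : GrothendieckTopology C) {𝒳 : BasedCategory.{v₂, u₂} C} {𝒴 : BasedCategory.{v₃, u₃} C}
  {𝒲 : BasedCategory.{v₄, u₄} C}

theorem isGerbeOver_of_iso {F F' : 𝒳 ⥤ᵇ 𝒴} (θ : F ≅ F') (hF : IsGerbeOver J F) : IsGerbeOver J F' := by
  refine ⟨?_, (locSurjHom_iff J F').2 ?_⟩
  · intro y
    obtain ⟨R, hR, h⟩ := hF.1 y
    refine ⟨R, hR, fun V k hk => ?_⟩
    obtain ⟨x, g, hg⟩ := h k hk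
    have h1 : 𝒴.p.IsHomLift (𝟙 (𝒳.p.obj x)) (θ.inv.toNatTrans.app x) := inferInstance
    exact ⟨x, θ.inv.toNatTrans.app x ≫ g, IsHomLift.comp_lift_id_left' 𝒴.p (𝒳.p.obj x) _ k g⟩
  · intro U x x' b hb
    have hx : 𝒳.p.obj x = U := (F'.w_obj x).symm.trans (IsHomLift.domain_eq 𝒴.p (𝟙 U) b)
    have hx' : 𝒳.p.obj x' = U := (F'.w_obj x').symm.trans (IsHomLift.codomain_eq 𝒴.p (𝟙 U) b)
    have h1 : 𝒴.p.IsHomLift (𝟙 U) (θ.hom.toNatTrans.app x) := BasedNatTrans.isHomLift θ.hom hx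
    have h2 : 𝒴.p.IsHomLift (𝟙 U) (θ.inv.toNatTrans.app x') := BasedNatTrans.isHomLift θ.inv hx'
    have h3 : 𝒴.p.IsHomLift (𝟙 U)
        (θ.hom.toNatTrans.app x ≫ b ≫ θ.inv.toNatTrans.app x') := inferInstance
    obtain ⟨R, hR, h⟩ := (locSurjHom_iff J F).1 hF.2 U x x' _ h3
    refine ⟨R, hR, fun V k hk => ?_⟩
    obtain ⟨x₀, φ, ψ, hφ, hψ, hc⟩ := h k hk
    refine ⟨x₀, φ, ψ, hφ, hψ, ?_⟩
    have n1 := hom_naturality θ φ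
    have n2 := hom_naturality θ ψ
    rw [← cancel_epi (θ.hom.toNatTrans.app x₀), ← n2, ← hc]
    simp only [Category.assoc, inv_hom_app, Category.comp_id]
    rw [← Category.assoc, ← n1, Category.assoc]

theorem isGerbeOver_equiv_comp (Φ : 𝒳 ⥤ᵇ 𝒲) (hΦ : IsEquivOver Φ) (π : 𝒲 ⥤ᵇ 𝒴)
    (hπ : IsGerbeOver J π) : IsGerbeOver J (BasedFunctor.comp Φ π) := by
  have hΦe : Φ.toFunctor.IsEquivalence := IsEquivOver.isEquivalence hΦ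
  obtain ⟨Ψ, ⟨η⟩, ⟨ε⟩⟩ := hΦ
  refine ⟨?_, (locSurjHom_iff J _).2 ?_⟩
  · intro y
    obtain ⟨R, hR, h⟩ := hπ.1 y
    refine ⟨R, hR, fun V k hk => ?_⟩
    obtain ⟨w, a, ha⟩ := h k hk
    have h1 : 𝒲.p.IsHomLift (𝟙 (𝒲.p.obj w)) (ε.hom.toNatTrans.app w) := inferInstance
    have h2 : 𝒴.p.IsHomLift (𝟙 (𝒲.p.obj w)) (π.map (ε.hom.toNatTrans.app w)) := inferInstance
    exact ⟨Ψ.obj w, π.map (ε.hom.toNatTrans.app w) ≫ a,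
      IsHomLift.comp_lift_id_left' 𝒴.p (𝒲.p.obj w) _ k a⟩
  · intro U x x' b hb
    obtain ⟨R, hR, h⟩ := (locSurjHom_iff J π).1 hπ.2 U (Φ.obj x) (Φ.obj x') b hb
    refine ⟨R, hR, fun V k hk => ?_⟩
    obtain ⟨w₀, φ, ψ, hφ, hψ, hc⟩ := h k hk
    have h1 : 𝒲.p.IsHomLift (𝟙 (𝒲.p.obj w₀)) (ε.hom.toNatTrans.app w₀) := inferInstance
    have hφ' : 𝒲.p.IsHomLift k (ε.hom.toNatTrans.app w₀ ≫ φ) :=
      IsHomLift.comp_lift_id_left' 𝒲.p (𝒲.p.obj w₀) _ k φ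
    have hψ' : 𝒲.p.IsHomLift k (ε.hom.toNatTrans.app w₀ ≫ ψ) :=
      IsHomLift.comp_lift_id_left' 𝒲.p (𝒲.p.obj w₀) _ k ψ
    have e1 : Φ.map (Φ.toFunctor.preimage (ε.hom.toNatTrans.app w₀ ≫ φ)) =
        ε.hom.toNatTrans.app w₀ ≫ φ := Φ.toFunctor.map_preimage _
    have e2 : Φ.map (Φ.toFunctor.preimage (ε.hom.toNatTrans.app w₀ ≫ ψ)) =
        ε.hom.toNatTrans.app w₀ ≫ ψ := Φ.toFunctor.map_preimage _
    refine ⟨Ψ.obj w₀, Φ.toFunctor.preimage (ε.hom.toNatTrans.app w₀ ≫ φ),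
      Φ.toFunctor.preimage (ε.hom.toNatTrans.app w₀ ≫ ψ), ?_, ?_, ?_⟩
    · rw [← BasedFunctor.isHomLift_iff Φ, e1]; exact hφ'
    · rw [← BasedFunctor.isHomLift_iff Φ, e2]; exact hψ'
    · change π.map (Φ.map _) ≫ b = π.map (Φ.map _)
      rw [e1, e2, π.map_comp, π.map_comp, Category.assoc, hc]

end invariance


section descent

variable (J : GrothendieckTopology C) {𝒳 : BasedCategory.{v₂, u₂} C} {𝒴 : BasedCategory.{v₃, u₃} C}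
  {𝒴' : BasedCategory.{v₄, u₄} C}

theorem locSurjObj_of_fpFst (F : 𝒳 ⥤ᵇ 𝒴) (G : 𝒴' ⥤ᵇ 𝒴) (hG : LocSurjObj J G)
    (h : LocSurjObj J (fpFst G F)) : LocSurjObj J F := by
  intro y
  obtain ⟨R, hR, hR2⟩ := hG y
  apply local_of_local J (fun V k => ∃ (x : 𝒳.obj) (g : F.obj x ⟶ y), 𝒴.p.IsHomLift k g) R hR
  intro V k hk
  obtain ⟨y', a, ha⟩ := hR2 k hk
  have hy' : 𝒴'.p.obj y' = V := (G.w_obj y').symm.trans (IsHomLift.domain_eq 𝒴.p k a)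
  obtain ⟨R', hR', h'⟩ := (locSurjObj_iff J (fpFst G F)).1 h V y' hy'
  refine ⟨R', hR', fun W l hl => ?_⟩
  obtain ⟨w, (c' : w.obj.fst ⟶ y'), (hc' : 𝒴'.p.IsHomLift l c')⟩ := h' l hl
  have h1 : 𝒴.p.IsHomLift (l ≫ k) (G.map c' ≫ a) := inferInstance
  have h2 : 𝒴.p.IsHomLift (𝟙 (𝒴'.p.obj w.obj.fst)) w.obj.iso.hom := fp_iso_isHomLift w
  have h3 : 𝒴.p.IsHomLift (𝟙 (𝒴'.p.obj w.obj.fst)) w.obj.iso.inv := inferInstance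
  exact ⟨w.obj.snd, w.obj.iso.inv ≫ G.map c' ≫ a,
    IsHomLift.comp_lift_id_left' 𝒴.p (𝒴'.p.obj w.obj.fst) _ (l ≫ k) _⟩

theorem locSurjHom_of_fpFst (h𝒳 : IsFibGrpd 𝒳.p) (h𝒴 : IsFibGrpd 𝒴.p) (F : 𝒳 ⥤ᵇ 𝒴) (G : 𝒴' ⥤ᵇ 𝒴)
    (hG : LocSurjObj J G) (h : LocSurjHom J (fpFst G F)) : LocSurjHom J F := by
  rw [locSurjHom_iff]
  intro U x x' b hb
  have hx : 𝒳.p.obj x = U := (F.w_obj x).symm.trans (IsHomLift.domain_eq 𝒴.p (𝟙 U) b)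
  have hx' : 𝒳.p.obj x' = U := (F.w_obj x').symm.trans (IsHomLift.codomain_eq 𝒴.p (𝟙 U) b)
  obtain ⟨R, hR, hR2⟩ := (locSurjObj_iff J G).1 hG U (F.obj x) ((F.w_obj x).trans hx)
  apply local_of_local J (fun V k => ∃ (x₀ : 𝒳.obj) (φ : x₀ ⟶ x) (ψ : x₀ ⟶ x'),
    𝒳.p.IsHomLift k φ ∧ 𝒳.p.IsHomLift k ψ ∧ F.map φ ≫ b = F.map ψ) R hR
  intro V k hk
  obtain ⟨y', a, ha⟩ := hR2 k hk
  obtain ⟨xV, χ, hχ⟩ := exists_lift' h𝒳 x hx k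
  obtain ⟨xV', χ', hχ'⟩ := exists_lift' h𝒳 x' hx' k
  obtain ⟨γ, hγ1, hγ2⟩ := exists_iso_fac h𝒴 k (F.map χ) a
  have hab : 𝒴.p.IsHomLift k (a ≫ b) := inferInstance
  obtain ⟨γ', hγ'1, hγ'2⟩ := exists_iso_fac h𝒴 k (F.map χ') (a ≫ b)
  have hy' : 𝒴'.p.obj y' = V := (G.w_obj y').symm.trans (IsHomLift.domain_eq 𝒴.p k a)
  subst hy'
  have hid : 𝒴'.p.IsHomLift (𝟙 (𝒴'.p.obj y')) (𝟙 y') := inferInstance
  obtain ⟨R', hR', h'⟩ := (locSurjHom_iff J (fpFst G F)).1 h (𝒴'.p.obj y')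
    (fpMk G F y' xV γ hγ1) (fpMk G F y' xV' γ' hγ'1) (𝟙 y') hid
  refine ⟨R', hR', fun W l hl => ?_⟩
  obtain ⟨w₀, Φ, Ψ, hΦ, hΨ, hc⟩ := h' l hl
  have hΦs : 𝒳.p.IsHomLift l Φ.hom.snd := fp_isHomLift_snd' l Φ
  have hΨs : 𝒳.p.IsHomLift l Ψ.hom.snd := fp_isHomLift_snd' l Ψ
  have hfst : Φ.hom.fst = Ψ.hom.fst := by
    have : Φ.hom.fst ≫ 𝟙 y' = Ψ.hom.fst := hc
    simpa using this
  have wΦ : G.map Φ.hom.fst ≫ γ.hom = w₀.obj.iso.hom ≫ F.map Φ.hom.snd := fp_w Φ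
  have wΨ : G.map Ψ.hom.fst ≫ γ'.hom = w₀.obj.iso.hom ≫ F.map Ψ.hom.snd := fp_w Ψ
  refine ⟨w₀.obj.snd, Φ.hom.snd ≫ χ, Ψ.hom.snd ≫ χ', inferInstance, inferInstance, ?_⟩
  rw [← cancel_epi w₀.obj.iso.hom, F.map_comp, F.map_comp]
  simp only [Category.assoc]
  rw [← Category.assoc w₀.obj.iso.hom, ← wΦ, ← Category.assoc w₀.obj.iso.hom, ← wΨ]
  simp only [Category.assoc]
  rw [hγ'2, ← Category.assoc γ.hom, hγ2, hfst]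

theorem isGerbeOver_of_fpFst (h𝒳 : IsFibGrpd 𝒳.p) (h𝒴 : IsFibGrpd 𝒴.p) (F : 𝒳 ⥤ᵇ 𝒴) (G : 𝒴' ⥤ᵇ 𝒴)
    (hG : LocSurjObj J G) (h : IsGerbeOver J (fpFst G F)) : IsGerbeOver J F :=
  ⟨locSurjObj_of_fpFst J F G hG h.1, locSurjHom_of_fpFst J h𝒳 h𝒴 F G hG h.2⟩

end descent

section composition

variable (J : GrothendieckTopology C) {𝒳 : BasedCategory.{v₂, u₂} C} {𝒴 : BasedCategory.{v₃, u₃} C}
  {𝒵 : BasedCategory.{v₄, u₄} C}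

theorem isGerbeOver_comp (h𝒳 : IsFibGrpd 𝒳.p) (h𝒴 : IsFibGrpd 𝒴.p) (F : 𝒳 ⥤ᵇ 𝒴) (G : 𝒴 ⥤ᵇ 𝒵)
    (hF : IsGerbeOver J F) (hG : IsGerbeOver J G) : IsGerbeOver J (BasedFunctor.comp F G) := by
  refine ⟨?_, (locSurjHom_iff J _).2 ?_⟩
  · intro z
    obtain ⟨R, hR, hR2⟩ := hG.1 z
    apply local_of_local J (fun V k => ∃ (x : 𝒳.obj) (g : G.obj (F.obj x) ⟶ z), 𝒵.p.IsHomLift k g)
      R hR
    intro V k hk
    obtain ⟨y, a, ha⟩ := hR2 k hk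
    have hy : 𝒴.p.obj y = V := (G.w_obj y).symm.trans (IsHomLift.domain_eq 𝒵.p k a)
    obtain ⟨R', hR', h'⟩ := (locSurjObj_iff J F).1 hF.1 V y hy
    refine ⟨R', hR', fun W l hl => ?_⟩
    obtain ⟨x, c, hc⟩ := h' l hl
    exact ⟨x, G.map c ≫ a, inferInstance⟩
  · intro U x x' b hb
    have hx : 𝒳.p.obj x = U :=
      ((BasedFunctor.comp F G).w_obj x).symm.trans (IsHomLift.domain_eq 𝒵.p (𝟙 U) b)
    have hx' : 𝒳.p.obj x' = U :=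
      ((BasedFunctor.comp F G).w_obj x').symm.trans (IsHomLift.codomain_eq 𝒵.p (𝟙 U) b)
    obtain ⟨R, hR, hR2⟩ := (locSurjHom_iff J G).1 hG.2 U (F.obj x) (F.obj x') b hb
    apply local_of_local J (fun V k => ∃ (x₀ : 𝒳.obj) (φ : x₀ ⟶ x) (ψ : x₀ ⟶ x'),
      𝒳.p.IsHomLift k φ ∧ 𝒳.p.IsHomLift k ψ ∧
        (BasedFunctor.comp F G).map φ ≫ b = (BasedFunctor.comp F G).map ψ) R hR
    intro V k hk
    obtain ⟨y₀, φ, ψ, hφ, hψ, hGc⟩ := hR2 k hk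
    obtain ⟨xV, χ, hχ⟩ := exists_lift' h𝒳 x hx k
    obtain ⟨xV', χ', hχ'⟩ := exists_lift' h𝒳 x' hx' k
    obtain ⟨φt, hφt1, hφt2⟩ := exists_iso_fac h𝒴 k (F.map χ) φ
    obtain ⟨ψt, hψt1, hψt2⟩ := exists_iso_fac h𝒴 k (F.map χ') ψ
    have hφti : 𝒴.p.IsHomLift (𝟙 V) φt.inv := inferInstance
    have hc : 𝒴.p.IsHomLift (𝟙 V) (φt.inv ≫ ψt.hom) := inferInstance
    obtain ⟨R', hR', h'⟩ := (locSurjHom_iff J F).1 hF.2 V xV xV' (φt.inv ≫ ψt.hom) hc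
    refine ⟨R', hR', fun W l hl => ?_⟩
    obtain ⟨x₀, α, β, hα, hβ, hFc⟩ := h' l hl
    refine ⟨x₀, α ≫ χ, β ≫ χ', inferInstance, inferInstance, ?_⟩
    have e1 : F.map χ = φt.inv ≫ φ := by rw [← hφt2]; simp
    change G.map (F.map (α ≫ χ)) ≫ b = G.map (F.map (β ≫ χ'))
    rw [F.map_comp, F.map_comp, ← hFc, e1]
    simp only [G.map_comp, Category.assoc]
    rw [hGc, ← hψt2]
    simp only [G.map_comp]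

end composition

end Groth.Agent.Helper25.GerbLib
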