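import Mathlib
import Groth.Prelude.Def_StGerb
import Groth.Agent.Lib.Helper25.GerbLib

/-!
# Invariance of `FibCat.IsFibGrpd`, `Stk.IsStack`, `Gerb.IsGerbe` under equivalences over the base (helper25)
-/

set_option autoImplicit false
set_option backward.isDefEq.respectTransparency false

universe v₅ u₅ v₄ u₄ v₃ u₃ v₂ u₂ v u

open CategoryTheory CategoryTheory.Limits Functor

namespace Groth.Agent.Helper25.GerbInv

open FibCat Gerb Stk Groth.Agent.Helper19.FibLib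

variable {C : Type u} [Category.{v} C]

section fibgrpd

variable {𝒮₁ : BasedCategory.{v₂, u₂} C} {𝒮₂ : BasedCategory.{v₃, u₃} C}

theorem isFibGrpd_of_equiv (F : 𝒮₁ ⥤ᵇ 𝒮₂) (hF : IsEquivOver F) (h : IsFibGrpd 𝒮₁.p) :
    IsFibGrpd 𝒮₂.p := by
  obtain ⟨G, hG, -, ⟨ε⟩⟩ := IsEquivOver.exists_inv hF
  have hGe : G.toFunctor.IsEquivalence := IsEquivOver.isEquivalence hG
  refine ⟨?_, ?_⟩
  · intro x V f
    obtain ⟨y₁, φ₁, hφ₁⟩ := GerbLib.exists_lift' h (G.obj x) (G.w_obj x) f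
    have h1 : 𝒮₂.p.IsHomLift (𝟙 (𝒮₂.p.obj x)) (ε.hom.toNatTrans.app x) := inferInstance
    have h2 : 𝒮₂.p.IsHomLift f (F.map φ₁) := inferInstance
    exact ⟨F.obj (y₁), F.map φ₁ ≫ ε.hom.toNatTrans.app x, inferInstance⟩
  · intro y x φ
    refine { universal_property' := ?_ }
    intro a' g φ' hφ'
    have h1 : 𝒮₁.p.IsHomLift (𝒮₂.p.map φ) (G.map φ) := inferInstance
    have h2 : 𝒮₁.p.IsHomLift (g ≫ 𝒮₂.p.map φ) (G.map φ') := inferInstance
    obtain ⟨χ₁, ⟨hχ1, hχ2⟩, huniq⟩ :=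
      existsUnique_fac h (𝒮₂.p.map φ) (G.map φ) g (g ≫ 𝒮₂.p.map φ) rfl (G.map φ')
    have e1 : G.map (G.toFunctor.preimage χ₁) = χ₁ := G.toFunctor.map_preimage χ₁
    refine ⟨G.toFunctor.preimage χ₁, ⟨?_, ?_⟩, ?_⟩
    · rw [← BasedFunctor.isHomLift_iff G, e1]
      exact hχ1
    · apply G.toFunctor.map_injective
      rw [G.toFunctor.map_comp, e1]
      exact hχ2
    · rintro χ' ⟨hχ'1, hχ'2⟩
      apply G.toFunctor.map_injective
      rw [e1]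
      apply huniq
      refine ⟨inferInstance, ?_⟩
      rw [← G.toFunctor.map_comp, hχ'2]

end fibgrpd

section post

variable {𝒮₁ : BasedCategory.{v₂, u₂} C} {𝒮₂ : BasedCategory.{v₃, u₃} C}

/-- post-composition with a functor over the base, on categories of functors over the base. -/
def post (𝒜 : BasedCategory.{v₄, u₄} C) (F : 𝒮₁ ⥤ᵇ 𝒮₂) : (𝒜 ⥤ᵇ 𝒮₁) ⥤ (𝒜 ⥤ᵇ 𝒮₂) where
  obj H := BasedFunctor.comp H F
  map α := BasedCategory.whiskerRight α F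
  map_id H := by
    apply BasedNatTrans.homCategory.ext
    ext x
    exact F.map_id _
  map_comp α β := by
    apply BasedNatTrans.homCategory.ext
    ext x
    exact F.map_comp _ _

/-- post-composition with an equivalence over the base is an equivalence. -/
def postEquiv (𝒜 : BasedCategory.{v₄, u₄} C) (F : 𝒮₁ ⥤ᵇ 𝒮₂) (G : 𝒮₂ ⥤ᵇ 𝒮₁)
    (η : BasedFunctor.comp F G ≅ BasedFunctor.id 𝒮₁) (ε : BasedFunctor.comp G F ≅ BasedFunctor.id 𝒮₂) :
    (𝒜 ⥤ᵇ 𝒮₁) ≌ (𝒜 ⥤ᵇ 𝒮₂) :=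
  CategoryTheory.Equivalence.mk (post 𝒜 F) (post 𝒜 G)
    (NatIso.ofComponents (fun H => (whiskerLeftIso H η).symm) (by
      intro H H' α
      apply BasedNatTrans.homCategory.ext
      ext x
      exact inv_naturality η (α.toNatTrans.app x)))
    (NatIso.ofComponents (fun H => whiskerLeftIso H ε) (by
      intro H H' α
      apply BasedNatTrans.homCategory.ext
      ext x
      exact hom_naturality ε (α.toNatTrans.app x)))

theorem isStackFor_of_equiv {U : C} (R : Sieve U) (F : 𝒮₁ ⥤ᵇ 𝒮₂) (hF : IsEquivOver F)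
    (h : IsStackFor R 𝒮₁) : IsStackFor R 𝒮₂ := by
  obtain ⟨G, ⟨η⟩, ⟨ε⟩⟩ := hF
  have h1 : (post (overCat U) F).IsEquivalence := (postEquiv _ F G η ε).isEquivalence_functor
  have h2 : (post (sieveCat R) F).IsEquivalence := (postEquiv _ F G η ε).isEquivalence_functor
  have hcomm : resSieve R 𝒮₁ ⋙ post (sieveCat R) F = post (overCat U) F ⋙ resSieve R 𝒮₂ := rfl
  have h0 : (resSieve R 𝒮₁).IsEquivalence := h
  have h3 : (post (overCat U) F ⋙ resSieve R 𝒮₂).IsEquivalence := by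
    rw [← hcomm]; infer_instance
  exact Functor.isEquivalence_of_comp_left (post (overCat U) F) (resSieve R 𝒮₂)

theorem isStack_of_equiv (J : GrothendieckTopology C) (F : 𝒮₁ ⥤ᵇ 𝒮₂) (hF : IsEquivOver F)
    (h : IsStack J 𝒮₁) : IsStack J 𝒮₂ :=
  ⟨isFibGrpd_of_equiv F hF h.1, fun _ R hR => isStackFor_of_equiv R F hF (h.2 R hR)⟩

end post

section gerbe

variable {𝒮₁ : BasedCategory.{v₂, u₂} C} {𝒮₂ : BasedCategory.{v₃, u₃} C}

theorem comp_toSelf (F : 𝒮₁ ⥤ᵇ 𝒮₂) : BasedFunctor.comp F (toSelf 𝒮₂) = toSelf 𝒮₁ := by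
  have h : (BasedFunctor.comp F (toSelf 𝒮₂)).toFunctor = (toSelf 𝒮₁).toFunctor := F.w
  generalize BasedFunctor.comp F (toSelf 𝒮₂) = A at h
  generalize toSelf 𝒮₁ = B at h
  cases A; cases B
  simp only at h
  subst h
  rfl

theorem isGerbe_of_equiv' (J : GrothendieckTopology C) (F : 𝒮₁ ⥤ᵇ 𝒮₂) (hF : IsEquivOver F)
    (h : IsGerbe J 𝒮₂) : IsGerbe J 𝒮₁ := by
  obtain ⟨G, hG, -, -⟩ := IsEquivOver.exists_inv hF
  refine ⟨isStack_of_equiv J G hG h.1, ?_⟩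
  rw [← comp_toSelf F]
  exact GerbLib.isGerbeOver_equiv_comp J F hF (toSelf 𝒮₂) h.2

theorem isGerbe_iff_of_equiv (J : GrothendieckTopology C) (F : 𝒮₁ ⥤ᵇ 𝒮₂) (hF : IsEquivOver F) :
    IsGerbe J 𝒮₁ ↔ IsGerbe J 𝒮₂ := by
  obtain ⟨G, hG, -, -⟩ := IsEquivOver.exists_inv hF
  exact ⟨isGerbe_of_equiv' J G hG, isGerbe_of_equiv' J F hF⟩

end gerbe

end Groth.Agent.Helper25.GerbInv
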