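import Mathlib
import Groth.Prelude.Def_StGerb2
import Groth.Agent.Lib.Helper25.GerbLib

/-!
# The presheaf of isomorphism classes of a gerbe over a presheaf (helper25)
-/

set_option autoImplicit false
set_option backward.isDefEq.respectTransparency false

universe w v₂ v u

open CategoryTheory Opposite

namespace Groth.Agent.Helper25.GerbIsoCl

open Gerb Stk

variable {C : Type u} [Category.{v} C] {𝒳 : BasedCategory.{v₂, w} C} {P : Cᵒᵖ ⥤ Type w}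
  (π : 𝒳 ⥤ᵇ Stk.ofPsh P)

theorem base_eq (x : 𝒳.obj) : (π.obj x).base = 𝒳.p.obj x := π.w_obj x

/-- the section of `P` over `U` attached to an object of `𝒳` over `U`. -/
def sec (x : 𝒳.obj) {U : C} (h : 𝒳.p.obj x = U) : P.obj (op U) :=
  P.map (eqToHom ((base_eq π x).trans h).symm).op (π.obj x).sec

theorem hom_eq {y x : 𝒳.obj} (ψ : y ⟶ x) :
    (π.map ψ).hom = eqToHom (base_eq π y) ≫ 𝒳.p.map ψ ≫ eqToHom (base_eq π x).symm :=
  Functor.congr_hom π.w ψ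

theorem sec_map {y x : 𝒳.obj} (ψ : y ⟶ x) {V U : C} (f : V ⟶ U) [𝒳.p.IsHomLift f ψ]
    (hx : 𝒳.p.obj x = U) (hy : 𝒳.p.obj y = V) :
    P.map f.op (sec π x hx) = sec π y hy := by
  subst hx hy
  have hf : f = 𝒳.p.map ψ := IsHomLift.eq_of_isHomLift 𝒳.p f ψ
  subst hf
  unfold sec
  rw [← (π.map ψ).map_sec, ← Functor.map_comp_apply, ← Functor.map_comp_apply, ← op_comp, ← op_comp,
    hom_eq]
  simp

theorem sec_congr (x : 𝒳.obj) {U : C} (h h' : 𝒳.p.obj x = U) : sec π x h = sec π x h' := rfl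

variable [FibCat.IsFibGrpd 𝒳.p]

theorem sec_rel {U : C} (a a' : 𝒳.p.Fiber U) (φ : a ⟶ a') : sec π a.1 a.2 = sec π a'.1 a'.2 := by
  have := φ.2
  have h := sec_map π φ.1 (𝟙 U) a'.2 a.2
  rw [← h]
  simp

theorem sec_pullFib {U V : C} (f : V ⟶ U) (a : 𝒳.p.Fiber U) :
    sec π (pullFib 𝒳 f a).1 (pullFib 𝒳 f a).2 = P.map f.op (sec π a.1 a.2) := by
  obtain ⟨x, hx⟩ := a
  subst hx
  have := pullHom_isHomLift 𝒳 x (f ≫ eqToHom (rfl : 𝒳.p.obj x = 𝒳.p.obj x).symm)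
  have h := sec_map π (pullHom 𝒳 x (f ≫ eqToHom (rfl : 𝒳.p.obj x = 𝒳.p.obj x).symm))
    (f ≫ eqToHom (rfl : 𝒳.p.obj x = 𝒳.p.obj x).symm) rfl (pull_over 𝒳 x _)
  refine h.symm.trans ?_
  simp

/-- the map from the presheaf of isomorphism classes to `P`. -/
noncomputable def c : isoClPsh 𝒳 ⟶ P where
  app U := ↾(Quot.lift (fun a : 𝒳.p.Fiber U.unop => sec π a.1 a.2)
    (fun a a' ⟨φ⟩ => sec_rel π a a' φ))
  naturality U V f := by
    ext a
    obtain ⟨a⟩ := a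
    exact sec_pullFib π f.unop a

theorem c_mk {U : C} (a : 𝒳.p.Fiber U) : (c π).app (op U) (Quot.mk _ a) = sec π a.1 a.2 := rfl

omit [FibCat.IsFibGrpd 𝒳.p] in
theorem map_eqToHom_inj {A B : C} (h : A = B) (s t : P.obj (op B))
    (hst : P.map (eqToHom h).op s = P.map (eqToHom h).op t) : s = t := by
  subst h
  simpa using hst

omit [FibCat.IsFibGrpd 𝒳.p] in
theorem map_eqToHom_comp {A B D : C} (h : A = B) (h' : B = D) (s : P.obj (op D)) :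
    P.map (eqToHom h).op (P.map (eqToHom h').op s) = P.map (eqToHom (h.trans h')).op s := by
  subst h h'
  simp

omit [FibCat.IsFibGrpd 𝒳.p] in
theorem isHomLift_comp_eqToHom {R S S' : C} (f : R ⟶ S) (e : S = S') {a b : 𝒳.obj} (φ : a ⟶ b)
    [𝒳.p.IsHomLift f φ] : 𝒳.p.IsHomLift (f ≫ eqToHom e) φ := by
  subst e
  simpa

variable (J : GrothendieckTopology C)

theorem locSurj (h : LocSurjObj J π) : Presheaf.IsLocallySurjective J (c π) where
  imageSieve_mem {U} s := by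
    obtain ⟨R, hR, hR'⟩ := h (⟨U, s⟩ : EltObj P)
    refine J.superset_covering ?_ hR
    intro V f hf
    obtain ⟨x, g, hg⟩ := hR' f hf
    have hV : 𝒳.p.obj x = V := (π.w_obj x).symm.trans (IsHomLift.domain_eq (ofPsh P).p f g)
    refine ⟨Quot.mk _ ⟨x, hV⟩, ?_⟩
    rw [c_mk]
    have hfac : g.hom = eqToHom ((base_eq π x).trans hV) ≫ f := by
      have := IsHomLift.fac' (ofPsh P).p f g
      simpa using this
    change sec π x hV = P.map f.op s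
    unfold sec
    have h2 : (π.obj x).sec = P.map g.hom.op s := g.map_sec.symm
    rw [h2, ← Functor.map_comp_apply, ← op_comp, hfac]
    simp

theorem locInj_aux (h : LocSurjHom J π) {U : C} (a a' : 𝒳.p.Fiber U)
    (hc : sec π a.1 a.2 = sec π a'.1 a'.2) :
    ∃ R ∈ J U, ∀ ⦃V : C⦄ (f : V ⟶ U), R f →
      Quot.mk (IsoRel 𝒳 V) (pullFib 𝒳 f a) = Quot.mk (IsoRel 𝒳 V) (pullFib 𝒳 f a') := by
  obtain ⟨x, hx⟩ := a
  obtain ⟨x', hx'⟩ := a'
  subst hx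
  have e : (π.obj x).base = (π.obj x').base := (base_eq π x).trans (hx'.symm.trans (base_eq π x').symm)
  have hsec : P.map (eqToHom e).op (π.obj x').sec = (π.obj x).sec := by
    apply map_eqToHom_inj (base_eq π x).symm
    rw [map_eqToHom_comp]
    exact hc.symm
  let b : π.obj x ⟶ π.obj x' := ⟨eqToHom e, hsec⟩
  have hb : (ofPsh P).p.IsHomLift (𝟙 (𝒳.p.obj x)) b := by
    refine IsHomLift.of_fac' (ofPsh P).p _ _ (base_eq π x) ((base_eq π x').trans hx') ?_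
    change eqToHom e = _
    simp
  obtain ⟨R, hR, hR'⟩ := h x x' b hb
  refine ⟨R, hR, fun V f hf => ?_⟩
  obtain ⟨x₀, φ, ψ, hφ, hψ, -⟩ := hR' f hf
  have hV : 𝒳.p.obj x₀ = V := IsHomLift.domain_eq 𝒳.p f φ
  have hφ' : 𝒳.p.IsHomLift (f ≫ eqToHom (rfl : 𝒳.p.obj x = 𝒳.p.obj x).symm) φ :=
    isHomLift_comp_eqToHom f _ φ
  have hψ' : 𝒳.p.IsHomLift (f ≫ eqToHom hx'.symm) ψ := isHomLift_comp_eqToHom f _ ψ
  obtain ⟨χ, hχ, -⟩ := exists_hom_pull 𝒳 x _ φ hφ'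
  obtain ⟨χ', hχ', -⟩ := exists_hom_pull 𝒳 x' _ ψ hψ'
  have h1 : Quot.mk (IsoRel 𝒳 V) (⟨x₀, hV⟩ : 𝒳.p.Fiber V) =
      Quot.mk (IsoRel 𝒳 V) (pullFib 𝒳 f ⟨x, rfl⟩) := Quot.sound ⟨⟨χ, hχ⟩⟩
  have h2 : Quot.mk (IsoRel 𝒳 V) (⟨x₀, hV⟩ : 𝒳.p.Fiber V) =
      Quot.mk (IsoRel 𝒳 V) (pullFib 𝒳 f ⟨x', hx'⟩) := Quot.sound ⟨⟨χ', hχ'⟩⟩
  exact h1.symm.trans h2

theorem locInj (h : LocSurjHom J π) : Presheaf.IsLocallyInjective J (c π) where
  equalizerSieve_mem {U} a a' hc := by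
    obtain ⟨a⟩ := a
    obtain ⟨a'⟩ := a'
    obtain ⟨R, hR, hR'⟩ := locInj_aux π J h a a' hc
    refine J.superset_covering ?_ hR
    intro V f hf
    exact hR' f hf

end Groth.Agent.Helper25.GerbIsoCl
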