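import Mathlib
import Groth.Agent.Lib.Helper25.ChainDP

/-!
# The combinatorial lemma behind Gieseker's stability criterion (helper25)
-/

set_option autoImplicit false

namespace Groth.Agent.Helper25.Gieseker

open Finset

theorem gauss (a : ℕ) (b : ℝ) :
    ∑ i ∈ range a, (b - (i : ℝ)) = a * b - a * ((a : ℝ) - 1) / 2 := by
  induction a with
  | zero => simp
  | succ a ih =>
    rw [Finset.sum_range_succ, ih]
    push_cast
    ring

theorem polyA (n g e : ℝ) (hn : 0 ≤ n) (hg : 1 ≤ g) (he : 1 ≤ e) :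
    (n + 1) * e ^ 2 + 1 ≤ 2 * (n + g) * (e * e - e * (e - 1) / 2) := by
  obtain ⟨a, rfl⟩ : ∃ a, e = 1 + a := ⟨e - 1, by ring⟩
  obtain ⟨h, rfl⟩ : ∃ h, g = 1 + h := ⟨g - 1, by ring⟩
  have a0 : 0 ≤ a := by linarith
  have h0 : 0 ≤ h := by linarith
  nlinarith [mul_nonneg hn a0, mul_nonneg h0 a0, mul_nonneg h0 (mul_nonneg a0 a0)]

theorem polyB (m g s : ℝ) (hg : 1 ≤ g) (hmg : g ≤ m) (hs0 : 0 ≤ s) (hsg : s ≤ g) :
    ((m + g) + 1) * (m + 1 + s) ^ 2 + 1 ≤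
      2 * ((m + g) + g) * ((m + 1) * (m + 1 + s) - (m + 1) * (m + 1 - 1) / 2) := by
  have hf0 : 1 ≤ (m + 1) * (g * m + 3 * g - 1) := by
    obtain ⟨h, rfl⟩ : ∃ h, g = 1 + h := ⟨g - 1, by ring⟩
    obtain ⟨d, rfl⟩ : ∃ d, m = 1 + h + d := ⟨m - (1 + h), by ring⟩
    have h0 : 0 ≤ h := by linarith
    have d0 : 0 ≤ d := by linarith
    nlinarith [mul_nonneg h0 d0, mul_nonneg h0 h0, mul_nonneg d0 d0,
      mul_nonneg (mul_nonneg h0 h0) h0, mul_nonneg (mul_nonneg h0 h0) d0,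
      mul_nonneg (mul_nonneg h0 d0) d0, mul_nonneg (mul_nonneg d0 d0) d0]
  have hfg : 1 ≤ (m + 1) * (g * m + 3 * g - 1) + 2 * g * (m + 1) * (g - 1) -
      (m + g + 1) * g ^ 2 := by
    obtain ⟨h, rfl⟩ : ∃ h, g = 1 + h := ⟨g - 1, by ring⟩
    obtain ⟨d, rfl⟩ : ∃ d, m = 1 + h + d := ⟨m - (1 + h), by ring⟩
    have h0 : 0 ≤ h := by linarith
    have d0 : 0 ≤ d := by linarith
    nlinarith [mul_nonneg h0 d0, mul_nonneg h0 h0, mul_nonneg d0 d0,
      mul_nonneg (mul_nonneg h0 h0) h0, mul_nonneg (mul_nonneg h0 h0) d0,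
      mul_nonneg (mul_nonneg h0 d0) d0, mul_nonneg (mul_nonneg d0 d0) d0]
  have key : g * (2 * ((m + g) + g) * ((m + 1) * (m + 1 + s) - (m + 1) * (m + 1 - 1) / 2) -
        (((m + g) + 1) * (m + 1 + s) ^ 2 + 1)) =
      (g - s) * ((m + 1) * (g * m + 3 * g - 1) - 1) +
        s * ((m + 1) * (g * m + 3 * g - 1) + 2 * g * (m + 1) * (g - 1) -
          (m + g + 1) * g ^ 2 - 1) + (m + g + 1) * g * s * (g - s) := by
    ring
  have hpos : 0 ≤ g * (2 * ((m + g) + g) *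
      ((m + 1) * (m + 1 + s) - (m + 1) * (m + 1 - 1) / 2) -
        (((m + g) + 1) * (m + 1 + s) ^ 2 + 1)) := by
    rw [key]
    have t1 : 0 ≤ (g - s) * ((m + 1) * (g * m + 3 * g - 1) - 1) :=
      mul_nonneg (by linarith) (by linarith)
    have t2 : 0 ≤ s * ((m + 1) * (g * m + 3 * g - 1) + 2 * g * (m + 1) * (g - 1) -
        (m + g + 1) * g ^ 2 - 1) := mul_nonneg hs0 (by linarith)
    have t3 : 0 ≤ (m + g + 1) * g * s * (g - s) :=
      mul_nonneg (mul_nonneg (mul_nonneg (by linarith) (by linarith)) hs0) (by linarith)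
    linarith
  have hgpos : 0 < g := by linarith
  have h2 := (mul_nonneg_iff_of_pos_left hgpos).mp hpos
  linarith

theorem polyC (m g T : ℝ) (hg : 1 ≤ g) (hmg : g ≤ m) (hT0 : 0 ≤ T) (hTg : T ≤ g - 1) :
    ((m + g) + 1) * (m + g + 1 + T) ^ 2 + 1 ≤
      2 * ((m + g) + g) * ((m + 1) * (m + g + 1 + T) - (m + 1) * (m + 1 - 1) / 2 +
        (T * T - T * (T - 1) / 2)) := by
  have key : 2 * ((m + g) + g) * ((m + 1) * (m + g + 1 + T) - (m + 1) * (m + 1 - 1) / 2 +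
        (T * T - T * (T - 1) / 2)) - (((m + g) + 1) * (m + g + 1 + T) ^ 2 + 1) =
      ((m + g + g) * g * (m + g - 2 * g + 1) - 1) + (g - 1 - T) * (m + g + g) +
        (g - 1) * (g - 1 - T) ^ 2 := by
    ring
  have a1 : 1 ≤ m + g + g := by linarith
  have a3 : 1 ≤ m + g - 2 * g + 1 := by linarith
  have t1 : 1 ≤ (m + g + g) * g * (m + g - 2 * g + 1) :=
    one_le_mul_of_one_le_of_one_le (one_le_mul_of_one_le_of_one_le a1 hg) a3
  have t2 : 0 ≤ (g - 1 - T) * (m + g + g) := mul_nonneg (by linarith) (by linarith)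
  have t3 : 0 ≤ (g - 1) * (g - 1 - T) ^ 2 := mul_nonneg (by linarith) (sq_nonneg _)
  linarith

theorem lb1 (n g : ℕ) (E : ℕ → ℕ) (hmono : ∀ i j, i ≤ j → j ≤ n → E i ≤ E j)
    (hle : ∀ i, i ≤ n - g → E i ≤ i) (k : ℕ) (hk : k ≤ n) (a : ℕ) (hak : a ≤ k)
    (ham : a ≤ n - g + 1) :
    ∑ i ∈ range a, ((E k : ℝ) - (i : ℝ)) ≤ ∑ i ∈ range k, ((E k : ℝ) - (E i : ℝ)) := by
  rw [← Finset.sum_range_add_sum_Ico _ hak]
  have h1 : ∑ i ∈ range a, ((E k : ℝ) - (i : ℝ)) ≤ ∑ i ∈ range a, ((E k : ℝ) - (E i : ℝ)) := by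
    apply Finset.sum_le_sum
    intro i hi
    have hi' : i < a := Finset.mem_range.mp hi
    have h2 : E i ≤ i := hle i (by omega)
    have h3 : (E i : ℝ) ≤ (i : ℝ) := by exact_mod_cast h2
    linarith
  have h2 : 0 ≤ ∑ i ∈ Ico a k, ((E k : ℝ) - (E i : ℝ)) := by
    apply Finset.sum_nonneg
    intro i hi
    rw [Finset.mem_Ico] at hi
    have h3 : E i ≤ E k := hmono i k hi.2.le hk
    have h4 : (E i : ℝ) ≤ (E k : ℝ) := by exact_mod_cast h3
    linarith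
  linarith

theorem lb2 (n g : ℕ) (E : ℕ → ℕ) (hmono : ∀ i j, i ≤ j → j ≤ n → E i ≤ E j)
    (hle : ∀ i, i ≤ n - g → E i ≤ i) (hle' : ∀ i, i ≤ n → E i ≤ i + g)
    (k : ℕ) (hk : k ≤ n) (m T : ℕ) (hm : n - g = m) (hT : m + 1 + T ≤ k) :
    ∑ i ∈ range (m + 1), ((E k : ℝ) - (i : ℝ)) +
        ∑ t ∈ range T, ((E k : ℝ) - (g : ℝ) - ((m : ℝ) + 1) - (t : ℝ)) ≤
      ∑ i ∈ range k, ((E k : ℝ) - (E i : ℝ)) := by
  have h0 : m + 1 ≤ m + 1 + T := by omega
  rw [← Finset.sum_range_add_sum_Ico _ hT, ← Finset.sum_range_add_sum_Ico _ h0]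
  have h1 : ∑ i ∈ range (m + 1), ((E k : ℝ) - (i : ℝ)) ≤
      ∑ i ∈ range (m + 1), ((E k : ℝ) - (E i : ℝ)) := by
    apply Finset.sum_le_sum
    intro i hi
    have hi' : i < m + 1 := Finset.mem_range.mp hi
    have h2 : E i ≤ i := hle i (by omega)
    have h3 : (E i : ℝ) ≤ (i : ℝ) := by exact_mod_cast h2
    linarith
  have h2 : ∑ t ∈ range T, ((E k : ℝ) - (g : ℝ) - ((m : ℝ) + 1) - (t : ℝ)) ≤
      ∑ i ∈ Ico (m + 1) (m + 1 + T), ((E k : ℝ) - (E i : ℝ)) := by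
    rw [Finset.sum_Ico_eq_sum_range, Nat.add_sub_cancel_left]
    apply Finset.sum_le_sum
    intro t ht
    have ht' : t < T := Finset.mem_range.mp ht
    have h3 : E (m + 1 + t) ≤ (m + 1 + t) + g := hle' _ (by omega)
    have h4 : (E (m + 1 + t) : ℝ) ≤ (m : ℝ) + 1 + t + g := by exact_mod_cast h3
    linarith
  have h3 : 0 ≤ ∑ i ∈ Ico (m + 1 + T) k, ((E k : ℝ) - (E i : ℝ)) := by
    apply Finset.sum_nonneg
    intro i hi
    rw [Finset.mem_Ico] at hi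
    have h3 : E i ≤ E k := hmono i k hi.2.le hk
    have h4 : (E i : ℝ) ≤ (E k : ℝ) := by exact_mod_cast h3
    linarith
  linarith

theorem star (n g : ℕ) (hg : 1 ≤ g) (hn : 2 * g ≤ n) (E : ℕ → ℕ)
    (hmono : ∀ i j, i ≤ j → j ≤ n → E i ≤ E j)
    (hle : ∀ i, i ≤ n - g → E i ≤ i) (hle' : ∀ i, i ≤ n → E i ≤ i + g)
    (k : ℕ) (hk : k ≤ n) (hE : 1 ≤ E k) :
    ((n : ℝ) + 1) * (E k : ℝ) ^ 2 + 1 ≤
      2 * ((n : ℝ) + g) * ∑ i ∈ range k, ((E k : ℝ) - (E i : ℝ)) := by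
  obtain ⟨m, hm⟩ : ∃ m, n - g = m := ⟨_, rfl⟩
  have hnm : n = m + g := by omega
  have hmg : g ≤ m := by omega
  have hnR : (n : ℝ) = m + g := by
    rw [hnm]
    push_cast
    ring
  have hgR : (1 : ℝ) ≤ g := by exact_mod_cast hg
  have hmgR : (g : ℝ) ≤ m := by exact_mod_cast hmg
  have hek : E k ≤ k + g := hle' k hk
  obtain ⟨S, hS⟩ : ∃ S, S = ∑ i ∈ range k, ((E k : ℝ) - (E i : ℝ)) := ⟨_, rfl⟩
  rw [← hS]
  have hpos : (0 : ℝ) ≤ (n : ℝ) + g := by positivity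
  by_cases hA : E k ≤ m + 1
  · have hek' : E k ≤ k := by
      by_cases hkm : k ≤ m
      · exact hle k (by omega)
      · omega
    have h1 := lb1 n g E hmono hle k hk (E k) hek' (by omega)
    rw [gauss, ← hS] at h1
    have heR : (1 : ℝ) ≤ E k := by exact_mod_cast hE
    have h2 := polyA n g (E k) (Nat.cast_nonneg n) hgR heR
    nlinarith [mul_le_mul_of_nonneg_left h1 hpos]
  · have hA' : m + 2 ≤ E k := by omega
    have hkm : m + 1 ≤ k := by
      by_contra hcon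
      have h1 := hle k (by omega)
      omega
    by_cases hB : E k ≤ n + 1
    · have h1 := lb1 n g E hmono hle k hk (m + 1) hkm (by omega)
      rw [gauss, ← hS] at h1
      push_cast at h1
      obtain ⟨s, hs⟩ : ∃ s, E k = m + 1 + s := ⟨E k - (m + 1), by omega⟩
      have hsg : s ≤ g := by omega
      have hsR : (E k : ℝ) = m + 1 + s := by
        rw [hs]
        push_cast
        ring
      have hs0 : (0 : ℝ) ≤ s := Nat.cast_nonneg s
      have hsgR : (s : ℝ) ≤ g := by exact_mod_cast hsg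
      have h2 := polyB m g s hgR hmgR hs0 hsgR
      rw [hsR] at h1 ⊢
      rw [hnR] at hpos ⊢
      nlinarith [mul_le_mul_of_nonneg_left h1 hpos]
    · have hC : n + 2 ≤ E k := by omega
      obtain ⟨T, hT⟩ : ∃ T, E k = n + 1 + T := ⟨E k - (n + 1), by omega⟩
      have hTg : T + 1 ≤ g := by omega
      have hTk : m + 1 + T ≤ k := by omega
      have h1 := lb2 n g E hmono hle hle' k hk m T hm hTk
      have hTR : (E k : ℝ) = m + g + 1 + T := by
        rw [hT, hnm]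
        push_cast
        ring
      have h3 : ∑ t ∈ range T, ((E k : ℝ) - (g : ℝ) - ((m : ℝ) + 1) - (t : ℝ)) =
          ∑ t ∈ range T, ((T : ℝ) - (t : ℝ)) := by
        apply Finset.sum_congr rfl
        intro t _
        rw [hTR]
        ring
      rw [h3, gauss, gauss, ← hS] at h1
      push_cast at h1
      have hT0 : (0 : ℝ) ≤ T := Nat.cast_nonneg T
      have hTgR : (T : ℝ) ≤ g - 1 := by
        have h4 : ((T + 1 : ℕ) : ℝ) ≤ g := by exact_mod_cast hTg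
        push_cast at h4
        linarith
      have h2 := polyC m g T hgR hmgR hT0 hTgR
      rw [hTR] at h1 ⊢
      rw [hnR] at hpos ⊢
      nlinarith [mul_le_mul_of_nonneg_left h1 hpos]

theorem final (n g : ℕ) (hg : 1 ≤ g) (hn : 2 * g ≤ n)
    (e : Fin (n + 1) → ℕ) (he0 : e 0 = 0) (hen : e (Fin.last n) = n + g) (hmono : Monotone e)
    (hle : ∀ i : Fin (n + 1), (i : ℕ) ≤ n - g → e i ≤ (i : ℕ))
    (hle' : ∀ i : Fin (n + 1), e i ≤ (i : ℕ) + g)
    (r : Fin (n + 1) → ℝ) (hanti : Antitone r) (hsum : ∑ i, r i = 0) (hr : r ≠ 0) :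
    ∃ (μ : ℕ) (c : Fin (μ + 1) → Fin (n + 1)), StrictMono c ∧ c 0 = 0 ∧
      c (Fin.last μ) = Fin.last n ∧
      ∑ j : Fin μ, ((e (c j.succ) : ℝ) - (e (c j.castSucc) : ℝ)) *
        (r (c j.succ) + r (c j.castSucc)) < 0 := by
  obtain ⟨E, hE⟩ : ∃ E : ℕ → ℕ, ∀ i (h : i < n + 1), E i = e ⟨i, h⟩ :=
    ⟨fun i => if h : i < n + 1 then e ⟨i, h⟩ else 0, fun i h => dif_pos h⟩
  obtain ⟨y, hy⟩ : ∃ y : ℕ → ℝ, ∀ i (h : i < n + 1), y i = r ⟨i, h⟩ :=
    ⟨fun i => if h : i < n + 1 then r ⟨i, h⟩ else 0, fun i h => dif_pos h⟩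
  obtain ⟨x, hx⟩ : ∃ x : ℕ → ℝ, ∀ i, x i = (E i : ℝ) := ⟨fun i => (E i : ℝ), fun _ => rfl⟩
  have hEmono : ∀ i j, i ≤ j → j ≤ n → E i ≤ E j := by
    intro i j hij hj
    rw [hE i (by omega), hE j (by omega)]
    exact hmono (Fin.mk_le_mk.mpr hij)
  have hEle : ∀ i, i ≤ n - g → E i ≤ i := by
    intro i hi
    rw [hE i (by omega)]
    exact hle ⟨i, by omega⟩ hi
  have hEle' : ∀ i, i ≤ n → E i ≤ i + g := by
    intro i hi
    rw [hE i (by omega)]
    exact hle' ⟨i, by omega⟩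
  have hE0 : E 0 = 0 := by
    rw [hE 0 (Nat.succ_pos n)]
    exact he0
  have hEn : E n = n + g := by
    rw [hE n (Nat.lt_succ_self n)]
    exact hen
  have hxmono : ∀ i j, i ≤ j → j ≤ n → x i ≤ x j := by
    intro i j hij hj
    rw [hx, hx]
    exact_mod_cast hEmono i j hij hj
  have hymono : ∀ i j, i ≤ j → j ≤ n → y j ≤ y i := by
    intro i j hij hj
    rw [hy i (by omega), hy j (by omega)]
    exact hanti (Fin.mk_le_mk.mpr hij)
  have hx0 : x 0 = 0 := by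
    rw [hx, hE0]
    simp
  have hysum : ∑ i ∈ range (n + 1), y i = 0 := by
    rw [Finset.sum_range]
    have h1 : ∀ i : Fin (n + 1), y (i : ℕ) = r i := fun i => hy i i.isLt
    rw [Finset.sum_congr rfl (fun i _ => h1 i)]
    exact hsum
  have hyn : y n < 0 := by
    rw [hy n (Nat.lt_succ_self n)]
    by_contra hcon
    push Not at hcon
    have hnonneg : ∀ i : Fin (n + 1), 0 ≤ r i :=
      fun i => le_trans hcon (hanti (Fin.le_last i))
    have h1 := (Finset.sum_eq_zero_iff_of_nonneg (fun i _ => hnonneg i)).mp hsum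
    apply hr
    funext i
    exact h1 i (Finset.mem_univ i)
  obtain ⟨X, hX⟩ : ∃ X : ℝ, X = (n : ℝ) + g := ⟨_, rfl⟩
  have hXpos : 0 < X := by
    rw [hX]
    have h1 : (1 : ℝ) ≤ g := by exact_mod_cast hg
    have h2 : (0 : ℝ) ≤ n := Nat.cast_nonneg n
    linarith
  obtain ⟨δ, hδ⟩ : ∃ δ : ℝ, δ = 1 / X ^ 2 := ⟨_, rfl⟩
  have hδpos : 0 < δ := by
    rw [hδ]
    exact one_div_pos.mpr (pow_pos hXpos 2)
  obtain ⟨c₀, hc₀⟩ : ∃ c₀ : ℝ, c₀ = (n : ℝ) + 1 + δ := ⟨_, rfl⟩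
  have hc₀pos : 0 < c₀ := by
    rw [hc₀]
    have h2 : (0 : ℝ) ≤ n := Nat.cast_nonneg n
    linarith
  obtain ⟨β, hβ⟩ : ∃ β : ℝ, β = X / c₀ := ⟨_, rfl⟩
  have hβ0 : 0 ≤ β := by
    rw [hβ]
    exact div_nonneg hXpos.le hc₀pos.le
  have hxn : x n = X := by
    rw [hx, hEn, hX]
    push_cast
    ring
  have hβn : β * ((n : ℝ) + 1) < X := by
    rw [hβ, div_mul_eq_mul_div, div_lt_iff₀ hc₀pos]
    have h1 : (n : ℝ) + 1 < c₀ := by
      rw [hc₀]
      linarith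
    exact mul_lt_mul_of_pos_left h1 hXpos
  have hG : ∀ k, k ≤ n → x k ^ 2 ≤ 2 * β * ∑ i ∈ range k, (x k - x i) := by
    intro k hk
    have hsumeq : ∑ i ∈ range k, (x k - x i) = ∑ i ∈ range k, ((E k : ℝ) - (E i : ℝ)) :=
      Finset.sum_congr rfl (fun i _ => by rw [hx, hx])
    rw [hsumeq, hx]
    have hSnonneg : 0 ≤ ∑ i ∈ range k, ((E k : ℝ) - (E i : ℝ)) := by
      apply Finset.sum_nonneg
      intro i hi
      have h3 : E i ≤ E k := hEmono i k (Finset.mem_range.mp hi).le hk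
      have h4 : (E i : ℝ) ≤ (E k : ℝ) := by exact_mod_cast h3
      linarith
    rcases Nat.eq_zero_or_pos (E k) with h0 | hpos
    · have h5 : ((E k : ℕ) : ℝ) ^ 2 = 0 := by
        rw [h0]
        simp
      rw [h5]
      exact mul_nonneg (mul_nonneg (by norm_num) hβ0) hSnonneg
    · have hs := star n g hg hn E hEmono hEle hEle' k hk hpos
      obtain ⟨S, hS⟩ : ∃ S, S = ∑ i ∈ range k, ((E k : ℝ) - (E i : ℝ)) := ⟨_, rfl⟩
      rw [← hS] at hs ⊢
      have hEkX : (E k : ℝ) ≤ X := by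
        have h5 : (E k : ℝ) ≤ (k : ℝ) + g := by exact_mod_cast hEle' k hk
        have h6 : (k : ℝ) ≤ n := by exact_mod_cast hk
        rw [hX]
        linarith
      have hEk0 : (0 : ℝ) ≤ E k := Nat.cast_nonneg _
      have hδE : (E k : ℝ) ^ 2 * δ ≤ 1 := by
        rw [hδ, mul_one_div, div_le_one (pow_pos hXpos 2)]
        exact pow_le_pow_left₀ hEk0 hEkX 2
      have e1 : 2 * β * S = (2 * X * S) / c₀ := by
        rw [hβ]
        ring
      rw [e1, le_div_iff₀ hc₀pos, hc₀, hX]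
      nlinarith [hs, hδE]
  obtain ⟨μ, c, hc, hc0, hcl, hS⟩ := ChainDP.main n x y β hxmono hymono hx0 hβ0 hG
    (by rw [hxn]; exact hXpos)
  have hcn : ∀ i, c i ≤ n := fun i => by
    have h1 := hc.monotone (Fin.le_last i)
    rw [hcl] at h1
    exact h1
  refine ⟨μ, fun i => ⟨c i, Nat.lt_succ_of_le (hcn i)⟩, ?_, ?_, ?_, ?_⟩
  · intro a b hab
    exact Fin.mk_lt_mk.mpr (hc hab)
  · apply Fin.ext
    show c 0 = ((0 : Fin (n + 1)) : ℕ)
    rw [hc0, Fin.val_zero]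
  · apply Fin.ext
    show c (Fin.last μ) = n
    exact hcl
  · have hterm : ∀ j : Fin μ,
        ((e ⟨c j.succ, Nat.lt_succ_of_le (hcn j.succ)⟩ : ℝ) -
            (e ⟨c j.castSucc, Nat.lt_succ_of_le (hcn j.castSucc)⟩ : ℝ)) *
          (r ⟨c j.succ, Nat.lt_succ_of_le (hcn j.succ)⟩ +
            r ⟨c j.castSucc, Nat.lt_succ_of_le (hcn j.castSucc)⟩) =
        ChainDP.cost x y (c j.castSucc) (c j.succ) := by
      intro j
      unfold ChainDP.cost
      rw [hx, hx, hE _ (Nat.lt_succ_of_le (hcn j.succ)),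
        hE _ (Nat.lt_succ_of_le (hcn j.castSucc)), hy _ (Nat.lt_succ_of_le (hcn j.succ)),
        hy _ (Nat.lt_succ_of_le (hcn j.castSucc))]
    refine lt_of_eq_of_lt (Finset.sum_congr rfl (fun j _ => hterm j)) ?_
    rw [hysum, mul_zero, zero_add] at hS
    have hneg : 2 * (x n - β * ((n : ℝ) + 1)) * y n < 0 := by
      have h1 : 0 < x n - β * ((n : ℝ) + 1) := by
        rw [hxn]
        linarith
      nlinarith
    linarith

end Groth.Agent.Helper25.Gieseker
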