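import Mathlib

namespace Groth.Agent.Helper25.GrDomOne

universe u

open DirectSum

section KeyLemma

variable {k : Type u} [Field k] [IsAlgClosed k] {R : Type u} [CommRing R] [IsDomain R]
  [Algebra k R]

theorem residue [Algebra.FiniteType k R] (𝔪 : Ideal R) (h𝔪 : 𝔪.IsMaximal) (x : R) :
    ∃ c : k, x - algebraMap k R c ∈ 𝔪 := by
  haveI := h𝔪
  letI := Ideal.Quotient.field 𝔪
  haveI : Algebra.FiniteType k (R ⧸ 𝔪) :=
    Algebra.FiniteType.of_surjective (Ideal.Quotient.mkₐ k 𝔪) (Ideal.Quotient.mkₐ_surjective k 𝔪)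
  haveI : Module.Finite k (R ⧸ 𝔪) := finite_of_finite_type_of_isJacobsonRing k (R ⧸ 𝔪)
  haveI : Algebra.IsIntegral k (R ⧸ 𝔪) := Algebra.IsIntegral.of_finite k (R ⧸ 𝔪)
  obtain ⟨c, hc⟩ := (IsAlgClosed.algebraMap_bijective_of_isIntegral (k := k) (K := R ⧸ 𝔪)).2
    (Ideal.Quotient.mk 𝔪 x)
  refine ⟨c, ?_⟩
  rw [← Ideal.Quotient.eq, ← hc, Ideal.Quotient.mk_algebraMap]

omit [IsAlgClosed k] in
theorem exists_maximal_not_mem [Algebra.FiniteType k R] {a : R} (ha : a ≠ 0) :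
    ∃ 𝔪 : Ideal R, 𝔪.IsMaximal ∧ a ∉ 𝔪 := by
  haveI : IsJacobsonRing R := isJacobsonRing_of_finiteType (A := k)
  have hj : (⊥ : Ideal R).jacobson = ⊥ := IsJacobsonRing.out ‹_› (Ideal.bot_prime.isRadical)
  by_contra hcon
  have hall : ∀ 𝔪 : Ideal R, 𝔪.IsMaximal → a ∈ 𝔪 :=
    fun 𝔪 h𝔪 => by_contra fun hn => hcon ⟨𝔪, h𝔪, hn⟩
  apply ha
  have : a ∈ (⊥ : Ideal R).jacobson := by
    rw [Ideal.jacobson, Ideal.mem_sInf]
    intro J hJ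
    exact hall J hJ.2
  rw [hj] at this
  exact Ideal.mem_bot.mp this

variable (𝒜 : ℤ → Submodule k R) [GradedAlgebra 𝒜]

omit [IsAlgClosed k] [IsDomain R] in
theorem mem_of_homogeneous_maximal (hpos : ∀ n : ℤ, n < 0 → 𝒜 n = ⊥) (𝔪 : Ideal R)
    (h𝔪 : 𝔪.IsMaximal) (hh : 𝔪.IsHomogeneous 𝒜) {n : ℤ} (hn : 0 < n) {a : R}
    (ha : a ∈ 𝒜 n) : a ∈ 𝔪 := by
  by_contra hna
  obtain ⟨y, i, hi, hyi⟩ := h𝔪.exists_inv hna
  have h0 := congrArg (fun z => ((decompose 𝒜 z) 0 : R)) hyi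
  simp only [decompose_add, DirectSum.add_apply, Submodule.coe_add] at h0
  have h1 : ((decompose 𝒜 (y * a)) 0 : R) = 0 := by
    have := coe_decompose_mul_add_of_right_mem 𝒜 (i := -n) (a := y) ha
    rw [neg_add_cancel] at this
    rw [this]
    have hz : ((decompose 𝒜 y) (-n) : R) ∈ 𝒜 (-n) := SetLike.coe_mem _
    rw [(Submodule.eq_bot_iff _).mp (hpos (-n) (by omega)) _ hz, zero_mul]
  have h2 : ((decompose 𝒜 (1 : R)) 0 : R) = 1 :=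
    decompose_of_mem_same 𝒜 (SetLike.GradedOne.one_mem)
  rw [h1, h2, zero_add] at h0
  have : (1 : R) ∈ 𝔪 := h0 ▸ hh 0 hi
  exact h𝔪.ne_top ((Ideal.eq_top_iff_one 𝔪).mpr this)

theorem key_pos [Algebra.FiniteType k R] (hpos : ∀ n : ℤ, n < 0 → 𝒜 n = ⊥)
    (hdim : ∀ P : Ideal R, P ≠ ⊥ → P.IsPrime → P.IsMaximal)
    {n : ℤ} (hn : 0 < n) {a b : R} (ha : a ∈ 𝒜 n) (hb : b ∈ 𝒜 n) (ha0 : a ≠ 0) :
    ∃ c : k, b = c • a := by
  obtain ⟨𝔪, h𝔪, ha𝔪⟩ := exists_maximal_not_mem (k := k) ha0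
  obtain ⟨α, hα⟩ := residue (k := k) 𝔪 h𝔪 a
  obtain ⟨β, hβ⟩ := residue (k := k) 𝔪 h𝔪 b
  have hα0 : α ≠ 0 := by
    rintro rfl
    rw [map_zero, sub_zero] at hα
    exact ha𝔪 hα
  refine ⟨β / α, ?_⟩
  by_contra hne
  have hy0 : b - (β / α) • a ≠ 0 := fun h => hne (sub_eq_zero.mp h)
  have hyA : b - (β / α) • a ∈ 𝒜 n := Submodule.sub_mem _ hb (Submodule.smul_mem _ _ ha)
  have hy𝔪 : b - (β / α) • a ∈ 𝔪 := by
    have e : b - (β / α) • a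
        = (b - algebraMap k R β) - algebraMap k R (β / α) * (a - algebraMap k R α) := by
      have : algebraMap k R (β / α) * algebraMap k R α = algebraMap k R β := by
        rw [← map_mul, div_mul_cancel₀ _ hα0]
      rw [Algebra.smul_def]
      linear_combination (-1 : R) * this
    rw [e]
    exact 𝔪.sub_mem hβ (𝔪.mul_mem_left _ hα)
  have hP : ((𝔪.homogeneousCore 𝒜).toIdeal).IsPrime := h𝔪.isPrime.homogeneousCore
  have hyP : b - (β / α) • a ∈ (𝔪.homogeneousCore 𝒜).toIdeal :=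
    Ideal.mem_homogeneousCore_of_homogeneous_of_mem ⟨n, hyA⟩ hy𝔪
  have hPne : (𝔪.homogeneousCore 𝒜).toIdeal ≠ ⊥ := fun h =>
    hy0 (by rw [h] at hyP; exact Ideal.mem_bot.mp hyP)
  have hPmax := hdim _ hPne hP
  have hPeq : (𝔪.homogeneousCore 𝒜).toIdeal = 𝔪 :=
    hPmax.eq_of_le h𝔪.ne_top (Ideal.toIdeal_homogeneousCore_le 𝒜 𝔪)
  have hhom : 𝔪.IsHomogeneous 𝒜 := by
    have := (𝔪.homogeneousCore 𝒜).isHomogeneous
    rwa [hPeq] at this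
  exact ha𝔪 (mem_of_homogeneous_maximal 𝒜 hpos 𝔪 h𝔪 hhom hn ha)

theorem key_all [Algebra.FiniteType k R] (hpos : ∀ n : ℤ, n < 0 → 𝒜 n = ⊥)
    (h0 : 𝒜 0 = Submodule.span k {(1 : R)})
    (hdim : ∀ P : Ideal R, P ≠ ⊥ → P.IsPrime → P.IsMaximal)
    (n : ℤ) (a : R) (ha : a ∈ 𝒜 n) (b : R) (hb : b ∈ 𝒜 n) (ha0 : a ≠ 0) :
    ∃ c : k, b = c • a := by
  rcases lt_trichotomy n 0 with hn | hn | hn
  · exfalso; rw [hpos n hn] at ha; exact ha0 ((Submodule.mem_bot k).mp ha)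
  · subst hn
    rw [h0, Submodule.mem_span_singleton] at ha hb
    obtain ⟨α, rfl⟩ := ha
    obtain ⟨β, rfl⟩ := hb
    have hα0 : α ≠ 0 := by rintro rfl; exact ha0 (zero_smul _ _)
    exact ⟨β / α, by rw [smul_smul, div_mul_cancel₀ _ hα0]⟩
  · exact key_pos 𝒜 hpos hdim hn ha hb ha0

end KeyLemma

section General

variable {k : Type u} [Field k] {R : Type u} [CommRing R] [IsDomain R] [Algebra k R]
  (𝒜 : ℤ → Submodule k R) [GradedAlgebra 𝒜]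

theorem lift_bijective {Γ : Type*} [AddCommMonoid Γ] (ι : Γ → ℤ) (hι : Function.Injective ι)
    (E : Multiplicative Γ →* R) (hmem : ∀ γ : Γ, E (Multiplicative.ofAdd γ) ∈ 𝒜 (ι γ))
    (hne : ∀ γ : Γ, E (Multiplicative.ofAdd γ) ≠ 0)
    (hsurj : ∀ n, 𝒜 n ≠ ⊥ → ∃ γ, ι γ = n)
    (key : ∀ n : ℤ, ∀ a ∈ 𝒜 n, ∀ b ∈ 𝒜 n, a ≠ 0 → ∃ c : k, b = c • a) :
    Function.Bijective (AddMonoidAlgebra.lift k R Γ E) := by
  classical
  have h1 : ∀ f : AddMonoidAlgebra k Γ, AddMonoidAlgebra.lift k R Γ E f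
      = Finsupp.linearCombination k (fun γ => E (Multiplicative.ofAdd γ)) f.coeff := by
    intro f
    rw [AddMonoidAlgebra.lift_apply, Finsupp.linearCombination_apply]
  have hind : iSupIndep fun γ : Γ => 𝒜 (ι γ) :=
    (DirectSum.Decomposition.isInternal 𝒜).submodule_iSupIndep.comp hι
  have hli : LinearIndependent k (fun γ => E (Multiplicative.ofAdd γ)) :=
    iSupIndep.linearIndependent _ hind hmem hne
  constructor
  · intro f g hfg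
    rw [h1, h1] at hfg
    exact AddMonoidAlgebra.coeff_injective (hli hfg)
  · intro x
    have hspan : Submodule.span k (Set.range (fun γ => E (Multiplicative.ofAdd γ))) = ⊤ := by
      rw [eq_top_iff, ← (DirectSum.Decomposition.isInternal 𝒜).submodule_iSup_eq_top]
      refine iSup_le fun n => ?_
      by_cases hn : 𝒜 n = ⊥
      · rw [hn]; exact bot_le
      · obtain ⟨γ, rfl⟩ := hsurj n hn
        intro y hy
        obtain ⟨c, rfl⟩ := key _ _ (hmem γ) y hy (hne γ)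
        exact Submodule.smul_mem _ c (Submodule.subset_span ⟨γ, rfl⟩)
    have hx : x ∈ LinearMap.range
        (Finsupp.linearCombination k (fun γ => E (Multiplicative.ofAdd γ))) := by
      rw [Finsupp.range_linearCombination, hspan]; trivial
    obtain ⟨l, hl⟩ := hx
    exact ⟨AddMonoidAlgebra.ofCoeff l, by rw [h1]; exact hl⟩

/-- the degree monoid -/
def HH : AddSubmonoid ℕ where
  carrier := {n | 𝒜 (n : ℤ) ≠ ⊥}
  zero_mem' := by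
    show 𝒜 ((0 : ℕ) : ℤ) ≠ ⊥
    rw [Nat.cast_zero, Submodule.ne_bot_iff]
    exact ⟨1, SetLike.GradedOne.one_mem, one_ne_zero⟩
  add_mem' := by
    intro n m hn hm
    obtain ⟨x, hx, hx0⟩ := (Submodule.ne_bot_iff _).mp hn
    obtain ⟨y, hy, hy0⟩ := (Submodule.ne_bot_iff _).mp hm
    refine (Submodule.ne_bot_iff _).mpr ⟨x * y, ?_, mul_ne_zero hx0 hy0⟩
    rw [Nat.cast_add]; exact SetLike.mul_mem_graded hx hy

theorem mem_HH (n : ℕ) : n ∈ HH 𝒜 ↔ 𝒜 (n : ℤ) ≠ ⊥ := Iff.rfl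

omit [IsDomain R] in
theorem pos_exists [Nontrivial R] (hpos : ∀ n : ℤ, n < 0 → 𝒜 n = ⊥)
    (h0 : 𝒜 0 = Submodule.span k {(1 : R)}) (h1 : ringKrullDim R = 1) :
    ∃ n : ℕ, 0 < n ∧ 𝒜 (n : ℤ) ≠ ⊥ := by
  by_contra hcon
  have hall : ∀ n : ℤ, n ≠ 0 → 𝒜 n = ⊥ := by
    intro n hn
    rcases lt_or_gt_of_ne hn with h | h
    · exact hpos n h
    · by_contra hne
      apply hcon
      refine ⟨n.toNat, by omega, ?_⟩
      rwa [Int.toNat_of_nonneg h.le]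
  have htop : ∀ x : R, x ∈ 𝒜 0 := by
    intro x
    have hx : x ∈ (⊤ : Submodule k R) := trivial
    rw [← (DirectSum.Decomposition.isInternal 𝒜).submodule_iSup_eq_top] at hx
    refine (iSup_le fun n => ?_ : iSup 𝒜 ≤ 𝒜 0) hx
    by_cases hn : n = 0
    · rw [hn]
    · rw [hall n hn]; exact bot_le
  have hfield : IsField R := by
    refine ⟨⟨0, 1, zero_ne_one⟩, mul_comm, ?_⟩
    intro x hx
    have hx0 := htop x
    rw [h0, Submodule.mem_span_singleton] at hx0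
    obtain ⟨c, rfl⟩ := hx0
    have hc : c ≠ 0 := by rintro rfl; exact hx (zero_smul _ _)
    refine ⟨c⁻¹ • 1, ?_⟩
    rw [smul_mul_smul_comm, mul_one, mul_inv_cancel₀ hc, one_smul]
  have := ringKrullDim_eq_zero_of_isField hfield
  rw [h1] at this
  exact one_ne_zero this

end General

theorem exists_gcd_pair (H : AddSubmonoid ℕ) (h0 : ∃ h ∈ H, 0 < h) :
    ∃ d n2 : ℕ, 0 < d ∧ n2 ∈ H ∧ n2 + d ∈ H ∧ ∀ h ∈ H, d ∣ h := by
  classical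
  have hP : ∃ d, 0 < d ∧ ∃ n2 ∈ H, n2 + d ∈ H := by
    obtain ⟨h, hh, hpos⟩ := h0
    exact ⟨h, hpos, 0, H.zero_mem, by simpa using hh⟩
  obtain ⟨hd, n2, hn2, hn2d⟩ := Nat.find_spec hP
  have hmin : ∀ m, (0 < m ∧ ∃ n2 ∈ H, n2 + m ∈ H) → Nat.find hP ≤ m :=
    fun m hm => Nat.find_min' hP hm
  generalize Nat.find hP = d at *
  refine ⟨d, n2, hd, hn2, hn2d, fun h hh => ?_⟩
  by_contra hnd
  have hρ : 0 < h % d := Nat.pos_of_ne_zero (fun h0 => hnd (Nat.dvd_of_mod_eq_zero h0))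
  have hlt : h % d < d := Nat.mod_lt _ hd
  have hmem : (h / d) • (n2 + d) + h % d ∈ H := by
    have e : (h / d) • (n2 + d) + h % d = (h / d) • n2 + h := by
      rw [smul_eq_mul, smul_eq_mul, mul_add, add_assoc, Nat.div_add_mod']
    rw [e]; exact H.add_mem (H.nsmul_mem hn2 _) hh
  have := hmin (h % d) ⟨hρ, _, H.nsmul_mem hn2d _, hmem⟩
  omega

section Main

variable {k : Type u} [Field k] {R : Type u} [CommRing R] [IsDomain R] [Algebra k R]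
  (𝒜 : ℤ → Submodule k R) [GradedAlgebra 𝒜]

theorem exists_e (key : ∀ n : ℤ, ∀ a ∈ 𝒜 n, ∀ b ∈ 𝒜 n, a ≠ 0 → ∃ c : k, b = c • a)
    {d n2 : ℕ} {a b : R} (ha : a ∈ 𝒜 ((n2 + d : ℕ) : ℤ)) (hb : b ∈ 𝒜 (n2 : ℤ))
    (ha0 : a ≠ 0) (hb0 : b ≠ 0) (h q : ℕ) (hq : d * q = h) (hh : 𝒜 (h : ℤ) ≠ ⊥) :
    ∃ e : R, e ∈ 𝒜 (h : ℤ) ∧ e * b ^ q = a ^ q := by
  obtain ⟨x, hx, hx0⟩ := (Submodule.ne_bot_iff _).mp hh
  have h1 : x * b ^ q ∈ 𝒜 ((h : ℤ) + q • (n2 : ℤ)) :=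
    SetLike.mul_mem_graded hx (SetLike.pow_mem_graded q hb)
  have h2 : a ^ q ∈ 𝒜 (q • ((n2 + d : ℕ) : ℤ)) := SetLike.pow_mem_graded q ha
  have hdeg : q • ((n2 + d : ℕ) : ℤ) = (h : ℤ) + q • (n2 : ℤ) := by
    subst hq
    rw [nsmul_eq_mul, nsmul_eq_mul]; push_cast; ring
  rw [hdeg] at h2
  obtain ⟨c, hc⟩ := key _ (x * b ^ q) h1 (a ^ q) h2 (mul_ne_zero hx0 (pow_ne_zero q hb0))
  exact ⟨c • x, Submodule.smul_mem _ c hx, by rw [hc, smul_mul_assoc]⟩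

theorem partA (key : ∀ n : ℤ, ∀ a ∈ 𝒜 n, ∀ b ∈ 𝒜 n, a ≠ 0 → ∃ c : k, b = c • a)
    (hpos : ∀ n : ℤ, n < 0 → 𝒜 n = ⊥) (hex : ∃ n : ℕ, 0 < n ∧ 𝒜 (n : ℤ) ≠ ⊥) :
    Nonempty (R ≃+* AddMonoidAlgebra k (HH 𝒜)) := by
  classical
  obtain ⟨d, n2, hd, hn2, hn2d, hdvd⟩ := exists_gcd_pair (HH 𝒜)
    (by obtain ⟨n, hn, hne⟩ := hex; exact ⟨n, hne, hn⟩)
  obtain ⟨b, hb, hb0⟩ := (Submodule.ne_bot_iff _).mp hn2
  obtain ⟨a, ha, ha0⟩ := (Submodule.ne_bot_iff _).mp hn2d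
  have hexe : ∀ h : HH 𝒜, ∃ e : R, e ∈ 𝒜 ((h : ℕ) : ℤ) ∧
      e * b ^ ((h : ℕ) / d) = a ^ ((h : ℕ) / d) :=
    fun h => exists_e 𝒜 key ha hb ha0 hb0 (h : ℕ) ((h : ℕ) / d)
      (Nat.mul_div_cancel' (hdvd _ h.2)) h.2
  choose e he_mem he_eq using hexe
  have he_ne : ∀ h, e h ≠ 0 := by
    intro h h0
    have := he_eq h
    rw [h0, zero_mul] at this
    exact pow_ne_zero _ ha0 this.symm
  have he_zero : e 0 = 1 := by
    have := he_eq 0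
    simpa using this
  have he_add : ∀ h h' : HH 𝒜, e (h + h') = e h * e h' := by
    intro h h'
    have hq : ((h + h' : HH 𝒜) : ℕ) / d = (h : ℕ) / d + (h' : ℕ) / d := by
      rw [AddSubmonoid.coe_add]
      exact Nat.add_div_of_dvd_right (hdvd _ h.2)
    have h1 := he_eq (h + h')
    rw [hq, pow_add, pow_add, ← he_eq h, ← he_eq h'] at h1
    have hb' : b ^ ((h : ℕ) / d) * b ^ ((h' : ℕ) / d) ≠ 0 :=
      mul_ne_zero (pow_ne_zero _ hb0) (pow_ne_zero _ hb0)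
    apply mul_right_cancel₀ hb'
    rw [h1]; ring
  let E : Multiplicative (HH 𝒜) →* R :=
    { toFun := fun x => e (Multiplicative.toAdd x)
      map_one' := he_zero
      map_mul' := fun x y => he_add _ _ }
  have hsurj : ∀ n : ℤ, 𝒜 n ≠ ⊥ → ∃ γ : HH 𝒜, ((γ : ℕ) : ℤ) = n := by
    intro n hn
    have hn0 : 0 ≤ n := by
      by_contra hlt
      exact hn (hpos n (by omega))
    lift n to ℕ using hn0
    exact ⟨⟨n, hn⟩, rfl⟩
  have hbij := lift_bijective 𝒜 (fun h : HH 𝒜 => ((h : ℕ) : ℤ))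
    (fun x y hxy => Subtype.ext (Nat.cast_injective hxy)) E (fun γ => he_mem γ)
    (fun γ => he_ne γ) hsurj key
  exact ⟨(RingEquiv.ofBijective (AddMonoidAlgebra.lift k R (HH 𝒜) E) hbij).symm⟩

theorem partB (key : ∀ n : ℤ, ∀ a ∈ 𝒜 n, ∀ b ∈ 𝒜 n, a ≠ 0 → ∃ c : k, b = c • a)
    (hpos : ∀ n : ℤ, n < 0 → 𝒜 n = ⊥) (hex : ∃ n : ℕ, 0 < n ∧ 𝒜 (n : ℤ) ≠ ⊥)
    (hgen : Ideal.span (⋃ n ∈ Set.Ioi (0 : ℤ), (𝒜 n : Set R))
      = Ideal.span ((𝒜 1 : Submodule k R) : Set R)) :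
    Nonempty (R ≃+* Polynomial k) := by
  classical
  have h1ne : 𝒜 1 ≠ ⊥ := by
    intro hbot
    obtain ⟨n, hn, hne⟩ := hex
    obtain ⟨y, hy, hy0⟩ := (Submodule.ne_bot_iff _).mp hne
    have hy1 : y ∈ Ideal.span (⋃ n ∈ Set.Ioi (0 : ℤ), (𝒜 n : Set R)) :=
      Ideal.subset_span (Set.mem_biUnion
        (show (n : ℤ) ∈ Set.Ioi (0 : ℤ) from Set.mem_Ioi.mpr (by exact_mod_cast hn)) hy)
    rw [hgen, hbot, Submodule.bot_coe, Ideal.span_singleton_eq_bot.mpr rfl] at hy1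
    exact hy0 (Ideal.mem_bot.mp hy1)
  obtain ⟨x, hx, hx0⟩ := (Submodule.ne_bot_iff _).mp h1ne
  have hmem : ∀ n : ℕ, powersHom R x (Multiplicative.ofAdd n) ∈ 𝒜 ((n : ℤ)) := by
    intro n
    rw [powersHom_apply, toAdd_ofAdd]
    simpa using SetLike.pow_mem_graded n hx
  have hne : ∀ n : ℕ, powersHom R x (Multiplicative.ofAdd n) ≠ 0 := by
    intro n
    rw [powersHom_apply, toAdd_ofAdd]
    exact pow_ne_zero n hx0
  have hsurj : ∀ n : ℤ, 𝒜 n ≠ ⊥ → ∃ γ : ℕ, (γ : ℤ) = n := by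
    intro n hn
    have hn0 : 0 ≤ n := by
      by_contra hlt
      exact hn (hpos n (by omega))
    exact ⟨n.toNat, Int.toNat_of_nonneg hn0⟩
  have hbij := lift_bijective 𝒜 (fun n : ℕ => (n : ℤ)) Nat.cast_injective (powersHom R x)
    hmem hne hsurj key
  exact ⟨((RingEquiv.ofBijective _ hbij).symm).trans (Polynomial.toFinsuppIso k).symm⟩

theorem main (k : Type u) [Field k] [IsAlgClosed k] (R : Type u) [CommRing R] [IsDomain R]
    [Algebra k R] (𝒜 : ℤ → Submodule k R) [GradedAlgebra 𝒜]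
    (hpos : ∀ n : ℤ, n < 0 → 𝒜 n = ⊥) (h0 : 𝒜 0 = Submodule.span k {(1 : R)})
    [Algebra.FiniteType k R] (h1 : ringKrullDim R = 1) :
    (∃ H : AddSubmonoid ℕ, Nonempty (R ≃+* AddMonoidAlgebra k H)) ∧
    (Ideal.span (⋃ n ∈ Set.Ioi (0 : ℤ), (𝒜 n : Set R))
      = Ideal.span ((𝒜 1 : Submodule k R) : Set R) → Nonempty (R ≃+* Polynomial k)) := by
  have hdim : ∀ P : Ideal R, P ≠ ⊥ → P.IsPrime → P.IsMaximal :=
    Ring.krullDimLE_one_iff_of_noZeroDivisors.mp (Ring.krullDimLE_iff.mpr (by simp [h1]))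
  have key := key_all 𝒜 hpos h0 hdim
  have hex := pos_exists 𝒜 hpos h0 h1
  exact ⟨⟨HH 𝒜, partA 𝒜 key hpos hex⟩, fun hgen => partB 𝒜 key hpos hex hgen⟩

end Main

end Groth.Agent.Helper25.GrDomOne
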