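import Mathlib

set_option autoImplicit false

/-!
# Graded projective modules over `R[x₁,…,xₙ]` are graded-free locally on `Spec R`

Helper library for S19649.
-/

namespace Groth.Agent.Helper25.GrFree

open MvPolynomial

universe u v

section Poly

variable {R : Type u} [CommRing R] {n : ℕ}

theorem weight_apply (e : Fin n →₀ ℕ) (j : Fin n) :
    (Finsupp.weight (fun i : Fin n => (Pi.single i 1 : Fin n → ℤ)) e) j = (e j : ℤ) := by
  rw [Finsupp.weight_apply, Finsupp.sum, Finset.sum_apply]
  simp only [Pi.smul_apply, Pi.single_apply, nsmul_eq_mul]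
  rw [Finset.sum_eq_single j]
  · simp
  · intro i _ hij; simp [Ne.symm hij]
  · intro hj; simp [Finsupp.notMem_support_iff.mp hj]

theorem weight_eq_zero {e : Fin n →₀ ℕ}
    (h : Finsupp.weight (fun i : Fin n => (Pi.single i 1 : Fin n → ℤ)) e = 0) : e = 0 := by
  ext j
  have := congrFun h j
  rw [weight_apply] at this
  simpa using this

theorem mccoy_aux (g : MvPolynomial (Fin n) R) :
    ∀ (k : ℕ) (a : MvPolynomial (Fin n) R), a.support.card ≤ k → g * a = 0 →
      ∃ N : ℕ, (C (constantCoeff g)) ^ N * a = 0 := by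
  intro k
  induction k with
  | zero =>
    intro a hk _
    have : a = 0 := by
      rw [← MvPolynomial.support_eq_empty, ← Finset.card_eq_zero]; omega
    exact ⟨0, by simp [this]⟩
  | succ k ih =>
    intro a hk h
    by_cases ha : a = 0
    · exact ⟨0, by simp [ha]⟩
    have hne : a.support.Nonempty := by
      rw [Finset.nonempty_iff_ne_empty, Ne, MvPolynomial.support_eq_empty]; exact ha
    obtain ⟨e₀, he₀, hmin⟩ :=
      Finset.exists_min_image a.support (fun e => Finsupp.degree e) hne
    have hc : constantCoeff g * coeff e₀ a = 0 := by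
      have h1 : coeff e₀ (g * a) = 0 := by rw [h]; simp
      rw [MvPolynomial.coeff_mul] at h1
      rw [Finset.sum_eq_single (0, e₀)] at h1
      · simpa [MvPolynomial.constantCoeff_eq] using h1
      · rintro ⟨u, w⟩ huv hne'
        rw [Finset.HasAntidiagonal.mem_antidiagonal] at huv
        simp only at huv
        by_cases hv : w ∈ a.support
        · exfalso
          have h2 : Finsupp.degree e₀ ≤ Finsupp.degree w := hmin w hv
          have h3 : Finsupp.degree e₀ = Finsupp.degree u + Finsupp.degree w := by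
            rw [← huv, map_add]
          have h4 : Finsupp.degree u = 0 := by omega
          have h5 : u = 0 := (Finsupp.degree_eq_zero_iff u).mp h4
          apply hne'
          rw [h5, zero_add] at huv
          rw [h5, huv]
        · rw [MvPolynomial.notMem_support_iff.mp hv, mul_zero]
      · intro hnot
        exact absurd (Finset.HasAntidiagonal.mem_antidiagonal.mpr (zero_add e₀)) hnot
    have hsub : (C (constantCoeff g) * a).support ⊆ a.support.erase e₀ := by
      intro e he
      rw [MvPolynomial.mem_support_iff, MvPolynomial.coeff_C_mul] at he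
      rw [Finset.mem_erase, MvPolynomial.mem_support_iff]
      refine ⟨?_, ?_⟩
      · rintro rfl; exact he hc
      · intro h0; apply he; rw [h0, mul_zero]
    have hcard : (C (constantCoeff g) * a).support.card ≤ k := by
      have := Finset.card_le_card hsub
      rw [Finset.card_erase_of_mem he₀] at this
      omega
    have hga : g * (C (constantCoeff g) * a) = 0 := by
      rw [mul_left_comm, h, mul_zero]
    obtain ⟨N, hN⟩ := ih (C (constantCoeff g) * a) hcard hga
    exact ⟨N + 1, by rw [pow_succ, mul_assoc]; exact hN⟩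

theorem mccoy (g a : MvPolynomial (Fin n) R) (h : g * a = 0) :
    ∃ N : ℕ, (C (constantCoeff g)) ^ N * a = 0 :=
  mccoy_aux g _ a le_rfl h

end Poly

section Graded

variable {R : Type u} [CommRing R] {n : ℕ}
  {P : Type v} [AddCommGroup P] [Module (MvPolynomial (Fin n) R) P] [Module R P]
  [IsScalarTower R (MvPolynomial (Fin n) R) P]

theorem C_smul_eq (ρ : R) (q : P) : (C ρ : MvPolynomial (Fin n) R) • q = ρ • q := by
  rw [← MvPolynomial.algebraMap_eq, algebraMap_smul]

variable (ℳ : (Fin n → ℤ) → Submodule R P) [DirectSum.Decomposition ℳ]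

/-- degree-`d` component as an `R`-linear endomorphism -/
noncomputable def proj (d : Fin n → ℤ) : P →ₗ[R] P :=
  (ℳ d).subtype ∘ₗ (DirectSum.component R (Fin n → ℤ) (fun i => ℳ i) d) ∘ₗ
    (DirectSum.decomposeLinearEquiv ℳ).toLinearMap

theorem proj_apply (d : Fin n → ℤ) (x : P) :
    proj ℳ d x = ((DirectSum.decompose ℳ x) d : P) := rfl

theorem proj_of_mem {d : Fin n → ℤ} {x : P} (hx : x ∈ ℳ d) : proj ℳ d x = x := by
  rw [proj_apply]; exact DirectSum.decompose_of_mem_same ℳ hx

theorem proj_of_mem_ne {d d' : Fin n → ℤ} {x : P} (hx : x ∈ ℳ d') (h : d' ≠ d) :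
    proj ℳ d x = 0 := by
  rw [proj_apply]; exact DirectSum.decompose_of_mem_ne ℳ hx h

variable [SetLike.GradedSMul
  (MvPolynomial.weightedHomogeneousSubmodule R (fun i : Fin n => (Pi.single i 1 : Fin n → ℤ))) ℳ]

theorem monomial_smul_mem (e : Fin n →₀ ℕ) (ρ : R) {d : Fin n → ℤ} {x : P} (hx : x ∈ ℳ d) :
    (monomial e ρ : MvPolynomial (Fin n) R) • x ∈
      ℳ (Finsupp.weight (fun i : Fin n => (Pi.single i 1 : Fin n → ℤ)) e + d) := by
  have h1 : (monomial e ρ : MvPolynomial (Fin n) R) ∈
      MvPolynomial.weightedHomogeneousSubmodule R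
        (fun i : Fin n => (Pi.single i 1 : Fin n → ℤ))
        (Finsupp.weight (fun i : Fin n => (Pi.single i 1 : Fin n → ℤ)) e) := by
    rw [MvPolynomial.mem_weightedHomogeneousSubmodule]
    exact MvPolynomial.isWeightedHomogeneous_monomial _ _ _ rfl
  have := SetLike.GradedSMul.smul_mem h1 hx
  rwa [vadd_eq_add] at this

theorem proj_smul_of_mem (g : MvPolynomial (Fin n) R) {d : Fin n → ℤ} {q : P} (hq : q ∈ ℳ d) :
    proj ℳ d (g • q) = constantCoeff g • q := by
  classical
  induction g using MvPolynomial.induction_on' with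
  | monomial e ρ =>
    by_cases he : e = 0
    · subst he
      have h1 : (monomial (0 : Fin n →₀ ℕ) ρ : MvPolynomial (Fin n) R) • q = ρ • q := by
        rw [← MvPolynomial.C_apply]; exact C_smul_eq ρ q
      rw [h1, proj_of_mem ℳ ((ℳ d).smul_mem ρ hq)]
      simp
    · have hm := monomial_smul_mem ℳ e ρ hq
      rw [proj_of_mem_ne ℳ hm]
      · rw [MvPolynomial.constantCoeff_monomial, if_neg he, zero_smul]
      · intro h
        apply he
        apply weight_eq_zero
        simpa using h
  | add p q' hp hq' =>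
    rw [add_smul, map_add, hp, hq', map_add, add_smul]

theorem proj_mem_span {m : ℕ} (dd : Fin m → (Fin n → ℤ)) (f : Fin m → P)
    (hf : ∀ i, f i ∈ ℳ (dd i)) (d : Fin n → ℤ) {x : P}
    (hx : x ∈ Submodule.span (MvPolynomial (Fin n) R) (Set.range f)) :
    proj ℳ d x ∈ Submodule.span (MvPolynomial (Fin n) R) (Set.range f) := by
  classical
  obtain ⟨c, rfl⟩ := (Submodule.mem_span_range_iff_exists_fun (MvPolynomial (Fin n) R)).mp hx
  rw [map_sum]
  refine Submodule.sum_mem _ (fun i _ => ?_)
  generalize c i = a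
  induction a using MvPolynomial.induction_on' with
  | monomial e ρ =>
    have hm := monomial_smul_mem ℳ e ρ (hf i)
    by_cases h : Finsupp.weight (fun i : Fin n => (Pi.single i 1 : Fin n → ℤ)) e + dd i = d
    · rw [proj_of_mem ℳ (h ▸ hm)]
      exact Submodule.smul_mem _ _ (Submodule.subset_span ⟨i, rfl⟩)
    · rw [proj_of_mem_ne ℳ hm h]; exact zero_mem _
  | add p q hp hq => rw [add_smul, map_add]; exact add_mem hp hq

omit [SetLike.GradedSMul
  (MvPolynomial.weightedHomogeneousSubmodule R (fun i : Fin n => (Pi.single i 1 : Fin n → ℤ))) ℳ] in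
theorem exists_local_basis (𝔑 : Ideal (MvPolynomial (Fin n) R)) [𝔑.IsPrime]
    [Module.Finite (MvPolynomial (Fin n) R) P] [Module.Projective (MvPolynomial (Fin n) R) P] :
    ∃ (m : ℕ) (d : Fin m → (Fin n → ℤ)) (f : Fin m → P), (∀ i, f i ∈ ℳ (d i)) ∧
      (∀ q : P, ∃ g : MvPolynomial (Fin n) R, g ∉ 𝔑 ∧
        g • q ∈ Submodule.span (MvPolynomial (Fin n) R) (Set.range f)) ∧
      (∀ c : Fin m → MvPolynomial (Fin n) R, ∑ i, c i • f i = 0 →
        ∃ g : MvPolynomial (Fin n) R, g ∉ 𝔑 ∧ ∀ i, g * c i = 0) := by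
  classical
  let S : Submonoid (MvPolynomial (Fin n) R) := 𝔑.primeCompl
  let φ : P →ₗ[MvPolynomial (Fin n) R] LocalizedModule S P := LocalizedModule.mkLinearMap S P
  let v : (Σ d : Fin n → ℤ, ℳ d) → LocalizedModule S P := fun x => φ (x.2 : P)
  have h2 : Submodule.span (MvPolynomial (Fin n) R)
      (Set.range fun x : (Σ d : Fin n → ℤ, ℳ d) => (x.2 : P)) = ⊤ := by
    rw [eq_top_iff]; intro q _
    refine DirectSum.Decomposition.inductionOn ℳ ?_ ?_ ?_ q
    · exact zero_mem _
    · intro i x; exact Submodule.subset_span ⟨⟨i, x⟩, rfl⟩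
    · intro x y hx hy; exact add_mem hx hy
  have hv : Submodule.span (Localization S) (Set.range v) = ⊤ := by
    have h1 : (⊤ : Submodule (MvPolynomial (Fin n) R) P).localized' (Localization S) S φ = ⊤ :=
      Submodule.localized'_top _ _ _
    rw [← h2, Submodule.localized'_span] at h1
    rw [← Set.range_comp] at h1
    exact h1
  have : Module.FinitePresentation (MvPolynomial (Fin n) R) P :=
    Module.finitePresentation_of_projective _ _
  obtain ⟨κ, a, b, hb⟩ := Module.exists_basis_of_span_of_flat (R := Localization.AtPrime 𝔑) v hv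
  have : Finite κ := Module.Finite.finite_basis b
  let e : κ ≃ Fin (Nat.card κ) := Finite.equivFin κ
  let b' : Module.Basis (Fin (Nat.card κ)) (Localization.AtPrime 𝔑) (LocalizedModule S P) :=
    b.reindex e
  have hb' : ∀ i, b' i = φ ((a (e.symm i)).2 : P) := fun i => by
    rw [Module.Basis.reindex_apply]; exact hb _
  refine ⟨Nat.card κ, fun i => (a (e.symm i)).1, fun i => ((a (e.symm i)).2 : P),
    fun i => (a (e.symm i)).2.2, ?_, ?_⟩
  · have hspan : (Submodule.span (MvPolynomial (Fin n) R)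
        (Set.range fun i => ((a (e.symm i)).2 : P))).localized' (Localization S) S φ = ⊤ := by
      rw [Submodule.localized'_span, ← b'.span_eq]
      congr 1
      ext y; simp [hb']
    intro q
    have hq : φ q ∈ (Submodule.span (MvPolynomial (Fin n) R)
        (Set.range fun i => ((a (e.symm i)).2 : P))).localized' (Localization S) S φ := by
      rw [hspan]; trivial
    rw [Submodule.mem_localized'] at hq
    obtain ⟨x, hx, s, hs⟩ := hq
    rw [IsLocalizedModule.mk'_eq_iff] at hs
    have hs' : φ x = φ ((s : MvPolynomial (Fin n) R) • q) := by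
      rw [hs, Submonoid.smul_def, map_smul]
    obtain ⟨c, hc⟩ := (IsLocalizedModule.eq_iff_exists S φ).mp hs'
    refine ⟨(c : MvPolynomial (Fin n) R) * (s : MvPolynomial (Fin n) R), (c * s).2, ?_⟩
    rw [mul_smul, ← Submonoid.smul_def c, ← hc, Submonoid.smul_def]
    exact Submodule.smul_mem _ _ hx
  · intro c hc
    have h0 : ∑ i, (algebraMap (MvPolynomial (Fin n) R) (Localization.AtPrime 𝔑) (c i)) • b' i
        = 0 := by
      have := congrArg φ hc
      rw [map_sum, map_zero] at this
      rw [← this]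
      refine Finset.sum_congr rfl fun i _ => ?_
      rw [hb', map_smul, algebraMap_smul]
    have h1 := Fintype.linearIndependent_iff.mp b'.linearIndependent _ h0
    have h3 : ∀ i, ∃ s : S, (s : MvPolynomial (Fin n) R) * c i = 0 := fun i =>
      (IsLocalization.map_eq_zero_iff S (Localization.AtPrime 𝔑) (c i)).mp (h1 i)
    choose s hs using h3
    refine ⟨∏ i, (s i : MvPolynomial (Fin n) R), ?_, fun i => ?_⟩
    · have : (∏ i, (s i : MvPolynomial (Fin n) R)) ∈ S :=
        Submonoid.prod_mem _ (fun i _ => (s i).2)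
      exact this
    · rw [← Finset.mul_prod_erase Finset.univ (fun j => (s j : MvPolynomial (Fin n) R))
        (Finset.mem_univ i), mul_right_comm, hs i, zero_mul]

theorem main (p : PrimeSpectrum R)
    [Module.Finite (MvPolynomial (Fin n) R) P] [Module.Projective (MvPolynomial (Fin n) R) P] :
    ∃ r : R, r ∉ p.asIdeal ∧ ∃ (m : ℕ) (d : Fin m → (Fin n → ℤ)) (f : Fin m → P),
      (∀ i, f i ∈ ℳ (d i)) ∧
      (∀ q : P, ∃ (N : ℕ) (c : Fin m → MvPolynomial (Fin n) R),
        (MvPolynomial.C r : MvPolynomial (Fin n) R) ^ N • q = ∑ i, c i • f i) ∧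
      (∀ c : Fin m → MvPolynomial (Fin n) R, ∑ i, c i • f i = 0 →
        ∃ N : ℕ, ∀ i, (MvPolynomial.C r : MvPolynomial (Fin n) R) ^ N * c i = 0) := by
  classical
  have : (Ideal.comap (constantCoeff (R := R) (σ := Fin n)) p.asIdeal).IsPrime :=
    Ideal.comap_isPrime _ _
  obtain ⟨m, d, f, hf, hgen, hrel⟩ :=
    exists_local_basis ℳ (Ideal.comap (constantCoeff (R := R) (σ := Fin n)) p.asIdeal)
  have h𝔑 : ∀ g : MvPolynomial (Fin n) R,
      g ∉ Ideal.comap (constantCoeff (R := R) (σ := Fin n)) p.asIdeal →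
        constantCoeff g ∉ p.asIdeal := fun g hg => hg
  -- uniform multiplier for generation
  obtain ⟨T, hT⟩ := (Module.Finite.fg_top :
    (⊤ : Submodule (MvPolynomial (Fin n) R) P).FG)
  choose gq hgq1 hgq2 using hgen
  have hg₁ : (∏ t ∈ T, gq t) ∉
      Ideal.comap (constantCoeff (R := R) (σ := Fin n)) p.asIdeal := by
    intro h
    obtain ⟨t, _, ht⟩ := (Ideal.IsPrime.prod_mem_iff).mp h
    exact hgq1 t ht
  have hg₁T : ∀ t ∈ T, (∏ t ∈ T, gq t) • t ∈
      Submodule.span (MvPolynomial (Fin n) R) (Set.range f) := fun t ht => by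
    rw [← Finset.mul_prod_erase T gq ht, mul_comm, mul_smul]
    exact Submodule.smul_mem _ _ (hgq2 t)
  have hg₁all : ∀ q : P, (∏ t ∈ T, gq t) • q ∈
      Submodule.span (MvPolynomial (Fin n) R) (Set.range f) := by
    intro q
    have hq : q ∈ Submodule.span (MvPolynomial (Fin n) R) (T : Set P) := by rw [hT]; trivial
    refine Submodule.span_induction ?_ ?_ ?_ ?_ hq
    · intro t ht; exact hg₁T t ht
    · rw [smul_zero]; exact zero_mem _
    · intro x y _ _ hx hy; rw [smul_add]; exact add_mem hx hy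
    · intro a x _ hx; rw [smul_comm]; exact Submodule.smul_mem _ _ hx
  obtain ⟨r₁, hr₁def⟩ : ∃ r₁ : R, r₁ = constantCoeff (∏ t ∈ T, gq t) := ⟨_, rfl⟩
  have hr₁p : r₁ ∉ p.asIdeal := by rw [hr₁def]; exact h𝔑 _ hg₁
  have hr₁all : ∀ q : P, r₁ • q ∈ Submodule.span (MvPolynomial (Fin n) R) (Set.range f) := by
    intro q
    refine DirectSum.Decomposition.inductionOn ℳ ?_ ?_ ?_ q
    · rw [smul_zero]; exact zero_mem _
    · intro i x
      have := proj_mem_span ℳ d f hf i (hg₁all (x : P))
      rwa [proj_smul_of_mem ℳ _ x.2, ← hr₁def] at this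
    · intro x y hx hy; rw [smul_add]; exact add_mem hx hy
  -- the presentation map
  obtain ⟨ψ, hψ⟩ : ∃ ψ : (Fin m → MvPolynomial (Fin n) R) →ₗ[MvPolynomial (Fin n) R] P,
      ∀ c, ψ c = ∑ i, c i • f i :=
    ⟨Fintype.linearCombination (MvPolynomial (Fin n) R) f, fun c => rfl⟩
  have hψN : ∀ c, ψ c ∈ Submodule.span (MvPolynomial (Fin n) R) (Set.range f) := fun c => by
    rw [hψ]
    exact Submodule.sum_mem _ fun i _ => Submodule.smul_mem _ _ (Submodule.subset_span ⟨i, rfl⟩)
  have hsurj : Function.Surjective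
      (ψ.codRestrict (Submodule.span (MvPolynomial (Fin n) R) (Set.range f)) hψN) := by
    rintro ⟨x, hx⟩
    obtain ⟨c, hc⟩ := (Submodule.mem_span_range_iff_exists_fun (MvPolynomial (Fin n) R)).mp hx
    exact ⟨c, Subtype.ext ((hψ c).trans hc)⟩
  obtain ⟨σ, hσ⟩ := Module.projective_lifting_property
    (ψ.codRestrict (Submodule.span (MvPolynomial (Fin n) R) (Set.range f)) hψN)
    (LinearMap.codRestrict (Submodule.span (MvPolynomial (Fin n) R) (Set.range f))
      ((C r₁ : MvPolynomial (Fin n) R) • (LinearMap.id : P →ₗ[MvPolynomial (Fin n) R] P))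
      (fun q => by
        show (C r₁ : MvPolynomial (Fin n) R) • q ∈ _
        rw [C_smul_eq]; exact hr₁all q)) hsurj
  have hσ' : ∀ q, ψ (σ q) = r₁ • q := fun q => by
    have h1 := LinearMap.congr_fun hσ q
    have h2 : ψ (σ q) = (C r₁ : MvPolynomial (Fin n) R) • q := congrArg Subtype.val h1
    rw [h2, C_smul_eq]
  obtain ⟨kk, hkkdef⟩ : ∃ kk : Fin m → (Fin m → MvPolynomial (Fin n) R),
      ∀ j, kk j = (C r₁ : MvPolynomial (Fin n) R) •
        (Pi.single j 1 : Fin m → MvPolynomial (Fin n) R) - σ (f j) := ⟨_, fun j => rfl⟩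
  have hkk : ∀ j, ∑ i, kk j i • f i = 0 := fun j => by
    rw [← hψ, hkkdef, map_sub, map_smul, hσ', hψ (Pi.single j 1)]
    rw [Finset.sum_eq_single j (fun i _ hij => by rw [Pi.single_eq_of_ne hij, zero_smul])
      (fun h => absurd (Finset.mem_univ j) h), Pi.single_eq_same, one_smul, C_smul_eq, sub_self]
  have hrel' := fun j => hrel (kk j) (hkk j)
  choose g₂ hg₂1 hg₂2 using hrel'
  have hg' : (∏ j, g₂ j) ∉
      Ideal.comap (constantCoeff (R := R) (σ := Fin n)) p.asIdeal := by
    intro h
    obtain ⟨j, _, hj⟩ := (Ideal.IsPrime.prod_mem_iff).mp h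
    exact hg₂1 j hj
  have hg'kill : ∀ j i, (∏ j, g₂ j) * kk j i = 0 := fun j i => by
    rw [← Finset.mul_prod_erase Finset.univ g₂ (Finset.mem_univ j), mul_right_comm, hg₂2 j i,
      zero_mul]
  obtain ⟨ρ', hρ'def⟩ : ∃ ρ' : R, ρ' = constantCoeff (∏ j, g₂ j) := ⟨_, rfl⟩
  have hρ'p : ρ' ∉ p.asIdeal := by rw [hρ'def]; exact h𝔑 _ hg'
  refine ⟨ρ' * r₁, fun h => (p.isPrime.mem_or_mem h).elim hρ'p hr₁p, m, d, f, hf, ?_, ?_⟩
  · intro q
    have hmem : (ρ' * r₁) • q ∈ Submodule.span (MvPolynomial (Fin n) R) (Set.range f) := by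
      rw [mul_smul, ← C_smul_eq (n := n) ρ' (r₁ • q)]
      exact Submodule.smul_mem _ _ (hr₁all q)
    obtain ⟨c, hc⟩ := (Submodule.mem_span_range_iff_exists_fun (MvPolynomial (Fin n) R)).mp hmem
    exact ⟨1, c, by rw [pow_one, C_smul_eq, hc]⟩
  · intro c hc
    have h1 : σ (∑ j, c j • f j) = ∑ j, c j • σ (f j) := by
      rw [map_sum]; simp only [map_smul]
    rw [hc, map_zero] at h1
    have h2 : ∑ j, c j • (Pi.single j 1 : Fin m → MvPolynomial (Fin n) R) = c := by
      ext i
      simp [Finset.sum_apply, Pi.single_apply]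
    have hdecomp : (C r₁ : MvPolynomial (Fin n) R) • c = ∑ j, c j • kk j := by
      calc (C r₁ : MvPolynomial (Fin n) R) • c
          = (C r₁ : MvPolynomial (Fin n) R) •
              (∑ j, c j • (Pi.single j 1 : Fin m → MvPolynomial (Fin n) R)) -
              ∑ j, c j • σ (f j) := by rw [h2, ← h1, sub_zero]
        _ = ∑ j, c j • kk j := by
          rw [Finset.smul_sum, ← Finset.sum_sub_distrib]
          refine Finset.sum_congr rfl fun j _ => ?_
          rw [hkkdef, smul_sub, smul_comm]
    have hkill : ∀ i, (∏ j, g₂ j) * ((C r₁ : MvPolynomial (Fin n) R) * c i) = 0 := fun i => by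
      have := congrFun hdecomp i
      simp only [Pi.smul_apply, smul_eq_mul, Finset.sum_apply] at this
      rw [this, Finset.mul_sum]
      refine Finset.sum_eq_zero fun j _ => ?_
      rw [mul_left_comm, hg'kill j i, mul_zero]
    have hmc := fun i => mccoy (∏ j, g₂ j) ((C r₁ : MvPolynomial (Fin n) R) * c i) (hkill i)
    choose Nf hNf using hmc
    obtain ⟨N, hN⟩ : ∃ N, ∀ i, Nf i ≤ N :=
      ⟨∑ i, Nf i, fun i => Finset.single_le_sum (fun _ _ => Nat.zero_le _) (Finset.mem_univ i)⟩
    refine ⟨N + 1, fun i => ?_⟩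
    obtain ⟨t, ht⟩ := Nat.exists_eq_add_of_le (hN i)
    have hNfi := hNf i
    rw [← hρ'def] at hNfi
    calc (C (ρ' * r₁) : MvPolynomial (Fin n) R) ^ (N + 1) * c i
        = (C ρ') ^ (t + 1) * (C r₁) ^ N * ((C ρ') ^ (Nf i) * (C r₁ * c i)) := by
          rw [map_mul, ht]; ring
      _ = 0 := by rw [hNfi, mul_zero]

end Graded

end Groth.Agent.Helper25.GrFree
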