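import Mathlib

/-!
# Graded algebras generated in positive degrees: `B_{n+l} = B_n B_l` for `l = lcm` of the degrees
(helper25)
-/

set_option autoImplicit false

namespace Groth.Agent.Helper25.GrLcm

open DirectSum

variable {R A : Type*} [CommRing R] [CommRing A] [Algebra R A] (𝒜 : ℕ → Submodule R A)
  [GradedAlgebra 𝒜]
variable {s : ℕ} (f : Fin s → A) (deg : Fin s → ℕ)

theorem mon_mem (hf : ∀ i, f i ∈ 𝒜 (deg i)) (e : Fin s → ℕ) :
    (∏ i, f i ^ e i) ∈ 𝒜 (∑ i, e i * deg i) := by
  have := SetLike.prod_pow_mem_graded 𝒜 deg f e (F := Finset.univ) (fun k _ => hf k)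
  simpa only [smul_eq_mul] using this

theorem mem_of_forall_mon (hf : ∀ i, f i ∈ 𝒜 (deg i))
    (hgen : Algebra.adjoin R (Set.range f) = ⊤) (m : ℕ) (N : Submodule R A)
    (hN : ∀ e : Fin s → ℕ, ∑ i, e i * deg i = m → (∏ i, f i ^ e i) ∈ N) :
    𝒜 m ≤ N := by
  intro a ha
  have hmem : a ∈ Algebra.adjoin R (Set.range f) := by rw [hgen]; trivial
  rw [Algebra.adjoin_range_eq_range_aeval] at hmem
  obtain ⟨P, hP⟩ := hmem
  replace hP : MvPolynomial.aeval f P = a := hP
  subst hP
  have hproj : GradedAlgebra.proj 𝒜 m (MvPolynomial.aeval f P) = MvPolynomial.aeval f P := by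
    rw [GradedAlgebra.proj_apply, DirectSum.decompose_of_mem_same 𝒜 ha]
  rw [← hproj, MvPolynomial.aeval_def, MvPolynomial.eval₂_eq', map_sum]
  apply Submodule.sum_mem
  intro d _
  rw [← Algebra.smul_def, map_smul]
  apply Submodule.smul_mem
  by_cases hd : ∑ i, d i * deg i = m
  · rw [GradedAlgebra.proj_apply,
      DirectSum.decompose_of_mem_same 𝒜 (hd ▸ mon_mem 𝒜 f deg hf (fun i => d i))]
    exact hN _ hd
  · rw [GradedAlgebra.proj_apply,
      DirectSum.decompose_of_mem_ne 𝒜 (mon_mem 𝒜 f deg hf (fun i => d i)) hd]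
    exact zero_mem _

omit [CommRing R] [CommRing A] [Algebra R A] in
theorem exists_large (hdeg : ∀ i, 0 < deg i) (n : ℕ)
    (hn : (s - 1) * (Finset.univ.lcm deg - 1) ≤ n) (e : Fin s → ℕ)
    (he : ∑ i, e i * deg i = n + Finset.univ.lcm deg) :
    ∃ i, Finset.univ.lcm deg / deg i ≤ e i := by
  by_contra hcon
  push Not at hcon
  have hl1' : Finset.univ.lcm deg ≠ 0 := by
    rw [Ne, Finset.lcm_eq_zero_iff]
    rintro ⟨i, _, hi⟩
    exact (hdeg i).ne' hi
  obtain ⟨l, hl⟩ : ∃ l, l = Finset.univ.lcm deg := ⟨_, rfl⟩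
  rw [← hl] at hn he hcon hl1'
  have hl1 : 1 ≤ l := Nat.one_le_iff_ne_zero.mpr hl1'
  have hterm : ∀ i, e i * deg i ≤ l - 1 := by
    intro i
    have h1 : e i + 1 ≤ l / deg i := hcon i
    have h2 : (e i + 1) * deg i ≤ l := (Nat.le_div_iff_mul_le (hdeg i)).mp h1
    have h3 := hdeg i
    rw [add_mul, one_mul] at h2
    omega
  have hsum : ∑ i, e i * deg i ≤ s * (l - 1) := by
    calc ∑ i, e i * deg i ≤ ∑ _i : Fin s, (l - 1) := Finset.sum_le_sum (fun i _ => hterm i)
      _ = s * (l - 1) := by simp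
  rw [he] at hsum
  rcases Nat.eq_zero_or_pos s with hs | hs
  · rw [hs, zero_mul] at hsum
    omega
  · obtain ⟨s', hs'⟩ : ∃ s', s = s' + 1 := ⟨s - 1, by omega⟩
    rw [hs', Nat.succ_mul] at hsum
    rw [hs', Nat.add_sub_cancel] at hn
    omega

theorem main (hdeg : ∀ i, 0 < deg i) (hf : ∀ i, f i ∈ 𝒜 (deg i))
    (hgen : Algebra.adjoin R (Set.range f) = ⊤) (n : ℕ)
    (hn : (s - 1) * (Finset.univ.lcm deg - 1) ≤ n) :
    𝒜 (n + Finset.univ.lcm deg) = 𝒜 n * 𝒜 (Finset.univ.lcm deg) := by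
  apply le_antisymm
  · apply mem_of_forall_mon 𝒜 f deg hf hgen
    intro e he
    obtain ⟨i, hi⟩ := exists_large deg hdeg n hn e he
    obtain ⟨q, hq⟩ : ∃ q, q = Finset.univ.lcm deg / deg i := ⟨_, rfl⟩
    have hql : q * deg i = Finset.univ.lcm deg := by
      rw [hq]
      exact Nat.div_mul_cancel (Finset.dvd_lcm (Finset.mem_univ i))
    rw [← hq] at hi
    obtain ⟨e', he'⟩ : ∃ e' : Fin s → ℕ, e' = fun j => e j - (Pi.single i q : Fin s → ℕ) j :=
      ⟨_, rfl⟩
    have hsplit : e = e' + Pi.single i q := by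
      funext j
      rw [he', Pi.add_apply]
      by_cases hj : j = i
      · rw [hj]
        simp only [Pi.single_eq_same]
        omega
      · simp only [Pi.single_eq_of_ne hj]
        omega
    have hmon : (∏ j, f j ^ e j) = (∏ j, f j ^ e' j) * f i ^ q := by
      rw [hsplit]
      simp only [Pi.add_apply, pow_add, Finset.prod_mul_distrib]
      congr 1
      rw [Finset.prod_eq_single i]
      · simp
      · intro j _ hj
        simp [Pi.single_eq_of_ne hj]
      · intro h
        exact absurd (Finset.mem_univ i) h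
    have hdeg' : ∑ j, e' j * deg j = n := by
      have h1 : ∑ j, e j * deg j = ∑ j, e' j * deg j + q * deg i := by
        rw [hsplit]
        simp only [Pi.add_apply, add_mul, Finset.sum_add_distrib]
        congr 1
        rw [Finset.sum_eq_single i]
        · simp
        · intro j _ hj
          simp [Pi.single_eq_of_ne hj]
        · intro h
          exact absurd (Finset.mem_univ i) h
      rw [he, hql] at h1
      omega
    rw [hmon]
    apply Submodule.mul_mem_mul
    · rw [← hdeg']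
      exact mon_mem 𝒜 f deg hf e'
    · rw [← hql]
      have := SetLike.pow_mem_graded q (hf i)
      rwa [smul_eq_mul] at this
  · rw [Submodule.mul_le]
    intro a ha b hb
    exact SetLike.mul_mem_graded ha hb

theorem zero_eq_one (hdeg : ∀ i, 0 < deg i) (hf : ∀ i, f i ∈ 𝒜 (deg i))
    (hgen : Algebra.adjoin R (Set.range f) = ⊤) : 𝒜 0 = 1 := by
  apply le_antisymm
  · apply mem_of_forall_mon 𝒜 f deg hf hgen
    intro e he
    have he0 : ∀ i, e i = 0 := by
      intro i
      have h1 : e i * deg i = 0 := Finset.sum_eq_zero_iff.mp he i (Finset.mem_univ i)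
      rcases Nat.mul_eq_zero.mp h1 with h | h
      · exact h
      · exact absurd h (hdeg i).ne'
    simp only [he0, pow_zero, Finset.prod_const_one]
    exact Submodule.one_le.mp le_rfl
  · rw [Submodule.one_le]
    exact SetLike.GradedOne.one_mem

theorem pow_le (a : ℕ) (l : ℕ) : (𝒜 l) ^ a ≤ 𝒜 (a * l) := by
  induction a with
  | zero =>
    rw [pow_zero, zero_mul, Submodule.one_le]
    exact SetLike.GradedOne.one_mem
  | succ a ih =>
    rw [pow_succ, Submodule.mul_le]
    intro x hx y hy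
    have := SetLike.mul_mem_graded (ih hx) hy
    rwa [← add_one_mul] at this

theorem step (hdeg : ∀ i, 0 < deg i) (hf : ∀ i, f i ∈ 𝒜 (deg i))
    (hgen : Algebra.adjoin R (Set.range f) = ⊤) (m : ℕ)
    (hm : (s - 1) * (Finset.univ.lcm deg - 1) ≤ m) (j : ℕ) :
    𝒜 (m + j * Finset.univ.lcm deg) = 𝒜 m * (𝒜 (Finset.univ.lcm deg)) ^ j := by
  induction j with
  | zero => rw [zero_mul, add_zero, pow_zero, mul_one]
  | succ j ih =>
    rw [add_one_mul, ← add_assoc, main 𝒜 f deg hdeg hf hgen (m + j * Finset.univ.lcm deg)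
      (le_trans hm (Nat.le_add_right _ _)), ih, pow_succ, mul_assoc]

theorem main2 (hdeg : ∀ i, 0 < deg i) (hf : ∀ i, f i ∈ 𝒜 (deg i))
    (hgen : Algebra.adjoin R (Set.range f) = ⊤) (a : ℕ) (ha : s - 1 ≤ a) (k : ℕ) :
    𝒜 (k * (a * Finset.univ.lcm deg)) = 𝒜 (a * Finset.univ.lcm deg) ^ k := by
  induction k with
  | zero =>
    rw [zero_mul, pow_zero]
    exact zero_eq_one 𝒜 f deg hdeg hf hgen
  | succ k ih =>
    rw [pow_succ, ← ih]
    apply le_antisymm
    · rcases Nat.eq_zero_or_pos k with hk | hk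
      · apply le_of_eq
        rw [hk, zero_mul, zero_add, one_mul, zero_eq_one 𝒜 f deg hdeg hf hgen, one_mul]
      · have hm : (s - 1) * (Finset.univ.lcm deg - 1) ≤ k * (a * Finset.univ.lcm deg) := by
          calc (s - 1) * (Finset.univ.lcm deg - 1) ≤ a * Finset.univ.lcm deg :=
                Nat.mul_le_mul ha (Nat.sub_le _ _)
            _ ≤ k * (a * Finset.univ.lcm deg) := Nat.le_mul_of_pos_left _ hk
        rw [add_one_mul, step 𝒜 f deg hdeg hf hgen _ hm a, Submodule.mul_le]
        intro x hx y hy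
        exact Submodule.mul_mem_mul hx (pow_le 𝒜 a _ hy)
    · rw [Submodule.mul_le]
      intro x hx y hy
      have := SetLike.mul_mem_graded hx hy
      rwa [← add_one_mul] at this

end Groth.Agent.Helper25.GrLcm
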