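import Mathlib
import Groth.Agent.Lib.Helper6.GradedQuot

/-!
# A finite type algebra as the degree-zero localization of a standard graded algebra
-/

namespace Groth.Agent.Helper25.GrLocFT

open MvPolynomial Groth.Agent.Helper6

universe u

attribute [local instance] MvPolynomial.gradedAlgebra

variable {R R' : Type u} [CommRing R] [CommRing R'] [Algebra R R']
variable {n : ℕ} (π : MvPolynomial (Fin n) R →ₐ[R] R')

/-- `X 0 ↦ 1`, `X (i+1) ↦ π (X i)`. -/
noncomputable def rho : MvPolynomial (Fin (n + 1)) R →ₐ[R] R' :=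
  aeval (Fin.cases (1 : R') (fun i => π (X i)))

theorem rho_X0 : rho π (X 0) = 1 := by
  simp [rho]

theorem rho_Xs (i : Fin n) : rho π (X i.succ) = π (X i) := by
  simp [rho]

/-- the homogeneous ideal -/
noncomputable def aa : Ideal (MvPolynomial (Fin (n + 1)) R) :=
  Ideal.span {q | ∃ j : ℕ, 1 ≤ j ∧ q.IsHomogeneous j ∧ rho π q = 0}

theorem aa_homog : (aa π).IsHomogeneous (homogeneousSubmodule (Fin (n + 1)) R) := by
  apply Ideal.homogeneous_span
  rintro q ⟨j, _, hq, _⟩
  exact ⟨j, (mem_homogeneousSubmodule _ _).mpr hq⟩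

theorem aa_le_ker_rho : aa π ≤ RingHom.ker (rho π : MvPolynomial (Fin (n + 1)) R →+* R') := by
  unfold aa
  rw [Ideal.span_le]
  rintro q ⟨j, _, _, hq⟩
  exact hq

theorem aa_le_ker_cc : aa π ≤ RingHom.ker (constantCoeff : MvPolynomial (Fin (n + 1)) R →+* R) := by
  unfold aa
  rw [Ideal.span_le]
  rintro q ⟨j, hj, hq, _⟩
  have h0 : coeff 0 q = 0 := hq.coeff_eq_zero (by simp; omega)
  exact h0

theorem mul_mem_aa {d : ℕ} {q : MvPolynomial (Fin (n + 1)) R} (hq : q.IsHomogeneous d)
    (h0 : rho π q = 0) : X 0 * q ∈ aa π := by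
  apply Ideal.subset_span
  refine ⟨1 + d, by omega, (isHomogeneous_X R 0).mul hq, ?_⟩
  rw [map_mul, h0, mul_zero]

/-- the induced map on the quotient -/
noncomputable def psi : (MvPolynomial (Fin (n + 1)) R ⧸ aa π) →ₐ[R] R' :=
  Ideal.Quotient.liftₐ (aa π) (rho π) (fun a ha => aa_le_ker_rho π ha)

theorem psi_mk (p : MvPolynomial (Fin (n + 1)) R) :
    psi π (Ideal.Quotient.mk (aa π) p) = rho π p := rfl

/-- the grading on the quotient -/
noncomputable abbrev gr : ℕ → Submodule R (MvPolynomial (Fin (n + 1)) R ⧸ aa π) :=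
  GradedQuot.grading (homogeneousSubmodule (Fin (n + 1)) R) (aa π)

noncomputable instance grInst : GradedAlgebra (gr π) :=
  GradedQuot.gradedAlgebra (homogeneousSubmodule (Fin (n + 1)) R) (aa_homog π)

/-- the element `f` -/
noncomputable def ff : MvPolynomial (Fin (n + 1)) R ⧸ aa π := Ideal.Quotient.mk (aa π) (X 0)

theorem ff_mem : ff π ∈ gr π 1 :=
  GradedQuot.mk_mem (aa π) ((mem_homogeneousSubmodule _ _).mpr (isHomogeneous_X R 0))

theorem psi_ff : psi π (ff π) = 1 := by
  unfold ff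
  rw [psi_mk, rho_X0]

theorem psi_units (y : Submonoid.powers (ff π)) :
    IsUnit ((psi π).toRingHom (y : MvPolynomial (Fin (n + 1)) R ⧸ aa π)) := by
  obtain ⟨m, hm⟩ := y.2
  rw [← hm]
  change IsUnit (psi π (ff π ^ m))
  rw [map_pow, psi_ff, one_pow]
  exact isUnit_one

/-- the map from the localization -/
noncomputable def Psi : Localization.Away (ff π) →+* R' :=
  IsLocalization.lift (M := Submonoid.powers (ff π)) (g := (psi π).toRingHom) (psi_units π)

/-- the map from the homogeneous localization -/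
noncomputable def EE : HomogeneousLocalization.Away (gr π) (ff π) →+* R' :=
  (Psi π).comp (algebraMap (HomogeneousLocalization.Away (gr π) (ff π)) (Localization.Away (ff π)))

theorem EE_mk (j : ℕ) (a : MvPolynomial (Fin (n + 1)) R ⧸ aa π) (ha : a ∈ gr π (j • 1)) :
    EE π (HomogeneousLocalization.Away.mk (gr π) (ff_mem π) j a ha) = psi π a := by
  unfold EE
  rw [RingHom.comp_apply, HomogeneousLocalization.algebraMap_apply,
    HomogeneousLocalization.Away.val_mk, Localization.mk_eq_mk']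
  unfold Psi
  rw [IsLocalization.lift_mk'_spec]
  change psi π a = psi π (ff π ^ j) * psi π a
  rw [map_pow, psi_ff, one_pow, one_mul]

theorem EE_injective : Function.Injective (EE π) := by
  rw [injective_iff_map_eq_zero]
  intro z hz
  obtain ⟨j, a, ha, rfl⟩ := HomogeneousLocalization.Away.mk_surjective (gr π) (ff_mem π) z
  rw [EE_mk] at hz
  obtain ⟨p, hp, rfl⟩ := GradedQuot.exists_of_mem _ _ ha
  rw [psi_mk] at hz
  have h1 : X 0 * p ∈ aa π := mul_mem_aa π ((mem_homogeneousSubmodule _ _).mp hp) hz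
  apply HomogeneousLocalization.val_injective
  rw [HomogeneousLocalization.Away.val_mk, HomogeneousLocalization.val_zero,
    Localization.mk_eq_mk', IsLocalization.mk'_eq_zero_iff]
  refine ⟨⟨ff π, 1, pow_one _⟩, ?_⟩
  change ff π * Ideal.Quotient.mk (aa π) p = 0
  unfold ff
  rw [← map_mul]
  exact Ideal.Quotient.eq_zero_iff_mem.mpr h1

/-- the element `r / 1` -/
noncomputable def zr (r : R) : HomogeneousLocalization.Away (gr π) (ff π) :=
  HomogeneousLocalization.Away.mk (gr π) (ff_mem π) 0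
    (algebraMap R (MvPolynomial (Fin (n + 1)) R ⧸ aa π) r)
    (by
      rw [zero_smul]
      exact GradedQuot.mk_mem (aa π) ((mem_homogeneousSubmodule _ _).mpr (isHomogeneous_C _ r)))

theorem EE_zr (r : R) : EE π (zr π r) = algebraMap R R' r := by
  unfold zr
  rw [EE_mk]
  exact (psi π).commutes r

theorem zr_val (r : R) : (zr π r).val =
    algebraMap (MvPolynomial (Fin (n + 1)) R ⧸ aa π) (Localization.Away (ff π))
      (algebraMap R (MvPolynomial (Fin (n + 1)) R ⧸ aa π) r) := by
  unfold zr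
  rw [HomogeneousLocalization.Away.val_mk, ← Localization.mk_one_eq_algebraMap]
  congr 1

theorem EE_surjective (hπ : Function.Surjective π) : Function.Surjective (EE π) := by
  intro y
  obtain ⟨q, rfl⟩ := hπ y
  change π q ∈ (EE π).range
  induction q using MvPolynomial.induction_on with
  | C r =>
    refine ⟨zr π r, ?_⟩
    rw [EE_zr, ← MvPolynomial.algebraMap_eq, AlgHom.commutes]
  | add p q hp hq =>
    rw [map_add]
    exact (EE π).range.add_mem hp hq
  | mul_X p i hp =>
    rw [map_mul]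
    refine (EE π).range.mul_mem hp ?_
    refine ⟨HomogeneousLocalization.Away.mk (gr π) (ff_mem π) 1
      (Ideal.Quotient.mk (aa π) (X i.succ)) ?_, ?_⟩
    · rw [one_smul]
      exact GradedQuot.mk_mem (aa π) ((mem_homogeneousSubmodule _ _).mpr (isHomogeneous_X R _))
    · rw [EE_mk, psi_mk, rho_Xs]

theorem algebraMap_injective :
    Function.Injective (algebraMap R (MvPolynomial (Fin (n + 1)) R ⧸ aa π)) := by
  rw [injective_iff_map_eq_zero]
  intro r hr
  have h1 : (C r : MvPolynomial (Fin (n + 1)) R) ∈ aa π := by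
    rw [← Ideal.Quotient.eq_zero_iff_mem]
    exact hr
  have h2 := aa_le_ker_cc π h1
  rw [RingHom.mem_ker, constantCoeff_C] at h2
  exact h2

theorem mem_range_of_mem_zero (x : MvPolynomial (Fin (n + 1)) R ⧸ aa π) (hx : x ∈ gr π 0) :
    x ∈ Set.range (algebraMap R (MvPolynomial (Fin (n + 1)) R ⧸ aa π)) := by
  obtain ⟨p, hp, rfl⟩ := GradedQuot.exists_of_mem _ _ hx
  have h1 : p.totalDegree = 0 :=
    (totalDegree_zero_iff_isHomogeneous _).mpr ((mem_homogeneousSubmodule _ _).mp hp)
  rw [totalDegree_eq_zero_iff_eq_C] at h1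
  refine ⟨coeff 0 p, ?_⟩
  conv_rhs => rw [h1]
  rfl

theorem adjoin_eq_top :
    Algebra.adjoin R (Set.range fun i : Fin (n + 1) =>
      Ideal.Quotient.mk (aa π) (X i : MvPolynomial (Fin (n + 1)) R)) = ⊤ := by
  have h1 : (Set.range fun i : Fin (n + 1) =>
      Ideal.Quotient.mk (aa π) (X i : MvPolynomial (Fin (n + 1)) R)) =
      (Ideal.Quotient.mkₐ R (aa π)) '' (Set.range (X : Fin (n + 1) → MvPolynomial (Fin (n + 1)) R)) := by
    ext x
    simp
  rw [h1, Algebra.adjoin_image, MvPolynomial.adjoin_range_X, Algebra.map_top, AlgHom.range_eq_top]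
  exact Ideal.Quotient.mkₐ_surjective R (aa π)

/-- the ring isomorphism -/
noncomputable def eqv (hπ : Function.Surjective π) :
    HomogeneousLocalization.Away (gr π) (ff π) ≃+* R' :=
  RingEquiv.ofBijective (EE π) ⟨EE_injective π, EE_surjective π hπ⟩

theorem eqv_symm (hπ : Function.Surjective π) (r : R) :
    (eqv π hπ).symm (algebraMap R R' r) = zr π r := by
  rw [RingEquiv.symm_apply_eq]
  exact (EE_zr π r).symm

theorem main_spec (hπ : Function.Surjective π)
    (s : Finset (MvPolynomial (Fin (n + 1)) R ⧸ aa π))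
    (hs : (s : Set (MvPolynomial (Fin (n + 1)) R ⧸ aa π)) = Set.range fun i : Fin (n + 1) =>
      Ideal.Quotient.mk (aa π) (X i : MvPolynomial (Fin (n + 1)) R)) :
    Function.Injective (algebraMap R (MvPolynomial (Fin (n + 1)) R ⧸ aa π)) ∧
    (∀ x ∈ gr π 0, x ∈ Set.range (algebraMap R (MvPolynomial (Fin (n + 1)) R ⧸ aa π))) ∧
    ((s : Set (MvPolynomial (Fin (n + 1)) R ⧸ aa π)) ⊆
      (gr π 1 : Set (MvPolynomial (Fin (n + 1)) R ⧸ aa π))) ∧
    Algebra.adjoin R (s : Set (MvPolynomial (Fin (n + 1)) R ⧸ aa π)) = ⊤ ∧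
    ∀ r : R, ((eqv π hπ).symm (algebraMap R R' r)).val =
      algebraMap (MvPolynomial (Fin (n + 1)) R ⧸ aa π) (Localization.Away (ff π))
        (algebraMap R (MvPolynomial (Fin (n + 1)) R ⧸ aa π) r) := by
  refine ⟨algebraMap_injective π, mem_range_of_mem_zero π, ?_, ?_, ?_⟩
  · intro x hx
    rw [hs] at hx
    obtain ⟨i, rfl⟩ := hx
    exact GradedQuot.mk_mem (aa π) ((mem_homogeneousSubmodule _ _).mpr (isHomogeneous_X R i))
  · rw [hs]
    exact adjoin_eq_top π
  · intro r
    rw [eqv_symm]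
    exact zr_val π r

theorem main_aux (hπ : Function.Surjective π) :
    ∃ (S : Type u) (_ : CommRing S) (_ : Algebra R S) (𝒜 : ℕ → Submodule R S)
      (_ : GradedAlgebra 𝒜) (f : S) (_ : f ∈ 𝒜 1) (s : Finset S)
      (e : HomogeneousLocalization.Away 𝒜 f ≃+* R'),
      Function.Injective (algebraMap R S) ∧ (∀ x ∈ 𝒜 0, x ∈ Set.range (algebraMap R S)) ∧
      (↑s ⊆ (𝒜 1 : Set S)) ∧ Algebra.adjoin R (s : Set S) = ⊤ ∧
      ∀ r : R, (e.symm (algebraMap R R' r)).val =
        algebraMap S (Localization.Away f) (algebraMap R S r) := by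
  classical
  exact ⟨MvPolynomial (Fin (n + 1)) R ⧸ aa π, _, _, gr π, grInst π, ff π, ff_mem π,
    Finset.univ.image fun i : Fin (n + 1) => Ideal.Quotient.mk (aa π) (X i),
    eqv π hπ, main_spec π hπ _ (by
      rw [Finset.coe_image, Finset.coe_univ, Set.image_univ])⟩

end Groth.Agent.Helper25.GrLocFT
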