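import Mathlib

namespace Groth.Agent.Helper25.GradedPiece

open DirectSum

variable {R A : Type*} [CommRing R] [CommRing A] [Algebra R A]
  (𝒜 : ℤ → Submodule R A) [GradedAlgebra 𝒜] {p : ℕ} (f : Fin p → A) (deg : Fin p → ℤ)

/-- monomials in the `f i` times a coefficient of non-positive degree -/
def Tset (n : ℤ) : Set A :=
  {y | ∃ (a : Fin p → ℕ) (c : A), n - ∑ i, (a i : ℤ) * deg i ≤ 0 ∧
    c ∈ 𝒜 (n - ∑ i, (a i : ℤ) * deg i) ∧ y = (∏ i, f i ^ a i) * c}

theorem base (n : ℤ) (hn : n ≤ 0) (x : A) (hx : x ∈ 𝒜 n) :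
    x ∈ Submodule.span R (Tset 𝒜 f deg n) := by
  apply Submodule.subset_span
  refine ⟨fun _ => 0, x, ?_, ?_, ?_⟩
  · simpa using hn
  · simpa using hx
  · simp

theorem mul_f_mem (n : ℤ) (i : Fin p) {z : A}
    (hz : z ∈ Submodule.span R (Tset 𝒜 f deg (n - deg i))) :
    z * f i ∈ Submodule.span R (Tset 𝒜 f deg n) := by
  induction hz using Submodule.span_induction with
  | mem y hy =>
    obtain ⟨a, c, h1, h2, rfl⟩ := hy
    apply Submodule.subset_span
    have hsum : ∑ j, ((a + Pi.single i 1 : Fin p → ℕ) j : ℤ) * deg j =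
        ∑ j, (a j : ℤ) * deg j + deg i := by
      have h3 : ∀ j, ((a + Pi.single i 1 : Fin p → ℕ) j : ℤ) * deg j =
          (a j : ℤ) * deg j + (if j = i then deg i else 0) := by
        intro j
        rw [Pi.add_apply, Pi.single_apply]
        split_ifs with h
        · subst h; push_cast; ring
        · push_cast; ring
      simp only [h3]
      rw [Finset.sum_add_distrib, Finset.sum_ite_eq' Finset.univ i (fun _ => deg i),
        if_pos (Finset.mem_univ i)]
    have hidx : n - ∑ j, ((a + Pi.single i 1 : Fin p → ℕ) j : ℤ) * deg j =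
        n - deg i - ∑ j, (a j : ℤ) * deg j := by
      rw [hsum]; ring
    refine ⟨a + Pi.single i 1, c, ?_, ?_, ?_⟩
    · rw [hidx]; exact h1
    · rw [hidx]; exact h2
    · have hprod : ∏ j, f j ^ (a + Pi.single i 1 : Fin p → ℕ) j = (∏ j, f j ^ a j) * f i := by
        simp only [Pi.add_apply, pow_add]
        rw [Finset.prod_mul_distrib]
        congr 1
        rw [Finset.prod_eq_single i]
        · rw [Pi.single_eq_same, pow_one]
        · intro j _ hj
          rw [Pi.single_eq_of_ne hj, pow_zero]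
        · intro h; exact absurd (Finset.mem_univ i) h
      rw [hprod]; ring
  | zero => rw [zero_mul]; exact Submodule.zero_mem _
  | add y z _ _ hy hz => rw [add_mul]; exact Submodule.add_mem _ hy hz
  | smul r y _ hy => rw [smul_mul_assoc]; exact Submodule.smul_mem _ r hy

theorem expand (hdeg : ∀ i, 0 < deg i) (hf : ∀ i, f i ∈ 𝒜 (deg i))
    (hgen : Ideal.span {a : A | ∃ n : ℤ, 0 < n ∧ a ∈ 𝒜 n} = Ideal.span (Set.range f))
    (m : ℕ) : ∀ n : ℤ, n ≤ m → ∀ x ∈ 𝒜 n, x ∈ Submodule.span R (Tset 𝒜 f deg n) := by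
  induction m with
  | zero =>
    intro n hn x hx
    exact base 𝒜 f deg n (by simpa using hn) x hx
  | succ m ih =>
    intro n hn x hx
    by_cases hn0 : n ≤ 0
    · exact base 𝒜 f deg n hn0 x hx
    · push Not at hn0
      have hx1 : x ∈ Ideal.span (Set.range f) := by
        rw [← hgen]; exact Ideal.subset_span ⟨n, hn0, hx⟩
      obtain ⟨g, hg⟩ := Ideal.mem_span_range_iff_exists_fun.mp hx1
      have hx2 : x = ∑ i, ((decompose 𝒜 (g i) (n - deg i) : 𝒜 (n - deg i)) : A) * f i := by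
        have h1 : GradedRing.proj 𝒜 n x = x := by
          rw [GradedRing.proj_apply, decompose_of_mem_same 𝒜 hx]
        rw [← h1, ← hg, map_sum]
        apply Finset.sum_congr rfl
        intro i _
        rw [GradedRing.proj_apply]
        have h2 := coe_decompose_mul_add_of_right_mem 𝒜 (i := n - deg i) (a := g i) (hf i)
        rw [sub_add_cancel] at h2
        exact h2
      rw [hx2]
      apply Submodule.sum_mem
      intro i _
      have hci := ih (n - deg i) (by have := hdeg i; push_cast at hn; omega) _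
        (SetLike.coe_mem (decompose 𝒜 (g i) (n - deg i)))
      exact mul_f_mem 𝒜 f deg n i hci

theorem gen_mem (hdeg : ∀ i, 0 < deg i) (hf : ∀ i, f i ∈ 𝒜 (deg i))
    (d : ℤ) (hd : 0 < d) (hdvd : ∀ i, deg i ∣ d) (n : ℤ) (hK : d * p - ∑ i, deg i < n)
    {y : A} (hy : y ∈ Tset 𝒜 f deg n) : y ∈ 𝒜 d * 𝒜 (n - d) := by
  obtain ⟨a, c, h1, h2, rfl⟩ := hy
  choose e he using hdvd
  have hex : ∃ i, e i ≤ (a i : ℤ) := by
    by_contra hcon
    push Not at hcon
    have hle : ∑ j, (a j : ℤ) * deg j ≤ ∑ j, (e j - 1) * deg j :=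
      Finset.sum_le_sum (fun j _ => by
        have h3 := hcon j
        have h4 := hdeg j
        nlinarith)
    have heq : ∑ j, (e j - 1) * deg j = d * p - ∑ j, deg j := by
      have h3 : ∀ j, (e j - 1) * deg j = d - deg j := by
        intro j
        have h4 := he j
        linear_combination (-1 : ℤ) * h4
      simp only [h3]
      rw [Finset.sum_sub_distrib, Finset.sum_const, Finset.card_univ, Fintype.card_fin,
        nsmul_eq_mul]
      ring
    linarith
  obtain ⟨i, hi⟩ := hex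
  have hepos : 0 ≤ e i := by
    by_contra hc
    push Not at hc
    have h3 := hdeg i
    have h4 := he i
    have h5 : deg i * e i < 0 := mul_neg_of_pos_of_neg h3 hc
    linarith
  obtain ⟨E, hE⟩ : ∃ E : ℕ, (E : ℤ) = e i := ⟨(e i).toNat, Int.toNat_of_nonneg hepos⟩
  have hEa : E ≤ a i := by
    have h3 : (E : ℤ) ≤ (a i : ℤ) := by rw [hE]; exact hi
    exact_mod_cast h3
  have hsplit : (∏ j, f j ^ a j) * c =
      f i ^ E * (f i ^ (a i - E) * (∏ j ∈ Finset.univ.erase i, f j ^ a j) * c) := by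
    rw [← Finset.mul_prod_erase Finset.univ (fun j => f j ^ a j) (Finset.mem_univ i)]
    have h3 : f i ^ a i = f i ^ E * f i ^ (a i - E) := by
      rw [← pow_add, Nat.add_sub_cancel' hEa]
    rw [h3]; ring
  rw [hsplit]
  apply Submodule.mul_mem_mul
  · have h3 := SetLike.pow_mem_graded E (hf i)
    rwa [show E • deg i = d by rw [nsmul_eq_mul, hE, he i]; ring] at h3
  · have h3 : f i ^ (a i - E) ∈ 𝒜 ((a i - E : ℕ) • deg i) := SetLike.pow_mem_graded _ (hf i)
    have h4 : ∏ j ∈ Finset.univ.erase i, f j ^ a j ∈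
        𝒜 (∑ j ∈ Finset.univ.erase i, a j • deg j) :=
      SetLike.prod_pow_mem_graded 𝒜 deg f a (fun j _ => hf j)
    have h5 := SetLike.mul_mem_graded (SetLike.mul_mem_graded h3 h4) h2
    have hs : ∑ j, (a j : ℤ) * deg j =
        (a i : ℤ) * deg i + ∑ j ∈ Finset.univ.erase i, (a j : ℤ) * deg j :=
      (Finset.add_sum_erase _ _ (Finset.mem_univ i)).symm
    have hidx : (a i - E : ℕ) • deg i + ∑ j ∈ Finset.univ.erase i, a j • deg j +
        (n - ∑ j, (a j : ℤ) * deg j) = n - d := by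
      simp only [nsmul_eq_mul]
      rw [Nat.cast_sub hEa, hs, hE, he i]
      ring
    rwa [hidx] at h5

theorem s13663
    (hdeg : ∀ i, 0 < deg i) (hf : ∀ i, f i ∈ 𝒜 (deg i))
    (hgen : Ideal.span {a : A | ∃ n : ℤ, 0 < n ∧ a ∈ 𝒜 n} = Ideal.span (Set.range f))
    (d : ℤ) (hd : 0 < d) (hdvd : ∀ i, deg i ∣ d) (N : ℤ) (hN : d * p - ∑ i, deg i < N) :
    𝒜 N = 𝒜 d * 𝒜 (N - d) := by
  apply le_antisymm
  · intro x hx
    have h1 := expand 𝒜 f deg hdeg hf hgen N.toNat N (Int.self_le_toNat N) x hx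
    have h2 : Submodule.span R (Tset 𝒜 f deg N) ≤ 𝒜 d * 𝒜 (N - d) :=
      Submodule.span_le.mpr (fun y hy => gen_mem 𝒜 f deg hdeg hf d hd hdvd N hN hy)
    exact h2 h1
  · rw [Submodule.mul_le]
    intro a ha b hb
    have h1 := SetLike.mul_mem_graded ha hb
    rwa [add_sub_cancel] at h1

end Groth.Agent.Helper25.GradedPiece
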