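import Mathlib

/-!
# Group-like elements of a group algebra: products and multiplicativity of evaluation
(lemmas B1c, B1d requested by helper7 for S5290)
-/

set_option autoImplicit false
universe u

namespace Groth.Agent.Helper25.GroupLikeMul

/-- evaluation of `liftNCRingHom` as a finite sum over the support -/
theorem liftNCRingHom_eq_sum {B C : Type u} [CommRing B] [CommRing C] {G : Type} [CommGroup G]
    (x : MonoidAlgebra B G) (θ : B →+* C) (φ : G →* C) :
    MonoidAlgebra.liftNCRingHom θ φ (fun _ _ => Commute.all _ _) x =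
      ∑ g ∈ x.coeff.support, θ (x.coeff g) * φ g := by
  conv_lhs => rw [← MonoidAlgebra.sum_coeff_single x]
  unfold Finsupp.sum
  rw [map_sum]
  refine Finset.sum_congr rfl fun g _ => ?_
  rw [MonoidAlgebra.liftNCRingHom_single]

open Classical in
/-- (B1d) evaluation of a group-like element is multiplicative in the character -/
theorem groupLike_lift_mul {B C : Type u} [CommRing B] [CommRing C] {G : Type} [CommGroup G]
    (x : MonoidAlgebra B G)
    (hx : ∀ g h : G, x.coeff g * x.coeff h = if g = h then x.coeff g else 0)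
    (θ : B →+* C) (φ φ' : G →* C) :
    MonoidAlgebra.liftNCRingHom θ (φ * φ') (fun _ _ => Commute.all _ _) x =
      MonoidAlgebra.liftNCRingHom θ φ (fun _ _ => Commute.all _ _) x *
        MonoidAlgebra.liftNCRingHom θ φ' (fun _ _ => Commute.all _ _) x := by
  rw [liftNCRingHom_eq_sum, liftNCRingHom_eq_sum, liftNCRingHom_eq_sum, Finset.sum_mul_sum]
  refine Finset.sum_congr rfl fun g hg => ?_
  rw [Finset.sum_eq_single g]
  · have h1 : θ (x.coeff g) * θ (x.coeff g) = θ (x.coeff g) := by
      rw [← map_mul, hx g g, if_pos rfl]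
    rw [MonoidHom.mul_apply]
    calc θ (x.coeff g) * (φ g * φ' g) = (θ (x.coeff g) * θ (x.coeff g)) * (φ g * φ' g) := by rw [h1]
      _ = θ (x.coeff g) * φ g * (θ (x.coeff g) * φ' g) := by ring
  · intro h _ hne
    have h0 : θ (x.coeff g) * θ (x.coeff h) = 0 := by
      rw [← map_mul, hx g h, if_neg (Ne.symm hne), map_zero]
    calc θ (x.coeff g) * φ g * (θ (x.coeff h) * φ' h)
        = (θ (x.coeff g) * θ (x.coeff h)) * (φ g * φ' h) := by ring
      _ = 0 := by rw [h0, zero_mul]
  · intro hg'
    exact absurd hg hg'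

/-- the augmentation `Σ_g x_g` as a value of a ring homomorphism -/
theorem aug_eq {B : Type u} [CommRing B] {G : Type} [CommGroup G] (x : MonoidAlgebra B G) :
    (x.coeff.sum fun _ b => b) =
      MonoidAlgebra.liftNCRingHom (RingHom.id B) (1 : G →* B) (fun _ _ => Commute.all _ _) x := by
  rw [liftNCRingHom_eq_sum]
  unfold Finsupp.sum
  refine Finset.sum_congr rfl fun g _ => ?_
  simp

open Classical in
/-- (B1c) products -/
theorem groupLike_mul {B : Type u} [CommRing B] {G : Type} [CommGroup G] (x y : MonoidAlgebra B G)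
    (hx : ∀ g h : G, x.coeff g * x.coeff h = if g = h then x.coeff g else 0)
    (hx1 : (x.coeff.sum fun _ b => b) = 1)
    (hy : ∀ g h : G, y.coeff g * y.coeff h = if g = h then y.coeff g else 0)
    (hy1 : (y.coeff.sum fun _ b => b) = 1) :
    (∀ g h : G, (x * y).coeff g * (x * y).coeff h = if g = h then (x * y).coeff g else 0) ∧
      ((x * y).coeff.sum fun _ b => b) = 1 := by
  constructor
  · intro g h
    rw [MonoidAlgebra.coeff_mul_apply_left x y g, MonoidAlgebra.coeff_mul_apply_left x y h]
    unfold Finsupp.sum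
    rw [Finset.sum_mul_sum]
    have key : ∀ a ∈ x.coeff.support,
        (∑ c ∈ x.coeff.support, x.coeff a * y.coeff (a⁻¹ * g) * (x.coeff c * y.coeff (c⁻¹ * h))) =
          if g = h then x.coeff a * y.coeff (a⁻¹ * g) else 0 := by
      intro a ha
      rw [Finset.sum_eq_single a]
      · have h1 : x.coeff a * x.coeff a = x.coeff a := by rw [hx a a, if_pos rfl]
        calc x.coeff a * y.coeff (a⁻¹ * g) * (x.coeff a * y.coeff (a⁻¹ * h))
            = (x.coeff a * x.coeff a) * (y.coeff (a⁻¹ * g) * y.coeff (a⁻¹ * h)) := by ring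
          _ = x.coeff a * (if a⁻¹ * g = a⁻¹ * h then y.coeff (a⁻¹ * g) else 0) := by
              rw [h1, hy]
          _ = if g = h then x.coeff a * y.coeff (a⁻¹ * g) else 0 := by
              by_cases hgh : g = h
              · rw [if_pos hgh, if_pos (by rw [hgh])]
              · rw [if_neg hgh, if_neg (fun hh => hgh (mul_left_cancel hh)), mul_zero]
      · intro c _ hca
        have h0 : x.coeff a * x.coeff c = 0 := by rw [hx a c, if_neg (Ne.symm hca)]
        calc x.coeff a * y.coeff (a⁻¹ * g) * (x.coeff c * y.coeff (c⁻¹ * h))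
            = (x.coeff a * x.coeff c) * (y.coeff (a⁻¹ * g) * y.coeff (c⁻¹ * h)) := by ring
          _ = 0 := by rw [h0, zero_mul]
      · intro ha'
        exact absurd ha ha'
    rw [Finset.sum_congr rfl key]
    by_cases hgh : g = h
    · simp only [if_pos hgh]
    · simp only [if_neg hgh, Finset.sum_const_zero]
  · rw [aug_eq, map_mul, ← aug_eq, ← aug_eq, hx1, hy1, one_mul]

end Groth.Agent.Helper25.GroupLikeMul
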