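import Mathlib
import Groth.Agent.Lib.Helper25.HilbWalk

/-! Strongly stable ideals in three variables: `x ∈ I` iff the doubly negative pieces vanish. -/

namespace Groth.Agent.Helper25.HilbTgt

open MvPolynomial W4c1hilbpn

variable {σ : Type*} {k : Type*} [Field k] [Fintype σ] [DecidableEq σ]
  {I : Ideal (MvPolynomial σ k)} {α : σ → ℤ}

/-- if a variable `x_v` lies in `I` and `α` is negative at `v` and at another index `i`, then
all components are unbounded -/
lemma infAt_of_var_mem {v i : σ} (hv : Finsupp.single v 1 ∈ exps I) (hvi : i ≠ v)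
    (hαv : α v < 0) (hαi : α i < 0) :
    ∀ m : ℕ, ∀ γ : σ → ℤ, γ ∈ region I α → (∀ l, 0 ≤ γ l) → γ i = m → InfAt I α γ := by
  haveI : Nontrivial σ := ⟨⟨i, v, hvi⟩⟩
  intro m
  induction m with
  | zero =>
    intro γ hγ hpos hm
    have hγ' : γ - Pi.single i 1 ∈ region I α := by
      refine mem_region_of (fun l => ?_) ?_ (fun hh => ?_)
      · have := sub_nonneg_of_mem_region hγ l
        rw [sub_single_apply]; split_ifs with hl
        · subst hl; omega
        · omega
      · refine exps_mono hv ?_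
        rw [Finsupp.le_def]
        intro l
        rw [toNatVec_apply]
        simp only [Pi.sub_apply, Pi.single_apply, Finsupp.single_apply]
        by_cases hl : v = l
        · subst hl
          rw [if_pos rfl, if_neg hvi.symm]
          have := hpos v
          omega
        · rw [if_neg hl]; exact Nat.zero_le _
      · have := hh.1 i
        rw [sub_single_apply, if_pos rfl] at this
        omega
    apply InfAt.of_sub hγ i
    refine infAt_of_neg hγ' (i := i) ?_
    rw [sub_single_apply, if_pos rfl]; omega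
  | succ m ih =>
    intro γ hγ hpos hm
    have hγnot : toNatVec γ ∉ exps I := notMem_of_region_pos hγ hpos
    have hγ' : γ - Pi.single i 1 ∈ region I α := by
      refine mem_region_of (fun l => ?_) ?_ (fun hh => hγnot ?_)
      · have := sub_nonneg_of_mem_region hγ l
        rw [sub_single_apply]; split_ifs with hl
        · subst hl; omega
        · omega
      · refine exps_mono hv ?_
        rw [Finsupp.le_def]
        intro l
        rw [toNatVec_apply]
        simp only [Pi.sub_apply, Pi.single_apply, Finsupp.single_apply]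
        by_cases hl : v = l
        · subst hl
          rw [if_pos rfl, if_neg hvi.symm]
          have := hpos v
          omega
        · rw [if_neg hl]; exact Nat.zero_le _
      · refine exps_mono hh.2 (toNatVec_le fun l => ?_)
        rw [sub_single_apply]; split_ifs <;> omega
    apply InfAt.of_sub hγ i
    refine ih _ hγ' (fun l => ?_) ?_
    · have := hpos l
      rw [sub_single_apply]; split_ifs with hl
      · subst hl; omega
      · omega
    · rw [sub_single_apply, if_pos rfl]; omega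

lemma isEmpty_Bdd_of_var_mem {v i : σ} (hv : Finsupp.single v 1 ∈ exps I) (hvi : i ≠ v)
    (hαv : α v < 0) (hαi : α i < 0) : IsEmpty (Bdd I α) := by
  haveI : Nontrivial σ := ⟨⟨i, v, hvi⟩⟩
  apply isEmpty_Bdd_of_infAt
  intro γ hγ hpos
  exact infAt_of_var_mem hv hvi hαv hαi (γ i).toNat γ hγ hpos
    (by rw [Int.toNat_of_nonneg (hpos i)])

lemma nonempty_Bdd_of_isolated {γ : σ → ℤ} (hγ : γ ∈ region I α)
    (h : ∀ w, ¬ (G I α).Adj ⟨γ, hγ⟩ w) : Nonempty (Bdd I α) :=
  ⟨⟨(G I α).connectedComponentMk ⟨γ, hγ⟩, by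
    rw [supp_singleton h]; exact Set.finite_singleton _⟩⟩

lemma isolated_of {γ : σ → ℤ} (hγ : γ ∈ region I α) (hpos : ∀ l, 0 ≤ γ l)
    (hup : ∀ l, toNatVec (γ + Pi.single l 1) ∈ exps I) {β : σ →₀ ℕ} (hβ : γ = vec β α)
    (hdown : ∀ l (β' : σ →₀ ℕ), β' + Finsupp.single l 1 = β → β' ∉ exps I) :
    ∀ w : region I α, ¬ (G I α).Adj ⟨γ, hγ⟩ w := by
  intro w hadj
  obtain ⟨l, hl | hl⟩ := exists_of_step_adj (show (stepGraph σ).Adj γ w.1 from hadj)
  · apply w.2.2
    rw [hl]
    refine ⟨fun l' => ?_, hup l⟩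
    have := hpos l'
    rw [add_single_apply]; split_ifs <;> omega
  · obtain ⟨⟨β', hβ', hw⟩, -⟩ := w.2
    replace hw : w.1 = vec β' α := hw
    have : vec (β' + Finsupp.single l 1) α = vec β α := by
      rw [vec_add_single, ← hw, ← hl, hβ]
    exact hdown l β' (vec_inj this) hβ'

lemma exists_max_nat {P : ℕ → Prop} (h : ∃ t, P t) {B : ℕ} (hb : ∀ t, P t → t ≤ B) :
    ∃ s, P s ∧ ∀ t, P t → t ≤ s := by
  classical
  obtain ⟨t, ht⟩ := h
  exact ⟨Nat.findGreatest P B, Nat.findGreatest_spec (hb t ht) ht,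
    fun t' ht' => Nat.le_findGreatest (hb t' ht') ht'⟩

end Groth.Agent.Helper25.HilbTgt

namespace Groth.Agent.Helper25.HilbTgt

open MvPolynomial W4c1hilbpn

variable {k : Type*} [Field k] {I : Ideal (MvPolynomial (Fin 3) k)}

@[simp] lemma e3_zero (a b c : ℕ) : e3 a b c 0 = a := rfl
@[simp] lemma e3_one (a b c : ℕ) : e3 a b c 1 = b := rfl
@[simp] lemma e3_two (a b c : ℕ) : e3 a b c 2 = c := rfl

lemma eq_e3 (δ : Fin 3 →₀ ℕ) : δ = e3 (δ 0) (δ 1) (δ 2) := by
  ext i; fin_cases i <;> rfl

lemma e3_le_iff {a b c : ℕ} {δ : Fin 3 →₀ ℕ} : e3 a b c ≤ δ ↔ a ≤ δ 0 ∧ b ≤ δ 1 ∧ c ≤ δ 2 := by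
  rw [Finsupp.le_def]
  constructor
  · intro h; exact ⟨h 0, h 1, h 2⟩
  · rintro ⟨h0, h1, h2⟩ i; fin_cases i <;> assumption

theorem x_mem_of_pieces_vanish (hI : IsStronglyStable I)
    [Module.Finite k (MvPolynomial (Fin 3) k ⧸ I)]
    (h12 : sigPiece I ({1, 2} : Set (Fin 3)) = ⊥) : (X 0 : MvPolynomial (Fin 3) k) ∈ I := by
  haveI := finite_compl_exps hI.1
  by_contra hx
  have hx' : Finsupp.single (0 : Fin 3) 1 ∉ exps I := hx
  obtain ⟨N, hN⟩ := exists_bound (I := I)
  -- a socle monomial with positive `x`-exponent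
  obtain ⟨D, ⟨γ, hγnot, hγ0, hγD⟩, hDmax⟩ := exists_max_nat
    (P := fun D => ∃ δ : Fin 3 →₀ ℕ, δ ∉ exps I ∧ 1 ≤ δ 0 ∧ δ.degree = D)
    ⟨1, Finsupp.single 0 1, hx', by simp, by simp⟩ (B := 3 * N) (by
      rintro D ⟨δ, hδ, -, rfl⟩
      rw [Finsupp.degree_eq_sum, Fin.sum_univ_three]
      have := hN δ hδ 0; have := hN δ hδ 1; have := hN δ hδ 2
      omega)
  have hup : ∀ l, γ + Finsupp.single l 1 ∈ exps I := by
    intro l
    by_contra hcon
    have := hDmax _ ⟨γ + Finsupp.single l 1, hcon, by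
      rw [Finsupp.add_apply]; omega, rfl⟩
    rw [map_add, Finsupp.degree_single, hγD] at this
    omega
  obtain ⟨g, hg⟩ : ∃ g, g = γ 1 + 1 := ⟨_, rfl⟩
  have hexf : ∃ t, e3 0 g t ∈ exps I := by
    refine ⟨N, ?_⟩
    by_contra hcon
    have := hN _ hcon 2
    simp at this
  obtain ⟨f, hf, hfmin⟩ := exists_min_nat hexf
  -- (A)
  have hA : γ 2 < f := by
    by_contra hcon
    have h1 : e3 0 g (γ 2) ∈ exps I := exps_mono hf (e3_le_iff.2 ⟨le_rfl, le_rfl, by simp; omega⟩)
    have h2 := hI.2 _ h1 0 1 (by decide) (by simp; omega)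
    apply hγnot
    refine exps_mono h2 ?_
    rw [Finsupp.le_def]
    intro i
    fin_cases i
    · (try simp) <;> omega
    · (try simp) <;> omega
    · (try simp) <;> omega
  -- (B), (C), (D)
  have hdown : ∀ l (β' : Fin 3 →₀ ℕ), β' + Finsupp.single l 1 = e3 0 g f → β' ∉ exps I := by
    intro l β' hβ' hmem
    have e0 := DFunLike.congr_fun hβ' 0
    have e1 := DFunLike.congr_fun hβ' 1
    have e2 := DFunLike.congr_fun hβ' 2
    simp only [Finsupp.add_apply, e3_zero, e3_one, e3_two, Finsupp.single_apply] at e0 e1 e2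
    fin_cases l
    · simp at e0
    · simp at e0 e1 e2
      have h2 := hI.2 _ hmem 1 2 (by decide) (by omega)
      refine hfmin (f - 1) (by omega) (exps_mono h2 ?_)
      rw [Finsupp.le_def]
      intro i
      fin_cases i
      · (try simp) <;> omega
      · (try simp) <;> omega
      · (try simp) <;> omega
    · simp at e0 e1 e2
      refine hfmin (f - 1) (by omega) (exps_mono hmem ?_)
      rw [Finsupp.le_def]
      intro i
      fin_cases i
      · (try simp) <;> omega
      · (try simp) <;> omega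
      · (try simp) <;> omega
  -- the multidegree
  let α : Fin 3 → ℤ := fun i => (γ i : ℤ) - ((e3 0 g f) i : ℤ)
  let γh : Fin 3 → ℤ := fun i => (γ i : ℤ)
  have hγvec : γh = vec (e3 0 g f) α := by
    funext i; simp [γh, α, vec]
  have hnat : toNatVec γh = γ := by
    ext i; simp [γh]
  have hpos : ∀ l, 0 ≤ γh l := fun l => by simp [γh]
  have hreg : γh ∈ region I α :=
    ⟨⟨e3 0 g f, hf, hγvec⟩, fun hh => hγnot (by have := hh.2; rwa [← hnat])⟩
  have hup' : ∀ l, toNatVec (γh + Pi.single l 1) ∈ exps I := by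
    intro l
    rw [toNatVec_add_single hpos, hnat]
    exact hup l
  have hne := nonempty_Bdd_of_isolated hreg (isolated_of hreg hpos hup' hγvec hdown)
  haveI : Nontrivial (Fin 3) := Fin.nontrivial_iff_two_le.2 (by norm_num)
  have hbot := (sigPiece_eq_bot_iff.1 h12) α (by
    intro i
    fin_cases i
    · (try simp [α]) <;> omega
    · (try simp [α]) <;> omega
    · (try simp [α]) <;> omega)
  rw [tPiece_eq_bot_iff hI.1] at hbot
  exact hbot.false hne.some

theorem pieces_vanish_of_x_mem (hI : IsMonomial I)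
    [Module.Finite k (MvPolynomial (Fin 3) k ⧸ I)]
    (hx : (X 0 : MvPolynomial (Fin 3) k) ∈ I) :
    sigPiece I ({1, 2} : Set (Fin 3)) = ⊥ ∧ sigPiece I ({0, 2} : Set (Fin 3)) = ⊥ ∧
      sigPiece I ({0, 1} : Set (Fin 3)) = ⊥ := by
  haveI := finite_compl_exps hI
  haveI : Nontrivial (Fin 3) := Fin.nontrivial_iff_two_le.2 (by norm_num)
  have hx' : Finsupp.single (0 : Fin 3) 1 ∈ exps I := hx
  refine ⟨?_, ?_, ?_⟩
  · rw [sigPiece_eq_bot_iff]
    intro α hα
    rw [tPiece_eq_bot_iff hI]
    have h0 : 0 ≤ α 0 := by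
      have := (hα 0).not; simp at this; exact this
    have h1 : α 1 < 0 := (hα 1).2 (by simp)
    have h2 : α 2 < 0 := (hα 2).2 (by simp)
    apply isEmpty_Bdd_of_infAt
    intro γ hγ hpos
    have hγnot : toNatVec γ ∉ exps I := notMem_of_region_pos hγ hpos
    have hγ0 : γ 0 = 0 := by
      by_contra hne
      apply hγnot
      refine exps_mono hx' ?_
      rw [Finsupp.le_def]
      intro l
      rw [toNatVec_apply, Finsupp.single_apply]
      split_ifs with hl
      · subst hl; have := hpos 0; omega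
      · exact Nat.zero_le _
    have hα0 : α 0 = 0 := by
      have := sub_nonneg_of_mem_region hγ 0
      omega
    refine walk_infAt (u := 1) (d := 2) (by decide) h1 h2 (fun l => ?_) (γ 2).toNat γ hγ hpos
      (by rw [Int.toNat_of_nonneg (hpos 2)])
    fin_cases l
    · exact hα0.le
    · exact h1.le
    · exact h2.le
  · rw [sigPiece_eq_bot_iff]
    intro α hα
    rw [tPiece_eq_bot_iff hI]
    exact isEmpty_Bdd_of_var_mem (v := 0) (i := 2) hx' (by decide) ((hα 0).2 (by simp))
      ((hα 2).2 (by simp))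
  · rw [sigPiece_eq_bot_iff]
    intro α hα
    rw [tPiece_eq_bot_iff hI]
    exact isEmpty_Bdd_of_var_mem (v := 0) (i := 1) hx' (by decide) ((hα 0).2 (by simp))
      ((hα 1).2 (by simp))

end Groth.Agent.Helper25.HilbTgt
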