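import Mathlib
import Groth.Agent.Lib.Helper25.HilbIndep
import Groth.Agent.Lib.Helper25.HilbStable

/-!
# Bound for the pieces `T_{(a1,a2,c)}`, `c < 0`, in terms of staircase numbers
-/

namespace Groth.Agent.Helper25.HilbSB

open MvPolynomial W4c1hilbpn Groth.Agent.Helper25.HilbTgt

variable {k : Type*} [Field k] {I : Ideal (MvPolynomial (Fin 3) k)}

lemma cov3 : ∀ l : Fin 3, l = 0 ∨ l = 1 ∨ l = 2 := by decide

lemma e3_mono {a b c c' : ℕ} (h : c ≤ c') : e3 a b c ≤ e3 a b c' := by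
  rw [e3_le_iff]; simp [h]

lemma e3_add_single0 (a b c : ℕ) : e3 a b c + Finsupp.single 0 1 = e3 (a + 1) b c := by
  ext l; rcases cov3 l with rfl | rfl | rfl <;> simp [Finsupp.single_apply]

lemma e3_add_single1 (a b c : ℕ) : e3 a b c + Finsupp.single 1 1 = e3 a (b + 1) c := by
  ext l; rcases cov3 l with rfl | rfl | rfl <;> simp [Finsupp.single_apply]

lemma e3_add_single2 (a b c : ℕ) : e3 a b c + Finsupp.single 2 1 = e3 a b (c + 1) := by
  ext l; rcases cov3 l with rfl | rfl | rfl <;> simp [Finsupp.single_apply]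

/-- the columns of the staircase are initial segments -/
lemma notMem_iff_lt_stairZ [Finite {γ : Fin 3 →₀ ℕ // γ ∉ exps I}] (i j c : ℕ) :
    e3 i j c ∉ exps I ↔ c < stairZ I i j := by
  classical
  have hlower : ∀ c c', c ≤ c' → e3 i j c' ∉ exps I → e3 i j c ∉ exps I :=
    fun c c' h h' hc => h' (exps_mono hc (e3_mono h))
  obtain ⟨N, hN⟩ := exists_bound (I := I)
  have hex : ∃ c, e3 i j c ∈ exps I := ⟨N, by
    by_contra h
    have := hN _ h 2
    simp at this⟩
  have hn : e3 i j (Nat.find hex) ∈ exps I := Nat.find_spec hex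
  have hmin : ∀ c, c < Nat.find hex → e3 i j c ∉ exps I := fun c hc => Nat.find_min hex hc
  have hiff : ∀ c, e3 i j c ∉ exps I ↔ c < Nat.find hex := by
    intro c
    constructor
    · intro h
      by_contra hc
      push_neg at hc
      exact hlower _ c hc h hn
    · exact hmin c
  have hcard : stairZ I i j = Nat.find hex := by
    unfold stairZ
    have e : {c : ℕ // e3 i j c ∉ exps I} ≃ Fin (Nat.find hex) :=
      (Equiv.subtypeEquivRight hiff).trans Fin.equivSubtype.symm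
    rw [Nat.card_congr e]
    simp
  rw [hcard]
  exact hiff c

lemma stairZ_le_of_bound [Finite {γ : Fin 3 →₀ ℕ // γ ∉ exps I}] {N : ℕ}
    (hN : ∀ δ : Fin 3 →₀ ℕ, δ ∉ exps I → ∀ i, δ i < N) (i j : ℕ) : stairZ I i j ≤ N := by
  by_contra h
  push_neg at h
  have h1 := (notMem_iff_lt_stairZ (I := I) i j N).2 h
  have := hN _ h1 2
  simp at this

/-- weight used to choose an extremal point of a component -/
def wt (γ : Fin 3 → ℤ) : ℤ := γ 0 + γ 1 - γ 2

lemma wt_add_single (γ : Fin 3 → ℤ) (l : Fin 3) (hl : l ≠ 2) :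
    wt (γ + Pi.single l 1) = wt γ + 1 := by
  rcases cov3 l with rfl | rfl | rfl
  · simp [wt, add_single_apply]; ring
  · simp [wt, add_single_apply]; ring
  · exact absurd rfl hl

lemma wt_sub_single (γ : Fin 3 → ℤ) : wt (γ - Pi.single 2 1) = wt γ + 1 := by
  simp [wt, sub_single_apply]; ring

/-- every bounded component contains a point which is maximal in the `x` and `y` directions
and whose preimage lies on the floor of the ideal in the `z` direction -/
lemma exists_special [Finite {γ : Fin 3 →₀ ℕ // γ ∉ exps I}] {α : Fin 3 → ℤ} (C : Bdd I α) :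
    ∃ γ : region I α, (G I α).connectedComponentMk γ = C.1 ∧ (∀ l, 0 ≤ γ.1 l) ∧
      toNatVec γ.1 ∉ exps I ∧
      toNatVec γ.1 + Finsupp.single 0 1 ∈ exps I ∧ toNatVec γ.1 + Finsupp.single 1 1 ∈ exps I ∧
      toNatVec (γ.1 - α) ∈ exps I ∧
      (∀ β' : Fin 3 →₀ ℕ, β' + Finsupp.single 2 1 = toNatVec (γ.1 - α) → β' ∉ exps I) := by
  classical
  have hfin := C.2
  obtain ⟨v0, hv0⟩ := C.1.nonempty_supp
  obtain ⟨γ, hγmem, hγmax⟩ := hfin.toFinset.exists_max_image
    (fun v : region I α => wt v.1) ⟨v0, hfin.mem_toFinset.2 hv0⟩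
  rw [Set.Finite.mem_toFinset, SimpleGraph.ConnectedComponent.mem_supp_iff] at hγmem
  have hmax : ∀ w : region I α, (G I α).Adj γ w → wt w.1 ≤ wt γ.1 := by
    intro w hw
    apply hγmax
    rw [Set.Finite.mem_toFinset, SimpleGraph.ConnectedComponent.mem_supp_iff, ← hγmem]
    exact (SimpleGraph.ConnectedComponent.connectedComponentMk_eq_of_adj hw).symm
  have hfinγ : ((G I α).connectedComponentMk ⟨γ.1, γ.2⟩).supp.Finite := by
    rw [show (⟨γ.1, γ.2⟩ : region I α) = γ from rfl, hγmem]; exact hfin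
  have hpos : ∀ l, 0 ≤ γ.1 l := fun l => nonneg_of_finite γ.2 hfinγ l
  have hnot : toNatVec γ.1 ∉ exps I := fun h => (mem_region_iff.1 γ.2).2 ⟨hpos, h⟩
  have hsubpos : ∀ l, 0 ≤ (γ.1 - α) l := fun l => by
    have := sub_nonneg_of_mem_region γ.2 l
    simpa using this
  have hup : ∀ l : Fin 3, l ≠ 2 → toNatVec γ.1 + Finsupp.single l 1 ∈ exps I := by
    intro l hl
    by_contra hcon
    rw [← toNatVec_add_single hpos l] at hcon
    have hreg : γ.1 + Pi.single l 1 ∈ region I α := by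
      refine mem_region_of (fun l' => ?_) ?_ (fun h => hcon h.2)
      · have := sub_nonneg_of_mem_region γ.2 l'
        rw [add_single_apply]; split_ifs <;> omega
      · rw [add_sub_right_comm, toNatVec_add_single hsubpos l]
        exact exps_add (toNatVec_sub_mem γ.2) _
    have hadj : (G I α).Adj γ ⟨_, hreg⟩ := step_adj_single γ.1 l
    have := hmax _ hadj
    rw [wt_add_single _ _ hl] at this
    omega
  refine ⟨γ, hγmem, hpos, hnot, hup 0 (by decide), hup 1 (by decide), toNatVec_sub_mem γ.2, ?_⟩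
  intro β' hβ' hmem
  have hvec : vec β' α + Pi.single 2 1 = γ.1 := by
    rw [← vec_add_single, hβ']
    funext l
    have := hsubpos l
    simp only [vec, toNatVec_apply, Pi.sub_apply] at this ⊢
    omega
  have hreg : γ.1 - Pi.single 2 1 ∈ region I α := by
    rw [mem_region_iff]
    refine ⟨⟨β', hmem, ?_⟩, ?_⟩
    · rw [← hvec, add_sub_cancel_right]
    · rintro ⟨hp, hm⟩
      apply hnot
      have : toNatVec γ.1 = toNatVec (γ.1 - Pi.single 2 1) + Finsupp.single 2 1 := by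
        rw [← toNatVec_add_single hp, sub_add_cancel]
      rw [this]
      exact exps_add hm _
  have hadj0 : (stepGraph (Fin 3)).Adj (γ.1 - Pi.single 2 1) γ.1 := by
    have := step_adj_single (γ.1 - Pi.single 2 1) (2 : Fin 3)
    rwa [sub_add_cancel] at this
  have hadj : (G I α).Adj γ ⟨_, hreg⟩ := hadj0.symm
  have := hmax _ hadj
  rw [wt_sub_single] at this
  omega

/-- the multidegree `(a1, a2, -s)` -/
def al (a1 a2 s : ℕ) : Fin 3 → ℤ := ![(a1 : ℤ), (a2 : ℤ), -(s : ℤ)]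

@[simp] lemma al_zero (a1 a2 s : ℕ) : al a1 a2 s 0 = a1 := rfl
@[simp] lemma al_one (a1 a2 s : ℕ) : al a1 a2 s 1 = a2 := rfl
@[simp] lemma al_two (a1 a2 s : ℕ) : al a1 a2 s 2 = -(s : ℤ) := rfl

lemma al_injective (a1 a2 : ℕ) : Function.Injective (al a1 a2) := by
  intro s s' h
  have := congrFun h 2
  simp only [al_two] at this
  omega

/-- the data attached to a bounded component in multidegree `(a1, a2, -s)` -/
def Spec (I : Ideal (MvPolynomial (Fin 3) k)) (a1 a2 s : ℕ) (C : Bdd I (al a1 a2 s))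
    (x : Σ _ : ℕ × ℕ, ℕ) : Prop :=
  (∃ γ : region I (al a1 a2 s), (G I (al a1 a2 s)).connectedComponentMk γ = C.1 ∧
    γ.1 = ![(x.1.1 : ℤ), (x.1.2 : ℤ), (x.2 : ℤ)]) ∧
  a1 ≤ x.1.1 ∧ a2 ≤ x.1.2 ∧ x.2 < stairZ I x.1.1 x.1.2 ∧
  stairZ I (x.1.1 + 1) x.1.2 ≤ x.2 ∧ stairZ I x.1.1 (x.1.2 + 1) ≤ x.2 ∧
  x.2 + s = stairZ I (x.1.1 - a1) (x.1.2 - a2)

lemma exists_spec [Finite {γ : Fin 3 →₀ ℕ // γ ∉ exps I}] (a1 a2 s : ℕ) (hs : 1 ≤ s)
    (C : Bdd I (al a1 a2 s)) : ∃ x, Spec I a1 a2 s C x := by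
  obtain ⟨γ, hC, hpos, hnot, hup0, hup1, hsub, hfloor⟩ := exists_special C
  have h0 := sub_nonneg_of_mem_region γ.2 0
  have h1 := sub_nonneg_of_mem_region γ.2 1
  simp only [al_zero, al_one] at h0 h1
  have p0 := hpos 0
  have p1 := hpos 1
  have p2 := hpos 2
  have eγ : toNatVec γ.1 = e3 (γ.1 0).toNat (γ.1 1).toNat (γ.1 2).toNat := eq_e3 _
  have esub : toNatVec (γ.1 - al a1 a2 s)
      = e3 ((γ.1 0).toNat - a1) ((γ.1 1).toNat - a2) ((γ.1 2).toNat + s) := by
    rw [eq_e3 (toNatVec (γ.1 - al a1 a2 s))]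
    simp only [toNatVec_apply, Pi.sub_apply, al_zero, al_one, al_two]
    congr 1 <;> omega
  rw [eγ] at hnot hup0 hup1
  rw [e3_add_single0] at hup0
  rw [e3_add_single1] at hup1
  rw [esub] at hsub hfloor
  have hfl : e3 ((γ.1 0).toNat - a1) ((γ.1 1).toNat - a2) ((γ.1 2).toNat + s - 1) ∉ exps I := by
    apply hfloor
    rw [e3_add_single2]
    congr 1
    omega
  rw [notMem_iff_lt_stairZ] at hnot hfl
  have g0 : ¬ (γ.1 2).toNat < stairZ I ((γ.1 0).toNat + 1) (γ.1 1).toNat := by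
    rw [← notMem_iff_lt_stairZ]; exact fun h => h hup0
  have g1 : ¬ (γ.1 2).toNat < stairZ I (γ.1 0).toNat ((γ.1 1).toNat + 1) := by
    rw [← notMem_iff_lt_stairZ]; exact fun h => h hup1
  have g2 : ¬ (γ.1 2).toNat + s < stairZ I ((γ.1 0).toNat - a1) ((γ.1 1).toNat - a2) := by
    rw [← notMem_iff_lt_stairZ]; exact fun h => h hsub
  refine ⟨⟨((γ.1 0).toNat, (γ.1 1).toNat), (γ.1 2).toNat⟩, ⟨γ, hC, ?_⟩, ?_, ?_, hnot, ?_, ?_, ?_⟩
  · funext l
    rcases cov3 l with rfl | rfl | rfl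
    · exact (Int.toNat_of_nonneg p0).symm
    · exact (Int.toNat_of_nonneg p1).symm
    · exact (Int.toNat_of_nonneg p2).symm
  · show a1 ≤ (γ.1 0).toNat
    omega
  · show a2 ≤ (γ.1 1).toNat
    omega
  · show stairZ I ((γ.1 0).toNat + 1) (γ.1 1).toNat ≤ (γ.1 2).toNat
    omega
  · show stairZ I (γ.1 0).toNat ((γ.1 1).toNat + 1) ≤ (γ.1 2).toNat
    omega
  · show (γ.1 2).toNat + s = stairZ I ((γ.1 0).toNat - a1) ((γ.1 1).toNat - a2)
    omega

lemma spec_inj {a1 a2 s s' : ℕ} {C : Bdd I (al a1 a2 s)} {C' : Bdd I (al a1 a2 s')}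
    {x : Σ _ : ℕ × ℕ, ℕ} (h : Spec I a1 a2 s C x) (h' : Spec I a1 a2 s' C' x) :
    s = s' ∧ HEq C C' := by
  obtain ⟨⟨γ, hC, hγ⟩, -, -, -, -, -, hs⟩ := h
  obtain ⟨⟨γ', hC', hγ'⟩, -, -, -, -, -, hs'⟩ := h'
  have hss : s = s' := by omega
  subst hss
  refine ⟨rfl, heq_of_eq ?_⟩
  apply Subtype.ext
  rw [← hC, ← hC']
  congr 1
  apply Subtype.ext
  rw [hγ, hγ']

theorem main (hI : IsMonomial I) [Module.Finite k (MvPolynomial (Fin 3) k ⧸ I)] (a1 a2 : ℕ) :
    Module.finrank k ↥(⨆ α : {α : Fin 3 → ℤ // α 0 = (a1 : ℤ) ∧ α 1 = (a2 : ℤ) ∧ α 2 < 0},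
      tPiece I α.1) ≤
      ∑ᶠ p : ℕ × ℕ, (if a1 ≤ p.1 ∧ a2 ≤ p.2
        then stairZ I p.1 p.2 - max (stairZ I (p.1 + 1) p.2) (stairZ I p.1 (p.2 + 1)) else 0) := by
  classical
  haveI := finite_compl_exps hI
  obtain ⟨N, hN⟩ := exists_bound (I := I)
  have hstair : ∀ i j, stairZ I i j ≤ N := stairZ_le_of_bound hN
  -- emptiness for large `s`
  have hempty : ∀ s, 1 ≤ s → N < s → IsEmpty (Bdd I (al a1 a2 s)) := by
    intro s hs1 hs
    constructor
    intro C
    obtain ⟨x, hx⟩ := exists_spec a1 a2 s hs1 C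
    have := hx.2.2.2.2.2.2
    have := hstair (x.1.1 - a1) (x.1.2 - a2)
    omega
  let S : Finset ℕ := Finset.Icc 1 N
  let A : Finset (Fin 3 → ℤ) := S.image (al a1 a2)
  have hsup : (⨆ α : {α : Fin 3 → ℤ // α 0 = (a1 : ℤ) ∧ α 1 = (a2 : ℤ) ∧ α 2 < 0},
      tPiece I α.1) = A.sup (fun α => tPiece I α) := by
    apply iSup_subtype_eq_finset_sup A
    · intro α hα
      obtain ⟨s, hs, rfl⟩ := Finset.mem_image.1 hα
      have := (Finset.mem_Icc.1 hs).1
      refine ⟨rfl, rfl, ?_⟩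
      simp only [al_two]
      omega
    · rintro α ⟨h0, h1, h2⟩ hα
      have hal : α = al a1 a2 (-α 2).toNat := by
        funext l
        rcases cov3 l with rfl | rfl | rfl
        · exact h0
        · exact h1
        · simp only [al_two]; omega
      have hs1 : 1 ≤ (-α 2).toNat := by omega
      have hsN : N < (-α 2).toNat := by
        by_contra hcon
        push_neg at hcon
        apply hα
        rw [hal]
        exact Finset.mem_image.2 ⟨_, Finset.mem_Icc.2 ⟨hs1, hcon⟩, rfl⟩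
      rw [hal, tPiece_eq_bot_iff hI]
      exact hempty _ hs1 hsN
  rw [hsup, finrank_sup_tPiece hI A, Finset.sum_image (fun s _ s' _ h => al_injective a1 a2 h)]
  have hcard : ∀ s ∈ S, Module.finrank k ↥(tPiece I (al a1 a2 s)) = Nat.card (Bdd I (al a1 a2 s)) :=
    fun s _ => finrank_eq_card_Bdd hI _
  rw [Finset.sum_congr rfl hcard]
  -- the right-hand side as the cardinality of a finite set
  let f : ℕ × ℕ → ℕ := fun p => if a1 ≤ p.1 ∧ a2 ≤ p.2
        then stairZ I p.1 p.2 - max (stairZ I (p.1 + 1) p.2) (stairZ I p.1 (p.2 + 1)) else 0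
  let box : Finset (ℕ × ℕ) := Finset.range N ×ˢ Finset.range N
  have hsupp : Function.support f ⊆ ↑box := by
    intro p hp
    rw [Function.mem_support] at hp
    have hpos : 0 < stairZ I p.1 p.2 := by
      by_contra h0
      apply hp
      have : stairZ I p.1 p.2 = 0 := by omega
      simp only [f]
      split_ifs
      · rw [this]; simp
      · rfl
    have hnot := (notMem_iff_lt_stairZ (I := I) p.1 p.2 0).2 hpos
    have b0 := hN _ hnot 0
    have b1 := hN _ hnot 1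
    simp only [e3_zero, e3_one] at b0 b1
    simp only [box, Finset.coe_product, Set.mem_prod, Finset.coe_range, Set.mem_Iio]
    exact ⟨b0, b1⟩
  show _ ≤ ∑ᶠ p : ℕ × ℕ, f p
  rw [finsum_eq_sum_of_support_subset f hsupp]
  let Tset : Finset (Σ _ : ℕ × ℕ, ℕ) := box.sigma (fun p => if a1 ≤ p.1 ∧ a2 ≤ p.2
    then Finset.Ico (max (stairZ I (p.1 + 1) p.2) (stairZ I p.1 (p.2 + 1))) (stairZ I p.1 p.2)
    else ∅)
  have hTcard : Tset.card = ∑ p ∈ box, f p := by
    rw [Finset.card_sigma]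
    refine Finset.sum_congr rfl fun p _ => ?_
    simp only [f]
    split_ifs
    · rw [Nat.card_Ico]
    · rfl
  rw [← hTcard]
  -- the injection
  haveI : ∀ s : ↥S, Finite (Bdd I (al a1 a2 s)) := fun s => finite_Bdd
  have hspec : ∀ (s : ↥S) (C : Bdd I (al a1 a2 s)), ∃ x, Spec I a1 a2 s C x :=
    fun s C => exists_spec a1 a2 s (Finset.mem_Icc.1 s.2).1 C
  have hmemT : ∀ (s : ↥S) (C : Bdd I (al a1 a2 s)) x, Spec I a1 a2 s C x → x ∈ Tset := by
    intro s C x hx
    obtain ⟨-, ha1, ha2, hlt, hm1, hm2, -⟩ := hx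
    have hnot := (notMem_iff_lt_stairZ (I := I) x.1.1 x.1.2 x.2).2 hlt
    have b0 := hN _ hnot 0
    have b1 := hN _ hnot 1
    simp only [e3_zero, e3_one] at b0 b1
    simp only [Tset, Finset.mem_sigma, box, Finset.mem_product, Finset.mem_range]
    refine ⟨⟨b0, b1⟩, ?_⟩
    rw [if_pos ⟨ha1, ha2⟩, Finset.mem_Ico]
    exact ⟨max_le hm1 hm2, hlt⟩
  let g : (Σ s : ↥S, Bdd I (al a1 a2 s)) → ↥Tset := fun y =>
    ⟨Classical.choose (hspec y.1 y.2), hmemT y.1 y.2 _ (Classical.choose_spec (hspec y.1 y.2))⟩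
  have hginj : Function.Injective g := by
    rintro ⟨⟨s, hs⟩, C⟩ ⟨⟨s', hs'⟩, C'⟩ hyy
    have h1 := Classical.choose_spec (hspec ⟨s, hs⟩ C)
    have h2 := Classical.choose_spec (hspec ⟨s', hs'⟩ C')
    have hx : Classical.choose (hspec ⟨s, hs⟩ C) = Classical.choose (hspec ⟨s', hs'⟩ C') :=
      congrArg Subtype.val hyy
    rw [hx] at h1
    obtain ⟨hss, hCC⟩ := spec_inj h1 h2
    subst hss
    have : C = C' := eq_of_heq hCC
    subst this
    rfl
  have hle := Nat.card_le_card_of_injective g hginj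
  rw [Nat.card_sigma, Nat.card_eq_fintype_card, Fintype.card_coe] at hle
  rw [← Finset.sum_coe_sort S (fun s => Nat.card (Bdd I (al a1 a2 s)))]
  exact hle

end Groth.Agent.Helper25.HilbSB
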