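import Mathlib

/-! Spaces of functions that are constant along a relation and vanish on a set, and a
"collapse" lemma identifying two such spaces along a map with connected fibres. -/

namespace Groth.Agent.Helper25.HilbLC

open Module

/-- functions constant along the relation `E` and vanishing on `Z` -/
def LCS (k : Type*) [Field k] {V : Type*} (E : V → V → Prop) (Z : Set V) : Submodule k (V → k) where
  carrier := {f | (∀ v w, E v w → f v = f w) ∧ ∀ v ∈ Z, f v = 0}
  zero_mem' := ⟨fun _ _ _ => rfl, fun _ _ => rfl⟩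
  add_mem' := by
    rintro f g ⟨hf1, hf2⟩ ⟨hg1, hg2⟩
    refine ⟨fun v w h => ?_, fun v hv => ?_⟩
    · simp only [Pi.add_apply, hf1 v w h, hg1 v w h]
    · simp only [Pi.add_apply, hf2 v hv, hg2 v hv, add_zero]
  smul_mem' := by
    rintro c f ⟨hf1, hf2⟩
    refine ⟨fun v w h => ?_, fun v hv => ?_⟩
    · simp only [Pi.smul_apply, hf1 v w h]
    · simp only [Pi.smul_apply, hf2 v hv, smul_zero]

variable {k : Type*} [Field k]

lemma mem_LCS {V : Type*} {E : V → V → Prop} {Z : Set V} {f : V → k} :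
    f ∈ LCS k E Z ↔ (∀ v w, E v w → f v = f w) ∧ ∀ v ∈ Z, f v = 0 := Iff.rfl

/-- the collapse lemma -/
theorem collapse {V V' : Type*} {E : V → V → Prop} {Z : Set V} {E' : V' → V' → Prop}
    {Z' : Set V'} (π : V → V')
    (ha : ∀ v', v' ∈ Z' ∨ ∃ v, π v = v')
    (hb : ∀ v w, E v w → ∀ f ∈ LCS k E' Z', f (π v) = f (π w))
    (he : ∀ v ∈ Z, ∀ f ∈ LCS k E' Z', f (π v) = 0)
    (hc : ∀ v w, π v = π w → ∀ F ∈ LCS k E Z, F v = F w)
    (hf : ∀ v, π v ∈ Z' → ∀ F ∈ LCS k E Z, F v = 0)
    (hd : ∀ v' w', E' v' w' → ∃ v w, π v = v' ∧ π w = w' ∧ ∀ F ∈ LCS k E Z, F v = F w) :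
    finrank k ↥(LCS k E' Z') = finrank k ↥(LCS k E Z) := by
  classical
  let Φ : ↥(LCS k E' Z') →ₗ[k] ↥(LCS k E Z) :=
    { toFun := fun f => ⟨fun v => f.1 (π v), fun v w h => hb v w h f.1 f.2, fun v hv => he v hv f.1 f.2⟩
      map_add' := fun f g => rfl
      map_smul' := fun c f => rfl }
  have hinj : Function.Injective Φ := by
    intro f g h
    apply Subtype.ext
    funext v'
    rcases ha v' with hz | ⟨v, rfl⟩
    · rw [f.2.2 v' hz, g.2.2 v' hz]
    · exact congrFun (congrArg Subtype.val h) v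
  have hsurj : Function.Surjective Φ := by
    rintro ⟨F, hF⟩
    let f : V' → k := fun v' =>
      if h : v' ∉ Z' ∧ ∃ v, π v = v' then F (Classical.choose h.2) else 0
    have hfπ : ∀ v, f (π v) = F v := by
      intro v
      by_cases hz : π v ∈ Z'
      · have : f (π v) = 0 := by
          simp only [f]; rw [dif_neg]; exact fun h => h.1 hz
        rw [this, hf v hz F hF]
      · have hh : π v ∉ Z' ∧ ∃ w, π w = π v := ⟨hz, v, rfl⟩
        have : f (π v) = F (Classical.choose hh.2) := by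
          simp only [f]; rw [dif_pos hh]
        rw [this]
        exact hc _ _ (Classical.choose_spec hh.2) F hF
    have hfmem : f ∈ LCS k E' Z' := by
      refine ⟨fun v' w' h => ?_, fun v' hv' => ?_⟩
      · obtain ⟨v, w, rfl, rfl, hvw⟩ := hd v' w' h
        rw [hfπ, hfπ]; exact hvw F hF
      · simp only [f]; rw [dif_neg]; exact fun h => h.1 hv'
    refine ⟨⟨f, hfmem⟩, ?_⟩
    apply Subtype.ext
    funext v
    exact hfπ v
  exact (LinearEquiv.ofBijective Φ ⟨hinj, hsurj⟩).finrank_eq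

lemma LCS_eq_bot_of_forall {V : Type*} {E : V → V → Prop} {Z : Set V} (h : ∀ v, v ∈ Z) :
    LCS k E Z = ⊥ := by
  rw [eq_bot_iff]
  intro f hf
  rw [Submodule.mem_bot]
  funext v
  exact hf.2 v (h v)

end Groth.Agent.Helper25.HilbLC
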