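import Mathlib
import Groth.Agent.Lib.Helper25.HilbTgtB
import Groth.Agent.Lib.Helper25.HilbLC

/-! The graded piece `tPiece I α` as the space of functions on the region that are constant along
unit steps and vanish at points with a negative coordinate. -/

namespace Groth.Agent.Helper25.HilbCS

open MvPolynomial W4c1hilbpn Groth.Agent.Helper25.HilbTgt Groth.Agent.Helper25.HilbLC Module

variable {σ : Type*} {k : Type*} [Field k] [Fintype σ] [DecidableEq σ]
  {I : Ideal (MvPolynomial σ k)} {α : σ → ℤ}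

/-- unit steps inside the region -/
def RE (I : Ideal (MvPolynomial σ k)) (α : σ → ℤ) : region I α → region I α → Prop :=
  fun γ γ' => ∃ i, γ'.1 = γ.1 + Pi.single i 1

/-- points of the region with a negative coordinate -/
def RZ (I : Ideal (MvPolynomial σ k)) (α : σ → ℤ) : Set (region I α) := {γ | ∃ i, γ.1 i < 0}

/-- the space of compatible coefficient functions on the region -/
abbrev CS (I : Ideal (MvPolynomial σ k)) (α : σ → ℤ) : Submodule k (region I α → k) :=
  LCS k (RE I α) (RZ I α)

open Classical in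
/-- extension by zero of a function on the region -/
noncomputable def extF (F : region I α → k) : (σ → ℤ) → k :=
  fun γ => if h : γ ∈ region I α then F ⟨γ, h⟩ else 0

lemma extF_mem (F : region I α → k) {γ : σ → ℤ} (h : γ ∈ region I α) : extF F γ = F ⟨γ, h⟩ := by
  unfold extF; rw [dif_pos h]

lemma extF_add (F G : region I α → k) (γ : σ → ℤ) : extF (F + G) γ = extF F γ + extF G γ := by
  unfold extF; split_ifs <;> simp

lemma extF_smul (c : k) (F : region I α → k) (γ : σ → ℤ) : extF (c • F) γ = c * extF F γ := by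
  unfold extF; split_ifs <;> simp

lemma extF_compat {F : region I α → k} (hF : F ∈ CS I α) : Compat I α (extF F) where
  neg γ hγ hneg := by
    rw [extF_mem F hγ]; exact hF.2 ⟨γ, hγ⟩ hneg
  adj γ hγ i hγ' := by
    rw [extF_mem F hγ, extF_mem F hγ']
    exact (hF.1 ⟨γ, hγ⟩ ⟨_, hγ'⟩ ⟨i, rfl⟩).symm

/-- the linear map from compatible coefficient functions to the graded piece -/
noncomputable def Theta (hI : IsMonomial I) : ↥(CS I α) →ₗ[k] ↥(tPiece I α) where
  toFun F := ⟨phi hI (extF F.1) (extF_compat F.2), phi_mem hI _ _⟩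
  map_add' F G := by
    apply Subtype.ext
    apply tgt_ext hI
    intro β hβ
    simp only [Submodule.coe_add, LinearMap.add_apply, phi_monomial, extF_add, add_smul]
  map_smul' c F := by
    apply Subtype.ext
    apply tgt_ext hI
    intro β hβ
    simp only [Submodule.coe_smul, LinearMap.smul_apply, phi_monomial, extF_smul, RingHom.id_apply,
      mul_smul]

lemma Theta_apply (hI : IsMonomial I) (F : ↥(CS I α)) (β : σ →₀ ℕ)
    (hβ : monomial β (1 : k) ∈ I) :
    (Theta hI F : Tgt I) ⟨monomial β 1, hβ⟩ = extF F.1 (vec β α) • q I (shift β α) :=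
  phi_monomial hI (extF F.1) (extF_compat F.2) β hβ

lemma Theta_injective (hI : IsMonomial I) : Function.Injective (Theta (α := α) hI) := by
  refine (injective_iff_map_eq_zero (Theta (α := α) hI)).2 ?_
  intro F hF
  apply Subtype.ext
  funext ⟨γ, hγ⟩
  show F.1 ⟨γ, hγ⟩ = 0
  by_cases hneg : ∃ i, γ i < 0
  · exact F.2.2 ⟨γ, hγ⟩ hneg
  · push_neg at hneg
    obtain ⟨⟨β, hβ, hγβ⟩, hnot⟩ := id hγ
    replace hγβ : γ = vec β α := hγβ
    have hnotin : toNatVec γ ∉ exps I := fun h => hnot ⟨hneg, h⟩
    have h1 := Theta_apply hI F β hβ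
    rw [hF] at h1
    have h2 : q I (shift β α) ≠ 0 := by
      intro h
      apply hnotin
      rw [hγβ, ← shift_eq]
      exact q_eq_zero_iff.1 h
    subst hγβ
    rw [extF_mem F.1 hγ] at h1
    have h3 := h1.symm
    simp only [Submodule.coe_zero, LinearMap.zero_apply] at h3
    rcases smul_eq_zero.1 h3 with h4 | h4
    · exact h4
    · exact absurd h4 h2

lemma Theta_surjective (hI : IsMonomial I) : Function.Surjective (Theta (α := α) hI) := by
  rintro ⟨φ, hφ⟩
  let F : region I α → k := fun γ => Fphi hφ γ.1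
  have hF : F ∈ CS I α := by
    refine ⟨?_, ?_⟩
    · rintro γ γ' ⟨i, hi⟩
      show Fphi hφ γ.1 = Fphi hφ γ'.1
      rw [hi]
      exact (Fphi_adj hφ γ.2 i (hi ▸ γ'.2)).symm
    · rintro γ hneg
      exact Fphi_neg hφ hneg
  refine ⟨⟨F, hF⟩, ?_⟩
  apply Subtype.ext
  apply tgt_ext hI
  intro β hβ
  rw [Theta_apply]
  show extF F (vec β α) • q I (shift β α) = φ ⟨monomial β 1, hβ⟩
  by_cases hpos : ∀ j, 0 ≤ vec β α j
  · by_cases hin : shift β α ∈ exps I
    · rw [q_eq_zero_iff.2 hin, smul_zero]
      obtain ⟨c, hc⟩ := Submodule.mem_span_singleton.1 (((mem_tPiece_iff.1 hφ) β hβ).1 hpos)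
      rw [← hc]
      have : Ideal.Quotient.mk I (monomial (shift β α) (1 : k)) = 0 := q_eq_zero_iff.2 hin
      rw [this, smul_zero]
    · have hreg : vec β α ∈ region I α := mem_region_of_notMem hβ hin
      rw [Fphi_spec hφ hreg hpos β hβ rfl, extF_mem F hreg]
  · push_neg at hpos
    have hreg := mem_region_of_neg hβ hpos
    rw [extF_mem F hreg]
    show Fphi hφ (vec β α) • _ = _
    rw [Fphi_neg hφ hpos, zero_smul]
    exact (((mem_tPiece_iff.1 hφ) β hβ).2 hpos).symm

theorem finrank_tPiece_eq_CS (hI : IsMonomial I) :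
    finrank k ↥(tPiece I α) = finrank k ↥(CS I α) :=
  (LinearEquiv.ofBijective (Theta hI) ⟨Theta_injective hI, Theta_surjective hI⟩).finrank_eq.symm

end Groth.Agent.Helper25.HilbCS
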