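import Mathlib
import Groth.Agent.Lib.Helper25.HilbLC

/-! A planar Euler-characteristic identity: for a "relative" planar cell complex on a Young diagram,
the number of bounded components of the present part minus the number of bounded components of the
dual graph of the absent part equals `V - E + F`. Pure linear algebra. -/

namespace Groth.Agent.Helper25.HilbEuler

open Module Matrix Groth.Agent.Helper25.HilbLC

variable {k : Type*} [Field k]

section supp
variable {ι : Type*} [DecidableEq ι]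

/-- functions vanishing outside a finite set -/
def Supp (k : Type*) [Field k] {ι : Type*} (S : Finset ι) : Submodule k (ι → k) where
  carrier := {z | ∀ p, p ∉ S → z p = 0}
  zero_mem' := fun _ _ => rfl
  add_mem' := by
    intro a b ha hb p hp
    simp only [Pi.add_apply, ha p hp, hb p hp, add_zero]
  smul_mem' := by
    intro c a ha p hp
    simp only [Pi.smul_apply, ha p hp, smul_zero]

omit [DecidableEq ι] in
lemma mem_Supp {S : Finset ι} {z : ι → k} : z ∈ Supp k S ↔ ∀ p, p ∉ S → z p = 0 := Iff.rfl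

omit [DecidableEq ι] in
lemma Supp_mono {S S' : Finset ι} (h : S ⊆ S') : Supp k S ≤ Supp k S' :=
  fun _ hz p hp => hz p (fun hh => hp (h hh))

/-- extension by zero -/
noncomputable def ext0 (S : Finset ι) : (↥S → k) →ₗ[k] (ι → k) where
  toFun φ := fun p => if h : p ∈ S then φ ⟨p, h⟩ else 0
  map_add' φ ψ := by
    funext p
    by_cases h : p ∈ S <;> simp [h]
  map_smul' c φ := by
    funext p
    by_cases h : p ∈ S <;> simp [h]

/-- restriction -/
def res (S : Finset ι) : (ι → k) →ₗ[k] (↥S → k) := LinearMap.funLeft k k Subtype.val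

omit [DecidableEq ι] in
lemma res_apply (S : Finset ι) (z : ι → k) (p : ↥S) : res S z p = z p.1 := rfl

lemma ext0_apply_mem (S : Finset ι) (φ : ↥S → k) {p : ι} (h : p ∈ S) :
    ext0 S φ p = φ ⟨p, h⟩ := by
  show (if h : p ∈ S then φ ⟨p, h⟩ else 0) = _
  rw [dif_pos h]

lemma ext0_apply_not_mem (S : Finset ι) (φ : ↥S → k) {p : ι} (h : p ∉ S) :
    ext0 S φ p = 0 := by
  show (if h : p ∈ S then φ ⟨p, h⟩ else 0) = _
  rw [dif_neg h]

lemma res_ext0 (S : Finset ι) (φ : ↥S → k) : res S (ext0 S φ) = φ := by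
  funext p
  rw [res_apply, ext0_apply_mem S φ p.2]

lemma ext0_mem_Supp (S : Finset ι) (φ : ↥S → k) : ext0 S φ ∈ Supp k S :=
  fun _ hp => ext0_apply_not_mem S φ hp

lemma ext0_res {S : Finset ι} {z : ι → k} (hz : z ∈ Supp k S) : ext0 S (res S z) = z := by
  funext p
  by_cases h : p ∈ S
  · rw [ext0_apply_mem _ _ h]; rfl
  · rw [ext0_apply_not_mem _ _ h, hz p h]

lemma range_ext0 (S : Finset ι) : LinearMap.range (ext0 (k := k) S) = Supp k S := by
  apply le_antisymm
  · rintro _ ⟨φ, rfl⟩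
    exact ext0_mem_Supp S φ
  · intro z hz
    exact ⟨res S z, ext0_res hz⟩

lemma ext0_injective (S : Finset ι) : Function.Injective (ext0 (k := k) S) := by
  intro φ ψ h
  have := congrArg (res S) h
  rwa [res_ext0, res_ext0] at this

lemma finrank_Supp (S : Finset ι) : finrank k ↥(Supp k S) = S.card := by
  rw [← range_ext0, LinearMap.finrank_range_of_inj (ext0_injective S)]
  simp

instance finiteDimensional_Supp (S : Finset ι) : FiniteDimensional k ↥(Supp k S) := by
  rw [← range_ext0]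
  infer_instance

lemma ext0_single (S : Finset ι) (e : ↥S) :
    ext0 S (Pi.single e (1 : k)) = Pi.single e.1 1 := by
  funext p
  by_cases hp : p ∈ S
  · rw [ext0_apply_mem _ _ hp, Pi.single_apply, Pi.single_apply]
    by_cases h : p = e.1
    · rw [if_pos h, if_pos (Subtype.ext h)]
    · rw [if_neg h, if_neg (fun hh => h (congrArg Subtype.val hh))]
  · rw [ext0_apply_not_mem _ _ hp, Pi.single_apply, if_neg]
    rintro rfl
    exact hp e.2

end supp

lemma finrank_map_of_injOn {M N : Type*} [AddCommGroup M] [Module k M] [AddCommGroup N]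
    [Module k N] (f : M →ₗ[k] N) (p : Submodule k M) (h : ∀ x ∈ p, f x = 0 → x = 0) :
    finrank k ↥(p.map f) = finrank k ↥p := by
  have hinj : Function.Injective (f.domRestrict p) := by
    rw [← LinearMap.ker_eq_bot, LinearMap.ker_eq_bot']
    intro x hx
    exact Subtype.ext (h x.1 x.2 hx)
  rw [← LinearMap.range_domRestrict, LinearMap.finrank_range_of_inj hinj]

/-- rank of a map equals rank of its transpose, in kernel form -/
lemma dual_count {n m : Type*} [Fintype n] [Fintype m] [DecidableEq n] [DecidableEq m]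
    (T : (m → k) →ₗ[k] (n → k)) (K : Submodule k (n → k))
    (hK : ∀ φ, φ ∈ K ↔ ∀ e : m, ∑ p, φ p * T (Pi.single e 1) p = 0) :
    finrank k ↥K + finrank k ↥(LinearMap.range T) = Fintype.card n := by
  set M := LinearMap.toMatrix' T with hM
  have hKer : K = LinearMap.ker (Mᵀ.mulVecLin) := by
    ext φ
    rw [hK, LinearMap.mem_ker]
    have key : ∀ e, (Mᵀ.mulVecLin φ) e = ∑ p, φ p * T (Pi.single e 1) p := by
      intro e
      simp only [Matrix.mulVecLin_apply, Matrix.mulVec, dotProduct, Matrix.transpose_apply]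
      refine Finset.sum_congr rfl fun p _ => ?_
      rw [hM, LinearMap.toMatrix'_apply, mul_comm]
    constructor
    · intro h
      funext e
      rw [key, h e]; rfl
    · intro h e
      rw [← key, h]; rfl
  have hR : LinearMap.range T = LinearMap.range M.mulVecLin := by
    rw [← Matrix.toLin'_apply', hM, Matrix.toLin'_toMatrix']
  rw [hKer, hR]
  have h1 := LinearMap.finrank_range_add_finrank_ker (Mᵀ.mulVecLin)
  have h2 : finrank k ↥(LinearMap.range Mᵀ.mulVecLin) = finrank k ↥(LinearMap.range M.mulVecLin) :=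
    Matrix.rank_transpose M
  rw [Module.finrank_fintype_fun_eq_card] at h1
  omega

lemma finrank_range_res_comp {ι0 ι1 : Type*} [DecidableEq ι0] [DecidableEq ι1]
    (V : Finset ι0) (E : Finset ι1) (d1 : (ι1 → k) →ₗ[k] (ι0 → k))
    (h1 : ∀ y ∈ Supp k E, d1 y ∈ Supp k V) :
    finrank k ↥(LinearMap.range ((res V) ∘ₗ d1 ∘ₗ (ext0 E))) =
      finrank k ↥((Supp k E).map d1) := by
  have hinjV : ∀ z ∈ Supp k V, res V z = 0 → z = 0 := by
    intro z hz h
    rw [← ext0_res hz, h, map_zero]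
  rw [LinearMap.range_comp, LinearMap.range_comp, range_ext0]
  have hinj2 : ∀ z ∈ (Supp k E).map d1, res V z = 0 → z = 0 := by
    intro z hz
    obtain ⟨y, hy, rfl⟩ := Submodule.mem_map.1 hz
    exact hinjV _ (h1 y hy)
  exact finrank_map_of_injOn (res V) ((Supp k E).map d1) hinj2

theorem dual_count_supp {ι0 ι1 : Type*} [DecidableEq ι0] [DecidableEq ι1]
    (V : Finset ι0) (E : Finset ι1) (d1 : (ι1 → k) →ₗ[k] (ι0 → k))
    (h1 : ∀ y ∈ Supp k E, d1 y ∈ Supp k V)
    (A : Submodule k (ι0 → k))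
    (hA : ∀ f, f ∈ A ↔ f ∈ Supp k V ∧ ∀ e ∈ E, ∑ p ∈ V, f p * d1 (Pi.single e 1) p = 0) :
    finrank k ↥A + finrank k ↥((Supp k E).map d1) = V.card := by
  have hinjV : ∀ z ∈ Supp k V, res V z = 0 → z = 0 := by
    intro z hz h
    rw [← ext0_res hz, h, map_zero]
  have hT : ∀ (e : ↥E) (p : ↥V),
      ((res V) ∘ₗ d1 ∘ₗ (ext0 E)) (Pi.single e 1) p = d1 (Pi.single e.1 1) p.1 := by
    intro e p
    show res V (d1 (ext0 E (Pi.single e 1))) p = _
    rw [res_apply, ext0_single]
  have hK : ∀ φ, φ ∈ A.map (res V) ↔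
      ∀ e : ↥E, ∑ p, φ p * ((res V) ∘ₗ d1 ∘ₗ (ext0 E)) (Pi.single e 1) p = 0 := by
    intro φ
    rw [Submodule.mem_map]
    constructor
    · rintro ⟨f, hf, rfl⟩ e
      have := ((hA f).1 hf).2 e.1 e.2
      rw [← this, ← Finset.sum_coe_sort V]
      refine Finset.sum_congr rfl fun p _ => ?_
      rw [hT, res_apply]
    · intro h
      have hmem : ext0 V φ ∈ A := by
        rw [hA]
        refine ⟨ext0_mem_Supp V φ, fun e he => ?_⟩
        have := h ⟨e, he⟩
        rw [← this, ← Finset.sum_coe_sort V]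
        refine Finset.sum_congr rfl fun p _ => ?_
        rw [hT, ext0_apply_mem V φ p.2]
      exact ⟨ext0 V φ, hmem, res_ext0 V φ⟩
  have hcount := dual_count ((res V) ∘ₗ d1 ∘ₗ (ext0 E)) (A.map (res V)) hK
  have hKA : finrank k ↥(A.map (res V)) = finrank k ↥A :=
    finrank_map_of_injOn (res V) A (fun f hf => hinjV f ((hA f).1 hf).1)
  rw [hKA, finrank_range_res_comp V E d1 h1, Fintype.card_coe] at hcount
  exact hcount

theorem euler_abstract {X2 X1 X0 : Type*} [AddCommGroup X2] [Module k X2] [AddCommGroup X1]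
    [Module k X1] [AddCommGroup X0] [Module k X0]
    (d2 : X2 →ₗ[k] X1) (d1 : X1 →ₗ[k] X0)
    (W2 P2 Q2 : Submodule k X2) (P1 : Submodule k X1)
    [FiniteDimensional k ↥W2] [FiniteDimensional k ↥P1]
    (hsup : P2 ⊔ Q2 = W2) (hdisj : P2 ⊓ Q2 = ⊥)
    (hinj : ∀ z ∈ W2, d2 z = 0 → z = 0)
    (hP2 : ∀ z ∈ P2, d2 z ∈ P1)
    (hcomp : ∀ z ∈ W2, d1 (d2 z) = 0)
    (hex : ∀ y ∈ P1, d1 y = 0 → ∃ z ∈ W2, d2 z = y) :
    finrank k ↥P1 = finrank k ↥(P1.map d1) + finrank k ↥P2 +
      finrank k ↥(Q2 ⊓ P1.comap d2) := by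
  set M : Submodule k X2 := W2 ⊓ P1.comap d2 with hM
  let f : ↥P1 →ₗ[k] X0 := d1.domRestrict P1
  have hrn := LinearMap.finrank_range_add_finrank_ker f
  rw [LinearMap.range_domRestrict] at hrn
  let g0 : ↥M →ₗ[k] ↥P1 := (d2.domRestrict M).codRestrict P1 (fun z => z.2.2)
  let g : ↥M →ₗ[k] ↥(LinearMap.ker f) := g0.codRestrict _ (fun z => by
    rw [LinearMap.mem_ker]
    show d1 (d2 z.1) = 0
    exact hcomp _ z.2.1)
  have hgval : ∀ z : ↥M, ((g z : ↥P1) : X1) = d2 z.1 := fun z => rfl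
  have hginj : Function.Injective g := by
    rw [← LinearMap.ker_eq_bot, LinearMap.ker_eq_bot']
    intro z hz
    have h1 : d2 z.1 = 0 := by
      rw [← hgval, hz]; rfl
    exact Subtype.ext (hinj _ z.2.1 h1)
  have hgsurj : Function.Surjective g := by
    rintro ⟨⟨y, hy⟩, hker⟩
    rw [LinearMap.mem_ker] at hker
    obtain ⟨z, hz, rfl⟩ := hex y hy hker
    exact ⟨⟨z, hz, hy⟩, Subtype.ext (Subtype.ext rfl)⟩
  have hMker : finrank k ↥M = finrank k ↥(LinearMap.ker f) :=
    (LinearEquiv.ofBijective g ⟨hginj, hgsurj⟩).finrank_eq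
  have hle : P2 ≤ P1.comap d2 := fun z hz => hP2 z hz
  have hMsup : P2 ⊔ (Q2 ⊓ P1.comap d2) = M := by
    rw [hM, ← hsup]
    exact (sup_inf_assoc_of_le Q2 hle).symm
  have hMinf : P2 ⊓ (Q2 ⊓ P1.comap d2) = ⊥ := by
    rw [← inf_assoc, hdisj, bot_inf_eq]
  haveI : FiniteDimensional k ↥P2 :=
    Submodule.finiteDimensional_of_le (hsup ▸ le_sup_left : P2 ≤ W2)
  haveI : FiniteDimensional k ↥(Q2 ⊓ P1.comap d2) :=
    Submodule.finiteDimensional_of_le
      ((inf_le_left.trans (hsup ▸ le_sup_right : Q2 ≤ W2)) : Q2 ⊓ P1.comap d2 ≤ W2)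
  have := Submodule.finrank_sup_add_finrank_inf_eq P2 (Q2 ⊓ P1.comap d2)
  rw [hMsup, hMinf, finrank_bot, add_zero] at this
  omega

theorem euler_master {ι0 ι1 ι2 : Type*} [DecidableEq ι0] [DecidableEq ι1] [DecidableEq ι2]
    (V : Finset ι0) (E : Finset ι1) (L2 F : Finset ι2) (hF : F ⊆ L2)
    (d2 : (ι2 → k) →ₗ[k] (ι1 → k)) (d1 : (ι1 → k) →ₗ[k] (ι0 → k))
    (h1 : ∀ y ∈ Supp k E, d1 y ∈ Supp k V)
    (h2 : ∀ z ∈ Supp k F, d2 z ∈ Supp k E)
    (h3 : ∀ z ∈ Supp k L2, d1 (d2 z) = 0)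
    (h4 : ∀ z ∈ Supp k L2, d2 z = 0 → z = 0)
    (h5 : ∀ y ∈ Supp k E, d1 y = 0 → ∃ z ∈ Supp k L2, d2 z = y)
    (A : Submodule k (ι0 → k))
    (hA : ∀ f, f ∈ A ↔ f ∈ Supp k V ∧ ∀ e ∈ E, ∑ p ∈ V, f p * d1 (Pi.single e 1) p = 0)
    (A' : Submodule k (ι2 → k))
    (hA' : ∀ c, c ∈ A' ↔ c ∈ Supp k (L2 \ F) ∧ d2 c ∈ Supp k E) :
    finrank k ↥A + E.card = finrank k ↥A' + V.card + F.card := by
  have hsup : Supp k F ⊔ Supp k (L2 \ F) = Supp k L2 := by
    apply le_antisymm
    · exact sup_le (Supp_mono hF) (Supp_mono Finset.sdiff_subset)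
    · intro z hz
      rw [Submodule.mem_sup]
      refine ⟨fun p => if p ∈ F then z p else 0, ?_, fun p => if p ∈ F then 0 else z p, ?_, ?_⟩
      · intro p hp
        simp only [if_neg hp]
      · intro p hp
        by_cases hpF : p ∈ F
        · simp only [if_pos hpF]
        · simp only [if_neg hpF]
          apply hz
          intro hpL
          exact hp (Finset.mem_sdiff.2 ⟨hpL, hpF⟩)
      · funext p
        by_cases hpF : p ∈ F <;> simp [hpF]
  have hdisj : Supp k F ⊓ Supp k (L2 \ F) = ⊥ := by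
    rw [eq_bot_iff]
    rintro z ⟨hz1, hz2⟩
    rw [Submodule.mem_bot]
    funext p
    by_cases hpF : p ∈ F
    · exact hz2 p (fun h => (Finset.mem_sdiff.1 h).2 hpF)
    · exact hz1 p hpF
  have hE1 := euler_abstract d2 d1 (Supp k L2) (Supp k F) (Supp k (L2 \ F)) (Supp k E)
    hsup hdisj h4 h2 h3 h5
  have hE2 := dual_count_supp V E d1 h1 A hA
  have hAeq : A' = Supp k (L2 \ F) ⊓ (Supp k E).comap d2 := by
    ext c
    rw [hA', Submodule.mem_inf, Submodule.mem_comap]
  rw [finrank_Supp, finrank_Supp, ← hAeq] at hE1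
  omega

end Groth.Agent.Helper25.HilbEuler
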