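import Mathlib
import Groth.Agent.Lib.Helper25.HilbEuler

/-! The relative planar cell complex on a Young diagram `L ⊆ ℤ × ℤ` and the Euler identity
relating locally constant functions on the present part and on the dual of the absent part. -/

namespace Groth.Agent.Helper25.HilbPlanar

open Module Groth.Agent.Helper25.HilbLC Groth.Agent.Helper25.HilbEuler

variable {k : Type*} [Field k]

abbrev Pt := ℤ × ℤ

def pl (p : Pt) : Pt := (p.1 - 1, p.2)
def pd (p : Pt) : Pt := (p.1, p.2 - 1)
def pr (p : Pt) : Pt := (p.1 + 1, p.2)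
def pu (p : Pt) : Pt := (p.1, p.2 + 1)

@[simp] lemma pr_pl (p : Pt) : pr (pl p) = p := by simp [pr, pl]
@[simp] lemma pl_pr (p : Pt) : pl (pr p) = p := by simp [pr, pl]
@[simp] lemma pu_pd (p : Pt) : pu (pd p) = p := by simp [pu, pd]
@[simp] lemma pd_pu (p : Pt) : pd (pu p) = p := by simp [pu, pd]
lemma pd_pl (p : Pt) : pd (pl p) = pl (pd p) := rfl

lemma pl_eq_iff {p q : Pt} : pl p = q ↔ p = pr q := by
  constructor
  · rintro rfl; exact (pr_pl p).symm
  · rintro rfl; exact pl_pr q

lemma pd_eq_iff {p q : Pt} : pd p = q ↔ p = pu q := by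
  constructor
  · rintro rfl; exact (pu_pd p).symm
  · rintro rfl; exact pd_pu q

section complex
variable (L : Finset Pt)

/-- boundary of squares, relative to the cells based outside `L` -/
noncomputable def d2 : (Pt → k) →ₗ[k] (Pt ⊕ Pt → k) where
  toFun z := Sum.elim (fun p => if p ∈ L then z p - z (pd p) else 0)
    (fun p => if p ∈ L then z (pl p) - z p else 0)
  map_add' z z' := by
    funext e
    rcases e with p | p
    · simp only [Sum.elim_inl, Pi.add_apply]; split_ifs <;> ring
    · simp only [Sum.elim_inr, Pi.add_apply]; split_ifs <;> ring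
  map_smul' c z := by
    funext e
    rcases e with p | p
    · simp only [Sum.elim_inl, Pi.smul_apply, smul_eq_mul, RingHom.id_apply]; split_ifs <;> ring
    · simp only [Sum.elim_inr, Pi.smul_apply, smul_eq_mul, RingHom.id_apply]; split_ifs <;> ring

lemma d2_inl (z : Pt → k) (p : Pt) :
    d2 L z (Sum.inl p) = if p ∈ L then z p - z (pd p) else 0 := rfl

lemma d2_inr (z : Pt → k) (p : Pt) :
    d2 L z (Sum.inr p) = if p ∈ L then z (pl p) - z p else 0 := rfl

/-- boundary of edges, relative to the cells based outside `L` -/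
noncomputable def d1 : (Pt ⊕ Pt → k) →ₗ[k] (Pt → k) where
  toFun y := fun p => if p ∈ L then
    y (Sum.inl (pl p)) - y (Sum.inl p) + y (Sum.inr (pd p)) - y (Sum.inr p) else 0
  map_add' y y' := by
    funext p
    simp only [Pi.add_apply]; split_ifs <;> ring
  map_smul' c y := by
    funext p
    simp only [Pi.smul_apply, smul_eq_mul, RingHom.id_apply]; split_ifs <;> ring

lemma d1_apply (y : Pt ⊕ Pt → k) (p : Pt) :
    d1 L y p = if p ∈ L then
      y (Sum.inl (pl p)) - y (Sum.inl p) + y (Sum.inr (pd p)) - y (Sum.inr p) else 0 := rfl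

lemma d1_single_inl (q p : Pt) (hp : p ∈ L) :
    d1 L (Pi.single (Sum.inl q) (1 : k)) p =
      (if p = pr q then 1 else 0) - (if p = q then 1 else 0) := by
  rw [d1_apply, if_pos hp]
  simp only [Pi.single_apply, Sum.inl.injEq, pl_eq_iff, reduceCtorEq, if_false]
  ring

lemma d1_single_inr (q p : Pt) (hp : p ∈ L) :
    d1 L (Pi.single (Sum.inr q) (1 : k)) p =
      (if p = pu q then 1 else 0) - (if p = q then 1 else 0) := by
  rw [d1_apply, if_pos hp]
  simp only [Pi.single_apply, Sum.inr.injEq, pd_eq_iff, reduceCtorEq, if_false]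
  ring

end complex

/-- the hypotheses on the diagram `L` and the "present" predicates -/
structure Planar (L : Finset Pt) (pv px py pf : Pt → Prop) : Prop where
  nn : ∀ p ∈ L, 0 ≤ p.1 ∧ 0 ≤ p.2
  dl : ∀ p ∈ L, 0 < p.1 → pl p ∈ L
  dd : ∀ p ∈ L, 0 < p.2 → pd p ∈ L
  cx : ∀ p ∈ L, px p → pv p ∧ pv (pr p)
  cy : ∀ p ∈ L, py p → pv p ∧ pv (pu p)
  cf : ∀ p ∈ L, pf p → px p ∧ py p ∧ px (pu p) ∧ py (pr p)

def EI (L : Finset Pt) (px py : Pt → Prop) : Pt → Pt → Prop :=
  fun p p' => (p' = pr p ∧ p ∈ L ∧ px p) ∨ (p' = pu p ∧ p ∈ L ∧ py p)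
def ZI (L : Finset Pt) (pv : Pt → Prop) : Set Pt := {p | p ∉ L ∨ ¬ pv p}
def EII (L : Finset Pt) (px py : Pt → Prop) : Pt → Pt → Prop :=
  fun q p => (q = pd p ∧ p ∈ L ∧ ¬ px p) ∨ (q = pl p ∧ p ∈ L ∧ ¬ py p)
def ZII (L : Finset Pt) (pf : Pt → Prop) : Set Pt := {p | p ∉ L ∨ pf p}

section main
variable {L : Finset Pt} {pv px py pf : Pt → Prop}
  [DecidablePred pv] [DecidablePred px] [DecidablePred py] [DecidablePred pf]

lemma h1 (hP : Planar L pv px py pf) :
    ∀ y ∈ Supp k ((L.filter px).disjSum (L.filter py)), d1 L y ∈ Supp k (L.filter pv) := by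
  intro y hy p hp
  rw [d1_apply]
  by_cases hL : p ∈ L
  · rw [if_pos hL]
    have hpv : ¬ pv p := fun h => hp (Finset.mem_filter.2 ⟨hL, h⟩)
    have e1 : y (Sum.inl (pl p)) = 0 := hy _ (by
      rw [Finset.inl_mem_disjSum, Finset.mem_filter]
      rintro ⟨h1, h2⟩
      have := (hP.cx _ h1 h2).2
      rw [pr_pl] at this
      exact hpv this)
    have e2 : y (Sum.inl p) = 0 := hy _ (by
      rw [Finset.inl_mem_disjSum, Finset.mem_filter]
      rintro ⟨h1, h2⟩
      exact hpv (hP.cx _ h1 h2).1)
    have e3 : y (Sum.inr (pd p)) = 0 := hy _ (by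
      rw [Finset.inr_mem_disjSum, Finset.mem_filter]
      rintro ⟨h1, h2⟩
      have := (hP.cy _ h1 h2).2
      rw [pu_pd] at this
      exact hpv this)
    have e4 : y (Sum.inr p) = 0 := hy _ (by
      rw [Finset.inr_mem_disjSum, Finset.mem_filter]
      rintro ⟨h1, h2⟩
      exact hpv (hP.cy _ h1 h2).1)
    rw [e1, e2, e3, e4]; ring
  · rw [if_neg hL]

lemma h2 (hP : Planar L pv px py pf) :
    ∀ z ∈ Supp k (L.filter pf), d2 L z ∈ Supp k ((L.filter px).disjSum (L.filter py)) := by
  intro z hz e he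
  rcases e with p | p
  · rw [d2_inl]
    by_cases hL : p ∈ L
    · rw [if_pos hL]
      have hpx : ¬ px p := fun h => he (Finset.inl_mem_disjSum.2 (Finset.mem_filter.2 ⟨hL, h⟩))
      have e1 : z p = 0 := hz p (fun h =>
        hpx (hP.cf p (Finset.mem_filter.1 h).1 (Finset.mem_filter.1 h).2).1)
      have e2 : z (pd p) = 0 := hz _ (fun h => by
        have := (hP.cf _ (Finset.mem_filter.1 h).1 (Finset.mem_filter.1 h).2).2.2.1
        rw [pu_pd] at this
        exact hpx this)
      rw [e1, e2, sub_zero]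
    · rw [if_neg hL]
  · rw [d2_inr]
    by_cases hL : p ∈ L
    · rw [if_pos hL]
      have hpy : ¬ py p := fun h => he (Finset.inr_mem_disjSum.2 (Finset.mem_filter.2 ⟨hL, h⟩))
      have e1 : z p = 0 := hz p (fun h =>
        hpy (hP.cf p (Finset.mem_filter.1 h).1 (Finset.mem_filter.1 h).2).2.1)
      have e2 : z (pl p) = 0 := hz _ (fun h => by
        have := (hP.cf _ (Finset.mem_filter.1 h).1 (Finset.mem_filter.1 h).2).2.2.2
        rw [pr_pl] at this
        exact hpy this)
      rw [e1, e2, sub_zero]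
    · rw [if_neg hL]

omit [DecidablePred pv] [DecidablePred px] [DecidablePred py] [DecidablePred pf] in
lemma aux_l (hP : Planar L pv px py pf) {z : Pt → k} (hz : z ∈ Supp k L) {p : Pt} (hp : p ∈ L) :
    (if pl p ∈ L then z (pl p) - z (pd (pl p)) else 0) = z (pl p) - z (pd (pl p)) := by
  by_cases h : pl p ∈ L
  · rw [if_pos h]
  · rw [if_neg h, hz _ h]
    have : pd (pl p) ∉ L := by
      intro h'
      have h1 := (hP.nn _ h').1
      have h2 : 0 < p.1 := by
        have : (pd (pl p)).1 = p.1 - 1 := rfl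
        omega
      exact h (hP.dl p hp h2)
    rw [hz _ this, sub_zero]

omit [DecidablePred pv] [DecidablePred px] [DecidablePred py] [DecidablePred pf] in
lemma aux_d (hP : Planar L pv px py pf) {z : Pt → k} (hz : z ∈ Supp k L) {p : Pt} (hp : p ∈ L) :
    (if pd p ∈ L then z (pl (pd p)) - z (pd p) else 0) = z (pl (pd p)) - z (pd p) := by
  by_cases h : pd p ∈ L
  · rw [if_pos h]
  · rw [if_neg h, hz _ h]
    have : pl (pd p) ∉ L := by
      intro h'
      have h1 := (hP.nn _ h').2
      have h2 : 0 < p.2 := by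
        have : (pl (pd p)).2 = p.2 - 1 := rfl
        omega
      exact h (hP.dd p hp h2)
    rw [hz _ this, sub_zero]

omit [DecidablePred pv] [DecidablePred px] [DecidablePred py] [DecidablePred pf] in
lemma h3 (hP : Planar L pv px py pf) : ∀ z ∈ Supp k L, d1 L (d2 L z) = 0 := by
  intro z hz
  funext p
  rw [d1_apply]
  by_cases hL : p ∈ L
  · simp only [d2_inl, d2_inr, if_pos hL]
    rw [aux_l hP hz hL, aux_d hP hz hL, pd_pl]
    simp only [Pi.zero_apply]
    ring
  · rw [if_neg hL]; rfl

omit [DecidablePred pv] [DecidablePred px] [DecidablePred py] [DecidablePred pf] in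
lemma h4 (hP : Planar L pv px py pf) : ∀ z ∈ Supp k L, d2 L z = 0 → z = 0 := by
  intro z hz h
  have step : ∀ p ∈ L, z p = z (pd p) := by
    intro p hp
    have := congrFun h (Sum.inl p)
    rw [d2_inl, if_pos hp] at this
    exact sub_eq_zero.1 this
  have key : ∀ n : ℕ, ∀ p : Pt, p.2 = (n : ℤ) → z p = 0 := by
    intro n
    induction n with
    | zero =>
      intro p hp
      by_cases hL : p ∈ L
      · rw [step p hL]
        apply hz
        intro h'
        have h1 := (hP.nn _ h').2
        have h2 : (pd p).2 = p.2 - 1 := rfl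
        simp only [Nat.cast_zero] at hp
        omega
      · exact hz p hL
    | succ n ih =>
      intro p hp
      by_cases hL : p ∈ L
      · rw [step p hL]
        apply ih
        show p.2 - 1 = (n : ℤ)
        push_cast at hp
        omega
      · exact hz p hL
  funext p
  by_cases hL : p ∈ L
  · obtain ⟨n, hn⟩ := Int.eq_ofNat_of_zero_le (hP.nn p hL).2
    exact key n p hn
  · exact hz p hL

omit [DecidablePred pv] [DecidablePred px] [DecidablePred py] [DecidablePred pf] in
lemma down_col (hP : Planar L pv px py pf) :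
    ∀ m : ℕ, ∀ p ∈ L, (m : ℤ) ≤ p.2 → ((p.1, p.2 - m) : Pt) ∈ L := by
  intro m
  induction m with
  | zero =>
    intro p hp _
    simpa using hp
  | succ m ih =>
    intro p hp hm
    have h1 := ih p hp (by push_cast at hm; omega)
    have h2 := hP.dd _ h1 (by show 0 < p.2 - (m : ℤ); push_cast at hm; omega)
    have : pd (p.1, p.2 - (m : ℤ)) = (p.1, p.2 - ((m + 1 : ℕ) : ℤ)) := by
      simp only [pd, Prod.mk.injEq, true_and]
      push_cast
      ring
    rw [← this]
    exact h2

lemma tele (g : ℤ → k) (n : ℕ) :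
    ∑ t ∈ Finset.range (n + 1), (g ((t : ℤ) - 1) - g (t : ℤ)) = g (-1) - g (n : ℤ) := by
  induction n with
  | zero => simp
  | succ n ih =>
    rw [Finset.sum_range_succ, ih]
    push_cast
    have : ((n : ℤ) + 1 - 1) = (n : ℤ) := by ring
    rw [this]
    ring


lemma h5 (hP : Planar L pv px py pf) :
    ∀ y ∈ Supp k ((L.filter px).disjSum (L.filter py)), d1 L y = 0 →
      ∃ z ∈ Supp k L, d2 L z = y := by
  intro y hy hcyc
  have hyl : ∀ q, q ∉ L → y (Sum.inl q) = 0 := fun q hq => hy _ (by
    rw [Finset.inl_mem_disjSum, Finset.mem_filter]; exact fun h => hq h.1)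
  have hyr : ∀ q, q ∉ L → y (Sum.inr q) = 0 := fun q hq => hy _ (by
    rw [Finset.inr_mem_disjSum, Finset.mem_filter]; exact fun h => hq h.1)
  let col : ℤ → ℕ → k := fun a n => ∑ t ∈ Finset.range (n + 1), y (Sum.inl (a, (t : ℤ)))
  let z : Pt → k := fun p => if p ∈ L then col p.1 p.2.toNat else 0
  have hzS : z ∈ Supp k L := fun p hp => if_neg hp
  have hzval : ∀ p ∈ L, ∀ n : ℕ, p.2 = (n : ℤ) → z p = col p.1 n := by
    intro p hL n hn
    show (if p ∈ L then col p.1 p.2.toNat else 0) = _
    rw [if_pos hL, hn, Int.toNat_natCast]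
  refine ⟨z, hzS, ?_⟩
  funext e
  rcases e with p | p
  · rw [d2_inl]
    by_cases hL : p ∈ L
    · rw [if_pos hL]
      obtain ⟨n, hn⟩ := Int.eq_ofNat_of_zero_le (hP.nn p hL).2
      have hpe : ((p.1, (n : ℤ)) : Pt) = p := Prod.ext rfl hn.symm
      rw [hzval p hL n hn]
      cases n with
      | zero =>
        have hpd : pd p ∉ L := fun h' => by
          have h1 := (hP.nn _ h').2
          have h2 : (pd p).2 = p.2 - 1 := rfl
          simp only [Nat.cast_zero] at hn
          omega
        have hzd : z (pd p) = 0 := if_neg hpd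
        rw [hzd, sub_zero]
        show ∑ t ∈ Finset.range (0 + 1), y (Sum.inl (p.1, (t : ℤ))) = _
        rw [zero_add, Finset.sum_range_one, hpe]
      | succ m =>
        have hpd : pd p ∈ L := hP.dd p hL (by rw [hn]; push_cast; omega)
        have hzd : z (pd p) = col p.1 m := by
          apply hzval (pd p) hpd m
          show p.2 - 1 = (m : ℤ)
          rw [hn]; push_cast; ring
        rw [hzd]
        show ∑ t ∈ Finset.range (m + 1 + 1), y (Sum.inl (p.1, (t : ℤ))) -
          ∑ t ∈ Finset.range (m + 1), y (Sum.inl (p.1, (t : ℤ))) = _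
        rw [Finset.sum_range_succ, add_sub_cancel_left, hpe]
    · rw [if_neg hL, hyl p hL]
  · rw [d2_inr]
    by_cases hL : p ∈ L
    · rw [if_pos hL]
      obtain ⟨n, hn⟩ := Int.eq_ofNat_of_zero_le (hP.nn p hL).2
      have hpe : ((p.1, (n : ℤ)) : Pt) = p := Prod.ext rfl hn.symm
      have hzl : z (pl p) = col (p.1 - 1) n := by
        by_cases hl : pl p ∈ L
        · exact hzval (pl p) hl n hn
        · have : z (pl p) = 0 := if_neg hl
          rw [this]
          symm
          apply Finset.sum_eq_zero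
          intro t _
          apply hyl
          intro h'
          have h1 : 0 ≤ p.1 - 1 := (hP.nn _ h').1
          exact hl (hP.dl p hL (by omega))
      have hcy : ∀ t ∈ Finset.range (n + 1),
          y (Sum.inl (p.1 - 1, (t : ℤ))) - y (Sum.inl (p.1, (t : ℤ))) =
            -(y (Sum.inr (p.1, (t : ℤ) - 1)) - y (Sum.inr (p.1, (t : ℤ)))) := by
        intro t ht
        have htn : t ≤ n := Nat.lt_succ_iff.1 (Finset.mem_range.1 ht)
        have hq : ((p.1, (t : ℤ)) : Pt) ∈ L := by
          have h0 := down_col hP (n - t) p hL (by rw [hn]; push_cast [htn]; omega)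
          have e : p.2 - ((n - t : ℕ) : ℤ) = (t : ℤ) := by
            rw [hn]; push_cast [htn]; ring
          rw [e] at h0
          exact h0
        have h0 := congrFun hcyc (p.1, (t : ℤ))
        rw [d1_apply, if_pos hq] at h0
        have e : y (Sum.inl (p.1 - 1, (t : ℤ))) - y (Sum.inl (p.1, (t : ℤ))) +
            y (Sum.inr (p.1, (t : ℤ) - 1)) - y (Sum.inr (p.1, (t : ℤ))) = 0 := h0
        linear_combination e
      have hsum : col (p.1 - 1) n - col p.1 n = y (Sum.inr (p.1, (n : ℤ))) := by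
        show ∑ t ∈ Finset.range (n + 1), y (Sum.inl (p.1 - 1, (t : ℤ))) -
          ∑ t ∈ Finset.range (n + 1), y (Sum.inl (p.1, (t : ℤ))) = _
        rw [← Finset.sum_sub_distrib, Finset.sum_congr rfl hcy, Finset.sum_neg_distrib,
          tele (fun t => y (Sum.inr (p.1, t))) n]
        have h0 : y (Sum.inr (p.1, (-1 : ℤ))) = 0 := hyr _ (fun h' => by
          have := (hP.nn _ h').2
          simp at this)
        rw [h0]
        ring
      rw [hzl, hzval p hL n hn, hsum, hpe]
    · rw [if_neg hL, hyr p hL]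

lemma sum_pick {S : Finset Pt} {f : Pt → k} (hf : f ∈ Supp k S) (a : Pt) :
    ∑ p ∈ S, f p * (if p = a then 1 else 0) = f a := by
  simp only [mul_ite, mul_one, mul_zero]
  rw [Finset.sum_ite_eq']
  split_ifs with h
  · rfl
  · exact (hf a h).symm

lemma hA : ∀ f : Pt → k, f ∈ LCS k (EI L px py) (ZI L pv) ↔
    f ∈ Supp k (L.filter pv) ∧ ∀ e ∈ (L.filter px).disjSum (L.filter py),
      ∑ p ∈ L.filter pv, f p * d1 L (Pi.single e 1) p = 0 := by
  intro f
  have hsupp : f ∈ Supp k (L.filter pv) ↔ ∀ p ∈ ZI L pv, f p = 0 := by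
    constructor
    · intro h p hp
      apply h
      rw [Finset.mem_filter]
      rintro ⟨h1, h2⟩
      rcases hp with hp | hp
      · exact hp h1
      · exact hp h2
    · intro h p hp
      apply h
      by_cases hL : p ∈ L
      · right; exact fun hv => hp (Finset.mem_filter.2 ⟨hL, hv⟩)
      · left; exact hL
  have hsum_l : ∀ q, f ∈ Supp k (L.filter pv) →
      ∑ p ∈ L.filter pv, f p * d1 L (Pi.single (Sum.inl q) 1) p = f (pr q) - f q := by
    intro q hf
    have : ∀ p ∈ L.filter pv, f p * d1 L (Pi.single (Sum.inl q) 1) p =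
        f p * (if p = pr q then 1 else 0) - f p * (if p = q then 1 else 0) := by
      intro p hp
      rw [d1_single_inl L q p (Finset.mem_filter.1 hp).1, mul_sub]
    rw [Finset.sum_congr rfl this, Finset.sum_sub_distrib, sum_pick hf, sum_pick hf]
  have hsum_r : ∀ q, f ∈ Supp k (L.filter pv) →
      ∑ p ∈ L.filter pv, f p * d1 L (Pi.single (Sum.inr q) 1) p = f (pu q) - f q := by
    intro q hf
    have : ∀ p ∈ L.filter pv, f p * d1 L (Pi.single (Sum.inr q) 1) p =
        f p * (if p = pu q then 1 else 0) - f p * (if p = q then 1 else 0) := by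
      intro p hp
      rw [d1_single_inr L q p (Finset.mem_filter.1 hp).1, mul_sub]
    rw [Finset.sum_congr rfl this, Finset.sum_sub_distrib, sum_pick hf, sum_pick hf]
  rw [mem_LCS, hsupp]
  constructor
  · rintro ⟨hE, hZ⟩
    refine ⟨hZ, ?_⟩
    have hf := hsupp.2 hZ
    intro e he
    rcases e with q | q
    · rw [hsum_l q hf]
      rw [Finset.inl_mem_disjSum, Finset.mem_filter] at he
      rw [hE q (pr q) (Or.inl ⟨rfl, he.1, he.2⟩), sub_self]
    · rw [hsum_r q hf]
      rw [Finset.inr_mem_disjSum, Finset.mem_filter] at he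
      rw [hE q (pu q) (Or.inr ⟨rfl, he.1, he.2⟩), sub_self]
  · rintro ⟨hZ, hS⟩
    refine ⟨?_, hZ⟩
    have hf := hsupp.2 hZ
    rintro p p' (⟨rfl, h1, h2⟩ | ⟨rfl, h1, h2⟩)
    · have := hS (Sum.inl p) (Finset.inl_mem_disjSum.2 (Finset.mem_filter.2 ⟨h1, h2⟩))
      rw [hsum_l p hf] at this
      exact (sub_eq_zero.1 this).symm
    · have := hS (Sum.inr p) (Finset.inr_mem_disjSum.2 (Finset.mem_filter.2 ⟨h1, h2⟩))
      rw [hsum_r p hf] at this
      exact (sub_eq_zero.1 this).symm

lemma hA' : ∀ c : Pt → k, c ∈ LCS k (EII L px py) (ZII L pf) ↔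
    c ∈ Supp k (L \ L.filter pf) ∧ d2 L c ∈ Supp k ((L.filter px).disjSum (L.filter py)) := by
  intro c
  have hsupp : c ∈ Supp k (L \ L.filter pf) ↔ ∀ p ∈ ZII L pf, c p = 0 := by
    constructor
    · intro h p hp
      apply h
      rw [Finset.mem_sdiff, Finset.mem_filter]
      rintro ⟨h1, h2⟩
      rcases hp with hp | hp
      · exact hp h1
      · exact h2 ⟨h1, hp⟩
    · intro h p hp
      apply h
      by_cases hL : p ∈ L
      · right
        by_contra hpf
        exact hp (Finset.mem_sdiff.2 ⟨hL, fun h' => hpf (Finset.mem_filter.1 h').2⟩)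
      · left; exact hL
  rw [mem_LCS, hsupp]
  constructor
  · rintro ⟨hE, hZ⟩
    refine ⟨hZ, ?_⟩
    intro e he
    rcases e with p | p
    · rw [d2_inl]
      by_cases hL : p ∈ L
      · rw [if_pos hL]
        have hpx : ¬ px p := fun h => he (Finset.inl_mem_disjSum.2 (Finset.mem_filter.2 ⟨hL, h⟩))
        rw [hE (pd p) p (Or.inl ⟨rfl, hL, hpx⟩), sub_self]
      · rw [if_neg hL]
    · rw [d2_inr]
      by_cases hL : p ∈ L
      · rw [if_pos hL]
        have hpy : ¬ py p := fun h => he (Finset.inr_mem_disjSum.2 (Finset.mem_filter.2 ⟨hL, h⟩))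
        rw [hE (pl p) p (Or.inr ⟨rfl, hL, hpy⟩), sub_self]
      · rw [if_neg hL]
  · rintro ⟨hZ, hS⟩
    refine ⟨?_, hZ⟩
    rintro q p (⟨rfl, h1, h2⟩ | ⟨rfl, h1, h2⟩)
    · have := hS (Sum.inl p) (by
        rw [Finset.inl_mem_disjSum, Finset.mem_filter]; exact fun h => h2 h.2)
      rw [d2_inl, if_pos h1] at this
      exact (sub_eq_zero.1 this).symm
    · have := hS (Sum.inr p) (by
        rw [Finset.inr_mem_disjSum, Finset.mem_filter]; exact fun h => h2 h.2)
      rw [d2_inr, if_pos h1] at this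
      exact sub_eq_zero.1 this

/-- the planar Euler identity -/
theorem euler_planar (hP : Planar L pv px py pf) :
    finrank k ↥(LCS k (EI L px py) (ZI L pv)) + (L.filter px).card + (L.filter py).card =
      finrank k ↥(LCS k (EII L px py) (ZII L pf)) + (L.filter pv).card +
        (L.filter pf).card := by
  have key := euler_master (k := k) (L.filter pv) ((L.filter px).disjSum (L.filter py)) L
    (L.filter pf) (Finset.filter_subset _ _) (d2 L) (d1 L) (h1 hP) (h2 hP) (h3 hP) (h4 hP) (h5 hP)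
    (LCS k (EI L px py) (ZI L pv)) hA (LCS k (EII L px py) (ZII L pf)) hA'
  rw [Finset.card_disjSum] at key
  omega

end main

end Groth.Agent.Helper25.HilbPlanar
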