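import Mathlib
import Groth.Agent.Lib.Helper25.HilbStable

/-!
# A tangent vector of sign pattern "two negatives" from three mixed generators
-/

namespace Groth.Agent.Helper25.HilbThree

open MvPolynomial W4c1hilbpn Groth.Agent.Helper25.HilbTgt

section general

variable {σ : Type*} {k : Type*} [Field k] [Fintype σ] [DecidableEq σ]
  {I : Ideal (MvPolynomial σ k)}

/-- A minimal generator `β` and a socle monomial `γN` give an isolated point of the region of
multidegree `γN - β`, hence a bounded component. -/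
lemma nonempty_Bdd_of_gen_socle {β γN : σ →₀ ℕ} (hβ : β ∈ exps I)
    (hmin : ∀ l (β' : σ →₀ ℕ), β' + Finsupp.single l 1 = β → β' ∉ exps I)
    (hγ : γN ∉ exps I) (hsoc : ∀ l, γN + Finsupp.single l 1 ∈ exps I) :
    Nonempty (Bdd I (fun l => (γN l : ℤ) - (β l : ℤ))) := by
  have e1 : toNatVec ((fun l => (γN l : ℤ)) - (fun l => (γN l : ℤ) - (β l : ℤ))) = β := by
    ext l
    simp only [toNatVec_apply, Pi.sub_apply]
    omega
  have e2 : toNatVec (fun l => (γN l : ℤ)) = γN := by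
    ext l
    simp only [toNatVec_apply]
    omega
  have hreg : (fun l => (γN l : ℤ)) ∈ region I (fun l => (γN l : ℤ) - (β l : ℤ)) := by
    refine mem_region_of (fun l => ?_) (by rw [e1]; exact hβ) ?_
    · show (0 : ℤ) ≤ (γN l : ℤ) - ((γN l : ℤ) - (β l : ℤ))
      omega
    · rintro ⟨-, h⟩
      rw [e2] at h
      exact hγ h
  have hvec : (fun l => (γN l : ℤ)) = vec β (fun l => (γN l : ℤ) - (β l : ℤ)) := by
    funext l
    simp only [vec]
    ring
  refine nonempty_Bdd_of_isolated hreg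
    (isolated_of hreg (fun l => Int.natCast_nonneg _) (fun l => ?_) hvec hmin)
  have e3' : toNatVec ((fun l => (γN l : ℤ)) + Pi.single l 1) = γN + Finsupp.single l 1 := by
    ext l'
    rw [toNatVec_apply, add_single_apply, Finsupp.add_apply, Finsupp.single_apply]
    by_cases h : l' = l
    · rw [if_pos h, if_pos h.symm]; omega
    · rw [if_neg h, if_neg (fun h' => h h'.symm)]; omega
  rw [e3']
  exact hsoc l

end general

section three

variable {σ : Type*} {k : Type*} [Field k] [Fintype σ] [DecidableEq σ]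
  {I : Ideal (MvPolynomial σ k)}

/-- the vector `i e_u + j e_v + t e_w` -/
noncomputable def pt (u v w : σ) (i j t : ℕ) : σ →₀ ℕ :=
  Finsupp.single u i + Finsupp.single v j + Finsupp.single w t

lemma pt_u {u v w : σ} (huv : u ≠ v) (huw : u ≠ w) (i j t : ℕ) : pt u v w i j t u = i := by
  simp [pt, Finsupp.single_apply, huv.symm, huw.symm]

lemma pt_v {u v w : σ} (huv : u ≠ v) (hvw : v ≠ w) (i j t : ℕ) : pt u v w i j t v = j := by
  simp [pt, Finsupp.single_apply, huv, hvw.symm]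

lemma pt_w {u v w : σ} (huw : u ≠ w) (hvw : v ≠ w) (i j t : ℕ) : pt u v w i j t w = t := by
  simp [pt, Finsupp.single_apply, huw, hvw]

lemma pt_add_u (u v w : σ) (i j t : ℕ) :
    pt u v w i j t + Finsupp.single u 1 = pt u v w (i + 1) j t := by
  simp only [pt, Finsupp.single_add]; abel

lemma pt_add_v (u v w : σ) (i j t : ℕ) :
    pt u v w i j t + Finsupp.single v 1 = pt u v w i (j + 1) t := by
  simp only [pt, Finsupp.single_add]; abel

lemma pt_add_w (u v w : σ) (i j t : ℕ) :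
    pt u v w i j t + Finsupp.single w 1 = pt u v w i j (t + 1) := by
  simp only [pt, Finsupp.single_add]; abel

lemma exists_socle_box [Finite {γ : σ →₀ ℕ // γ ∉ exps I}] {u v w : σ}
    (huv : u ≠ v) (huw : u ≠ w) (hvw : v ≠ w)
    (hcov : ∀ l, l = u ∨ l = v ∨ l = w) {β B' C' : σ →₀ ℕ}
    (hβu : 1 ≤ β u) (hβv : 1 ≤ β v)
    (hB : B' ∈ exps I) (hBv : B' v = 0) (hBu : B' u ≤ β u)
    (hBw : Finsupp.single w (B' w) ∉ exps I)
    (hC : C' ∈ exps I) (hCu : C' u = 0) (hCv : C' v ≤ β v)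
    (hCw : Finsupp.single w (C' w) ∉ exps I) :
    ∃ γN : σ →₀ ℕ, γN ∉ exps I ∧ (∀ l, γN + Finsupp.single l 1 ∈ exps I) ∧
      γN u < β u ∧ γN v < β v := by
  classical
  obtain ⟨N, hN⟩ := exists_bound (I := I)
  obtain ⟨ts, hts, htsmax⟩ := exists_max_nat (P := fun t => Finsupp.single w t ∉ exps I)
    ⟨B' w, hBw⟩ (B := N) (fun t ht => by
      have := hN _ ht w
      rw [Finsupp.single_eq_same] at this
      omega)
  have hBts : B' w ≤ ts := htsmax _ hBw
  have hCts : C' w ≤ ts := htsmax _ hCw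
  have htop : Finsupp.single w (ts + 1) ∈ exps I := by
    by_contra h
    have := htsmax _ h
    omega
  let V : Finset (ℕ × ℕ) := ((Finset.range (β u)) ×ˢ (Finset.range (β v))).filter
    (fun ij => pt u v w ij.1 ij.2 ts ∉ exps I)
  have hVmem : ∀ ij : ℕ × ℕ, ij ∈ V ↔ (ij.1 < β u ∧ ij.2 < β v) ∧ pt u v w ij.1 ij.2 ts ∉ exps I := by
    intro ij
    simp only [V, Finset.mem_filter, Finset.mem_product, Finset.mem_range]
  have h00 : ((0, 0) : ℕ × ℕ) ∈ V := by
    rw [hVmem]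
    refine ⟨⟨by omega, by omega⟩, ?_⟩
    have : pt u v w 0 0 ts = Finsupp.single w ts := by simp [pt]
    rw [this]; exact hts
  obtain ⟨⟨i, j⟩, hijV, hijmax⟩ := Finset.exists_max_image V (fun ij => ij.1 + ij.2) ⟨_, h00⟩
  rw [hVmem] at hijV
  obtain ⟨⟨hi, hj⟩, hnot⟩ := hijV
  simp only at hi hj hnot
  refine ⟨pt u v w i j ts, hnot, ?_, by rw [pt_u huv huw]; exact hi,
    by rw [pt_v huv hvw]; exact hj⟩
  intro l
  rcases hcov l with h | h | h
  · rw [h, pt_add_u]
    by_cases hi' : i + 1 < β u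
    · by_contra hcon
      have hmem : ((i + 1, j) : ℕ × ℕ) ∈ V := by
        rw [hVmem]; exact ⟨⟨hi', hj⟩, hcon⟩
      have := hijmax _ hmem
      simp only at this
      omega
    · have hi'' : i + 1 = β u := by omega
      apply exps_mono hB
      rw [Finsupp.le_def]
      intro l'
      rcases hcov l' with h' | h' | h'
      · rw [h', pt_u huv huw]; omega
      · rw [h', hBv]; exact Nat.zero_le _
      · rw [h', pt_w huw hvw]; exact hBts
  · rw [h, pt_add_v]
    by_cases hj' : j + 1 < β v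
    · by_contra hcon
      have hmem : ((i, j + 1) : ℕ × ℕ) ∈ V := by
        rw [hVmem]; exact ⟨⟨hi, hj'⟩, hcon⟩
      have := hijmax _ hmem
      simp only at this
      omega
    · have hj'' : j + 1 = β v := by omega
      apply exps_mono hC
      rw [Finsupp.le_def]
      intro l'
      rcases hcov l' with h' | h' | h'
      · rw [h', hCu]; exact Nat.zero_le _
      · rw [h', pt_v huv hvw]; omega
      · rw [h', pt_w huw hvw]; exact hCts
  · rw [h, pt_add_w]
    have : pt u v w i j (ts + 1)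
        = Finsupp.single w (ts + 1) + (Finsupp.single u i + Finsupp.single v j) := by
      simp only [pt]; abel
    rw [this]
    exact exps_add htop _

lemma sigPiece_ne_bot_of_gens (hI : IsMonomial I) [Finite {γ : σ →₀ ℕ // γ ∉ exps I}]
    {u v w : σ} (huv : u ≠ v) (huw : u ≠ w) (hvw : v ≠ w)
    (hcov : ∀ l, l = u ∨ l = v ∨ l = w) {β B' C' : σ →₀ ℕ}
    (hβ : β ∈ exps I) (hβw : β w = 0)
    (hmin : ∀ l (β' : σ →₀ ℕ), β' + Finsupp.single l 1 = β → β' ∉ exps I)
    (hβu : 1 ≤ β u) (hβv : 1 ≤ β v)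
    (hB : B' ∈ exps I) (hBv : B' v = 0) (hBu : B' u ≤ β u)
    (hBw : Finsupp.single w (B' w) ∉ exps I)
    (hC : C' ∈ exps I) (hCu : C' u = 0) (hCv : C' v ≤ β v)
    (hCw : Finsupp.single w (C' w) ∉ exps I) :
    sigPiece I ({u, v} : Set σ) ≠ ⊥ := by
  obtain ⟨γN, hγ, hsoc, hu, hv⟩ :=
    exists_socle_box huv huw hvw hcov hβu hβv hB hBv hBu hBw hC hCu hCv hCw
  haveI : Nontrivial σ := ⟨⟨u, v, huv⟩⟩
  have hne := nonempty_Bdd_of_gen_socle hβ hmin hγ hsoc
  intro hbot
  have h1 := (sigPiece_eq_bot_iff.1 hbot) (fun l => (γN l : ℤ) - (β l : ℤ)) (by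
    intro l
    simp only [Set.mem_insert_iff, Set.mem_singleton_iff]
    rcases hcov l with h | h | h
    · rw [h]; exact ⟨fun _ => Or.inl rfl, fun _ => by omega⟩
    · rw [h]; exact ⟨fun _ => Or.inr rfl, fun _ => by omega⟩
    · rw [h]
      exact ⟨fun hlt => by omega,
        fun hor => hor.elim (fun e => absurd e.symm huw) (fun e => absurd e.symm hvw)⟩)
  rw [tPiece_eq_bot_iff hI] at h1
  exact h1.elim hne.some

end three

section fin3

variable {k : Type*} [Field k] {I : Ideal (MvPolynomial (Fin 3) k)}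

lemma cov3 : ∀ l : Fin 3, l = 0 ∨ l = 1 ∨ l = 2 := by decide

lemma single0_le (a b c : ℕ) : Finsupp.single (0 : Fin 3) a ≤ e3 a b c := by
  rw [Finsupp.le_def]; intro l
  rcases cov3 l with rfl | rfl | rfl <;> simp [Finsupp.single_apply]

lemma single1_le (a b c : ℕ) : Finsupp.single (1 : Fin 3) b ≤ e3 a b c := by
  rw [Finsupp.le_def]; intro l
  rcases cov3 l with rfl | rfl | rfl <;> simp [Finsupp.single_apply]

lemma single2_le (a b c : ℕ) : Finsupp.single (2 : Fin 3) c ≤ e3 a b c := by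
  rw [Finsupp.le_def]; intro l
  rcases cov3 l with rfl | rfl | rfl <;> simp [Finsupp.single_apply]

lemma hmin_e3 {a b c : ℕ} (h0 : 0 < a → e3 (a - 1) b c ∉ exps I)
    (h1 : 0 < b → e3 a (b - 1) c ∉ exps I) (h2 : 0 < c → e3 a b (c - 1) ∉ exps I) :
    ∀ (l : Fin 3) (β' : Fin 3 →₀ ℕ), β' + Finsupp.single l 1 = e3 a b c → β' ∉ exps I := by
  intro l β' h
  have g0 := DFunLike.congr_fun h 0
  have g1 := DFunLike.congr_fun h 1
  have g2 := DFunLike.congr_fun h 2
  rw [eq_e3 β']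
  rcases cov3 l with rfl | rfl | rfl
  · simp [Finsupp.single_apply] at g0 g1 g2
    rw [show β' 0 = a - 1 by omega, g1, g2]
    exact h0 (by omega)
  · simp [Finsupp.single_apply] at g0 g1 g2
    rw [show β' 1 = b - 1 by omega, g0, g2]
    exact h1 (by omega)
  · simp [Finsupp.single_apply] at g0 g1 g2
    rw [show β' 2 = c - 1 by omega, g0, g1]
    exact h2 (by omega)

theorem three_gens (hI : IsMonomial I) [Module.Finite k (MvPolynomial (Fin 3) k ⧸ I)]
    (a1 a2 b1 b3 c2 c3 : ℕ) (ha1 : 0 < a1) (ha2 : 0 < a2) (hb1 : 0 < b1) (hb3 : 0 < b3)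
    (hc2 : 0 < c2) (hc3 : 0 < c3)
    (hA : e3 a1 a2 0 ∈ exps I ∧ e3 (a1 - 1) a2 0 ∉ exps I ∧ e3 a1 (a2 - 1) 0 ∉ exps I)
    (hB : e3 b1 0 b3 ∈ exps I ∧ e3 (b1 - 1) 0 b3 ∉ exps I ∧ e3 b1 0 (b3 - 1) ∉ exps I)
    (hC : e3 0 c2 c3 ∈ exps I ∧ e3 0 (c2 - 1) c3 ∉ exps I ∧ e3 0 c2 (c3 - 1) ∉ exps I)
    (hcase : (b1 ≤ a1 ∧ c2 ≤ a2) ∨ (a1 ≤ b1 ∧ c3 ≤ b3) ∨ (a2 ≤ c2 ∧ b3 ≤ c3)) :
    sigPiece I ({0, 1} : Set (Fin 3)) ≠ ⊥ ∨ sigPiece I ({0, 2} : Set (Fin 3)) ≠ ⊥ ∨
      sigPiece I ({1, 2} : Set (Fin 3)) ≠ ⊥ := by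
  haveI := finite_compl_exps hI
  have hminA := hmin_e3 (I := I) (a := a1) (b := a2) (c := 0) (fun _ => hA.2.1) (fun _ => hA.2.2)
    (fun h => absurd h (lt_irrefl 0))
  have hminB := hmin_e3 (I := I) (a := b1) (b := 0) (c := b3) (fun _ => hB.2.1)
    (fun h => absurd h (lt_irrefl 0)) (fun _ => hB.2.2)
  have hminC := hmin_e3 (I := I) (a := 0) (b := c2) (c := c3) (fun h => absurd h (lt_irrefl 0))
    (fun _ => hC.2.1) (fun _ => hC.2.2)
  rcases hcase with ⟨h1, h2⟩ | ⟨h1, h2⟩ | ⟨h1, h2⟩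
  · left
    exact sigPiece_ne_bot_of_gens hI (u := 0) (v := 1) (w := 2) (by decide) (by decide)
      (by decide) cov3 (β := e3 a1 a2 0) (B' := e3 b1 0 b3) (C' := e3 0 c2 c3)
      hA.1 rfl hminA ha1 ha2 hB.1 rfl h1
      (fun h => hB.2.1 (exps_mono h (single2_le _ _ _)))
      hC.1 rfl h2 (fun h => hC.2.1 (exps_mono h (single2_le _ _ _)))
  · right; left
    exact sigPiece_ne_bot_of_gens hI (u := 0) (v := 2) (w := 1) (by decide) (by decide)
      (by decide) (fun l => by rcases cov3 l with h | h | h <;> simp [h])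
      (β := e3 b1 0 b3) (B' := e3 a1 a2 0) (C' := e3 0 c2 c3)
      hB.1 rfl hminB hb1 hb3 hA.1 rfl h1
      (fun h => hA.2.1 (exps_mono h (single1_le _ _ _)))
      hC.1 rfl h2 (fun h => hC.2.2 (exps_mono h (single1_le _ _ _)))
  · right; right
    exact sigPiece_ne_bot_of_gens hI (u := 1) (v := 2) (w := 0) (by decide) (by decide)
      (by decide) (fun l => by rcases cov3 l with h | h | h <;> simp [h])
      (β := e3 0 c2 c3) (B' := e3 a1 a2 0) (C' := e3 b1 0 b3)
      hC.1 rfl hminC hc2 hc3 hA.1 rfl h1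
      (fun h => hA.2.2 (exps_mono h (single0_le _ _ _)))
      hB.1 rfl h2 (fun h => hB.2.2 (exps_mono h (single0_le _ _ _)))

end fin3

end Groth.Agent.Helper25.HilbThree
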