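import Mathlib
import Groth.Agent.Lib.Helper25.HilbCS
import Groth.Agent.Lib.Helper25.HilbThree
import Groth.Agent.Lib.Helper25.HilbPlanar

/-! Column description of the regions `(Ĩ + α) ∖ Ĩ` in three variables, along an arbitrary axis. -/

namespace Groth.Agent.Helper25.HilbCol

open MvPolynomial W4c1hilbpn Module
open Groth.Agent.Helper25.HilbTgt Groth.Agent.Helper25.HilbLC Groth.Agent.Helper25.HilbCS
open Groth.Agent.Helper25.HilbPlanar Groth.Agent.Helper25.HilbThree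

variable {k : Type*} [Field k] {I : Ideal (MvPolynomial (Fin 3) k)}

/-- three distinct axes -/
structure Axes (u v w : Fin 3) : Prop where
  uv : u ≠ v
  uw : u ≠ w
  vw : v ≠ w

lemma Axes.cov {u v w : Fin 3} (h : Axes u v w) : ∀ l : Fin 3, l = u ∨ l = v ∨ l = w := by
  obtain ⟨h1, h2, h3⟩ := h
  revert h1 h2 h3
  revert u v w
  decide

variable {u v w : Fin 3}

lemma eq_pt (h : Axes u v w) (δ : Fin 3 →₀ ℕ) : δ = pt u v w (δ u) (δ v) (δ w) := by
  ext l
  rcases h.cov l with hl | hl | hl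
  · rw [hl, pt_u h.uv h.uw]
  · rw [hl, pt_v h.uv h.vw]
  · rw [hl, pt_w h.uw h.vw]

/-- generic staircase numbers along the axis `w` -/
noncomputable def hh (I : Ideal (MvPolynomial (Fin 3) k)) (u v w : Fin 3) (a b : ℕ) : ℕ :=
  Nat.card {c : ℕ // pt u v w a b c ∉ exps I}

lemma pt_add_w' (u v w : Fin 3) (a b c d : ℕ) :
    pt u v w a b c + Finsupp.single w d = pt u v w a b (c + d) := by
  simp only [pt, Finsupp.single_add]; abel

lemma notMem_pt_iff (h : Axes u v w) [Finite {γ : Fin 3 →₀ ℕ // γ ∉ exps I}] (a b c : ℕ) :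
    pt u v w a b c ∉ exps I ↔ c < hh I u v w a b := by
  classical
  have hlower : ∀ c c', c ≤ c' → pt u v w a b c' ∉ exps I → pt u v w a b c ∉ exps I := by
    intro c c' hcc h' hc
    apply h'
    have : pt u v w a b c' = pt u v w a b c + Finsupp.single w (c' - c) := by
      rw [pt_add_w']; congr 1; omega
    rw [this]; exact exps_add hc _
  obtain ⟨N, hN⟩ := exists_bound (I := I)
  have hex : ∃ c, pt u v w a b c ∈ exps I := ⟨N, by
    by_contra hcon
    have := hN _ hcon w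
    rw [pt_w h.uw h.vw] at this
    exact lt_irrefl _ this⟩
  have hn : pt u v w a b (Nat.find hex) ∈ exps I := Nat.find_spec hex
  have hmin : ∀ c, c < Nat.find hex → pt u v w a b c ∉ exps I := fun c hc => Nat.find_min hex hc
  have hiff : ∀ c, pt u v w a b c ∉ exps I ↔ c < Nat.find hex := by
    intro c
    constructor
    · intro h'
      by_contra hc
      push_neg at hc
      exact hlower _ c hc h' hn
    · exact hmin c
  have hcard : hh I u v w a b = Nat.find hex := by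
    unfold hh
    have e : {c : ℕ // pt u v w a b c ∉ exps I} ≃ Fin (Nat.find hex) :=
      (Equiv.subtypeEquivRight hiff).trans Fin.equivSubtype.symm
    rw [Nat.card_congr e]
    simp
  rw [hcard]
  exact hiff c

lemma notMem_iff (h : Axes u v w) [Finite {γ : Fin 3 →₀ ℕ // γ ∉ exps I}] (δ : Fin 3 →₀ ℕ) :
    δ ∉ exps I ↔ δ w < hh I u v w (δ u) (δ v) := by
  conv_lhs => rw [eq_pt h δ]
  exact notMem_pt_iff h _ _ _

lemma hh_succ_u (h : Axes u v w) [Finite {γ : Fin 3 →₀ ℕ // γ ∉ exps I}] (a b : ℕ) :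
    hh I u v w (a + 1) b ≤ hh I u v w a b := by
  by_contra hcon
  push_neg at hcon
  have h1 := (notMem_pt_iff (I := I) h (a + 1) b (hh I u v w a b)).2 hcon
  have h2 : pt u v w a b (hh I u v w a b) ∈ exps I := by
    by_contra h'
    exact lt_irrefl _ ((notMem_pt_iff h a b _).1 h')
  apply h1
  rw [← pt_add_u]
  exact exps_add h2 _

lemma hh_succ_v (h : Axes u v w) [Finite {γ : Fin 3 →₀ ℕ // γ ∉ exps I}] (a b : ℕ) :
    hh I u v w a (b + 1) ≤ hh I u v w a b := by
  by_contra hcon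
  push_neg at hcon
  have h1 := (notMem_pt_iff (I := I) h a (b + 1) (hh I u v w a b)).2 hcon
  have h2 : pt u v w a b (hh I u v w a b) ∈ exps I := by
    by_contra h'
    exact lt_irrefl _ ((notMem_pt_iff h a b _).1 h')
  apply h1
  rw [← pt_add_v]
  exact exps_add h2 _

lemma hh_anti (h : Axes u v w) [Finite {γ : Fin 3 →₀ ℕ // γ ∉ exps I}] {a a' b b' : ℕ}
    (ha : a ≤ a') (hb : b ≤ b') : hh I u v w a' b' ≤ hh I u v w a b := by
  have h1 : ∀ n, hh I u v w (a + n) b ≤ hh I u v w a b := by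
    intro n
    induction n with
    | zero => exact le_rfl
    | succ n ih => exact (hh_succ_u h (a + n) b).trans ih
  have h2 : ∀ a0 n, hh I u v w a0 (b + n) ≤ hh I u v w a0 b := by
    intro a0 n
    induction n with
    | zero => exact le_rfl
    | succ n ih => exact (hh_succ_v h a0 (b + n)).trans ih
  obtain ⟨n, rfl⟩ := Nat.exists_eq_add_of_le ha
  obtain ⟨m, rfl⟩ := Nat.exists_eq_add_of_le hb
  exact (h2 (a + n) m).trans (h1 n)

/-- staircase numbers on integer points (truncating negative entries) -/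
noncomputable def hZ (I : Ideal (MvPolynomial (Fin 3) k)) (u v w : Fin 3) (p : ℤ × ℤ) : ℕ :=
  hh I u v w p.1.toNat p.2.toNat

lemma hZ_anti (h : Axes u v w) [Finite {γ : Fin 3 →₀ ℕ // γ ∉ exps I}] {p p' : ℤ × ℤ}
    (h1 : p.1 ≤ p'.1) (h2 : p.2 ≤ p'.2) : hZ I u v w p' ≤ hZ I u v w p :=
  hh_anti h (Int.toNat_le_toNat h1) (Int.toNat_le_toNat h2)

lemma hZ_eq {a a' b b' : ℤ} (h1 : a = a') (h2 : b = b') : hZ I u v w (a, b) = hZ I u v w (a', b') := by
  rw [h1, h2]

/-- a bound for the staircase -/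
def IsBound (I : Ideal (MvPolynomial (Fin 3) k)) (u v w : Fin 3) (M : ℕ) : Prop :=
  ∀ a b, (0 < hh I u v w a b → a < M ∧ b < M) ∧ hh I u v w a b ≤ M

lemma exists_isBound (h : Axes u v w) [Finite {γ : Fin 3 →₀ ℕ // γ ∉ exps I}] :
    ∃ M, IsBound I u v w M := by
  obtain ⟨N, hN⟩ := exists_bound (I := I)
  refine ⟨N, fun a b => ⟨fun hpos => ?_, ?_⟩⟩
  · have h0 := (notMem_pt_iff (I := I) h a b 0).2 hpos
    have hu := hN _ h0 u
    have hv := hN _ h0 v
    rw [pt_u h.uv h.uw] at hu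
    rw [pt_v h.uv h.vw] at hv
    exact ⟨hu, hv⟩
  · by_contra hcon
    push_neg at hcon
    have h0 := (notMem_pt_iff (I := I) h a b N).2 hcon
    have hw := hN _ h0 w
    rw [pt_w h.uw h.vw] at hw
    exact lt_irrefl _ hw

/-! ### integer points in coordinates -/

/-- the integer point with coordinates `x, y, z` along the axes `u, v, w` -/
def mk3 (u v w : Fin 3) (x y z : ℤ) : Fin 3 → ℤ := Pi.single u x + Pi.single v y + Pi.single w z

lemma mk3_u (h : Axes u v w) (x y z : ℤ) : mk3 u v w x y z u = x := by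
  simp [mk3, Pi.single_apply, h.uv, h.uw]

lemma mk3_v (h : Axes u v w) (x y z : ℤ) : mk3 u v w x y z v = y := by
  simp [mk3, Pi.single_apply, h.uv.symm, h.vw]

lemma mk3_w (h : Axes u v w) (x y z : ℤ) : mk3 u v w x y z w = z := by
  simp [mk3, Pi.single_apply, h.uw.symm, h.vw.symm]

lemma ext3 (h : Axes u v w) {γ γ' : Fin 3 → ℤ} (hu : γ u = γ' u) (hv : γ v = γ' v)
    (hw : γ w = γ' w) : γ = γ' := by
  funext l
  rcases h.cov l with hl | hl | hl <;> rw [hl] <;> assumption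

lemma eq_mk3 (h : Axes u v w) (γ : Fin 3 → ℤ) : γ = mk3 u v w (γ u) (γ v) (γ w) :=
  ext3 h (mk3_u h _ _ _).symm (mk3_v h _ _ _).symm (mk3_w h _ _ _).symm

lemma mk3_add_u (u v w : Fin 3) (x y z : ℤ) :
    mk3 u v w x y z + Pi.single u 1 = mk3 u v w (x + 1) y z := by
  simp only [mk3, Pi.single_add]; abel

lemma mk3_add_v (u v w : Fin 3) (x y z : ℤ) :
    mk3 u v w x y z + Pi.single v 1 = mk3 u v w x (y + 1) z := by
  simp only [mk3, Pi.single_add]; abel

lemma mk3_add_w (u v w : Fin 3) (x y z : ℤ) :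
    mk3 u v w x y z + Pi.single w 1 = mk3 u v w x y (z + 1) := by
  simp only [mk3, Pi.single_add]; abel

lemma add_single_u (h : Axes u v w) (γ : Fin 3 → ℤ) :
    (γ + Pi.single u 1 : Fin 3 → ℤ) u = γ u + 1 ∧ (γ + Pi.single u 1 : Fin 3 → ℤ) v = γ v ∧
      (γ + Pi.single u 1 : Fin 3 → ℤ) w = γ w := by
  simp [Pi.single_apply, h.uv.symm, h.uw.symm]

lemma add_single_v (h : Axes u v w) (γ : Fin 3 → ℤ) :
    (γ + Pi.single v 1 : Fin 3 → ℤ) u = γ u ∧ (γ + Pi.single v 1 : Fin 3 → ℤ) v = γ v + 1 ∧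
      (γ + Pi.single v 1 : Fin 3 → ℤ) w = γ w := by
  simp [Pi.single_apply, h.uv, h.vw.symm]

lemma add_single_w (h : Axes u v w) (γ : Fin 3 → ℤ) :
    (γ + Pi.single w 1 : Fin 3 → ℤ) u = γ u ∧ (γ + Pi.single w 1 : Fin 3 → ℤ) v = γ v ∧
      (γ + Pi.single w 1 : Fin 3 → ℤ) w = γ w + 1 := by
  simp [Pi.single_apply, h.uw, h.vw]

lemma sub_single_w (h : Axes u v w) (γ : Fin 3 → ℤ) :
    (γ - Pi.single w 1 : Fin 3 → ℤ) u = γ u ∧ (γ - Pi.single w 1 : Fin 3 → ℤ) v = γ v ∧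
      (γ - Pi.single w 1 : Fin 3 → ℤ) w = γ w - 1 := by
  simp [Pi.single_apply, h.uw, h.vw]

/-! ### the region in coordinates -/

lemma mem_region_iff3 (h : Axes u v w) [Finite {γ : Fin 3 →₀ ℕ // γ ∉ exps I}]
    {α γ : Fin 3 → ℤ} :
    γ ∈ region I α ↔ (∀ l, α l ≤ γ l) ∧
      ((hZ I u v w (γ u - α u, γ v - α v) : ℕ) : ℤ) ≤ γ w - α w ∧
      ((∃ l, γ l < 0) ∨ γ w < ((hZ I u v w (γ u, γ v) : ℕ) : ℤ)) := by
  constructor
  · intro hγ
    have h1 := fun l => sub_nonneg_of_mem_region hγ l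
    have h2 := toNatVec_sub_mem hγ
    refine ⟨fun l => by have := h1 l; omega, ?_, ?_⟩
    · have h3 : ¬ (toNatVec (γ - α) ∉ exps I) := fun hcon => hcon h2
      rw [notMem_iff h] at h3
      simp only [toNatVec_apply, Pi.sub_apply] at h3
      have := h1 w
      show ((hh I u v w (γ u - α u).toNat (γ v - α v).toNat : ℕ) : ℤ) ≤ _
      omega
    · by_cases hpos : ∀ l, 0 ≤ γ l
      · right
        have h3 : toNatVec γ ∉ exps I := fun hcon => hγ.2 ⟨hpos, hcon⟩
        rw [notMem_iff h] at h3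
        simp only [toNatVec_apply] at h3
        have := hpos w
        show γ w < ((hh I u v w (γ u).toNat (γ v).toNat : ℕ) : ℤ)
        omega
      · left; push_neg at hpos; exact hpos
  · rintro ⟨h1, h2, h3⟩
    apply mem_region_of (fun l => by have := h1 l; omega)
    · by_contra hcon
      rw [notMem_iff h] at hcon
      simp only [toNatVec_apply, Pi.sub_apply] at hcon
      have := h1 w
      change ((hh I u v w (γ u - α u).toNat (γ v - α v).toNat : ℕ) : ℤ) ≤ _ at h2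
      omega
    · rintro ⟨hpos, hin⟩
      rcases h3 with ⟨l, hl⟩ | hlt
      · have := hpos l; omega
      · apply absurd hin
        rw [notMem_iff h]
        simp only [toNatVec_apply]
        have := hpos w
        change γ w < ((hh I u v w (γ u).toNat (γ v).toNat : ℕ) : ℤ) at hlt
        omega

lemma region_interval (h : Axes u v w) [Finite {γ : Fin 3 →₀ ℕ // γ ∉ exps I}]
    {α γ γ' δ : Fin 3 → ℤ} (hγ : γ ∈ region I α) (hγ' : γ' ∈ region I α)
    (hu : δ u = γ u) (hv : δ v = γ v) (hu' : δ u = γ' u) (hv' : δ v = γ' v)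
    (h1 : γ w ≤ δ w) (h2 : δ w ≤ γ' w) : δ ∈ region I α := by
  rw [mem_region_iff3 h] at hγ hγ' ⊢
  obtain ⟨a1, a2, a3⟩ := hγ
  obtain ⟨b1, b2, b3⟩ := hγ'
  refine ⟨fun l => ?_, ?_, ?_⟩
  · rcases h.cov l with hl | hl | hl
    · rw [hl, hu]; exact a1 _
    · rw [hl, hv]; exact a1 _
    · rw [hl]; exact (a1 _).trans h1
  · rw [hu, hv]; omega
  · rcases b3 with ⟨l, hl⟩ | hlt
    · left
      rcases h.cov l with hl' | hl' | hl'
      · exact ⟨u, by rw [hu', ← hl']; exact hl⟩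
      · exact ⟨v, by rw [hv', ← hl']; exact hl⟩
      · exact ⟨w, lt_of_le_of_lt h2 (by rw [← hl']; exact hl)⟩
    · right; rw [hu', hv']; omega

lemma conn_col (h : Axes u v w) [Finite {γ : Fin 3 →₀ ℕ // γ ∉ exps I}] {α : Fin 3 → ℤ}
    {F : region I α → k} (hF : F ∈ CS I α) :
    ∀ (n : ℕ) (γ γ' : region I α), γ'.1 u = γ.1 u → γ'.1 v = γ.1 v →
      γ'.1 w = γ.1 w + n → F γ = F γ' := by
  intro n
  induction n with
  | zero =>
    intro γ γ' hu hv hw
    have : γ = γ' := Subtype.ext (ext3 h hu.symm hv.symm (by rw [hw]; simp))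
    rw [this]
  | succ n ih =>
    intro γ γ' hu hv hw
    obtain ⟨s1, s2, s3⟩ := sub_single_w h γ'.1
    have hδ : γ'.1 - Pi.single w 1 ∈ region I α := by
      apply region_interval h γ.2 γ'.2
      · rw [s1, hu]
      · rw [s2, hv]
      · rw [s1]
      · rw [s2]
      · rw [s3, hw]; push_cast; omega
      · rw [s3]; omega
    have e1 := ih γ ⟨_, hδ⟩ (by show (γ'.1 - Pi.single w 1 : Fin 3 → ℤ) u = _; rw [s1, hu])
      (by show (γ'.1 - Pi.single w 1 : Fin 3 → ℤ) v = _; rw [s2, hv])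
      (by show (γ'.1 - Pi.single w 1 : Fin 3 → ℤ) w = _; rw [s3, hw]; push_cast; ring)
    have e2 : F ⟨_, hδ⟩ = F γ' := hF.1 _ _ ⟨w, by simp⟩
    exact e1.trans e2

lemma conn_col' (h : Axes u v w) [Finite {γ : Fin 3 →₀ ℕ // γ ∉ exps I}] {α : Fin 3 → ℤ}
    {F : region I α → k} (hF : F ∈ CS I α) (γ γ' : region I α)
    (hu : γ.1 u = γ'.1 u) (hv : γ.1 v = γ'.1 v) : F γ = F γ' := by
  rcases le_total (γ.1 w) (γ'.1 w) with hle | hle
  · obtain ⟨n, hn⟩ := Int.eq_ofNat_of_zero_le (sub_nonneg.2 hle)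
    exact conn_col h hF n γ γ' hu.symm hv.symm (by omega)
  · obtain ⟨n, hn⟩ := Int.eq_ofNat_of_zero_le (sub_nonneg.2 hle)
    exact (conn_col h hF n γ' γ hu hv (by omega)).symm

end Groth.Agent.Helper25.HilbCol
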