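import Mathlib
import Groth.Agent.Lib.Helper25.HilbCol

/-! Collapse of the regions of multidegrees `(i, j, -s)` and `(-i-1, -j-1, s-1)` to planar graphs. -/

namespace Groth.Agent.Helper25.HilbCol

open MvPolynomial W4c1hilbpn Module
open Groth.Agent.Helper25.HilbTgt Groth.Agent.Helper25.HilbLC Groth.Agent.Helper25.HilbCS
open Groth.Agent.Helper25.HilbPlanar Groth.Agent.Helper25.HilbThree

variable {k : Type*} [Field k] {I : Ideal (MvPolynomial (Fin 3) k)} {u v w : Fin 3}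

/-- the Young diagram `{h ≥ s}` -/
noncomputable def Lset (I : Ideal (MvPolynomial (Fin 3) k)) (u v w : Fin 3) (M s : ℕ) : Finset Pt :=
  ((Finset.Ico (0 : ℤ) M) ×ˢ (Finset.Ico (0 : ℤ) M)).filter (fun p => s ≤ hZ I u v w p)

def pvP (I : Ideal (MvPolynomial (Fin 3) k)) (u v w : Fin 3) (i j s : ℕ) : Pt → Prop :=
  fun p => hZ I u v w p < s + hZ I u v w (p.1 + i, p.2 + j)
def pxP (I : Ideal (MvPolynomial (Fin 3) k)) (u v w : Fin 3) (i j s : ℕ) : Pt → Prop :=
  fun p => hZ I u v w p < s + hZ I u v w (p.1 + i + 1, p.2 + j)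
def pyP (I : Ideal (MvPolynomial (Fin 3) k)) (u v w : Fin 3) (i j s : ℕ) : Pt → Prop :=
  fun p => hZ I u v w p < s + hZ I u v w (p.1 + i, p.2 + j + 1)
def pfP (I : Ideal (MvPolynomial (Fin 3) k)) (u v w : Fin 3) (i j s : ℕ) : Pt → Prop :=
  fun p => hZ I u v w p < s + hZ I u v w (p.1 + i + 1, p.2 + j + 1)

noncomputable instance (i j s : ℕ) : DecidablePred (pvP I u v w i j s) := fun _ => Nat.decLt _ _
noncomputable instance (i j s : ℕ) : DecidablePred (pxP I u v w i j s) := fun _ => Nat.decLt _ _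
noncomputable instance (i j s : ℕ) : DecidablePred (pyP I u v w i j s) := fun _ => Nat.decLt _ _
noncomputable instance (i j s : ℕ) : DecidablePred (pfP I u v w i j s) := fun _ => Nat.decLt _ _

lemma mem_Lset {M : ℕ} (hM : IsBound I u v w M) {s : ℕ} (hs : 1 ≤ s) {p : Pt} :
    p ∈ Lset I u v w M s ↔ 0 ≤ p.1 ∧ 0 ≤ p.2 ∧ s ≤ hZ I u v w p := by
  unfold Lset
  rw [Finset.mem_filter, Finset.mem_product, Finset.mem_Ico, Finset.mem_Ico]
  constructor
  · rintro ⟨⟨⟨h1, -⟩, ⟨h2, -⟩⟩, h3⟩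
    exact ⟨h1, h2, h3⟩
  · rintro ⟨h1, h2, h3⟩
    have hpos : 0 < hh I u v w p.1.toNat p.2.toNat := by
      have : hZ I u v w p = hh I u v w p.1.toNat p.2.toNat := rfl
      omega
    obtain ⟨b1, b2⟩ := (hM _ _).1 hpos
    refine ⟨⟨⟨h1, ?_⟩, ⟨h2, ?_⟩⟩, h3⟩ <;> omega

/-- prove `hZ P' ≤ hZ P` from coordinatewise inequalities -/
macro "hzle" h:term : tactic =>
  `(tactic| (apply hZ_anti $h <;> (dsimp only [pr, pu, pl, pd]; omega)))

lemma planar (h : Axes u v w) [Finite {γ : Fin 3 →₀ ℕ // γ ∉ exps I}] {M : ℕ}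
    (hM : IsBound I u v w M) (i j : ℕ) {s : ℕ} (hs : 1 ≤ s) :
    Planar (Lset I u v w M s) (pvP I u v w i j s) (pxP I u v w i j s) (pyP I u v w i j s)
      (pfP I u v w i j s) where
  nn p hp := by
    obtain ⟨h1, h2, -⟩ := (mem_Lset hM hs).1 hp
    exact ⟨h1, h2⟩
  dl p hp h0 := by
    obtain ⟨h1, h2, h3⟩ := (mem_Lset hM hs).1 hp
    rw [mem_Lset hM hs]
    have a1 : hZ I u v w p ≤ hZ I u v w (pl p) := by hzle h
    exact ⟨by show 0 ≤ p.1 - 1; omega, h2, h3.trans a1⟩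
  dd p hp h0 := by
    obtain ⟨h1, h2, h3⟩ := (mem_Lset hM hs).1 hp
    rw [mem_Lset hM hs]
    have a1 : hZ I u v w p ≤ hZ I u v w (pd p) := by hzle h
    exact ⟨h1, by show 0 ≤ p.2 - 1; omega, h3.trans a1⟩
  cx p _ hx := by
    have hx' : hZ I u v w p < s + hZ I u v w (p.1 + i + 1, p.2 + j) := hx
    have a1 : hZ I u v w (p.1 + i + 1, p.2 + j) ≤ hZ I u v w (p.1 + i, p.2 + j) := by hzle h
    have a2 : hZ I u v w (pr p) ≤ hZ I u v w p := by hzle h
    have a3 : hZ I u v w (p.1 + i + 1, p.2 + j) ≤ hZ I u v w ((pr p).1 + i, (pr p).2 + j) := by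
      hzle h
    refine ⟨?_, ?_⟩
    · show hZ I u v w p < s + hZ I u v w (p.1 + i, p.2 + j)
      omega
    · show hZ I u v w (pr p) < s + hZ I u v w ((pr p).1 + i, (pr p).2 + j)
      omega
  cy p _ hy := by
    have hy' : hZ I u v w p < s + hZ I u v w (p.1 + i, p.2 + j + 1) := hy
    have a1 : hZ I u v w (p.1 + i, p.2 + j + 1) ≤ hZ I u v w (p.1 + i, p.2 + j) := by hzle h
    have a2 : hZ I u v w (pu p) ≤ hZ I u v w p := by hzle h
    have a3 : hZ I u v w (p.1 + i, p.2 + j + 1) ≤ hZ I u v w ((pu p).1 + i, (pu p).2 + j) := by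
      hzle h
    refine ⟨?_, ?_⟩
    · show hZ I u v w p < s + hZ I u v w (p.1 + i, p.2 + j)
      omega
    · show hZ I u v w (pu p) < s + hZ I u v w ((pu p).1 + i, (pu p).2 + j)
      omega
  cf p _ hf := by
    have hf' : hZ I u v w p < s + hZ I u v w (p.1 + i + 1, p.2 + j + 1) := hf
    have a1 : hZ I u v w (p.1 + i + 1, p.2 + j + 1) ≤ hZ I u v w (p.1 + i + 1, p.2 + j) := by
      hzle h
    have a2 : hZ I u v w (p.1 + i + 1, p.2 + j + 1) ≤ hZ I u v w (p.1 + i, p.2 + j + 1) := by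
      hzle h
    have a3 : hZ I u v w (pu p) ≤ hZ I u v w p := by hzle h
    have a4 : hZ I u v w (pr p) ≤ hZ I u v w p := by hzle h
    have a5 : hZ I u v w (p.1 + i + 1, p.2 + j + 1) ≤
        hZ I u v w ((pu p).1 + i + 1, (pu p).2 + j) := by hzle h
    have a6 : hZ I u v w (p.1 + i + 1, p.2 + j + 1) ≤
        hZ I u v w ((pr p).1 + i, (pr p).2 + j + 1) := by hzle h
    refine ⟨?_, ?_, ?_, ?_⟩
    · show hZ I u v w p < s + hZ I u v w (p.1 + i + 1, p.2 + j)
      omega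
    · show hZ I u v w p < s + hZ I u v w (p.1 + i, p.2 + j + 1)
      omega
    · show hZ I u v w (pu p) < s + hZ I u v w ((pu p).1 + i + 1, (pu p).2 + j)
      omega
    · show hZ I u v w (pr p) < s + hZ I u v w ((pr p).1 + i, (pr p).2 + j + 1)
      omega

/-- the multidegree `(i, j, -s)` -/
def alI (u v w : Fin 3) (i j s : ℕ) : Fin 3 → ℤ := mk3 u v w i j (-(s : ℤ))

lemma mem_regionI (h : Axes u v w) [Finite {γ : Fin 3 →₀ ℕ // γ ∉ exps I}] (i j s : ℕ)
    (x y z : ℤ) :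
    mk3 u v w x y z ∈ region I (alI u v w i j s) ↔
      (i : ℤ) ≤ x ∧ (j : ℤ) ≤ y ∧ ((hZ I u v w (x - i, y - j) : ℕ) : ℤ) - s ≤ z ∧
        z < ((hZ I u v w (x, y) : ℕ) : ℤ) := by
  rw [mem_region_iff3 h]
  simp only [alI, mk3_u h, mk3_v h, mk3_w h]
  constructor
  · rintro ⟨h1, h2, h3⟩
    have hu := h1 u
    have hv := h1 v
    rw [mk3_u h, mk3_u h] at hu
    rw [mk3_v h, mk3_v h] at hv
    refine ⟨hu, hv, by omega, ?_⟩
    rcases h3 with ⟨l, hl⟩ | hlt
    · rcases h.cov l with hl' | hl' | hl'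
      · rw [hl', mk3_u h] at hl; omega
      · rw [hl', mk3_v h] at hl; omega
      · rw [hl', mk3_w h] at hl; omega
    · exact hlt
  · rintro ⟨h1, h2, h3, h4⟩
    refine ⟨fun l => ?_, by omega, Or.inr h4⟩
    rcases h.cov l with hl' | hl' | hl'
    · rw [hl', mk3_u h, mk3_u h]; exact h1
    · rw [hl', mk3_v h, mk3_v h]; exact h2
    · rw [hl', mk3_w h, mk3_w h]; omega

theorem finrank_typeI (h : Axes u v w) (hI : IsMonomial I)
    [Finite {γ : Fin 3 →₀ ℕ // γ ∉ exps I}] {M : ℕ} (hM : IsBound I u v w M) (i j : ℕ) {s : ℕ}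
    (hs : 1 ≤ s) :
    finrank k ↥(tPiece I (alI u v w i j s)) =
      finrank k ↥(LCS k (EI (Lset I u v w M s) (pxP I u v w i j s) (pyP I u v w i j s))
        (ZI (Lset I u v w M s) (pvP I u v w i j s))) := by
  rw [finrank_tPiece_eq_CS hI]
  symm
  apply collapse (fun γ : region I (alI u v w i j s) => ((γ.1 u - i, γ.1 v - j) : Pt))
  -- (a)
  · rintro ⟨a, b⟩
    by_cases hp : ((a, b) : Pt) ∈ ZI (Lset I u v w M s) (pvP I u v w i j s)
    · exact Or.inl hp
    · right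
      have hp' : ((a, b) : Pt) ∈ Lset I u v w M s ∧ pvP I u v w i j s (a, b) := by
        by_contra hcon
        apply hp
        by_cases hL : ((a, b) : Pt) ∈ Lset I u v w M s
        · exact Or.inr (fun hv => hcon ⟨hL, hv⟩)
        · exact Or.inl hL
      obtain ⟨hL, hv⟩ := hp'
      obtain ⟨p1, p2, p3⟩ := (mem_Lset hM hs).1 hL
      have hv' : hZ I u v w (a, b) < s + hZ I u v w (a + i, b + j) := hv
      have e : hZ I u v w (a + i - i, b + j - j) = hZ I u v w (a, b) :=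
        hZ_eq (by ring) (by ring)
      have hmem : mk3 u v w (a + i) (b + j) ((hZ I u v w (a + i, b + j) : ℤ) - 1) ∈
          region I (alI u v w i j s) := by
        rw [mem_regionI h, e]
        dsimp only at p1 p2
        refine ⟨by omega, by omega, by omega, by omega⟩
      refine ⟨⟨_, hmem⟩, ?_⟩
      exact Prod.ext (by simp [mk3_u h]) (by simp [mk3_v h])
  -- (b)
  · rintro ⟨γ, hγ⟩ ⟨γ', hγ'⟩ ⟨l, hl⟩ f hf
    replace hl : γ' = γ + Pi.single l 1 := hl
    subst hl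
    obtain ⟨x, y, z, rfl⟩ : ∃ x y z, γ = mk3 u v w x y z := ⟨_, _, _, eq_mk3 h γ⟩
    have hγ0 := (mem_regionI h i j s x y z).1 hγ
    obtain ⟨g1, g2, g3, g4⟩ := hγ0
    rcases h.cov l with hl' | hl' | hl'
    · subst hl'
      rw [mk3_add_u] at hγ'
      have hγ1 := (mem_regionI h i j s (x + 1) y z).1 hγ'
      obtain ⟨g1', g2', g3', g4'⟩ := hγ1
      show f (mk3 l v w x y z l - i, mk3 l v w x y z v - j) =
        f ((mk3 l v w x y z + Pi.single l 1 : Fin 3 → ℤ) l - i,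
          (mk3 l v w x y z + Pi.single l 1 : Fin 3 → ℤ) v - j)
      rw [mk3_add_u, mk3_u h, mk3_v h, mk3_u h, mk3_v h]
      have e1 : hZ I l v w (x - i + i + 1, y - j + j) = hZ I l v w (x + 1, y) :=
        hZ_eq (by ring) (by ring)
      have hpx : pxP I l v w i j s (x - i, y - j) := by
        show hZ I l v w (x - i, y - j) < s + hZ I l v w (x - i + i + 1, y - j + j)
        rw [e1]; omega
      have epr : ((x + 1 - i, y - j) : Pt) = pr (x - i, y - j) :=
        Prod.ext (by simp only [pr]; ring) rfl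
      by_cases hL : ((x - i, y - j) : Pt) ∈ Lset I l v w M s
      · rw [epr]
        exact hf.1 _ _ (Or.inl ⟨rfl, hL, hpx⟩)
      · have hL' : ((x + 1 - i, y - j) : Pt) ∉ Lset I l v w M s := by
          rw [mem_Lset hM hs] at hL ⊢
          rintro ⟨-, -, h3⟩
          have a1 : hZ I l v w (x + 1 - i, y - j) ≤ hZ I l v w (x - i, y - j) := by hzle h
          exact hL ⟨by dsimp only; omega, by dsimp only; omega, h3.trans a1⟩
        rw [hf.2 _ (Or.inl hL), hf.2 _ (Or.inl hL')]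
    · subst hl'
      rw [mk3_add_v] at hγ'
      have hγ1 := (mem_regionI h i j s x (y + 1) z).1 hγ'
      obtain ⟨g1', g2', g3', g4'⟩ := hγ1
      show f (mk3 u l w x y z u - i, mk3 u l w x y z l - j) =
        f ((mk3 u l w x y z + Pi.single l 1 : Fin 3 → ℤ) u - i,
          (mk3 u l w x y z + Pi.single l 1 : Fin 3 → ℤ) l - j)
      rw [mk3_add_v, mk3_u h, mk3_v h, mk3_u h, mk3_v h]
      have e1 : hZ I u l w (x - i + i, y - j + j + 1) = hZ I u l w (x, y + 1) :=
        hZ_eq (by ring) (by ring)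
      have hpy : pyP I u l w i j s (x - i, y - j) := by
        show hZ I u l w (x - i, y - j) < s + hZ I u l w (x - i + i, y - j + j + 1)
        rw [e1]; omega
      have epu : ((x - i, y + 1 - j) : Pt) = pu (x - i, y - j) :=
        Prod.ext rfl (by simp only [pu]; ring)
      by_cases hL : ((x - i, y - j) : Pt) ∈ Lset I u l w M s
      · rw [epu]
        exact hf.1 _ _ (Or.inr ⟨rfl, hL, hpy⟩)
      · have hL' : ((x - i, y + 1 - j) : Pt) ∉ Lset I u l w M s := by
          rw [mem_Lset hM hs] at hL ⊢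
          rintro ⟨-, -, h3⟩
          have a1 : hZ I u l w (x - i, y + 1 - j) ≤ hZ I u l w (x - i, y - j) := by hzle h
          exact hL ⟨by dsimp only; omega, by dsimp only; omega, h3.trans a1⟩
        rw [hf.2 _ (Or.inl hL), hf.2 _ (Or.inl hL')]
    · subst hl'
      show f (mk3 u v l x y z u - i, mk3 u v l x y z v - j) =
        f ((mk3 u v l x y z + Pi.single l 1 : Fin 3 → ℤ) u - i,
          (mk3 u v l x y z + Pi.single l 1 : Fin 3 → ℤ) v - j)
      rw [mk3_add_w, mk3_u h, mk3_v h, mk3_u h, mk3_v h]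
  -- (e)
  · rintro ⟨γ, hγ⟩ ⟨l, hl⟩ f hf
    obtain ⟨x, y, z, rfl⟩ : ∃ x y z, γ = mk3 u v w x y z := ⟨_, _, _, eq_mk3 h γ⟩
    obtain ⟨g1, g2, g3, g4⟩ := (mem_regionI h i j s x y z).1 hγ
    refine hf.2 _ (Or.inl fun hL => ?_)
    rw [mem_Lset hM hs] at hL
    simp only [mk3_u h, mk3_v h] at hL
    obtain ⟨-, -, h3⟩ := hL
    replace hl : mk3 u v w x y z l < 0 := hl
    rcases h.cov l with hl' | hl' | hl'
    · rw [hl', mk3_u h] at hl; omega
    · rw [hl', mk3_v h] at hl; omega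
    · rw [hl', mk3_w h] at hl; omega
  -- (c)
  · rintro ⟨γ, hγ⟩ ⟨γ', hγ'⟩ hπ F hF
    have h1 : γ u - i = γ' u - i := congrArg Prod.fst hπ
    have h2 : γ v - j = γ' v - j := congrArg Prod.snd hπ
    exact conn_col' h hF _ _ (by show γ u = γ' u; omega) (by show γ v = γ' v; omega)
  -- (f)
  · rintro ⟨γ, hγ⟩ hπ F hF
    obtain ⟨x, y, z, rfl⟩ : ∃ x y z, γ = mk3 u v w x y z := ⟨_, _, _, eq_mk3 h γ⟩
    obtain ⟨g1, g2, g3, g4⟩ := (mem_regionI h i j s x y z).1 hγ
    replace hπ : ((mk3 u v w x y z u - i, mk3 u v w x y z v - j) : Pt) ∈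
      ZI (Lset I u v w M s) (pvP I u v w i j s) := hπ
    rw [mk3_u h, mk3_v h] at hπ
    have e1 : hZ I u v w (x - i + i, y - j + j) = hZ I u v w (x, y) := hZ_eq (by ring) (by ring)
    have hlt : hZ I u v w (x - i, y - j) < s := by
      rcases hπ with hL | hv
      · rw [mem_Lset hM hs] at hL
        by_contra hcon
        push_neg at hcon
        exact hL ⟨by dsimp only; omega, by dsimp only; omega, hcon⟩
      · exfalso
        apply hv
        show hZ I u v w (x - i, y - j) < s + hZ I u v w (x - i + i, y - j + j)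
        rw [e1]; omega
    have hmem0 : mk3 u v w x y ((hZ I u v w (x - i, y - j) : ℤ) - s) ∈
        region I (alI u v w i j s) := by
      rw [mem_regionI h]
      exact ⟨g1, g2, le_rfl, by omega⟩
    have e2 : F ⟨_, hγ⟩ = F ⟨_, hmem0⟩ :=
      conn_col' h hF _ _ (by show mk3 u v w x y z u = mk3 u v w x y _ u; rw [mk3_u h, mk3_u h])
        (by show mk3 u v w x y z v = mk3 u v w x y _ v; rw [mk3_v h, mk3_v h])
    rw [e2]
    exact hF.2 _ ⟨w, by show mk3 u v w x y _ w < 0; rw [mk3_w h]; omega⟩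
  -- (d)
  · rintro ⟨a, b⟩ p' (⟨rfl, hL, hx⟩ | ⟨rfl, hL, hy⟩)
    · obtain ⟨p1, p2, p3⟩ := (mem_Lset hM hs).1 hL
      dsimp only at p1 p2
      have hx' : hZ I u v w (a, b) < s + hZ I u v w (a + i + 1, b + j) := hx
      have e0 : hZ I u v w (a + i - i, b + j - j) = hZ I u v w (a, b) := hZ_eq (by ring) (by ring)
      have a1 : hZ I u v w (a + i + 1, b + j) ≤ hZ I u v w (a + i, b + j) := by hzle h
      have a2 : hZ I u v w (a + i + 1 - i, b + j - j) ≤ hZ I u v w (a, b) := by hzle h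
      have hm1 : mk3 u v w (a + i) (b + j) ((hZ I u v w (a + i + 1, b + j) : ℤ) - 1) ∈
          region I (alI u v w i j s) := by
        rw [mem_regionI h, e0]
        refine ⟨by omega, by omega, by omega, by omega⟩
      have hm2 : mk3 u v w (a + i + 1) (b + j) ((hZ I u v w (a + i + 1, b + j) : ℤ) - 1) ∈
          region I (alI u v w i j s) := by
        rw [mem_regionI h]
        refine ⟨by omega, by omega, by omega, by omega⟩
      refine ⟨⟨_, hm1⟩, ⟨_, hm2⟩, ?_, ?_, fun F hF => hF.1 _ _ ⟨u, (mk3_add_u _ _ _ _ _ _).symm⟩⟩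
      · exact Prod.ext (by simp [mk3_u h]) (by simp [mk3_v h])
      · exact Prod.ext (by simp [mk3_u h, pr]; ring) (by simp [mk3_v h, pr])
    · obtain ⟨p1, p2, p3⟩ := (mem_Lset hM hs).1 hL
      dsimp only at p1 p2
      have hy' : hZ I u v w (a, b) < s + hZ I u v w (a + i, b + j + 1) := hy
      have e0 : hZ I u v w (a + i - i, b + j - j) = hZ I u v w (a, b) := hZ_eq (by ring) (by ring)
      have a1 : hZ I u v w (a + i, b + j + 1) ≤ hZ I u v w (a + i, b + j) := by hzle h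
      have a2 : hZ I u v w (a + i - i, b + j + 1 - j) ≤ hZ I u v w (a, b) := by hzle h
      have hm1 : mk3 u v w (a + i) (b + j) ((hZ I u v w (a + i, b + j + 1) : ℤ) - 1) ∈
          region I (alI u v w i j s) := by
        rw [mem_regionI h, e0]
        refine ⟨by omega, by omega, by omega, by omega⟩
      have hm2 : mk3 u v w (a + i) (b + j + 1) ((hZ I u v w (a + i, b + j + 1) : ℤ) - 1) ∈
          region I (alI u v w i j s) := by
        rw [mem_regionI h]
        refine ⟨by omega, by omega, by omega, by omega⟩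
      refine ⟨⟨_, hm1⟩, ⟨_, hm2⟩, ?_, ?_, fun F hF => hF.1 _ _ ⟨v, (mk3_add_v _ _ _ _ _ _).symm⟩⟩
      · exact Prod.ext (by simp [mk3_u h]) (by simp [mk3_v h])
      · exact Prod.ext (by simp [mk3_u h, pu]) (by simp [mk3_v h, pu]; ring)

end Groth.Agent.Helper25.HilbCol
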