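import Mathlib
import Groth.Agent.Lib.Helper25.HilbColB

/-! Collapse of the region of multidegree `(-i-1, -j-1, s-1)` to the dual planar graph, and the
Euler identity relating the two graded pieces. -/

namespace Groth.Agent.Helper25.HilbCol

open MvPolynomial W4c1hilbpn Module
open Groth.Agent.Helper25.HilbTgt Groth.Agent.Helper25.HilbLC Groth.Agent.Helper25.HilbCS
open Groth.Agent.Helper25.HilbPlanar Groth.Agent.Helper25.HilbThree

variable {k : Type*} [Field k] {I : Ideal (MvPolynomial (Fin 3) k)} {u v w : Fin 3}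

/-- the multidegree `(-i-1, -j-1, s-1)` -/
def alII (u v w : Fin 3) (i j s : ℕ) : Fin 3 → ℤ :=
  mk3 u v w (-(i : ℤ) - 1) (-(j : ℤ) - 1) ((s : ℤ) - 1)

lemma mem_regionII (h : Axes u v w) [Finite {γ : Fin 3 →₀ ℕ // γ ∉ exps I}] (i j : ℕ) {s : ℕ}
    (hs : 1 ≤ s) (x y z : ℤ) :
    mk3 u v w x y z ∈ region I (alII u v w i j s) ↔
      -(i : ℤ) - 1 ≤ x ∧ -(j : ℤ) - 1 ≤ y ∧
        ((hZ I u v w (x + i + 1, y + j + 1) : ℕ) : ℤ) + s - 1 ≤ z ∧
        (x < 0 ∨ y < 0 ∨ z < ((hZ I u v w (x, y) : ℕ) : ℤ)) := by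
  rw [mem_region_iff3 h]
  have e : hZ I u v w (mk3 u v w x y z u - alII u v w i j s u,
      mk3 u v w x y z v - alII u v w i j s v) = hZ I u v w (x + i + 1, y + j + 1) :=
    hZ_eq (by rw [alII, mk3_u h, mk3_u h]; ring) (by rw [alII, mk3_v h, mk3_v h]; ring)
  have ew : mk3 u v w x y z w - alII u v w i j s w = z - ((s : ℤ) - 1) := by
    rw [alII, mk3_w h, mk3_w h]
  rw [e, ew, mk3_u h, mk3_v h, mk3_w h]
  constructor
  · rintro ⟨h1, h2, h3⟩
    have hu := h1 u
    have hv := h1 v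
    rw [alII, mk3_u h, mk3_u h] at hu
    rw [alII, mk3_v h, mk3_v h] at hv
    refine ⟨hu, hv, by omega, ?_⟩
    rcases h3 with ⟨l, hl⟩ | hlt
    · rcases h.cov l with hl' | hl' | hl'
      · rw [hl', mk3_u h] at hl; exact Or.inl hl
      · rw [hl', mk3_v h] at hl; exact Or.inr (Or.inl hl)
      · rw [hl', mk3_w h] at hl; omega
    · exact Or.inr (Or.inr hlt)
  · rintro ⟨h1, h2, h3, h4⟩
    refine ⟨fun l => ?_, by omega, ?_⟩
    · rcases h.cov l with hl' | hl' | hl'
      · rw [hl', alII, mk3_u h, mk3_u h]; exact h1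
      · rw [hl', alII, mk3_v h, mk3_v h]; exact h2
      · rw [hl', alII, mk3_w h, mk3_w h]; omega
    · rcases h4 with h4 | h4 | h4
      · exact Or.inl ⟨u, by rw [mk3_u h]; exact h4⟩
      · exact Or.inl ⟨v, by rw [mk3_v h]; exact h4⟩
      · exact Or.inr h4

theorem finrank_typeII (h : Axes u v w) (hI : IsMonomial I)
    [Finite {γ : Fin 3 →₀ ℕ // γ ∉ exps I}] {M : ℕ} (hM : IsBound I u v w M) (i j : ℕ) {s : ℕ}
    (hs : 1 ≤ s) :
    finrank k ↥(tPiece I (alII u v w i j s)) =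
      finrank k ↥(LCS k (EII (Lset I u v w M s) (pxP I u v w i j s) (pyP I u v w i j s))
        (ZII (Lset I u v w M s) (pfP I u v w i j s))) := by
  rw [finrank_tPiece_eq_CS hI]
  symm
  apply collapse (fun γ : region I (alII u v w i j s) => ((γ.1 u, γ.1 v) : Pt))
  -- (a)
  · rintro ⟨a, b⟩
    by_cases hp : ((a, b) : Pt) ∈ ZII (Lset I u v w M s) (pfP I u v w i j s)
    · exact Or.inl hp
    · right
      have hp' : ((a, b) : Pt) ∈ Lset I u v w M s ∧ ¬ pfP I u v w i j s (a, b) := by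
        by_contra hcon
        apply hp
        by_cases hL : ((a, b) : Pt) ∈ Lset I u v w M s
        · right
          by_contra hf
          exact hcon ⟨hL, hf⟩
        · exact Or.inl hL
      obtain ⟨hL, hnf⟩ := hp'
      obtain ⟨p1, p2, p3⟩ := (mem_Lset hM hs).1 hL
      dsimp only at p1 p2
      have hnf' : ¬ (hZ I u v w (a, b) < s + hZ I u v w (a + i + 1, b + j + 1)) := hnf
      have hmem : mk3 u v w a b ((hZ I u v w (a, b) : ℤ) - 1) ∈ region I (alII u v w i j s) := by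
        rw [mem_regionII h i j hs]
        refine ⟨by omega, by omega, by omega, Or.inr (Or.inr (by omega))⟩
      refine ⟨⟨_, hmem⟩, ?_⟩
      exact Prod.ext (by simp [mk3_u h]) (by simp [mk3_v h])
  -- (b)
  · rintro ⟨γ, hγ⟩ ⟨γ', hγ'⟩ ⟨l, hl⟩ f hf
    replace hl : γ' = γ + Pi.single l 1 := hl
    subst hl
    obtain ⟨x, y, z, rfl⟩ : ∃ x y z, γ = mk3 u v w x y z := ⟨_, _, _, eq_mk3 h γ⟩
    obtain ⟨g1, g2, g3, g4⟩ := (mem_regionII h i j hs x y z).1 hγ
    rcases h.cov l with hl' | hl' | hl'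
    · subst hl'
      rw [mk3_add_u] at hγ'
      obtain ⟨g1', g2', g3', g4'⟩ := (mem_regionII h i j hs (x + 1) y z).1 hγ'
      show f (mk3 l v w x y z l, mk3 l v w x y z v) =
        f ((mk3 l v w x y z + Pi.single l 1 : Fin 3 → ℤ) l,
          (mk3 l v w x y z + Pi.single l 1 : Fin 3 → ℤ) v)
      rw [mk3_add_u, mk3_u h, mk3_v h, mk3_u h, mk3_v h]
      by_cases hnn : 0 ≤ x + 1 ∧ 0 ≤ y
      · have hlt : z < ((hZ I l v w (x + 1, y) : ℕ) : ℤ) := by omega
        have hL : ((x + 1, y) : Pt) ∈ Lset I l v w M s := by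
          rw [mem_Lset hM hs]
          exact ⟨hnn.1, hnn.2, by omega⟩
        have e1 : hZ I l v w (x + 1 + i, y + j + 1) = hZ I l v w (x + i + 1, y + j + 1) :=
          hZ_eq (by ring) rfl
        have hnpy : ¬ pyP I l v w i j s (x + 1, y) := by
          show ¬ (hZ I l v w (x + 1, y) < s + hZ I l v w (x + 1 + i, y + j + 1))
          rw [e1]; omega
        have epl : ((x, y) : Pt) = pl (x + 1, y) := Prod.ext (by simp only [pl]; ring) rfl
        exact hf.1 _ _ (Or.inr ⟨epl, hL, hnpy⟩)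
      · have hL1 : ((x, y) : Pt) ∉ Lset I l v w M s := by
          rw [mem_Lset hM hs]
          rintro ⟨q1, q2, -⟩
          dsimp only at q1 q2
          exact hnn ⟨by omega, q2⟩
        have hL2 : ((x + 1, y) : Pt) ∉ Lset I l v w M s := by
          rw [mem_Lset hM hs]
          rintro ⟨q1, q2, -⟩
          exact hnn ⟨q1, q2⟩
        rw [hf.2 _ (Or.inl hL1), hf.2 _ (Or.inl hL2)]
    · subst hl'
      rw [mk3_add_v] at hγ'
      obtain ⟨g1', g2', g3', g4'⟩ := (mem_regionII h i j hs x (y + 1) z).1 hγ'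
      show f (mk3 u l w x y z u, mk3 u l w x y z l) =
        f ((mk3 u l w x y z + Pi.single l 1 : Fin 3 → ℤ) u,
          (mk3 u l w x y z + Pi.single l 1 : Fin 3 → ℤ) l)
      rw [mk3_add_v, mk3_u h, mk3_v h, mk3_u h, mk3_v h]
      by_cases hnn : 0 ≤ x ∧ 0 ≤ y + 1
      · have hlt : z < ((hZ I u l w (x, y + 1) : ℕ) : ℤ) := by omega
        have hL : ((x, y + 1) : Pt) ∈ Lset I u l w M s := by
          rw [mem_Lset hM hs]
          exact ⟨hnn.1, hnn.2, by omega⟩
        have e1 : hZ I u l w (x + i + 1, y + 1 + j) = hZ I u l w (x + i + 1, y + j + 1) :=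
          hZ_eq rfl (by ring)
        have hnpx : ¬ pxP I u l w i j s (x, y + 1) := by
          show ¬ (hZ I u l w (x, y + 1) < s + hZ I u l w (x + i + 1, y + 1 + j))
          rw [e1]; omega
        have epd : ((x, y) : Pt) = pd (x, y + 1) := Prod.ext rfl (by simp only [pd]; ring)
        exact hf.1 _ _ (Or.inl ⟨epd, hL, hnpx⟩)
      · have hL1 : ((x, y) : Pt) ∉ Lset I u l w M s := by
          rw [mem_Lset hM hs]
          rintro ⟨q1, q2, -⟩
          dsimp only at q1 q2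
          exact hnn ⟨q1, by omega⟩
        have hL2 : ((x, y + 1) : Pt) ∉ Lset I u l w M s := by
          rw [mem_Lset hM hs]
          rintro ⟨q1, q2, -⟩
          exact hnn ⟨q1, q2⟩
        rw [hf.2 _ (Or.inl hL1), hf.2 _ (Or.inl hL2)]
    · subst hl'
      show f (mk3 u v l x y z u, mk3 u v l x y z v) =
        f ((mk3 u v l x y z + Pi.single l 1 : Fin 3 → ℤ) u,
          (mk3 u v l x y z + Pi.single l 1 : Fin 3 → ℤ) v)
      rw [mk3_add_w, mk3_u h, mk3_v h, mk3_u h, mk3_v h]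
  -- (e)
  · rintro ⟨γ, hγ⟩ ⟨l, hl⟩ f hf
    obtain ⟨x, y, z, rfl⟩ : ∃ x y z, γ = mk3 u v w x y z := ⟨_, _, _, eq_mk3 h γ⟩
    obtain ⟨g1, g2, g3, g4⟩ := (mem_regionII h i j hs x y z).1 hγ
    refine hf.2 _ (Or.inl fun hL => ?_)
    rw [mem_Lset hM hs] at hL
    simp only [mk3_u h, mk3_v h] at hL
    obtain ⟨q1, q2, -⟩ := hL
    replace hl : mk3 u v w x y z l < 0 := hl
    rcases h.cov l with hl' | hl' | hl'
    · rw [hl', mk3_u h] at hl; omega
    · rw [hl', mk3_v h] at hl; omega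
    · rw [hl', mk3_w h] at hl; omega
  -- (c)
  · rintro ⟨γ, hγ⟩ ⟨γ', hγ'⟩ hπ F hF
    have h1 : γ u = γ' u := congrArg Prod.fst hπ
    have h2 : γ v = γ' v := congrArg Prod.snd hπ
    exact conn_col' h hF _ _ h1 h2
  -- (f)
  · rintro ⟨γ, hγ⟩ hπ F hF
    obtain ⟨x, y, z, rfl⟩ : ∃ x y z, γ = mk3 u v w x y z := ⟨_, _, _, eq_mk3 h γ⟩
    obtain ⟨g1, g2, g3, g4⟩ := (mem_regionII h i j hs x y z).1 hγ
    replace hπ : ((mk3 u v w x y z u, mk3 u v w x y z v) : Pt) ∈
      ZII (Lset I u v w M s) (pfP I u v w i j s) := hπ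
    rw [mk3_u h, mk3_v h] at hπ
    by_cases hx : x < 0
    · exact hF.2 _ ⟨u, by show mk3 u v w x y z u < 0; rw [mk3_u h]; exact hx⟩
    by_cases hy : y < 0
    · exact hF.2 _ ⟨v, by show mk3 u v w x y z v < 0; rw [mk3_v h]; exact hy⟩
    exfalso
    have hlt : z < ((hZ I u v w (x, y) : ℕ) : ℤ) := by omega
    rcases hπ with hL | hf
    · apply hL
      rw [mem_Lset hM hs]
      exact ⟨by dsimp only; omega, by dsimp only; omega, by omega⟩
    · have hf' : hZ I u v w (x, y) < s + hZ I u v w (x + i + 1, y + j + 1) := hf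
      omega
  -- (d)
  · rintro q ⟨a, b⟩ (⟨rfl, hL, hnx⟩ | ⟨rfl, hL, hny⟩)
    · obtain ⟨p1, p2, p3⟩ := (mem_Lset hM hs).1 hL
      dsimp only at p1 p2
      have hnx' : ¬ (hZ I u v w (a, b) < s + hZ I u v w (a + i + 1, b + j)) := hnx
      have a1 : hZ I u v w (a + i + 1, b + j + 1) ≤ hZ I u v w (a + i + 1, b + j) := by hzle h
      have e1 : hZ I u v w (a + i + 1, b - 1 + j + 1) = hZ I u v w (a + i + 1, b + j) :=
        hZ_eq rfl (by ring)
      have a2 : hZ I u v w (a, b) ≤ hZ I u v w (a, b - 1) := by hzle h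
      have hm' : mk3 u v w a b ((hZ I u v w (a, b) : ℤ) - 1) ∈ region I (alII u v w i j s) := by
        rw [mem_regionII h i j hs]
        refine ⟨by omega, by omega, by omega, Or.inr (Or.inr (by omega))⟩
      have hm : mk3 u v w a (b - 1) ((hZ I u v w (a, b) : ℤ) - 1) ∈
          region I (alII u v w i j s) := by
        rw [mem_regionII h i j hs, e1]
        refine ⟨by omega, by omega, by omega, ?_⟩
        by_cases hb : b - 1 < 0
        · exact Or.inr (Or.inl hb)
        · exact Or.inr (Or.inr (by omega))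
      refine ⟨⟨_, hm⟩, ⟨_, hm'⟩, ?_, ?_, fun F hF => hF.1 _ _ ⟨v, ?_⟩⟩
      · exact Prod.ext (by simp [mk3_u h, pd]) (by simp [mk3_v h, pd])
      · exact Prod.ext (by simp [mk3_u h]) (by simp [mk3_v h])
      · show mk3 u v w a b _ = mk3 u v w a (b - 1) _ + Pi.single v 1
        rw [mk3_add_v, sub_add_cancel]
    · obtain ⟨p1, p2, p3⟩ := (mem_Lset hM hs).1 hL
      dsimp only at p1 p2
      have hny' : ¬ (hZ I u v w (a, b) < s + hZ I u v w (a + i, b + j + 1)) := hny
      have a1 : hZ I u v w (a + i + 1, b + j + 1) ≤ hZ I u v w (a + i, b + j + 1) := by hzle h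
      have e1 : hZ I u v w (a - 1 + i + 1, b + j + 1) = hZ I u v w (a + i, b + j + 1) :=
        hZ_eq (by ring) rfl
      have a2 : hZ I u v w (a, b) ≤ hZ I u v w (a - 1, b) := by hzle h
      have hm' : mk3 u v w a b ((hZ I u v w (a, b) : ℤ) - 1) ∈ region I (alII u v w i j s) := by
        rw [mem_regionII h i j hs]
        refine ⟨by omega, by omega, by omega, Or.inr (Or.inr (by omega))⟩
      have hm : mk3 u v w (a - 1) b ((hZ I u v w (a, b) : ℤ) - 1) ∈
          region I (alII u v w i j s) := by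
        rw [mem_regionII h i j hs, e1]
        refine ⟨by omega, by omega, by omega, ?_⟩
        by_cases ha : a - 1 < 0
        · exact Or.inl ha
        · exact Or.inr (Or.inr (by omega))
      refine ⟨⟨_, hm⟩, ⟨_, hm'⟩, ?_, ?_, fun F hF => hF.1 _ _ ⟨u, ?_⟩⟩
      · exact Prod.ext (by simp [mk3_u h, pl]) (by simp [mk3_v h, pl])
      · exact Prod.ext (by simp [mk3_u h]) (by simp [mk3_v h])
      · show mk3 u v w a b _ = mk3 u v w (a - 1) b _ + Pi.single u 1
        rw [mk3_add_u, sub_add_cancel]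

/-- the Euler identity relating the two graded pieces -/
theorem core (h : Axes u v w) (hI : IsMonomial I)
    [Finite {γ : Fin 3 →₀ ℕ // γ ∉ exps I}] {M : ℕ} (hM : IsBound I u v w M) (i j : ℕ) {s : ℕ}
    (hs : 1 ≤ s) :
    finrank k ↥(tPiece I (alI u v w i j s)) +
        ((Lset I u v w M s).filter (pxP I u v w i j s)).card +
        ((Lset I u v w M s).filter (pyP I u v w i j s)).card =
      finrank k ↥(tPiece I (alII u v w i j s)) +
        ((Lset I u v w M s).filter (pvP I u v w i j s)).card +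
        ((Lset I u v w M s).filter (pfP I u v w i j s)).card := by
  rw [finrank_typeI h hI hM i j hs, finrank_typeII h hI hM i j hs]
  exact euler_planar (planar h hM i j hs)

end Groth.Agent.Helper25.HilbCol
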