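import Mathlib
import Groth.Agent.Lib.Helper25.HilbColC
import Groth.Agent.Lib.Helper25.HilbIndep
import Groth.Agent.Lib.Helper25.HilbWalk

/-! Summation of the Euler identities over `s`: the sum of the dimensions of the pieces
`T_{(i,j,c)}` equals the staircase number plus the sum of the dimensions of `T_{(-i-1,-j-1,c)}`. -/

namespace Groth.Agent.Helper25.HilbCol

open MvPolynomial W4c1hilbpn Module
open Groth.Agent.Helper25.HilbTgt Groth.Agent.Helper25.HilbLC Groth.Agent.Helper25.HilbCS
open Groth.Agent.Helper25.HilbPlanar Groth.Agent.Helper25.HilbThree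

variable {k : Type*} [Field k] {I : Ideal (MvPolynomial (Fin 3) k)} {u v w : Fin 3}

lemma sum_Ico_int (M : ℕ) (φ : ℤ → ℕ) :
    ∑ a ∈ Finset.Ico (0 : ℤ) M, φ a = ∑ n ∈ Finset.range M, φ (n : ℤ) := by
  rw [Int.Ico_eq_finset_map, Finset.sum_map]
  simp

lemma count_lemma (B : Finset (ℤ × ℤ)) (H G : ℤ × ℤ → ℕ) (N : ℕ) (hGH : ∀ p ∈ B, G p ≤ H p)
    (hHN : ∀ p ∈ B, H p ≤ N) :
    ∑ s ∈ Finset.Icc 1 N, (B.filter (fun p => s ≤ H p ∧ H p < s + G p)).card = ∑ p ∈ B, G p := by
  simp_rw [Finset.card_filter]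
  rw [Finset.sum_comm]
  refine Finset.sum_congr rfl fun p hp => ?_
  rw [← Finset.card_filter]
  have : (Finset.Icc 1 N).filter (fun s => s ≤ H p ∧ H p < s + G p) =
      Finset.Ioc (H p - G p) (H p) := by
    ext s
    simp only [Finset.mem_filter, Finset.mem_Icc, Finset.mem_Ioc]
    have := hGH p hp
    have := hHN p hp
    omega
  rw [this, Nat.card_Ioc]
  have := hGH p hp
  omega

lemma tele_nat (f : ℕ → ℕ) (M : ℕ) (hf : f M = 0) :
    ∑ a ∈ Finset.range M, f a = ∑ a ∈ Finset.range M, f (a + 1) + f 0 := by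
  have h1 := Finset.sum_range_succ' f M
  have h2 := Finset.sum_range_succ f M
  omega

/-- double sum of shifted staircase numbers -/
noncomputable def SS (I : Ideal (MvPolynomial (Fin 3) k)) (u v w : Fin 3) (M i j : ℕ) : ℕ :=
  ∑ a ∈ Finset.range M, ∑ b ∈ Finset.range M, hh I u v w (a + i) (b + j)

/-- row sum of shifted staircase numbers -/
noncomputable def RR (I : Ideal (MvPolynomial (Fin 3) k)) (u v w : Fin 3) (M i j : ℕ) : ℕ :=
  ∑ b ∈ Finset.range M, hh I u v w i (b + j)

lemma hh_zero_of_ge {M : ℕ} (hM : IsBound I u v w M) {a b : ℕ} (h : M ≤ a ∨ M ≤ b) :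
    hh I u v w a b = 0 := by
  by_contra hne
  have := (hM a b).1 (Nat.pos_of_ne_zero hne)
  omega

lemma SS_succ_u {M : ℕ} (hM : IsBound I u v w M) (i j : ℕ) :
    SS I u v w M i j = SS I u v w M (i + 1) j + RR I u v w M i j := by
  unfold SS RR
  rw [Finset.sum_comm, Finset.sum_comm (f := fun a b => hh I u v w (a + (i + 1)) (b + j)),
    ← Finset.sum_add_distrib]
  refine Finset.sum_congr rfl fun b _ => ?_
  have := tele_nat (fun a => hh I u v w (a + i) (b + j)) M
    (hh_zero_of_ge hM (Or.inl (by omega)))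
  simp only [zero_add] at this
  rw [this]
  congr 1
  refine Finset.sum_congr rfl fun a _ => ?_
  rw [show a + 1 + i = a + (i + 1) by ring]

lemma RR_succ {M : ℕ} (hM : IsBound I u v w M) (i j : ℕ) :
    RR I u v w M i j = RR I u v w M i (j + 1) + hh I u v w i j := by
  unfold RR
  have := tele_nat (fun b => hh I u v w i (b + j)) M (hh_zero_of_ge hM (Or.inr (by omega)))
  simp only [zero_add] at this
  rw [this]
  congr 1
  refine Finset.sum_congr rfl fun b _ => ?_
  rw [show b + 1 + j = b + (j + 1) by ring]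

lemma SS_identity {M : ℕ} (hM : IsBound I u v w M) (i j : ℕ) :
    SS I u v w M i j + SS I u v w M (i + 1) (j + 1) =
      SS I u v w M (i + 1) j + SS I u v w M i (j + 1) + hh I u v w i j := by
  have h1 := SS_succ_u hM i j
  have h2 := SS_succ_u hM i (j + 1)
  have h3 := RR_succ hM i j
  omega

lemma sum_box (M i' j' : ℕ) :
    ∑ p ∈ (Finset.Ico (0 : ℤ) M) ×ˢ (Finset.Ico (0 : ℤ) M),
      hZ I u v w (p.1 + i', p.2 + j') = SS I u v w M i' j' := by
  rw [Finset.sum_product, sum_Ico_int]
  unfold SS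
  refine Finset.sum_congr rfl fun a _ => ?_
  rw [sum_Ico_int]
  refine Finset.sum_congr rfl fun b _ => ?_
  show hh I u v w ((a : ℤ) + i').toNat ((b : ℤ) + j').toNat = _
  congr 1 <;> omega

section main
variable [Finite {γ : Fin 3 →₀ ℕ // γ ∉ exps I}] {M : ℕ}

lemma count_shift (h : Axes u v w) (hM : IsBound I u v w M) (i' j' : ℕ) :
    ∑ s ∈ Finset.Icc 1 M, (((Finset.Ico (0 : ℤ) M) ×ˢ (Finset.Ico (0 : ℤ) M)).filter
      (fun p => s ≤ hZ I u v w p ∧ hZ I u v w p < s + hZ I u v w (p.1 + i', p.2 + j'))).card =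
      SS I u v w M i' j' := by
  rw [← sum_box]
  refine count_lemma _ (hZ I u v w) (fun p => hZ I u v w (p.1 + i', p.2 + j')) M ?_ ?_
  · intro p hp
    rw [Finset.mem_product, Finset.mem_Ico, Finset.mem_Ico] at hp
    apply hZ_anti h
    · show p.1 ≤ p.1 + i'; omega
    · show p.2 ≤ p.2 + j'; omega
  · intro p _
    exact (hM _ _).2

theorem main_ij (h : Axes u v w) (hI : IsMonomial I) (hM : IsBound I u v w M) (i j : ℕ) :
    ∑ s ∈ Finset.Icc 1 M, finrank k ↥(tPiece I (alI u v w i j s)) =
      hh I u v w i j + ∑ s ∈ Finset.Icc 1 M, finrank k ↥(tPiece I (alII u v w i j s)) := by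
  have hcore : ∀ s ∈ Finset.Icc 1 M,
      finrank k ↥(tPiece I (alI u v w i j s)) +
        ((Lset I u v w M s).filter (pxP I u v w i j s)).card +
        ((Lset I u v w M s).filter (pyP I u v w i j s)).card =
      finrank k ↥(tPiece I (alII u v w i j s)) +
        ((Lset I u v w M s).filter (pvP I u v w i j s)).card +
        ((Lset I u v w M s).filter (pfP I u v w i j s)).card :=
    fun s hs => core h hI hM i j (Finset.mem_Icc.1 hs).1
  have hsum := Finset.sum_congr rfl hcore
  simp only [Finset.sum_add_distrib] at hsum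
  have cv : ∑ s ∈ Finset.Icc 1 M, ((Lset I u v w M s).filter (pvP I u v w i j s)).card =
      SS I u v w M i j := by
    rw [← count_shift h hM i j]
    refine Finset.sum_congr rfl fun s _ => ?_
    congr 1
    ext p
    simp only [Lset, Finset.mem_filter, pvP, and_assoc]
  have cx : ∑ s ∈ Finset.Icc 1 M, ((Lset I u v w M s).filter (pxP I u v w i j s)).card =
      SS I u v w M (i + 1) j := by
    rw [← count_shift h hM (i + 1) j]
    refine Finset.sum_congr rfl fun s _ => ?_
    congr 1
    ext p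
    simp only [Lset, Finset.mem_filter, pxP, and_assoc]
    have e : hZ I u v w (p.1 + i + 1, p.2 + j) = hZ I u v w (p.1 + ((i + 1 : ℕ) : ℤ), p.2 + j) :=
      hZ_eq (by push_cast; ring) rfl
    rw [e]
  have cy : ∑ s ∈ Finset.Icc 1 M, ((Lset I u v w M s).filter (pyP I u v w i j s)).card =
      SS I u v w M i (j + 1) := by
    rw [← count_shift h hM i (j + 1)]
    refine Finset.sum_congr rfl fun s _ => ?_
    congr 1
    ext p
    simp only [Lset, Finset.mem_filter, pyP, and_assoc]
    have e : hZ I u v w (p.1 + i, p.2 + j + 1) = hZ I u v w (p.1 + i, p.2 + ((j + 1 : ℕ) : ℤ)) :=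
      hZ_eq rfl (by push_cast; ring)
    rw [e]
  have cf : ∑ s ∈ Finset.Icc 1 M, ((Lset I u v w M s).filter (pfP I u v w i j s)).card =
      SS I u v w M (i + 1) (j + 1) := by
    rw [← count_shift h hM (i + 1) (j + 1)]
    refine Finset.sum_congr rfl fun s _ => ?_
    congr 1
    ext p
    simp only [Lset, Finset.mem_filter, pfP, and_assoc]
    have e : hZ I u v w (p.1 + i + 1, p.2 + j + 1) =
        hZ I u v w (p.1 + ((i + 1 : ℕ) : ℤ), p.2 + ((j + 1 : ℕ) : ℤ)) :=
      hZ_eq (by push_cast; ring) (by push_cast; ring)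
    rw [e]
  have hid := SS_identity hM i j
  rw [cv, cx, cy, cf] at hsum
  omega

lemma Lset_eq_empty (hM : IsBound I u v w M) {s : ℕ} (hs : M < s) : Lset I u v w M s = ∅ := by
  unfold Lset
  rw [Finset.filter_eq_empty_iff]
  intro p _ hp
  have h1 := (hM p.1.toNat p.2.toNat).2
  have h2 : hZ I u v w p = hh I u v w p.1.toNat p.2.toNat := rfl
  omega

lemma tPiece_alI_eq_bot_of_forall (h : Axes u v w) (hI : IsMonomial I) (hM : IsBound I u v w M)
    (i j : ℕ) {s : ℕ} (hs : 1 ≤ s)
    (hall : ∀ p ∈ Lset I u v w M s, ¬ pvP I u v w i j s p) :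
    tPiece I (alI u v w i j s) = ⊥ := by
  haveI := finite_tPiece hI (alI u v w i j s)
  apply Submodule.finrank_eq_zero.1
  rw [finrank_typeI h hI hM i j hs, LCS_eq_bot_of_forall, finrank_bot]
  intro p
  by_cases hL : p ∈ Lset I u v w M s
  · exact Or.inr (hall p hL)
  · exact Or.inl hL

lemma tPiece_alII_eq_bot_of_forall (h : Axes u v w) (hI : IsMonomial I)
    (hM : IsBound I u v w M) (i j : ℕ) {s : ℕ} (hs : 1 ≤ s)
    (hall : ∀ p ∈ Lset I u v w M s, pfP I u v w i j s p) :
    tPiece I (alII u v w i j s) = ⊥ := by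
  haveI := finite_tPiece hI (alII u v w i j s)
  apply Submodule.finrank_eq_zero.1
  rw [finrank_typeII h hI hM i j hs, LCS_eq_bot_of_forall, finrank_bot]
  intro p
  by_cases hL : p ∈ Lset I u v w M s
  · exact Or.inr (hall p hL)
  · exact Or.inl hL

lemma alI_injective (h : Axes u v w) (i j : ℕ) : Function.Injective (alI u v w i j) := by
  intro s s' hss
  have := congrFun hss w
  simp only [alI, mk3_w h] at this
  omega

lemma alII_injective (h : Axes u v w) (i j : ℕ) : Function.Injective (alII u v w i j) := by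
  intro s s' hss
  have := congrFun hss w
  simp only [alII, mk3_w h] at this
  omega

end main

theorem main_iSup (h : Axes u v w) (hI : IsMonomial I)
    [Module.Finite k (MvPolynomial (Fin 3) k ⧸ I)] (i j : ℕ) :
    finrank k ↥(⨆ α : {α : Fin 3 → ℤ // α u = (i : ℤ) ∧ α v = (j : ℤ)}, tPiece I α.1) =
      hh I u v w i j +
        finrank k ↥(⨆ α : {α : Fin 3 → ℤ // α u = -(i : ℤ) - 1 ∧ α v = -(j : ℤ) - 1},
          tPiece I α.1) := by
  classical
  haveI := finite_compl_exps hI
  obtain ⟨M, hM⟩ := exists_isBound (I := I) h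
  have hsup1 : (⨆ α : {α : Fin 3 → ℤ // α u = (i : ℤ) ∧ α v = (j : ℤ)}, tPiece I α.1) =
      ((Finset.Icc 1 M).image (alI u v w i j)).sup (fun α => tPiece I α) := by
    apply iSup_subtype_eq_finset_sup
    · intro α hα
      obtain ⟨s, -, rfl⟩ := Finset.mem_image.1 hα
      exact ⟨mk3_u h _ _ _, mk3_v h _ _ _⟩
    · rintro α ⟨h0, h1⟩ hα
      by_cases hw : 0 ≤ α w
      · rw [tPiece_eq_bot_iff hI]
        apply isEmpty_Bdd_of_all_nonneg
        intro l
        rcases h.cov l with hl | hl | hl
        · rw [hl, h0]; positivity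
        · rw [hl, h1]; positivity
        · rw [hl]; exact hw
      · push_neg at hw
        have hal : α = alI u v w i j (-α w).toNat := by
          apply ext3 h
          · rw [h0]; exact (mk3_u h _ _ _).symm
          · rw [h1]; exact (mk3_v h _ _ _).symm
          · rw [alI, mk3_w h]; omega
        have hs1 : 1 ≤ (-α w).toNat := by omega
        have hsM : M < (-α w).toNat := by
          by_contra hcon
          push_neg at hcon
          apply hα
          rw [hal]
          exact Finset.mem_image.2 ⟨_, Finset.mem_Icc.2 ⟨hs1, hcon⟩, rfl⟩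
        rw [hal]
        apply tPiece_alI_eq_bot_of_forall h hI hM i j hs1
        rw [Lset_eq_empty hM hsM]
        intro p hp
        exact absurd hp (Finset.notMem_empty _)
  have hsup2 : (⨆ α : {α : Fin 3 → ℤ // α u = -(i : ℤ) - 1 ∧ α v = -(j : ℤ) - 1},
      tPiece I α.1) = ((Finset.Icc 1 M).image (alII u v w i j)).sup (fun α => tPiece I α) := by
    apply iSup_subtype_eq_finset_sup
    · intro α hα
      obtain ⟨s, -, rfl⟩ := Finset.mem_image.1 hα
      exact ⟨mk3_u h _ _ _, mk3_v h _ _ _⟩
    · rintro α ⟨h0, h1⟩ hα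
      by_cases hw : α w < 0
      · rw [tPiece_eq_bot_iff hI]
        apply isEmpty_Bdd_of_all_neg
        intro l
        rcases h.cov l with hl | hl | hl
        · rw [hl, h0]; omega
        · rw [hl, h1]; omega
        · rw [hl]; exact hw
      · push_neg at hw
        have hal : α = alII u v w i j (α w + 1).toNat := by
          apply ext3 h
          · rw [h0]; exact (mk3_u h _ _ _).symm
          · rw [h1]; exact (mk3_v h _ _ _).symm
          · rw [alII, mk3_w h]; omega
        have hs1 : 1 ≤ (α w + 1).toNat := by omega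
        have hsM : M < (α w + 1).toNat := by
          by_contra hcon
          push_neg at hcon
          apply hα
          rw [hal]
          exact Finset.mem_image.2 ⟨_, Finset.mem_Icc.2 ⟨hs1, hcon⟩, rfl⟩
        rw [hal]
        apply tPiece_alII_eq_bot_of_forall h hI hM i j hs1
        rw [Lset_eq_empty hM hsM]
        intro p hp
        exact absurd hp (Finset.notMem_empty _)
  rw [hsup1, hsup2, finrank_sup_tPiece hI, finrank_sup_tPiece hI,
    Finset.sum_image (fun s _ s' _ hss => alI_injective h i j hss),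
    Finset.sum_image (fun s _ s' _ hss => alII_injective h i j hss)]
  exact main_ij h hI hM i j

end Groth.Agent.Helper25.HilbCol
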