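import Mathlib
import Groth.Agent.Lib.Helper25.HilbSum
import Groth.Agent.Lib.Helper25.HilbSB

/-! Consequences of the summed Euler identity: the fixed-`(x,y)` identity, the sign-pattern
identity and the parity of the tangent space dimension. -/

namespace Groth.Agent.Helper25.HilbCol

open MvPolynomial W4c1hilbpn Module
open Groth.Agent.Helper25.HilbTgt Groth.Agent.Helper25.HilbLC Groth.Agent.Helper25.HilbCS
open Groth.Agent.Helper25.HilbPlanar Groth.Agent.Helper25.HilbThree

variable {k : Type*} [Field k] {I : Ideal (MvPolynomial (Fin 3) k)}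

lemma axes012 : Axes (0 : Fin 3) 1 2 := ⟨by decide, by decide, by decide⟩

lemma e3_eq_pt (a b c : ℕ) : e3 a b c = pt (0 : Fin 3) 1 2 a b c := by
  ext l
  rcases Groth.Agent.Helper25.HilbSB.cov3 l with rfl | rfl | rfl <;>
    simp [pt, Finsupp.single_apply]

lemma stairZ_eq_hh (I : Ideal (MvPolynomial (Fin 3) k)) (i j : ℕ) :
    stairZ I i j = hh I 0 1 2 i j := by
  unfold stairZ hh
  simp only [e3_eq_pt]

theorem fix_xy (hI : IsMonomial I) [Module.Finite k (MvPolynomial (Fin 3) k ⧸ I)] (i j : ℕ) :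
    finrank k ↥(⨆ α : {α : Fin 3 → ℤ // α 0 = (i : ℤ) ∧ α 1 = (j : ℤ)}, tPiece I α.1) =
      stairZ I i j +
        finrank k ↥(⨆ α : {α : Fin 3 → ℤ // α 0 = -(i : ℤ) - 1 ∧ α 1 = -(j : ℤ) - 1},
          tPiece I α.1) := by
  rw [stairZ_eq_hh]
  exact main_iSup axes012 hI i j

end Groth.Agent.Helper25.HilbCol
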