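import Mathlib
import Groth.Agent.Lib.Helper25.HilbIndep

/-! Dimensions of the sign-pattern pieces of `T(m^r)` in three variables. -/

namespace Groth.Agent.Helper25.HilbTgt

open MvPolynomial W4c1hilbpn

/-! ### binomial sums -/

lemma hockey2 (n : ℕ) :
    ∑ s ∈ Finset.range (n + 1), Nat.choose (n - s + 2) 2 = Nat.choose (n + 3) 3 := by
  induction n with
  | zero => simp
  | succ n ih =>
    rw [Finset.sum_range_succ']
    have e : ∀ s, n + 1 - (s + 1) + 2 = n - s + 2 := fun s => by omega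
    simp only [e, ih, Nat.sub_zero]
    have := Nat.choose_succ_succ' (n + 3) 2
    rw [show n + 1 + 3 = n + 3 + 1 by ring, show n + 1 + 2 = n + 3 by ring, this]
    ring

lemma tri_sum (n : ℕ) :
    ∑ s ∈ Finset.range (n + 1), (s + 1) * Nat.choose (n - s + 2) 2 = Nat.choose (n + 4) 4 := by
  induction n with
  | zero => simp
  | succ n ih =>
    rw [Finset.sum_range_succ']
    have e : ∀ s, (s + 1 + 1) * Nat.choose (n + 1 - (s + 1) + 2) 2 =
        (s + 1) * Nat.choose (n - s + 2) 2 + Nat.choose (n - s + 2) 2 := by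
      intro s; rw [show n + 1 - (s + 1) + 2 = n - s + 2 by omega]; ring
    simp only [e, Finset.sum_add_distrib, ih, hockey2, Nat.sub_zero]
    have h1 := Nat.choose_succ_succ' (n + 4) 3
    have h2 := Nat.choose_succ_succ' (n + 3) 2
    rw [show n + 1 + 4 = n + 4 + 1 by ring, h1, show n + 4 = n + 3 + 1 by ring, h2,
      show n + 1 + 2 = n + 3 by ring]
    ring

/-- the index set: pairs `(s, a)` with `s + c ≤ r` and `a ≤ s` -/
def Idx (r c : ℕ) : Finset (Σ _ : ℕ, ℕ) :=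
  (Finset.range (r + 1 - c)).sigma (fun s => Finset.range (s + 1))

lemma mem_Idx {r c : ℕ} {x : Σ _ : ℕ, ℕ} : x ∈ Idx r c ↔ x.1 + c ≤ r ∧ x.2 ≤ x.1 := by
  unfold Idx
  rw [Finset.mem_sigma, Finset.mem_range, Finset.mem_range]
  omega

lemma sum_idx (r c : ℕ) :
    ∑ x ∈ Idx r c, Nat.choose (3 + r - (x.1 + c) - 1) 2 = Nat.choose (r + 4 - c) 4 := by
  unfold Idx
  rw [Finset.sum_sigma]
  simp only [Finset.sum_const, Finset.card_range, smul_eq_mul]
  by_cases hc : c ≤ r
  · obtain ⟨n, rfl⟩ := Nat.exists_eq_add_of_le' hc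
    rw [show n + c + 1 - c = n + 1 by omega, show n + c + 4 - c = n + 4 by omega, ← tri_sum]
    refine Finset.sum_congr rfl fun s hs => ?_
    have := Finset.mem_range.1 hs
    rw [show 3 + (n + c) - (s + c) - 1 = n - s + 2 by omega]
  · rw [show r + 1 - c = 0 by omega, Finset.range_zero, Finset.sum_empty]
    symm
    exact Nat.choose_eq_zero_of_lt (by omega)

lemma final_id (r : ℕ) :
    3 * (Nat.choose (r + 3) 4 + Nat.choose (r + 2) 4) =
      Nat.choose (r + 2) 2 * Nat.choose (r + 1) 2 := by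
  cases r with
  | zero => decide
  | succ m =>
    have a1 := Nat.add_one_mul_choose_eq (m + 3) 3
    have a2 := Nat.add_one_mul_choose_eq (m + 2) 2
    have a4 := Nat.choose_succ_right_eq (m + 3) 3
    have a5 := Nat.add_one_mul_choose_eq (m + 2) 1
    simp only [Nat.choose_one_right] at a5
    norm_num at a1 a2 a4 a5
    apply Nat.eq_of_mul_eq_mul_left (show 0 < 4 by norm_num)
    rw [show m + 1 + 3 = m + 4 by ring, show m + 1 + 2 = m + 3 by ring,
      show m + 1 + 1 = m + 2 by ring]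
    zify at a1 a2 a4 a5 ⊢
    linear_combination (-3 : ℤ) * a1 + (-(2 * (m : ℤ) + 4)) * a2 + 3 * a4 +
      2 * ((m + 2).choose 2 : ℤ) * a5

/-! ### degree vectors in three variables -/

/-- the vector with entries `x, y, z` at positions `i, i+1, i+2` -/
def av (i : Fin 3) (x y z : ℤ) : Fin 3 → ℤ := fun l => ![x, y, z] (l - i)

lemma av_self (i : Fin 3) (x y z : ℤ) : av i x y z i = x := by simp [av]
lemma av_succ (i : Fin 3) (x y z : ℤ) : av i x y z (i + 1) = y := by simp [av]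
lemma av_succ2 (i : Fin 3) (x y z : ℤ) : av i x y z (i + 2) = z := by simp [av]

lemma cases3 (i l : Fin 3) : l = i ∨ l = i + 1 ∨ l = i + 2 := by
  revert i l; decide

lemma succ_ne3 (i : Fin 3) : i + 1 ≠ i := by revert i; decide
lemma succ2_ne3 (i : Fin 3) : i + 2 ≠ i := by revert i; decide

lemma eq_av (α : Fin 3 → ℤ) (i : Fin 3) : α = av i (α i) (α (i + 1)) (α (i + 2)) := by
  funext l
  rcases cases3 i l with rfl | rfl | rfl
  · rw [av_self]
  · rw [av_succ]
  · rw [av_succ2]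

lemma sum_av {M : Type*} [AddCommMonoid M] (i : Fin 3) (x y z : ℤ) (g : ℤ → M) :
    ∑ l, g (av i x y z l) = g x + g y + g z := by
  have h : ∑ l, g (av i x y z l) = ∑ m, g (![x, y, z] m) := by
    unfold av
    exact Equiv.sum_comp (Equiv.subRight i) (fun m => g (![x, y, z] m))
  rw [h, Fin.sum_univ_three]
  simp

lemma sum_av_id (i : Fin 3) (x y z : ℤ) : ∑ l, av i x y z l = x + y + z :=
  sum_av i x y z (fun t => t)

lemma sum_av_neg (i : Fin 3) (x y z : ℤ) :
    ∑ l, (-(av i x y z l)).toNat = (-x).toNat + (-y).toNat + (-z).toNat :=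
  sum_av i x y z (fun t => (-t).toNat)

lemma av_patA (i : Fin 3) {x y z : ℤ} (hx : x < 0) (hy : 0 ≤ y) (hz : 0 ≤ z) (l : Fin 3) :
    av i x y z l < 0 ↔ l = i := by
  rcases cases3 i l with rfl | rfl | rfl
  · rw [av_self]; exact ⟨fun _ => rfl, fun _ => hx⟩
  · rw [av_succ]; exact ⟨fun h => absurd h (not_lt.2 hy), fun h => absurd h (succ_ne3 i)⟩
  · rw [av_succ2]; exact ⟨fun h => absurd h (not_lt.2 hz), fun h => absurd h (succ2_ne3 i)⟩

lemma av_patB (i : Fin 3) {x y z : ℤ} (hx : 0 ≤ x) (hy : y < 0) (hz : z < 0) (l : Fin 3) :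
    av i x y z l < 0 ↔ l ≠ i := by
  rcases cases3 i l with rfl | rfl | rfl
  · rw [av_self]; exact ⟨fun h => absurd h (not_lt.2 hx), fun h => absurd rfl h⟩
  · rw [av_succ]; exact ⟨fun _ => succ_ne3 i, fun _ => hy⟩
  · rw [av_succ2]; exact ⟨fun _ => succ2_ne3 i, fun _ => hz⟩

/-- degrees negative exactly at `i` -/
def degA (i : Fin 3) (x : Σ _ : ℕ, ℕ) : Fin 3 → ℤ :=
  av i (-((x.1 : ℤ) + 1)) (x.2 : ℤ) ((x.1 - x.2 : ℕ) : ℤ)

/-- degrees negative exactly away from `i` -/
def degB (i : Fin 3) (x : Σ _ : ℕ, ℕ) : Fin 3 → ℤ :=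
  av i ((x.1 : ℤ) + 1) (-((x.2 : ℤ) + 1)) (-(((x.1 - x.2 : ℕ) : ℤ) + 1))

lemma degA_inj (i : Fin 3) : Function.Injective (degA i) := by
  rintro ⟨s, a⟩ ⟨s', a'⟩ h
  have h0 := congrFun h i
  have h1 := congrFun h (i + 1)
  simp only [degA, av_self, av_succ] at h0 h1
  have e1 : s = s' := by omega
  have e2 : a = a' := by omega
  subst e1; subst e2; rfl

lemma degB_inj (i : Fin 3) : Function.Injective (degB i) := by
  rintro ⟨s, a⟩ ⟨s', a'⟩ h
  have h0 := congrFun h i
  have h1 := congrFun h (i + 1)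
  simp only [degB, av_self, av_succ] at h0 h1
  have e1 : s = s' := by omega
  have e2 : a = a' := by omega
  subst e1; subst e2; rfl

lemma degA_pat (i : Fin 3) (x : Σ _ : ℕ, ℕ) (l : Fin 3) : degA i x l < 0 ↔ l = i :=
  av_patA i (by omega) (by omega) (by omega) l

lemma degB_pat (i : Fin 3) (x : Σ _ : ℕ, ℕ) (l : Fin 3) : degB i x l < 0 ↔ l ≠ i :=
  av_patB i (by omega) (by omega) (by omega) l

lemma degA_tot (i : Fin 3) {x : Σ _ : ℕ, ℕ} (hx : x.2 ≤ x.1) : ∑ l, degA i x l = -1 := by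
  unfold degA; rw [sum_av_id]; omega

lemma degB_tot (i : Fin 3) {x : Σ _ : ℕ, ℕ} (hx : x.2 ≤ x.1) : ∑ l, degB i x l = -1 := by
  unfold degB; rw [sum_av_id]; omega

lemma degA_w (i : Fin 3) (x : Σ _ : ℕ, ℕ) : ∑ l, (-(degA i x l)).toNat = x.1 + 1 := by
  unfold degA; rw [sum_av_neg]; omega

lemma degB_w (i : Fin 3) {x : Σ _ : ℕ, ℕ} (hx : x.2 ≤ x.1) :
    ∑ l, (-(degB i x l)).toNat = x.1 + 2 := by
  unfold degB; rw [sum_av_neg]; omega

lemma mem_image_degA {r : ℕ} (i : Fin 3) {α : Fin 3 → ℤ} (hp : ∀ l, α l < 0 ↔ l = i)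
    (ht : ∑ l, α l = -1) (hw : ∑ l, (-α l).toNat ≤ r) :
    α ∈ (Idx r 1).image (degA i) := by
  have hα := eq_av α i
  have h0 : α i < 0 := (hp i).2 rfl
  have h1 : 0 ≤ α (i + 1) := not_lt.1 fun h => succ_ne3 i ((hp _).1 h)
  have h2 : 0 ≤ α (i + 2) := not_lt.1 fun h => succ2_ne3 i ((hp _).1 h)
  rw [hα, sum_av_id] at ht
  rw [hα, sum_av_neg] at hw
  rw [Finset.mem_image]
  refine ⟨⟨(α (i + 1) + α (i + 2)).toNat, (α (i + 1)).toNat⟩, ?_, ?_⟩
  · rw [mem_Idx]; constructor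
    · show (α (i + 1) + α (i + 2)).toNat + 1 ≤ r; omega
    · show (α (i + 1)).toNat ≤ (α (i + 1) + α (i + 2)).toNat; omega
  · refine Eq.trans ?_ hα.symm
    unfold degA
    have e1 : -((((α (i + 1) + α (i + 2)).toNat : ℕ) : ℤ) + 1) = α i := by omega
    have e2 : (((α (i + 1)).toNat : ℕ) : ℤ) = α (i + 1) := by omega
    have e3 : ((((α (i + 1) + α (i + 2)).toNat - (α (i + 1)).toNat : ℕ)) : ℤ) = α (i + 2) := by
      omega
    show av i (-((((α (i + 1) + α (i + 2)).toNat : ℕ) : ℤ) + 1)) (((α (i + 1)).toNat : ℕ) : ℤ)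
      ((((α (i + 1) + α (i + 2)).toNat - (α (i + 1)).toNat : ℕ)) : ℤ) = _
    rw [e1, e2, e3]

lemma mem_image_degB {r : ℕ} (i : Fin 3) {α : Fin 3 → ℤ} (hp : ∀ l, α l < 0 ↔ l ≠ i)
    (ht : ∑ l, α l = -1) (hw : ∑ l, (-α l).toNat ≤ r) :
    α ∈ (Idx r 2).image (degB i) := by
  have hα := eq_av α i
  have h0 : 0 ≤ α i := not_lt.1 fun h => (hp i).1 h rfl
  have h1 : α (i + 1) < 0 := (hp _).2 (succ_ne3 i)
  have h2 : α (i + 2) < 0 := (hp _).2 (succ2_ne3 i)
  rw [hα, sum_av_id] at ht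
  rw [hα, sum_av_neg] at hw
  rw [Finset.mem_image]
  refine ⟨⟨(-α (i + 1) - 1).toNat + (-α (i + 2) - 1).toNat, (-α (i + 1) - 1).toNat⟩, ?_, ?_⟩
  · rw [mem_Idx]; constructor
    · show (-α (i + 1) - 1).toNat + (-α (i + 2) - 1).toNat + 2 ≤ r; omega
    · show (-α (i + 1) - 1).toNat ≤ (-α (i + 1) - 1).toNat + (-α (i + 2) - 1).toNat; omega
  · refine Eq.trans ?_ hα.symm
    unfold degB
    have e1 : ((((-α (i + 1) - 1).toNat + (-α (i + 2) - 1).toNat : ℕ)) : ℤ) + 1 = α i := by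
      omega
    have e2 : -((((-α (i + 1) - 1).toNat : ℕ) : ℤ) + 1) = α (i + 1) := by omega
    have e3 : -(((((-α (i + 1) - 1).toNat + (-α (i + 2) - 1).toNat -
        (-α (i + 1) - 1).toNat : ℕ)) : ℤ) + 1) = α (i + 2) := by omega
    show av i (((((-α (i + 1) - 1).toNat + (-α (i + 2) - 1).toNat : ℕ)) : ℤ) + 1)
      (-((((-α (i + 1) - 1).toNat : ℕ) : ℤ) + 1))
      (-(((((-α (i + 1) - 1).toNat + (-α (i + 2) - 1).toNat -
        (-α (i + 1) - 1).toNat : ℕ)) : ℤ) + 1)) = _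
    rw [e1, e2, e3]

/-! ### dimensions -/

variable {k : Type*} [Field k]

lemma finrank_degA {r : ℕ} (i : Fin 3) {x : Σ _ : ℕ, ℕ} (hx : x ∈ Idx r 1) :
    Module.finrank k ↥(tPiece (mpow k (Fin 3) r) (degA i x)) =
      Nat.choose (3 + r - (x.1 + 1) - 1) 2 := by
  rw [mem_Idx] at hx
  rw [finrank_tPiece_pow, if_pos ⟨degA_tot i hx.2, by rw [degA_w]; exact hx.1⟩, degA_w,
    Fintype.card_fin]

lemma finrank_degB {r : ℕ} (i : Fin 3) {x : Σ _ : ℕ, ℕ} (hx : x ∈ Idx r 2) :
    Module.finrank k ↥(tPiece (mpow k (Fin 3) r) (degB i x)) =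
      Nat.choose (3 + r - (x.1 + 2) - 1) 2 := by
  rw [mem_Idx] at hx
  rw [finrank_tPiece_pow, if_pos ⟨degB_tot i hx.2, by rw [degB_w i hx.2]; exact hx.1⟩,
    degB_w i hx.2, Fintype.card_fin]

lemma sum_A (r : ℕ) (i : Fin 3) :
    ∑ α ∈ (Idx r 1).image (degA i), Module.finrank k ↥(tPiece (mpow k (Fin 3) r) α) =
      Nat.choose (r + 3) 4 := by
  rw [Finset.sum_image fun a _ b _ h => degA_inj i h,
    Finset.sum_congr rfl fun x hx => finrank_degA (k := k) i hx, sum_idx,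
    show r + 4 - 1 = r + 3 by omega]

lemma sum_B (r : ℕ) (i : Fin 3) :
    ∑ α ∈ (Idx r 2).image (degB i), Module.finrank k ↥(tPiece (mpow k (Fin 3) r) α) =
      Nat.choose (r + 2) 4 := by
  rw [Finset.sum_image fun a _ b _ h => degB_inj i h,
    Finset.sum_congr rfl fun x hx => finrank_degB (k := k) i hx, sum_idx,
    show r + 4 - 2 = r + 2 by omega]

theorem finrank_sigPiece_single (r : ℕ) (i : Fin 3) :
    Module.finrank k ↥(sigPiece (mpow k (Fin 3) r) {i}) = Nat.choose (r + 3) 4 := by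
  haveI := finite_compl_pow (k := k) (σ := Fin 3) r
  have h : sigPiece (mpow k (Fin 3) r) {i} =
      ((Idx r 1).image (degA i)).sup (fun α => tPiece (mpow k (Fin 3) r) α) := by
    unfold sigPiece
    apply iSup_subtype_eq_finset_sup
    · intro α hα l
      obtain ⟨x, -, rfl⟩ := Finset.mem_image.1 hα
      rw [Set.mem_singleton_iff]
      exact degA_pat i x l
    · intro α hp hα
      apply tPiece_pow_eq_bot
      rintro ⟨ht, hw⟩
      exact hα (mem_image_degA i (fun l => by rw [hp l, Set.mem_singleton_iff]) ht hw)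
  rw [h, finrank_sup_tPiece (isMonomial_pow r), sum_A]

theorem finrank_sigPiece_compl (r : ℕ) (i : Fin 3) :
    Module.finrank k ↥(sigPiece (mpow k (Fin 3) r) ({i}ᶜ : Set (Fin 3))) =
      Nat.choose (r + 2) 4 := by
  haveI := finite_compl_pow (k := k) (σ := Fin 3) r
  have h : sigPiece (mpow k (Fin 3) r) ({i}ᶜ : Set (Fin 3)) =
      ((Idx r 2).image (degB i)).sup (fun α => tPiece (mpow k (Fin 3) r) α) := by
    unfold sigPiece
    apply iSup_subtype_eq_finset_sup
    · intro α hα l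
      obtain ⟨x, -, rfl⟩ := Finset.mem_image.1 hα
      rw [Set.mem_compl_singleton_iff]
      exact degB_pat i x l
    · intro α hp hα
      apply tPiece_pow_eq_bot
      rintro ⟨ht, hw⟩
      exact hα (mem_image_degB i (fun l => by rw [hp l, Set.mem_compl_singleton_iff]) ht hw)
  rw [h, finrank_sup_tPiece (isMonomial_pow r), sum_B]

/-! ### the total dimension -/

/-- the finset of negative positions -/
def patF (α : Fin 3 → ℤ) : Finset (Fin 3) := Finset.univ.filter fun l => α l < 0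

/-- the six sign patterns -/
def Pfin (x : Fin 3 × Bool) : Finset (Fin 3) := if x.2 then {x.1}ᶜ else {x.1}

lemma Pfin_inj : Function.Injective Pfin := by decide

/-- the six families of degrees -/
def Dset (r : ℕ) (x : Fin 3 × Bool) : Finset (Fin 3 → ℤ) :=
  if x.2 then (Idx r 2).image (degB x.1) else (Idx r 1).image (degA x.1)

lemma patF_of_mem {r : ℕ} {x : Fin 3 × Bool} {α : Fin 3 → ℤ} (h : α ∈ Dset r x) :
    patF α = Pfin x := by
  obtain ⟨i, b⟩ := x
  cases b
  · simp only [Dset, Bool.false_eq_true, if_false] at h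
    obtain ⟨y, -, rfl⟩ := Finset.mem_image.1 h
    ext l
    simp [patF, Pfin, degA_pat]
  · simp only [Dset, if_true] at h
    obtain ⟨y, -, rfl⟩ := Finset.mem_image.1 h
    ext l
    simp [patF, Pfin, degB_pat]

lemma pat_cases : ∀ S : Finset (Fin 3), S ≠ ∅ → S ≠ Finset.univ →
    ∃ i, S = {i} ∨ S = {i}ᶜ := by decide

lemma mem_Dset_of {r : ℕ} {α : Fin 3 → ℤ} (ht : ∑ l, α l = -1)
    (hw : ∑ l, (-α l).toNat ≤ r) : α ∈ Finset.univ.biUnion (Dset r) := by
  have hne : patF α ≠ ∅ := by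
    intro h
    have h' : ∀ l, 0 ≤ α l := fun l => not_lt.1 fun hl => by
      have : l ∈ patF α := by simp [patF, hl]
      rw [h] at this; simp at this
    rw [Fin.sum_univ_three] at ht
    have := h' 0; have := h' 1; have := h' 2
    omega
  have hnu : patF α ≠ Finset.univ := by
    intro h
    have h' : ∀ l, α l < 0 := fun l => by
      have : l ∈ patF α := by rw [h]; exact Finset.mem_univ l
      simpa [patF] using this
    rw [Fin.sum_univ_three] at ht
    have := h' 0; have := h' 1; have := h' 2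
    omega
  obtain ⟨i, hi | hi⟩ := pat_cases _ hne hnu
  · rw [Finset.mem_biUnion]
    refine ⟨(i, false), Finset.mem_univ _, ?_⟩
    simp only [Dset, Bool.false_eq_true, if_false]
    apply mem_image_degA i _ ht hw
    intro l
    have : l ∈ patF α ↔ l ∈ ({i} : Finset (Fin 3)) := by rw [hi]
    simpa [patF] using this
  · rw [Finset.mem_biUnion]
    refine ⟨(i, true), Finset.mem_univ _, ?_⟩
    simp only [Dset, if_true]
    apply mem_image_degB i _ ht hw
    intro l
    have : l ∈ patF α ↔ l ∈ ({i}ᶜ : Finset (Fin 3)) := by rw [hi]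
    simpa [patF] using this

theorem finrank_Tgt_pow (r : ℕ) :
    Module.finrank k (Tgt (mpow k (Fin 3) r)) = Nat.choose (r + 2) 2 * Nat.choose (r + 1) 2 := by
  haveI := finite_compl_pow (k := k) (σ := Fin 3) r
  have h : (⊤ : Submodule k (Tgt (mpow k (Fin 3) r))) =
      (Finset.univ.biUnion (Dset r)).sup (fun α => tPiece (mpow k (Fin 3) r) α) := by
    rw [← iSup_tPiece_eq_top (isMonomial_pow r)]
    apply iSup_eq_finset_sup
    intro α hα
    apply tPiece_pow_eq_bot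
    rintro ⟨ht, hw⟩
    exact hα (mem_Dset_of ht hw)
  rw [← finrank_top k (Tgt (mpow k (Fin 3) r)), h, finrank_sup_tPiece (isMonomial_pow r),
    Finset.sum_biUnion]
  · rw [Fintype.sum_prod_type]
    simp only [Fintype.sum_bool, Dset, if_true, Bool.false_eq_true, if_false, sum_A, sum_B]
    rw [Finset.sum_const, Finset.card_univ, Fintype.card_fin, smul_eq_mul, ← final_id]
    ring
  · intro x _ y _ hxy
    rw [Function.onFun, Finset.disjoint_left]
    intro α hx hy
    exact hxy (Pfin_inj (by rw [← patF_of_mem hx, patF_of_mem hy]))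

end Groth.Agent.Helper25.HilbTgt
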