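import Mathlib
import Groth.Prelude.Def_W4c1hilbpnTgt

namespace Groth.Agent.Helper25.HilbStair

open MvPolynomial W4c1hilbpn

section Gen
variable {σ : Type*} {k : Type*} [Field k]

theorem mk_smul' (I : Ideal (MvPolynomial σ k)) (c : k) (q : MvPolynomial σ k) :
    c • Ideal.Quotient.mk I q = Ideal.Quotient.mk I (c • q) :=
  (map_smul (Ideal.Quotient.mkₐ k I) c q).symm

theorem linearIndependent_outside (I : Ideal (MvPolynomial σ k)) (hI : IsMonomial I) :
    LinearIndependent k (fun β : {β : σ →₀ ℕ // β ∉ exps I} =>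
      Ideal.Quotient.mk I (monomial β.1 (1 : k))) := by
  classical
  rw [linearIndependent_iff']
  intro s g hsum β hβ
  by_contra hne
  have hpI : (∑ γ ∈ s, monomial γ.1 (g γ) : MvPolynomial σ k) ∈ I := by
    rw [← Ideal.Quotient.eq_zero_iff_mem, map_sum, ← hsum]
    refine Finset.sum_congr rfl fun γ _ => ?_
    rw [mk_smul', smul_monomial, smul_eq_mul, mul_one]
  have hcoeff : coeff β.1 (∑ γ ∈ s, monomial γ.1 (g γ) : MvPolynomial σ k) = g β := by
    rw [coeff_sum, Finset.sum_eq_single β]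
    · rw [coeff_monomial, if_pos rfl]
    · intro γ _ hγ
      rw [coeff_monomial, if_neg]
      intro h
      exact hγ (Subtype.ext h)
    · intro h; exact absurd hβ h
  have hsupp : β.1 ∈ (∑ γ ∈ s, monomial γ.1 (g γ) : MvPolynomial σ k).support := by
    rw [mem_support_iff, hcoeff]; exact hne
  exact β.2 (hI _ hpI _ hsupp)

theorem finite_outside (I : Ideal (MvPolynomial σ k)) (hI : IsMonomial I)
    [Module.Finite k (MvPolynomial σ k ⧸ I)] :
    Finite {β : σ →₀ ℕ // β ∉ exps I} :=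
  (linearIndependent_outside I hI).finite_of_isNoetherian

end Gen

section Three
variable {k : Type*} [Field k]

theorem e3_apply0 (a b c : ℕ) : (e3 a b c) 0 = a := rfl
theorem e3_apply1 (a b c : ℕ) : (e3 a b c) 1 = b := rfl
theorem e3_apply2 (a b c : ℕ) : (e3 a b c) 2 = c := rfl

theorem ext3 {γ γ' : Fin 3 →₀ ℕ} (h0 : γ 0 = γ' 0) (h1 : γ 1 = γ' 1) (h2 : γ 2 = γ' 2) :
    γ = γ' := by
  ext t
  fin_cases t
  · exact h0
  · exact h1
  · exact h2

theorem ss01 {I : Ideal (MvPolynomial (Fin 3) k)} (hI : IsStronglyStable I) {a b c : ℕ}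
    (h : e3 a (b + 1) c ∈ exps I) : e3 (a + 1) b c ∈ exps I := by
  have h2 := hI.2 _ h 0 1 (by decide) (by rw [e3_apply1]; omega)
  have : e3 a (b + 1) c - Finsupp.single 1 1 + Finsupp.single 0 1 = e3 (a + 1) b c := by
    apply ext3 <;>
      simp [e3_apply0, e3_apply1, e3_apply2, Finsupp.single_apply]
  rwa [this] at h2

theorem ss02 {I : Ideal (MvPolynomial (Fin 3) k)} (hI : IsStronglyStable I) {a b c : ℕ}
    (h : e3 a b (c + 1) ∈ exps I) : e3 (a + 1) b c ∈ exps I := by
  have h2 := hI.2 _ h 0 2 (by decide) (by rw [e3_apply2]; omega)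
  have : e3 a b (c + 1) - Finsupp.single 2 1 + Finsupp.single 0 1 = e3 (a + 1) b c := by
    apply ext3 <;>
      simp [e3_apply0, e3_apply1, e3_apply2, Finsupp.single_apply]
  rwa [this] at h2

theorem ss12 {I : Ideal (MvPolynomial (Fin 3) k)} (hI : IsStronglyStable I) {a b c : ℕ}
    (h : e3 a b (c + 1) ∈ exps I) : e3 a (b + 1) c ∈ exps I := by
  have h2 := hI.2 _ h 1 2 (by decide) (by rw [e3_apply2]; omega)
  have : e3 a b (c + 1) - Finsupp.single 2 1 + Finsupp.single 1 1 = e3 a (b + 1) c := by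
    apply ext3 <;>
      simp [e3_apply0, e3_apply1, e3_apply2, Finsupp.single_apply]
  rwa [this] at h2

theorem stair (I : Ideal (MvPolynomial (Fin 3) k)) (hI : IsStronglyStable I)
    [Module.Finite k (MvPolynomial (Fin 3) k ⧸ I)] (i j : ℕ) :
    stairZ I (i + 1) j ≤ stairZ I i (j + 1) ∧ stairY I (i + 1) j ≤ stairY I i (j + 1) := by
  haveI := finite_outside I hI.1
  constructor
  · unfold stairZ
    haveI : Finite {c : ℕ // e3 i (j + 1) c ∉ exps I} :=
      Finite.of_injective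
        (fun c => (⟨e3 i (j + 1) c.1, c.2⟩ : {β : Fin 3 →₀ ℕ // β ∉ exps I}))
        (fun c c' h => Subtype.ext (by
          have := congrArg (fun x : {β : Fin 3 →₀ ℕ // β ∉ exps I} => x.1 2) h
          simpa [e3_apply2] using this))
    exact Nat.card_le_card_of_injective
      (fun c : {c : ℕ // e3 (i + 1) j c ∉ exps I} =>
        (⟨c.1, fun h => c.2 (ss01 hI h)⟩ : {c : ℕ // e3 i (j + 1) c ∉ exps I}))
      (fun c c' h => Subtype.ext (by have h' := congrArg Subtype.val h; simpa using h'))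
  · unfold stairY
    haveI : Finite {b : ℕ // e3 i b (j + 1) ∉ exps I} :=
      Finite.of_injective
        (fun c => (⟨e3 i c.1 (j + 1), c.2⟩ : {β : Fin 3 →₀ ℕ // β ∉ exps I}))
        (fun c c' h => Subtype.ext (by
          have := congrArg (fun x : {β : Fin 3 →₀ ℕ // β ∉ exps I} => x.1 1) h
          simpa [e3_apply1] using this))
    exact Nat.card_le_card_of_injective
      (fun c : {b : ℕ // e3 (i + 1) b j ∉ exps I} =>
        (⟨c.1, fun h => c.2 (ss02 hI h)⟩ : {b : ℕ // e3 i b (j + 1) ∉ exps I}))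
      (fun c c' h => Subtype.ext (by have h' := congrArg Subtype.val h; simpa using h'))

theorem mapDomain_succ_add (β : Fin 2 →₀ ℕ) (m : Fin 3 →₀ ℕ) :
    Finsupp.mapDomain Fin.succ β + m = e3 (m 0) (β 0 + m 1) (β 1 + m 2) := by
  have h0 : (Finsupp.mapDomain Fin.succ β) 0 = 0 := by
    apply Finsupp.mapDomain_notin_range
    rintro ⟨x, hx⟩
    exact Fin.succ_ne_zero x hx
  have h1 : (Finsupp.mapDomain Fin.succ β) 1 = β 0 :=
    Finsupp.mapDomain_apply (Fin.succ_injective 2) β 0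
  have h2 : (Finsupp.mapDomain Fin.succ β) 2 = β 1 :=
    Finsupp.mapDomain_apply (Fin.succ_injective 2) β 1
  apply ext3
  · rw [Finsupp.add_apply, h0, e3_apply0, zero_add]
  · rw [Finsupp.add_apply, h1, e3_apply1]
  · rw [Finsupp.add_apply, h2, e3_apply2]

theorem mem_support_lift (p : MvPolynomial (Fin 2) k) (m : Fin 3 →₀ ℕ) {β : Fin 2 →₀ ℕ}
    (hβ : β ∈ p.support) :
    Finsupp.mapDomain Fin.succ β + m ∈ (rename Fin.succ p * monomial m (1 : k)).support := by
  rw [mem_support_iff, coeff_mul_monomial, mul_one,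
    coeff_rename_mapDomain _ (Fin.succ_injective 2)]
  exact mem_support_iff.mp hβ

theorem lift_mem (I : Ideal (MvPolynomial (Fin 3) k)) (p : MvPolynomial (Fin 2) k)
    (m : Fin 3 →₀ ℕ)
    (h : ∀ β ∈ p.support, monomial (Finsupp.mapDomain Fin.succ β + m) (1 : k) ∈ I) :
    rename Fin.succ p * monomial m (1 : k) ∈ I := by
  have hsum : rename Fin.succ p * monomial m (1 : k) =
      ∑ β ∈ p.support, monomial (Finsupp.mapDomain Fin.succ β + m) (coeff β p) := by
    conv_lhs => rw [← support_sum_monomial_coeff p]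
    rw [map_sum, Finset.sum_mul]
    refine Finset.sum_congr rfl fun β _ => ?_
    rw [rename_monomial, monomial_mul, mul_one]
  rw [hsum]
  refine Ideal.sum_mem _ fun β hβ => ?_
  have : monomial (Finsupp.mapDomain Fin.succ β + m) (coeff β p) =
      C (coeff β p) * monomial (Finsupp.mapDomain Fin.succ β + m) (1 : k) := by
    rw [C_mul_monomial, mul_one]
  rw [this]
  exact Ideal.mul_mem_left _ _ (h β hβ)

theorem mem_sliceX (I : Ideal (MvPolynomial (Fin 3) k)) (a : ℕ) (p : MvPolynomial (Fin 2) k) :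
    p ∈ sliceX I a ↔ rename Fin.succ p * monomial (Finsupp.single 0 a) (1 : k) ∈ I := by
  unfold sliceX
  rw [Ideal.mem_comap, Submodule.mem_colon_singleton, smul_eq_mul, X_pow_eq_monomial]
  rfl

theorem sliceX_isMonomial (I : Ideal (MvPolynomial (Fin 3) k)) (hI : IsMonomial I) (a : ℕ) :
    IsMonomial (sliceX I a) := by
  intro p hp β hβ
  rw [mem_sliceX] at hp ⊢
  rw [rename_monomial, monomial_mul, mul_one]
  exact hI _ hp _ (mem_support_lift p _ hβ)

theorem mem_exps_sliceX (I : Ideal (MvPolynomial (Fin 3) k)) (a : ℕ) (β : Fin 2 →₀ ℕ) :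
    β ∈ exps (sliceX I a) ↔ e3 a (β 0) (β 1) ∈ exps I := by
  unfold exps
  rw [Set.mem_setOf_eq, Set.mem_setOf_eq, mem_sliceX, rename_monomial, monomial_mul, mul_one,
    mapDomain_succ_add]
  simp [Finsupp.single_apply]

theorem sliceX_stable (I : Ideal (MvPolynomial (Fin 3) k)) (hI : IsStronglyStable I) (a : ℕ) :
    IsStronglyStable (sliceX I a) := by
  refine ⟨sliceX_isMonomial I hI.1 a, ?_⟩
  intro β hβ i j hij hpos
  obtain ⟨rfl, rfl⟩ : i = 0 ∧ j = 1 := by
    fin_cases i <;> fin_cases j <;>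
      first | exact ⟨rfl, rfl⟩ | exact absurd hij (by decide)
  rw [mem_exps_sliceX] at hβ ⊢
  obtain ⟨b, hb⟩ : ∃ b, β 1 = b + 1 := ⟨β 1 - 1, by omega⟩
  rw [hb] at hβ
  have h3 := ss12 hI hβ
  have e0 : (β - Finsupp.single 1 1 + Finsupp.single 0 1 : Fin 2 →₀ ℕ) 0 = β 0 + 1 := by
    simp [Finsupp.single_apply]
  have e1 : (β - Finsupp.single 1 1 + Finsupp.single 0 1 : Fin 2 →₀ ℕ) 1 = b := by
    simp [Finsupp.single_apply, hb]
  rw [e0, e1]
  exact h3

theorem sliceX_colon (I : Ideal (MvPolynomial (Fin 3) k)) (hI : IsStronglyStable I) (i : ℕ) :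
    (sliceX I i).colon {(X 0 : MvPolynomial (Fin 2) k)} ≤ sliceX I (i + 1) := by
  intro f hf
  rw [Submodule.mem_colon_singleton, smul_eq_mul, mem_sliceX] at hf
  rw [mem_sliceX]
  have hq : rename Fin.succ f * monomial (Finsupp.single 1 1 + Finsupp.single 0 i) (1 : k) ∈ I := by
    have : rename Fin.succ (f * X 0) * monomial (Finsupp.single 0 i) (1 : k) =
        rename Fin.succ f * monomial (Finsupp.single 1 1 + Finsupp.single 0 i) (1 : k) := by
      rw [map_mul, rename_X, mul_assoc]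
      congr 1
      show X (1 : Fin 3) * _ = _
      rw [X, monomial_mul, mul_one]
    rwa [this] at hf
  apply lift_mem
  intro β hβ
  have h1 := hI.1 _ hq _ (mem_support_lift f _ hβ)
  rw [mapDomain_succ_add] at h1 ⊢
  have v0 : (Finsupp.single (1 : Fin 3) 1 + Finsupp.single 0 i : Fin 3 →₀ ℕ) 0 = i := by
    simp [Finsupp.single_apply]
  have v1 : (Finsupp.single (1 : Fin 3) 1 + Finsupp.single 0 i : Fin 3 →₀ ℕ) 1 = 1 := by
    simp [Finsupp.single_apply]
  have v2 : (Finsupp.single (1 : Fin 3) 1 + Finsupp.single 0 i : Fin 3 →₀ ℕ) 2 = 0 := by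
    simp [Finsupp.single_apply]
  have w0 : (Finsupp.single (0 : Fin 3) (i + 1) : Fin 3 →₀ ℕ) 0 = i + 1 := by
    simp [Finsupp.single_apply]
  have w1 : (Finsupp.single (0 : Fin 3) (i + 1) : Fin 3 →₀ ℕ) 1 = 0 := by
    simp [Finsupp.single_apply]
  have w2 : (Finsupp.single (0 : Fin 3) (i + 1) : Fin 3 →₀ ℕ) 2 = 0 := by
    simp [Finsupp.single_apply]
  rw [v0, v1, v2] at h1
  rw [w0, w1, w2, add_zero]
  exact ss01 hI h1

theorem slice_main (I : Ideal (MvPolynomial (Fin 3) k)) (hI : IsStronglyStable I) (i : ℕ) :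
    IsStronglyStable (sliceX I i) ∧
      (sliceX I i).colon {(MvPolynomial.X 0 : MvPolynomial (Fin 2) k)} ≤ sliceX I (i + 1) :=
  ⟨sliceX_stable I hI i, sliceX_colon I hI i⟩

end Three

end Groth.Agent.Helper25.HilbStair
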