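import Mathlib
import Groth.Agent.Lib.Helper25.HilbSB
import Groth.Agent.Lib.Helper25.HilbStair
import Groth.Agent.Lib.Helper25.HilbPowDim

/-!
# Slices of strongly stable ideals and the extremality of powers of the maximal ideal
-/

namespace Groth.Agent.Helper25.HilbSlice

open MvPolynomial W4c1hilbpn Groth.Agent.Helper25.HilbTgt Groth.Agent.Helper25.HilbSB

section Gen

variable {k : Type*} [Field k]

theorem finrank_quot_eq_card {σ : Type*} (I : Ideal (MvPolynomial σ k)) (hI : IsMonomial I) :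
    Module.finrank k (MvPolynomial σ k ⧸ I) = Nat.card {β : σ →₀ ℕ // β ∉ exps I} := by
  classical
  have hli := HilbStair.linearIndependent_outside I hI
  have hspan : ⊤ ≤ Submodule.span k (Set.range (fun β : {β : σ →₀ ℕ // β ∉ exps I} =>
      Ideal.Quotient.mk I (monomial β.1 (1 : k)))) := by
    rintro y -
    obtain ⟨p, rfl⟩ := Ideal.Quotient.mk_surjective y
    rw [← support_sum_monomial_coeff p, map_sum]
    refine Submodule.sum_mem _ fun ε _ => ?_
    have e : Ideal.Quotient.mk I (monomial ε (coeff ε p))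
        = coeff ε p • Ideal.Quotient.mk I (monomial ε (1 : k)) := by
      rw [HilbStair.mk_smul', smul_monomial, smul_eq_mul, mul_one]
    rw [e]
    by_cases hε : ε ∈ exps I
    · have : Ideal.Quotient.mk I (monomial ε (1 : k)) = 0 := Ideal.Quotient.eq_zero_iff_mem.2 hε
      rw [this, smul_zero]
      exact Submodule.zero_mem _
    · exact Submodule.smul_mem _ _ (Submodule.subset_span ⟨⟨ε, hε⟩, rfl⟩)
  exact Module.finrank_eq_nat_card_basis (Module.Basis.mk hli hspan)

end Gen

section Arith

/-- triangular numbers -/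
def t (n : ℕ) : ℕ := Nat.choose (n + 1) 2

lemma t_zero : t 0 = 0 := by simp [t]

lemma t_succ (n : ℕ) : t (n + 1) = t n + (n + 1) := by
  unfold t
  rw [Nat.choose_succ_succ' (n + 1) 1, Nat.choose_one_right]
  ring

lemma t_mono {a b : ℕ} (h : a ≤ b) : t a ≤ t b := Nat.choose_le_choose 2 (by omega)

lemma t_lt {a b : ℕ} (h : a < b) : t a < t b := by
  have h1 : t (a + 1) ≤ t b := t_mono h
  rw [t_succ] at h1
  omega

lemma gauss : ∀ n N : ℕ, n ≤ N → ∑ b ∈ Finset.range N, (n - b) = t n
  | 0, N, _ => by simp [t_zero]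
  | n + 1, 0, h => by omega
  | n + 1, N + 1, h => by
      rw [Finset.sum_range_succ', Nat.sub_zero]
      have e : ∀ b, n + 1 - (b + 1) = n - b := fun b => by omega
      simp only [e]
      rw [gauss n N (by omega), t_succ]

lemma step_le {n c c' L : ℕ} (hn : 1 ≤ n) (hc : c ≤ t n) (hcL : c ≤ t L) (h : c' + L ≤ c) :
    c' ≤ t (n - 1) := by
  obtain ⟨m, rfl⟩ : ∃ m, n = m + 1 := ⟨n - 1, by omega⟩
  simp only [Nat.add_sub_cancel]
  rw [t_succ] at hc
  by_cases hL : m + 1 ≤ L
  · omega
  · push_neg at hL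
    rcases Nat.eq_zero_or_pos L with rfl | hLpos
    · rw [t_zero] at hcL; omega
    · obtain ⟨l, rfl⟩ : ∃ l, L = l + 1 := ⟨L - 1, by omega⟩
      rw [t_succ] at hcL
      have := t_mono (show l ≤ m by omega)
      omega

lemma hockey (r : ℕ) : ∑ i ∈ Finset.range r, t (r - i) = Nat.choose (r + 2) 3 := by
  rcases Nat.eq_zero_or_pos r with rfl | hr
  · simp
  · obtain ⟨n, rfl⟩ : ∃ n, r = n + 1 := ⟨r - 1, by omega⟩
    rw [← HilbTgt.hockey2 n]
    refine Finset.sum_congr rfl fun i hi => ?_
    have := Finset.mem_range.1 hi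
    unfold t
    congr 1
    omega

variable (c L : ℕ → ℕ) (r : ℕ)

lemma stepA (R1 : ∀ i, c (i + 1) + L i ≤ c i) (R2 : ∀ i, c i ≤ t (L i)) (i : ℕ)
    (h : c i ≤ t (r - i)) : c (i + 1) ≤ t (r - (i + 1)) := by
  by_cases hn : 1 ≤ r - i
  · have := step_le hn h (R2 i) (R1 i)
    rwa [show r - i - 1 = r - (i + 1) by omega] at this
  · have h0 : r - i = 0 := by omega
    rw [h0, t_zero] at h
    have := R1 i
    omega

lemma stepA' (R1 : ∀ i, c (i + 1) + L i ≤ c i) (R2 : ∀ i, c i ≤ t (L i)) (i j : ℕ) (hij : i ≤ j)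
    (h : c i ≤ t (r - i)) : c j ≤ t (r - j) := by
  induction j, hij using Nat.le_induction with
  | base => exact h
  | succ j _ ih => exact stepA c L r R1 R2 j ih

lemma tail_bound (R1 : ∀ i, c (i + 1) + L i ≤ c i) (R2 : ∀ i, c i ≤ t (L i))
    (htot : ∑ i ∈ Finset.range r, c i ≤ Nat.choose (r + 2) 3) (j : ℕ) (hj : j ≤ r) :
    ∑ i ∈ Finset.Ico j r, c i ≤ ∑ i ∈ Finset.Ico j r, t (r - i) := by
  by_contra hcon
  push_neg at hcon
  have hj' : ¬ c j ≤ t (r - j) := by
    intro h
    have : ∑ i ∈ Finset.Ico j r, c i ≤ ∑ i ∈ Finset.Ico j r, t (r - i) :=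
      Finset.sum_le_sum fun i hi =>
        stepA' c L r R1 R2 j i (Finset.mem_Ico.1 hi).1 h
    omega
  have hall : ∀ i, i ≤ j → t (r - i) ≤ c i := by
    intro i hi
    by_contra h
    push_neg at h
    exact hj' (stepA' c L r R1 R2 i j hi h.le)
  have h1 : ∑ i ∈ Finset.Ico 0 j, t (r - i) ≤ ∑ i ∈ Finset.Ico 0 j, c i :=
    Finset.sum_le_sum fun i hi => hall i (Finset.mem_Ico.1 hi).2.le
  have h2 := Finset.sum_Ico_consecutive c (Nat.zero_le j) hj
  have h3 := Finset.sum_Ico_consecutive (fun i => t (r - i)) (Nat.zero_le j) hj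
  have h4 := hockey r
  rw [Finset.range_eq_Ico] at h4 htot
  omega

lemma eq_of_tails (hall : ∀ j, j < r → ∑ i ∈ Finset.Ico j r, c i = ∑ i ∈ Finset.Ico j r, t (r - i))
    (i : ℕ) (hi : i < r) : c i = t (r - i) := by
  have h1 := hall i hi
  rw [Finset.sum_eq_sum_Ico_succ_bot hi, Finset.sum_eq_sum_Ico_succ_bot hi] at h1
  by_cases h : i + 1 < r
  · have h2 := hall (i + 1) h
    omega
  · have : i + 1 = r := by omega
    rw [this] at h1
    simpa using h1

end Arith

section Three

variable {k : Type*} [Field k] {I : Ideal (MvPolynomial (Fin 3) k)}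

/-- the finite set of pairs `(b, c)` with `x^i y^b z^c ∉ I` -/
noncomputable def D (I : Ideal (MvPolynomial (Fin 3) k)) (N i : ℕ) : Finset (Σ _ : ℕ, ℕ) :=
  (Finset.range N).sigma (fun b => Finset.range (stairZ I i b))

lemma mem_D [Finite {γ : Fin 3 →₀ ℕ // γ ∉ exps I}] {N : ℕ}
    (hN : ∀ δ : Fin 3 →₀ ℕ, δ ∉ exps I → ∀ i, δ i < N) (i b c : ℕ) :
    (⟨b, c⟩ : Σ _ : ℕ, ℕ) ∈ D I N i ↔ e3 i b c ∉ exps I := by
  simp only [D, Finset.mem_sigma, Finset.mem_range]
  rw [← notMem_iff_lt_stairZ]
  constructor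
  · exact fun h => h.2
  · intro h
    refine ⟨?_, h⟩
    have := hN _ h 1
    simpa using this

lemma card_D (N i : ℕ) : (D I N i).card = ∑ b ∈ Finset.range N, stairZ I i b := by
  simp [D, Finset.card_sigma]

lemma pair_apply0 (a b : ℕ) : (Finsupp.equivFunOnFinite.symm ![a, b] : Fin 2 →₀ ℕ) 0 = a := rfl

lemma pair_apply1 (a b : ℕ) : (Finsupp.equivFunOnFinite.symm ![a, b] : Fin 2 →₀ ℕ) 1 = b := rfl

lemma finrank_slice [Finite {γ : Fin 3 →₀ ℕ // γ ∉ exps I}] (hI : IsMonomial I) {N : ℕ}
    (hN : ∀ δ : Fin 3 →₀ ℕ, δ ∉ exps I → ∀ i, δ i < N) (i : ℕ) :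
    Module.finrank k (MvPolynomial (Fin 2) k ⧸ sliceX I i)
      = ∑ b ∈ Finset.range N, stairZ I i b := by
  rw [finrank_quot_eq_card _ (HilbStair.sliceX_isMonomial I hI i), ← card_D,
    ← Fintype.card_coe, ← Nat.card_eq_fintype_card]
  refine Nat.card_congr
    { toFun := fun β => ⟨⟨β.1 0, β.1 1⟩, (mem_D hN i _ _).2
        (fun h => β.2 ((HilbStair.mem_exps_sliceX I i β.1).2 h))⟩
      invFun := fun x => ⟨Finsupp.equivFunOnFinite.symm ![x.1.1, x.1.2], by
        intro h
        rw [HilbStair.mem_exps_sliceX, pair_apply0, pair_apply1] at h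
        exact ((mem_D hN i x.1.1 x.1.2).1 x.2) h⟩
      left_inv := ?_
      right_inv := ?_ }
  · intro β
    apply Subtype.ext
    ext l
    fin_cases l <;> rfl
  · intro x
    rfl

lemma stair_dec (hI : IsStronglyStable I) [Finite {γ : Fin 3 →₀ ℕ // γ ∉ exps I}] (i b : ℕ) :
    stairZ I i (b + 1) < stairZ I i b ∨ stairZ I i (b + 1) = 0 := by
  by_cases h : stairZ I i (b + 1) = 0
  · exact Or.inr h
  · left
    have h1 : stairZ I i (b + 1) - 1 < stairZ I i (b + 1) := by omega
    rw [← notMem_iff_lt_stairZ] at h1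
    have h2 : e3 i b (stairZ I i (b + 1) - 1 + 1) ∉ exps I := fun hm => h1 (HilbStair.ss12 hI hm)
    rw [notMem_iff_lt_stairZ] at h2
    omega

lemma stair_le_sub (hI : IsStronglyStable I) [Finite {γ : Fin 3 →₀ ℕ // γ ∉ exps I}] (i : ℕ) :
    ∀ b, stairZ I i b ≤ stairZ I i 0 - b
  | 0 => le_rfl
  | b + 1 => by
      have ih := stair_le_sub hI i b
      rcases stair_dec hI i b with h | h
      · omega
      · omega

theorem main (r : ℕ) (hI : IsStronglyStable I) [Module.Finite k (MvPolynomial (Fin 3) k ⧸ I)]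
    (hd : Module.finrank k (MvPolynomial (Fin 3) k ⧸ I) ≤ Nat.choose (r + 2) 3) :
    (∀ j, j ≤ r → ∑ i ∈ Finset.Ico j r, Module.finrank k (MvPolynomial (Fin 2) k ⧸ sliceX I i) ≤
        ∑ i ∈ Finset.Ico j r, Nat.choose (r - i + 1) 2) ∧
    ((∀ j, j < r → ∑ i ∈ Finset.Ico j r, Module.finrank k (MvPolynomial (Fin 2) k ⧸ sliceX I i) =
        ∑ i ∈ Finset.Ico j r, Nat.choose (r - i + 1) 2) →
      I = (Ideal.span (Set.range (MvPolynomial.X : Fin 3 → MvPolynomial (Fin 3) k))) ^ r) := by
  classical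
  haveI := finite_compl_exps hI.1
  obtain ⟨N, hN⟩ := exists_bound (I := I)
  have hstairN : ∀ i j, stairZ I i j ≤ N := stairZ_le_of_bound hN
  have hzeroN : ∀ i b, N ≤ b → stairZ I i b = 0 := by
    intro i b hb
    by_contra h
    have h1 : 0 < stairZ I i b := by omega
    rw [← notMem_iff_lt_stairZ] at h1
    have := hN _ h1 1
    simp at this
    omega
  -- the sequences
  let c : ℕ → ℕ := fun i => ∑ b ∈ Finset.range N, stairZ I i b
  let L : ℕ → ℕ := fun i => stairZ I i 0
  have hfr : ∀ i, Module.finrank k (MvPolynomial (Fin 2) k ⧸ sliceX I i) = c i :=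
    fun i => finrank_slice hI.1 hN i
  have R1 : ∀ i, c (i + 1) + L i ≤ c i := by
    intro i
    have h1 : ∑ b ∈ Finset.range N, stairZ I (i + 1) b ≤ ∑ b ∈ Finset.range N, stairZ I i (b + 1) :=
      Finset.sum_le_sum fun b _ => (HilbStair.stair I hI i b).1
    have h2 := Finset.sum_range_succ' (fun b => stairZ I i b) N
    have h3 := Finset.sum_range_succ (fun b => stairZ I i b) N
    have h4 := hzeroN i N le_rfl
    simp only [c, L]
    omega
  have R2 : ∀ i, c i ≤ t (L i) := by
    intro i
    have h1 : ∑ b ∈ Finset.range N, stairZ I i b ≤ ∑ b ∈ Finset.range N, (stairZ I i 0 - b) :=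
      Finset.sum_le_sum fun b _ => stair_le_sub hI i b
    rw [gauss _ N (hstairN i 0)] at h1
    exact h1
  -- total count
  have htotal : ∀ r' : ℕ, ∑ i ∈ Finset.range r', c i
      ≤ Module.finrank k (MvPolynomial (Fin 3) k ⧸ I) := by
    intro r'
    rw [finrank_quot_eq_card I hI.1]
    let T : Finset (Σ _ : ℕ, Σ _ : ℕ, ℕ) := (Finset.range r').sigma (fun i => D I N i)
    have hT : T.card = ∑ i ∈ Finset.range r', c i := by
      rw [Finset.card_sigma]
      exact Finset.sum_congr rfl fun i _ => card_D N i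
    rw [← hT, ← Fintype.card_coe, ← Nat.card_eq_fintype_card]
    refine Nat.card_le_card_of_injective
      (fun x : ↥T => (⟨e3 x.1.1 x.1.2.1 x.1.2.2,
        (mem_D hN x.1.1 x.1.2.1 x.1.2.2).1 (Finset.mem_sigma.1 x.2).2⟩ :
          {γ : Fin 3 →₀ ℕ // γ ∉ exps I})) ?_
    rintro ⟨⟨i, b, c'⟩, hx⟩ ⟨⟨i', b', c''⟩, hx'⟩ h
    have h' := congrArg Subtype.val h
    simp only at h'
    have e0 := DFunLike.congr_fun h' 0
    have e1 := DFunLike.congr_fun h' 1
    have e2 := DFunLike.congr_fun h' 2
    simp only [e3_zero, e3_one, e3_two] at e0 e1 e2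
    subst e0 e1 e2
    rfl
  have htot : ∑ i ∈ Finset.range r, c i ≤ Nat.choose (r + 2) 3 := (htotal r).trans hd
  constructor
  · intro j hj
    rw [Finset.sum_congr rfl fun i _ => hfr i]
    exact tail_bound c L r R1 R2 htot j hj
  · intro hall
    have hall' : ∀ j, j < r → ∑ i ∈ Finset.Ico j r, c i = ∑ i ∈ Finset.Ico j r, t (r - i) := by
      intro j hj
      rw [← Finset.sum_congr rfl fun i _ => hfr i]
      exact hall j hj
    have hci : ∀ i, i < r → c i = t (r - i) := eq_of_tails c r hall'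
    -- `c r = 0`
    have hcr : c r = 0 := by
      have h1 := (htotal (r + 1)).trans hd
      rw [Finset.sum_range_succ] at h1
      have h2 : ∑ i ∈ Finset.range r, c i = ∑ i ∈ Finset.range r, t (r - i) :=
        Finset.sum_congr rfl fun i hi => hci i (Finset.mem_range.1 hi)
      rw [h2, hockey] at h1
      omega
    have hge : ∀ i, i < r → t (r - (i + 1)) ≤ c (i + 1) := by
      intro i hi
      by_cases h : i + 1 < r
      · rw [hci (i + 1) h]
      · have : r - (i + 1) = 0 := by omega
        rw [this, t_zero]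
        exact Nat.zero_le _
    -- the staircase heights
    have hstair : ∀ i, i < r → ∀ b, stairZ I i b = r - i - b := by
      intro i hi
      have hLge : r - i ≤ L i := by
        by_contra h
        push_neg at h
        have h1 := t_lt h
        have h2 := R2 i
        rw [hci i hi] at h2
        omega
      have hLle : L i ≤ r - i := by
        have h1 := R1 i
        have h2 := hge i hi
        rw [hci i hi] at h1
        obtain ⟨m, hm⟩ : ∃ m, r - i = m + 1 := ⟨r - i - 1, by omega⟩
        rw [hm, t_succ] at h1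
        rw [show r - (i + 1) = m by omega] at h2
        omega
      have hL : stairZ I i 0 = r - i := le_antisymm hLle hLge
      have hsum : ∑ b ∈ Finset.range N, stairZ I i b = ∑ b ∈ Finset.range N, (r - i - b) := by
        rw [gauss _ N (by rw [← hL]; exact hstairN i 0)]
        exact hci i hi
      have hle : ∀ b ∈ Finset.range N, stairZ I i b ≤ r - i - b := by
        intro b _
        have := stair_le_sub hI i b
        rwa [hL] at this
      have heq := (Finset.sum_eq_sum_iff_of_le hle).1 hsum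
      intro b
      by_cases hb : b < N
      · exact heq b (Finset.mem_range.2 hb)
      · push_neg at hb
        rw [hzeroN i b hb]
        have := hstairN i 0
        omega
    have hmem : ∀ a b c' : ℕ, e3 a b c' ∈ exps I ↔ r ≤ a + b + c' := by
      intro a b c'
      by_cases ha : a < r
      · rw [← not_iff_not, notMem_iff_lt_stairZ, hstair a ha b]
        omega
      · push_neg at ha
        constructor
        · intro _; omega
        · intro _
          have h0 : e3 r b 0 ∈ exps I := by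
            by_contra h
            rw [notMem_iff_lt_stairZ] at h
            by_cases hb : b < N
            · have : stairZ I r b ≤ c r :=
                Finset.single_le_sum (f := fun b => stairZ I r b) (fun _ _ => Nat.zero_le _)
                  (Finset.mem_range.2 hb)
              omega
            · push_neg at hb
              rw [hzeroN r b hb] at h
              omega
          refine exps_mono h0 ?_
          rw [e3_le_iff]
          simp only [e3_zero, e3_one, e3_two]
          omega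
    have hexps : ∀ ε : Fin 3 →₀ ℕ, ε ∈ exps I ↔ ε ∈ exps (mpow k (Fin 3) r) := by
      intro ε
      rw [mem_exps_pow, eq_e3 ε, hmem, Finsupp.degree_eq_sum, Fin.sum_univ_three]
      simp only [e3_zero, e3_one, e3_two]
    apply le_antisymm
    · intro p hp
      exact mem_of_support p fun ε hε => (hexps ε).1 (hI.1 p hp ε hε)
    · intro p hp
      exact mem_of_support p fun ε hε =>
        (hexps ε).2 (isMonomial_pow (k := k) (σ := Fin 3) r p hp ε hε)

end Three

end Groth.Agent.Helper25.HilbSlice
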