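import Mathlib
import Groth.Agent.Lib.Helper25.HilbDual
import Groth.Agent.Lib.Helper25.HilbSlice

/-! The sign-pattern identity `dim T_{{w}} = dim T_{{w}ᶜ} + colength`. -/

namespace Groth.Agent.Helper25.HilbCol

open MvPolynomial W4c1hilbpn Module
open Groth.Agent.Helper25.HilbTgt Groth.Agent.Helper25.HilbLC Groth.Agent.Helper25.HilbCS
open Groth.Agent.Helper25.HilbPlanar Groth.Agent.Helper25.HilbThree

variable {k : Type*} [Field k] {I : Ideal (MvPolynomial (Fin 3) k)} {u v w : Fin 3}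

section main
variable [Finite {γ : Fin 3 →₀ ℕ // γ ∉ exps I}] {M : ℕ}

lemma colength_eq_SS (h : Axes u v w) (hI : IsMonomial I) (hM : IsBound I u v w M) :
    Module.finrank k (MvPolynomial (Fin 3) k ⧸ I) = SS I u v w M 0 0 := by
  classical
  rw [Groth.Agent.Helper25.HilbSlice.finrank_quot_eq_card I hI]
  let D : Finset (Σ _ : ℕ × ℕ, ℕ) :=
    (Finset.range M ×ˢ Finset.range M).sigma (fun p => Finset.range (hh I u v w p.1 p.2))
  have hcard : D.card = SS I u v w M 0 0 := by
    simp only [D, Finset.card_sigma, Finset.card_range, SS, add_zero]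
    rw [Finset.sum_product]
  rw [← hcard, ← Fintype.card_coe, ← Nat.card_eq_fintype_card]
  have hmem : ∀ a b c, (⟨(a, b), c⟩ : Σ _ : ℕ × ℕ, ℕ) ∈ D ↔ pt u v w a b c ∉ exps I := by
    intro a b c
    simp only [D, Finset.mem_sigma, Finset.mem_product, Finset.mem_range]
    rw [notMem_pt_iff h]
    constructor
    · exact fun h' => h'.2
    · intro h'
      exact ⟨(hM a b).1 (by omega), h'⟩
  refine Nat.card_congr
    { toFun := fun β => ⟨⟨(β.1 u, β.1 v), β.1 w⟩, (hmem _ _ _).2 (by rw [← eq_pt h]; exact β.2)⟩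
      invFun := fun x => ⟨pt u v w x.1.1.1 x.1.1.2 x.1.2, (hmem _ _ _).1 x.2⟩
      left_inv := ?_
      right_inv := ?_ }
  · intro β
    apply Subtype.ext
    exact (eq_pt h β.1).symm
  · rintro ⟨⟨⟨a, b⟩, c⟩, hx⟩
    apply Subtype.ext
    simp only [pt_u h.uv h.uw, pt_v h.uv h.vw, pt_w h.uw h.vw]

lemma absent_of_ge (h : Axes u v w) (hM : IsBound I u v w M) (i j : ℕ) {s : ℕ} (hs : 1 ≤ s)
    (hij : M ≤ i ∨ M ≤ j) : ∀ p ∈ Lset I u v w M s,
    ¬ pvP I u v w i j s p ∧ ¬ pxP I u v w i j s p ∧ ¬ pyP I u v w i j s p ∧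
      ¬ pfP I u v w i j s p := by
  intro p hp
  obtain ⟨p1, p2, p3⟩ := (mem_Lset hM hs).1 hp
  have z : ∀ a b : ℤ, (p.1 + i ≤ a) → (p.2 + j ≤ b) → hZ I u v w (a, b) = 0 := by
    intro a b ha hb
    apply hh_zero_of_ge hM
    rcases hij with hi | hj
    · left; show M ≤ a.toNat; omega
    · right; show M ≤ b.toNat; omega
  refine ⟨?_, ?_, ?_, ?_⟩
  · show ¬ (hZ I u v w p < s + hZ I u v w (p.1 + i, p.2 + j))
    rw [z (p.1 + i) (p.2 + j) le_rfl le_rfl]; omega
  · show ¬ (hZ I u v w p < s + hZ I u v w (p.1 + i + 1, p.2 + j))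
    rw [z (p.1 + i + 1) (p.2 + j) (by omega) le_rfl]; omega
  · show ¬ (hZ I u v w p < s + hZ I u v w (p.1 + i, p.2 + j + 1))
    rw [z (p.1 + i) (p.2 + j + 1) le_rfl (by omega)]; omega
  · show ¬ (hZ I u v w p < s + hZ I u v w (p.1 + i + 1, p.2 + j + 1))
    rw [z (p.1 + i + 1) (p.2 + j + 1) (by omega) (by omega)]; omega

lemma vanish_of_ge (h : Axes u v w) (hI : IsMonomial I) (hM : IsBound I u v w M) (i j : ℕ)
    {s : ℕ} (hs : 1 ≤ s) (hij : M ≤ i ∨ M ≤ j) :
    tPiece I (alI u v w i j s) = ⊥ ∧ tPiece I (alII u v w i j s) = ⊥ := by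
  have habs := absent_of_ge h hM i j hs hij
  have h1 : tPiece I (alI u v w i j s) = ⊥ :=
    tPiece_alI_eq_bot_of_forall h hI hM i j hs (fun p hp => (habs p hp).1)
  refine ⟨h1, ?_⟩
  haveI := finite_tPiece hI (alII u v w i j s)
  apply Submodule.finrank_eq_zero.1
  have hc := core (k := k) h hI hM i j hs
  have e1 : (Lset I u v w M s).filter (pxP I u v w i j s) = ∅ :=
    Finset.filter_eq_empty_iff.2 (fun p hp => (habs p hp).2.1)
  have e2 : (Lset I u v w M s).filter (pyP I u v w i j s) = ∅ :=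
    Finset.filter_eq_empty_iff.2 (fun p hp => (habs p hp).2.2.1)
  rw [h1, finrank_bot, e1, e2] at hc
  simp only [Finset.card_empty, add_zero] at hc
  omega

/-- vanishing of the pieces of type I outside the index box -/
lemma bot_of_typeI (h : Axes u v w) (hI : IsMonomial I) (hM : IsBound I u v w M) (i j : ℕ)
    {s : ℕ} (hs : 1 ≤ s) (hout : ¬ (i < M ∧ j < M ∧ s ≤ M)) :
    tPiece I (alI u v w i j s) = ⊥ := by
  by_cases hsM : M < s
  · apply tPiece_alI_eq_bot_of_forall h hI hM i j hs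
    rw [Lset_eq_empty hM hsM]
    intro p hp
    exact absurd hp (Finset.notMem_empty _)
  · exact (vanish_of_ge h hI hM i j hs (by omega)).1

lemma bot_of_typeII (h : Axes u v w) (hI : IsMonomial I) (hM : IsBound I u v w M) (i j : ℕ)
    {s : ℕ} (hs : 1 ≤ s) (hout : ¬ (i < M ∧ j < M ∧ s ≤ M)) :
    tPiece I (alII u v w i j s) = ⊥ := by
  by_cases hsM : M < s
  · apply tPiece_alII_eq_bot_of_forall h hI hM i j hs
    rw [Lset_eq_empty hM hsM]
    intro p hp
    exact absurd hp (Finset.notMem_empty _)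
  · exact (vanish_of_ge h hI hM i j hs (by omega)).2

/-- index set of triples `(i, j, s)` -/
def Tri (M : ℕ) : Finset (ℕ × ℕ × ℕ) := Finset.range M ×ˢ Finset.range M ×ˢ Finset.Icc 1 M

lemma mem_Tri {M : ℕ} {x : ℕ × ℕ × ℕ} :
    x ∈ Tri M ↔ x.1 < M ∧ x.2.1 < M ∧ 1 ≤ x.2.2 ∧ x.2.2 ≤ M := by
  simp only [Tri, Finset.mem_product, Finset.mem_range, Finset.mem_Icc]

/-- the finite set of multidegrees of type I -/
def AI (u v w : Fin 3) (M : ℕ) : Finset (Fin 3 → ℤ) :=
  (Tri M).image (fun x => alI u v w x.1 x.2.1 x.2.2)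

/-- the finite set of multidegrees of type II -/
def AII (u v w : Fin 3) (M : ℕ) : Finset (Fin 3 → ℤ) :=
  (Tri M).image (fun x => alII u v w x.1 x.2.1 x.2.2)

lemma alI_inj3 (h : Axes u v w) :
    Function.Injective (fun x : ℕ × ℕ × ℕ => alI u v w x.1 x.2.1 x.2.2) := by
  rintro ⟨i, j, s⟩ ⟨i', j', s'⟩ hx
  have h1 := congrFun hx u
  have h2 := congrFun hx v
  have h3 := congrFun hx w
  simp only [alI, mk3_u h, mk3_v h, mk3_w h] at h1 h2 h3
  have e1 : i = i' := by omega
  have e2 : j = j' := by omega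
  have e3 : s = s' := by omega
  rw [e1, e2, e3]

lemma alII_inj3 (h : Axes u v w) :
    Function.Injective (fun x : ℕ × ℕ × ℕ => alII u v w x.1 x.2.1 x.2.2) := by
  rintro ⟨i, j, s⟩ ⟨i', j', s'⟩ hx
  have h1 := congrFun hx u
  have h2 := congrFun hx v
  have h3 := congrFun hx w
  simp only [alII, mk3_u h, mk3_v h, mk3_w h] at h1 h2 h3
  have e1 : i = i' := by omega
  have e2 : j = j' := by omega
  have e3 : s = s' := by omega
  rw [e1, e2, e3]

/-- multidegrees with exactly `w` negative, outside `AI`, give zero pieces -/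
lemma bot_of_patI (h : Axes u v w) (hI : IsMonomial I) (hM : IsBound I u v w M)
    {α : Fin 3 → ℤ} (hu : 0 ≤ α u) (hv : 0 ≤ α v) (hw : α w < 0) (hα : α ∉ AI u v w M) :
    tPiece I α = ⊥ := by
  have hal : α = alI u v w (α u).toNat (α v).toNat (-α w).toNat := by
    apply ext3 h
    · rw [alI, mk3_u h]; omega
    · rw [alI, mk3_v h]; omega
    · rw [alI, mk3_w h]; omega
  have hs1 : 1 ≤ (-α w).toNat := by omega
  rw [hal]
  apply bot_of_typeI h hI hM _ _ hs1
  rintro ⟨a1, a2, a3⟩
  apply hα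
  rw [hal]
  exact Finset.mem_image.2 ⟨((α u).toNat, (α v).toNat, (-α w).toNat),
    mem_Tri.2 ⟨a1, a2, hs1, a3⟩, rfl⟩

lemma bot_of_patII (h : Axes u v w) (hI : IsMonomial I) (hM : IsBound I u v w M)
    {α : Fin 3 → ℤ} (hu : α u < 0) (hv : α v < 0) (hw : 0 ≤ α w) (hα : α ∉ AII u v w M) :
    tPiece I α = ⊥ := by
  have hal : α = alII u v w (-α u - 1).toNat (-α v - 1).toNat (α w + 1).toNat := by
    apply ext3 h
    · rw [alII, mk3_u h]; omega
    · rw [alII, mk3_v h]; omega
    · rw [alII, mk3_w h]; omega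
  have hs1 : 1 ≤ (α w + 1).toNat := by omega
  rw [hal]
  apply bot_of_typeII h hI hM _ _ hs1
  rintro ⟨a1, a2, a3⟩
  apply hα
  rw [hal]
  exact Finset.mem_image.2 ⟨((-α u - 1).toNat, (-α v - 1).toNat, (α w + 1).toNat),
    mem_Tri.2 ⟨a1, a2, hs1, a3⟩, rfl⟩

lemma sigPiece_single (h : Axes u v w) (hI : IsMonomial I) (hM : IsBound I u v w M) :
    finrank k ↥(sigPiece I ({w} : Set (Fin 3))) =
      ∑ x ∈ Tri M, finrank k ↥(tPiece I (alI u v w x.1 x.2.1 x.2.2)) := by
  classical
  have hsup : sigPiece I ({w} : Set (Fin 3)) = (AI u v w M).sup (fun α => tPiece I α) := by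
    unfold sigPiece
    apply iSup_subtype_eq_finset_sup
    · intro α hα
      obtain ⟨x, hx, rfl⟩ := Finset.mem_image.1 hα
      obtain ⟨-, -, hx3, -⟩ := mem_Tri.1 hx
      intro l
      rw [Set.mem_singleton_iff]
      rcases h.cov l with hl | hl | hl
      · rw [hl, alI, mk3_u h]
        constructor
        · intro hneg; omega
        · intro huw; exact absurd huw h.uw
      · rw [hl, alI, mk3_v h]
        constructor
        · intro hneg; omega
        · intro hvw; exact absurd hvw h.vw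
      · rw [hl, alI, mk3_w h]
        constructor
        · intro _; rfl
        · intro _; omega
    · intro α hpat hα
      have hu : 0 ≤ α u := by
        by_contra hcon
        push_neg at hcon
        exact h.uw ((hpat u).1 hcon)
      have hv : 0 ≤ α v := by
        by_contra hcon
        push_neg at hcon
        exact h.vw ((hpat v).1 hcon)
      have hw : α w < 0 := (hpat w).2 rfl
      exact bot_of_patI h hI hM hu hv hw hα
  rw [hsup, finrank_sup_tPiece hI, AI, Finset.sum_image (fun x _ y _ hxy => alI_inj3 h hxy)]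

lemma sigPiece_compl (h : Axes u v w) (hI : IsMonomial I) (hM : IsBound I u v w M) :
    finrank k ↥(sigPiece I ({w}ᶜ : Set (Fin 3))) =
      ∑ x ∈ Tri M, finrank k ↥(tPiece I (alII u v w x.1 x.2.1 x.2.2)) := by
  classical
  have hsup : sigPiece I ({w}ᶜ : Set (Fin 3)) = (AII u v w M).sup (fun α => tPiece I α) := by
    unfold sigPiece
    apply iSup_subtype_eq_finset_sup
    · intro α hα
      obtain ⟨x, hx, rfl⟩ := Finset.mem_image.1 hα
      obtain ⟨-, -, hx3, -⟩ := mem_Tri.1 hx
      intro l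
      rw [Set.mem_compl_iff, Set.mem_singleton_iff]
      rcases h.cov l with hl | hl | hl
      · rw [hl, alII, mk3_u h]
        constructor
        · intro _; exact h.uw
        · intro _; omega
      · rw [hl, alII, mk3_v h]
        constructor
        · intro _; exact h.vw
        · intro _; omega
      · rw [hl, alII, mk3_w h]
        constructor
        · intro hneg; omega
        · intro hww; exact absurd rfl hww
    · intro α hpat hα
      have hu : α u < 0 := (hpat u).2 h.uw
      have hv : α v < 0 := (hpat v).2 h.vw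
      have hw : 0 ≤ α w := by
        by_contra hcon
        push_neg at hcon
        exact (hpat w).1 hcon rfl
      exact bot_of_patII h hI hM hu hv hw hα
  rw [hsup, finrank_sup_tPiece hI, AII, Finset.sum_image (fun x _ y _ hxy => alII_inj3 h hxy)]

end main

/-- the sign-pattern identity -/
theorem sig_identity (h : Axes u v w) (hI : IsMonomial I)
    [Module.Finite k (MvPolynomial (Fin 3) k ⧸ I)] :
    finrank k ↥(sigPiece I ({w} : Set (Fin 3))) =
      finrank k ↥(sigPiece I ({w}ᶜ : Set (Fin 3))) +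
        finrank k (MvPolynomial (Fin 3) k ⧸ I) := by
  haveI := finite_compl_exps hI
  obtain ⟨M, hM⟩ := exists_isBound (I := I) h
  rw [sigPiece_single h hI hM, sigPiece_compl h hI hM, colength_eq_SS h hI hM]
  unfold Tri SS
  simp only [Finset.sum_product, add_zero]
  rw [← Finset.sum_add_distrib]
  refine Finset.sum_congr rfl fun a _ => ?_
  rw [← Finset.sum_add_distrib]
  refine Finset.sum_congr rfl fun b _ => ?_
  rw [main_ij h hI hM a b, add_comm]

lemma axes_of (i : Fin 3) : Axes (i + 1) (i + 2) i := by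
  fin_cases i <;> exact ⟨by decide, by decide, by decide⟩

end Groth.Agent.Helper25.HilbCol
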