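import Mathlib
import Groth.Agent.Lib.Helper25.HilbSig

/-! Upper bound for the pieces of `T(I)` negative exactly along one axis (generic axes):
every bounded component of the region of multidegree `(i, j, -s)` contains an extremal point,
which gives an injection into the "corners" of the staircase. -/

namespace Groth.Agent.Helper25.HilbCol

open MvPolynomial W4c1hilbpn Module
open Groth.Agent.Helper25.HilbTgt Groth.Agent.Helper25.HilbThree

variable {k : Type*} [Field k] {I : Ideal (MvPolynomial (Fin 3) k)} {u v w : Fin 3}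

lemma add_single_u_eq (h : Axes u v w) (γ : Fin 3 → ℤ) :
    γ + Pi.single u 1 = mk3 u v w (γ u + 1) (γ v) (γ w) := by
  obtain ⟨a, b, c⟩ := add_single_u h γ
  exact ext3 h (by rw [a, mk3_u h]) (by rw [b, mk3_v h]) (by rw [c, mk3_w h])

lemma add_single_v_eq (h : Axes u v w) (γ : Fin 3 → ℤ) :
    γ + Pi.single v 1 = mk3 u v w (γ u) (γ v + 1) (γ w) := by
  obtain ⟨a, b, c⟩ := add_single_v h γ
  exact ext3 h (by rw [a, mk3_u h]) (by rw [b, mk3_v h]) (by rw [c, mk3_w h])

lemma sub_single_w_eq (h : Axes u v w) (γ : Fin 3 → ℤ) :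
    γ - Pi.single w 1 = mk3 u v w (γ u) (γ v) (γ w - 1) := by
  obtain ⟨a, b, c⟩ := sub_single_w h γ
  exact ext3 h (by rw [a, mk3_u h]) (by rw [b, mk3_v h]) (by rw [c, mk3_w h])

/-- weight used to pick an extremal point of a component -/
def wtG (u v w : Fin 3) (γ : Fin 3 → ℤ) : ℤ := γ u + γ v - γ w

/-- the data attached to a bounded component in multidegree `(i, j, -s)` -/
def SpecG (I : Ideal (MvPolynomial (Fin 3) k)) (u v w : Fin 3) (i j s : ℕ)
    (C : Bdd I (alI u v w i j s)) (x : Σ _ : ℕ × ℕ, ℕ) : Prop :=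
  (∃ γ : region I (alI u v w i j s), (G I (alI u v w i j s)).connectedComponentMk γ = C.1 ∧
    γ.1 = mk3 u v w (x.1.1 : ℤ) (x.1.2 : ℤ) (x.2 : ℤ)) ∧
  i ≤ x.1.1 ∧ j ≤ x.1.2 ∧ x.2 < hh I u v w x.1.1 x.1.2 ∧
  hh I u v w (x.1.1 + 1) x.1.2 ≤ x.2 ∧ hh I u v w x.1.1 (x.1.2 + 1) ≤ x.2 ∧
  x.2 + s = hh I u v w (x.1.1 - i) (x.1.2 - j)

lemma specG_inj {i j s s' : ℕ} {C : Bdd I (alI u v w i j s)} {C' : Bdd I (alI u v w i j s')}
    {x : Σ _ : ℕ × ℕ, ℕ} (hx : SpecG I u v w i j s C x) (hx' : SpecG I u v w i j s' C' x) :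
    s = s' ∧ HEq C C' := by
  obtain ⟨⟨γ, hC, hγ⟩, -, -, -, -, -, hs⟩ := hx
  obtain ⟨⟨γ', hC', hγ'⟩, -, -, -, -, -, hs'⟩ := hx'
  have hss : s = s' := by omega
  subst hss
  refine ⟨rfl, heq_of_eq ?_⟩
  apply Subtype.ext
  rw [← hC, ← hC']
  congr 1
  apply Subtype.ext
  rw [hγ, hγ']

section bnd
variable [Finite {γ : Fin 3 →₀ ℕ // γ ∉ exps I}]

lemma exists_specG (h : Axes u v w) (i j s : ℕ) (hs : 1 ≤ s) (C : Bdd I (alI u v w i j s)) :
    ∃ x, SpecG I u v w i j s C x := by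
  classical
  have hfin := C.2
  obtain ⟨v0, hv0⟩ := C.1.nonempty_supp
  obtain ⟨γ, hγmem, hγmax⟩ := hfin.toFinset.exists_max_image
    (fun p : region I (alI u v w i j s) => wtG u v w p.1) ⟨v0, hfin.mem_toFinset.2 hv0⟩
  rw [Set.Finite.mem_toFinset, SimpleGraph.ConnectedComponent.mem_supp_iff] at hγmem
  have hmax : ∀ p : region I (alI u v w i j s), (G I (alI u v w i j s)).Adj γ p →
      wtG u v w p.1 ≤ wtG u v w γ.1 := by
    intro p hp
    apply hγmax
    rw [Set.Finite.mem_toFinset, SimpleGraph.ConnectedComponent.mem_supp_iff, ← hγmem]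
    exact (SimpleGraph.ConnectedComponent.connectedComponentMk_eq_of_adj hp).symm
  have hfinγ : ((G I (alI u v w i j s)).connectedComponentMk ⟨γ.1, γ.2⟩).supp.Finite := by
    rw [show (⟨γ.1, γ.2⟩ : region I (alI u v w i j s)) = γ from rfl, hγmem]; exact hfin
  have hpos : ∀ l, 0 ≤ γ.1 l := fun l => nonneg_of_finite γ.2 hfinγ l
  have hreg : mk3 u v w (γ.1 u) (γ.1 v) (γ.1 w) ∈ region I (alI u v w i j s) := by
    rw [← eq_mk3 h]; exact γ.2
  rw [mem_regionI h] at hreg
  obtain ⟨r1, r2, r3, r4⟩ := hreg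
  have pu := hpos u
  have pv := hpos v
  have pw := hpos w
  -- maximality in the `u` direction
  have hU : ((hZ I u v w (γ.1 u + 1, γ.1 v) : ℕ) : ℤ) ≤ γ.1 w := by
    by_contra hcon
    push_neg at hcon
    have hreg' : mk3 u v w (γ.1 u + 1) (γ.1 v) (γ.1 w) ∈ region I (alI u v w i j s) := by
      rw [mem_regionI h]
      have a1 : hZ I u v w (γ.1 u + 1 - i, γ.1 v - j) ≤ hZ I u v w (γ.1 u - i, γ.1 v - j) := by
        apply hZ_anti h
        · dsimp only; omega
        · dsimp only; omega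
      refine ⟨by omega, r2, by omega, hcon⟩
    have hadj : (G I (alI u v w i j s)).Adj γ ⟨_, hreg'⟩ := by
      have := step_adj_single γ.1 u
      rw [add_single_u_eq h] at this
      exact this
    have h1 : wtG u v w (mk3 u v w (γ.1 u + 1) (γ.1 v) (γ.1 w)) ≤ wtG u v w γ.1 :=
      hmax ⟨_, hreg'⟩ hadj
    simp only [wtG, mk3_u h, mk3_v h, mk3_w h] at h1
    omega
  -- maximality in the `v` direction
  have hV : ((hZ I u v w (γ.1 u, γ.1 v + 1) : ℕ) : ℤ) ≤ γ.1 w := by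
    by_contra hcon
    push_neg at hcon
    have hreg' : mk3 u v w (γ.1 u) (γ.1 v + 1) (γ.1 w) ∈ region I (alI u v w i j s) := by
      rw [mem_regionI h]
      have a1 : hZ I u v w (γ.1 u - i, γ.1 v + 1 - j) ≤ hZ I u v w (γ.1 u - i, γ.1 v - j) := by
        apply hZ_anti h
        · dsimp only; omega
        · dsimp only; omega
      refine ⟨r1, by omega, by omega, hcon⟩
    have hadj : (G I (alI u v w i j s)).Adj γ ⟨_, hreg'⟩ := by
      have := step_adj_single γ.1 v
      rw [add_single_v_eq h] at this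
      exact this
    have h1 : wtG u v w (mk3 u v w (γ.1 u) (γ.1 v + 1) (γ.1 w)) ≤ wtG u v w γ.1 :=
      hmax ⟨_, hreg'⟩ hadj
    simp only [wtG, mk3_u h, mk3_v h, mk3_w h] at h1
    omega
  -- minimality in the `w` direction
  have hW : γ.1 w ≤ ((hZ I u v w (γ.1 u - i, γ.1 v - j) : ℕ) : ℤ) - s := by
    by_contra hcon
    push_neg at hcon
    have hreg' : mk3 u v w (γ.1 u) (γ.1 v) (γ.1 w - 1) ∈ region I (alI u v w i j s) := by
      rw [mem_regionI h]
      refine ⟨r1, r2, by omega, by omega⟩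
    have hadj0 : (stepGraph (Fin 3)).Adj (γ.1 - Pi.single w 1) γ.1 := by
      have := step_adj_single (γ.1 - Pi.single w 1) w
      rwa [sub_add_cancel] at this
    have hadj : (G I (alI u v w i j s)).Adj γ ⟨_, hreg'⟩ := by
      rw [sub_single_w_eq h] at hadj0
      exact hadj0.symm
    have h1 : wtG u v w (mk3 u v w (γ.1 u) (γ.1 v) (γ.1 w - 1)) ≤ wtG u v w γ.1 :=
      hmax ⟨_, hreg'⟩ hadj
    simp only [wtG, mk3_u h, mk3_v h, mk3_w h] at h1
    omega
  have e1 : hZ I u v w (γ.1 u, γ.1 v) = hh I u v w (γ.1 u).toNat (γ.1 v).toNat := rfl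
  have e2 : hZ I u v w (γ.1 u + 1, γ.1 v) = hh I u v w ((γ.1 u).toNat + 1) (γ.1 v).toNat := by
    show hh I u v w (γ.1 u + 1).toNat (γ.1 v).toNat = _
    congr 1
    omega
  have e3' : hZ I u v w (γ.1 u, γ.1 v + 1) = hh I u v w (γ.1 u).toNat ((γ.1 v).toNat + 1) := by
    show hh I u v w (γ.1 u).toNat (γ.1 v + 1).toNat = _
    congr 1
    omega
  have e4 : hZ I u v w (γ.1 u - i, γ.1 v - j)
      = hh I u v w ((γ.1 u).toNat - i) ((γ.1 v).toNat - j) := by
    show hh I u v w (γ.1 u - i).toNat (γ.1 v - j).toNat = _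
    congr 1 <;> omega
  rw [e1] at r4
  rw [e2] at hU
  rw [e3'] at hV
  rw [e4] at hW r3
  refine ⟨⟨((γ.1 u).toNat, (γ.1 v).toNat), (γ.1 w).toNat⟩, ⟨γ, hγmem, ?_⟩, ?_, ?_, ?_, ?_, ?_, ?_⟩
  · show γ.1 = mk3 u v w ((γ.1 u).toNat : ℤ) ((γ.1 v).toNat : ℤ) ((γ.1 w).toNat : ℤ)
    rw [Int.toNat_of_nonneg pu, Int.toNat_of_nonneg pv, Int.toNat_of_nonneg pw]
    exact eq_mk3 h γ.1
  · show i ≤ (γ.1 u).toNat
    omega
  · show j ≤ (γ.1 v).toNat
    omega
  · show (γ.1 w).toNat < hh I u v w (γ.1 u).toNat (γ.1 v).toNat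
    omega
  · show hh I u v w ((γ.1 u).toNat + 1) (γ.1 v).toNat ≤ (γ.1 w).toNat
    omega
  · show hh I u v w (γ.1 u).toNat ((γ.1 v).toNat + 1) ≤ (γ.1 w).toNat
    omega
  · show (γ.1 w).toNat + s = hh I u v w ((γ.1 u).toNat - i) ((γ.1 v).toNat - j)
    omega

/-- the basic upper bound: bounded components inject into staircase corners -/
theorem typeI_bound (h : Axes u v w) (hI : IsMonomial I) {M : ℕ} (hM : IsBound I u v w M)
    (i j : ℕ) :
    ∑ s ∈ Finset.Icc 1 M, finrank k ↥(tPiece I (alI u v w i j s)) ≤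
      ∑ a ∈ Finset.Ico i M, ∑ b ∈ Finset.Ico j M,
        (hh I u v w a b - max (hh I u v w (a + 1) b) (hh I u v w a (b + 1))) := by
  classical
  have hcard : ∀ s ∈ Finset.Icc 1 M,
      finrank k ↥(tPiece I (alI u v w i j s)) = Nat.card (Bdd I (alI u v w i j s)) :=
    fun s _ => finrank_eq_card_Bdd hI _
  rw [Finset.sum_congr rfl hcard]
  let box : Finset (ℕ × ℕ) := Finset.Ico i M ×ˢ Finset.Ico j M
  let Tset : Finset (Σ _ : ℕ × ℕ, ℕ) := box.sigma (fun p =>
    Finset.Ico (max (hh I u v w (p.1 + 1) p.2) (hh I u v w p.1 (p.2 + 1))) (hh I u v w p.1 p.2))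
  have hTcard : Tset.card = ∑ a ∈ Finset.Ico i M, ∑ b ∈ Finset.Ico j M,
      (hh I u v w a b - max (hh I u v w (a + 1) b) (hh I u v w a (b + 1))) := by
    rw [Finset.card_sigma, Finset.sum_product]
    refine Finset.sum_congr rfl fun a _ => Finset.sum_congr rfl fun b _ => ?_
    rw [Nat.card_Ico]
  rw [← hTcard]
  haveI : ∀ s : ↥(Finset.Icc 1 M), Finite (Bdd I (alI u v w i j s)) := fun s => finite_Bdd
  have hspec : ∀ (s : ↥(Finset.Icc 1 M)) (C : Bdd I (alI u v w i j s)),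
      ∃ x, SpecG I u v w i j s C x :=
    fun s C => exists_specG h i j s (Finset.mem_Icc.1 s.2).1 C
  have hmemT : ∀ (s : ↥(Finset.Icc 1 M)) (C : Bdd I (alI u v w i j s)) x,
      SpecG I u v w i j s C x → x ∈ Tset := by
    intro s C x hx
    obtain ⟨-, ha1, ha2, hlt, hm1, hm2, -⟩ := hx
    obtain ⟨b0, b1⟩ := (hM x.1.1 x.1.2).1 (by omega)
    simp only [Tset, Finset.mem_sigma, box, Finset.mem_product, Finset.mem_Ico]
    exact ⟨⟨⟨ha1, b0⟩, ⟨ha2, b1⟩⟩, max_le hm1 hm2, hlt⟩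
  let g : (Σ s : ↥(Finset.Icc 1 M), Bdd I (alI u v w i j s)) → ↥Tset := fun y =>
    ⟨Classical.choose (hspec y.1 y.2), hmemT y.1 y.2 _ (Classical.choose_spec (hspec y.1 y.2))⟩
  have hginj : Function.Injective g := by
    rintro ⟨⟨s, hs⟩, C⟩ ⟨⟨s', hs'⟩, C'⟩ hyy
    have h1 := Classical.choose_spec (hspec ⟨s, hs⟩ C)
    have h2 := Classical.choose_spec (hspec ⟨s', hs'⟩ C')
    have hx : Classical.choose (hspec ⟨s, hs⟩ C) = Classical.choose (hspec ⟨s', hs'⟩ C') :=
      congrArg Subtype.val hyy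
    rw [hx] at h1
    obtain ⟨hss, hCC⟩ := specG_inj h1 h2
    subst hss
    have : C = C' := eq_of_heq hCC
    subst this
    rfl
  have hle := Nat.card_le_card_of_injective g hginj
  rw [Nat.card_sigma, Nat.card_eq_fintype_card, Fintype.card_coe] at hle
  rw [← Finset.sum_coe_sort (Finset.Icc 1 M) (fun s => Nat.card (Bdd I (alI u v w i j s)))]
  exact hle

end bnd

lemma tele_anti (f : ℕ → ℕ) (hf : ∀ b, f (b + 1) ≤ f b) (M : ℕ) (hM : f M = 0) :
    ∀ d j, j + d = M → ∑ b ∈ Finset.Ico j M, (f b - f (b + 1)) = f j := by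
  intro d
  induction d with
  | zero =>
    intro j hj
    have : j = M := by omega
    rw [this, Finset.Ico_self, Finset.sum_empty, hM]
  | succ d ih =>
    intro j hj
    have hlt : j < M := by omega
    rw [Finset.sum_eq_sum_Ico_succ_bot hlt, ih (j + 1) (by omega)]
    have := hf j
    omega

lemma tele_anti' (f : ℕ → ℕ) (hf : ∀ b, f (b + 1) ≤ f b) (M : ℕ) (hM : f M = 0) (j : ℕ) :
    ∑ b ∈ Finset.Ico j M, (f b - f (b + 1)) = f j := by
  by_cases hj : j ≤ M
  · exact tele_anti f hf M hM (M - j) j (by omega)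
  · push_neg at hj
    rw [Finset.Ico_eq_empty (by omega), Finset.sum_empty]
    have hz : ∀ n, f (M + n) = 0 := by
      intro n
      induction n with
      | zero => simpa using hM
      | succ n ih =>
        have := hf (M + n)
        rw [← add_assoc]
        omega
    have := hz (j - M)
    rw [show M + (j - M) = j by omega] at this
    exact this.symm

/-- the bound for the sign-pattern piece under the stability inequality of the staircase -/
theorem sig_le [Finite {γ : Fin 3 →₀ ℕ // γ ∉ exps I}] (h : Axes u v w) (hI : IsMonomial I)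
    {M : ℕ} (hM : IsBound I u v w M)
    (hst : ∀ a b, hh I u v w (a + 1) b ≤ hh I u v w a (b + 1)) :
    finrank k ↥(sigPiece I ({w} : Set (Fin 3))) ≤
      ∑ i ∈ Finset.range M, ∑ a ∈ Finset.Ico i M, ∑ j ∈ Finset.range M, hh I u v w a j := by
  rw [sigPiece_single h hI hM]
  unfold Tri
  simp only [Finset.sum_product]
  refine Finset.sum_le_sum fun i _ => ?_
  conv_rhs => rw [Finset.sum_comm]
  refine Finset.sum_le_sum fun j _ => ?_
  refine (typeI_bound h hI hM i j).trans ?_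
  refine Finset.sum_le_sum fun a _ => ?_
  have e : ∀ b ∈ Finset.Ico j M,
      hh I u v w a b - max (hh I u v w (a + 1) b) (hh I u v w a (b + 1)) =
        hh I u v w a b - hh I u v w a (b + 1) := fun b _ => by rw [max_eq_right (hst a b)]
  rw [Finset.sum_congr rfl e]
  exact (tele_anti' (fun b => hh I u v w a b) (fun b => hh_anti h le_rfl (Nat.le_succ b)) M
    (hh_zero_of_ge hM (Or.inr le_rfl)) j).le

end Groth.Agent.Helper25.HilbCol
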