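import Mathlib
import Groth.Agent.Lib.Helper25.HilbBnd

/-! Extremality of `m^r` among strongly stable ideals of the same colength, for the
sign-pattern pieces `{2}`, `{1}`, `{0,1}`, `{0,2}` of the tangent space. -/

namespace Groth.Agent.Helper25.HilbSlice

open MvPolynomial W4c1hilbpn Groth.Agent.Helper25.HilbTgt Groth.Agent.Helper25.HilbSB

variable {k : Type*} [Field k] {I : Ideal (MvPolynomial (Fin 3) k)}

/-- colength of the slice, as a sum of staircase numbers -/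
noncomputable def cS (I : Ideal (MvPolynomial (Fin 3) k)) (N i : ℕ) : ℕ :=
  ∑ b ∈ Finset.range N, stairZ I i b

lemma slice_facts (hI : IsStronglyStable I) [Module.Finite k (MvPolynomial (Fin 3) k ⧸ I)]
    [Finite {γ : Fin 3 →₀ ℕ // γ ∉ exps I}] {N : ℕ}
    (hN : ∀ δ : Fin 3 →₀ ℕ, δ ∉ exps I → ∀ i, δ i < N) :
    (∀ i, cS I N (i + 1) + stairZ I i 0 ≤ cS I N i) ∧
    (∀ i, cS I N i ≤ t (stairZ I i 0)) ∧
    (∀ r', ∑ i ∈ Finset.range r', cS I N i ≤
        Module.finrank k (MvPolynomial (Fin 3) k ⧸ I)) := by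
  classical
  have hstairN : ∀ i j, stairZ I i j ≤ N := stairZ_le_of_bound hN
  have hzeroN : ∀ i b, N ≤ b → stairZ I i b = 0 := by
    intro i b hb
    by_contra h
    have h1 : 0 < stairZ I i b := by omega
    rw [← notMem_iff_lt_stairZ] at h1
    have := hN _ h1 1
    simp at this
    omega
  refine ⟨?_, ?_, ?_⟩
  · intro i
    have h1 : ∑ b ∈ Finset.range N, stairZ I (i + 1) b ≤
        ∑ b ∈ Finset.range N, stairZ I i (b + 1) :=
      Finset.sum_le_sum fun b _ => (HilbStair.stair I hI i b).1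
    have h2 := Finset.sum_range_succ' (fun b => stairZ I i b) N
    have h3 := Finset.sum_range_succ (fun b => stairZ I i b) N
    have h4 := hzeroN i N le_rfl
    simp only [cS]
    omega
  · intro i
    have h1 : ∑ b ∈ Finset.range N, stairZ I i b ≤ ∑ b ∈ Finset.range N, (stairZ I i 0 - b) :=
      Finset.sum_le_sum fun b _ => stair_le_sub hI i b
    rw [gauss _ N (hstairN i 0)] at h1
    exact h1
  · intro r'
    rw [finrank_quot_eq_card I hI.1]
    let T : Finset (Σ _ : ℕ, Σ _ : ℕ, ℕ) := (Finset.range r').sigma (fun i => D I N i)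
    have hT : T.card = ∑ i ∈ Finset.range r', cS I N i := by
      rw [Finset.card_sigma]
      exact Finset.sum_congr rfl fun i _ => card_D N i
    rw [← hT, ← Fintype.card_coe, ← Nat.card_eq_fintype_card]
    refine Nat.card_le_card_of_injective
      (fun x : ↥T => (⟨e3 x.1.1 x.1.2.1 x.1.2.2,
        (mem_D hN x.1.1 x.1.2.1 x.1.2.2).1 (Finset.mem_sigma.1 x.2).2⟩ :
          {γ : Fin 3 →₀ ℕ // γ ∉ exps I})) ?_
    rintro ⟨⟨i, b, c'⟩, hx⟩ ⟨⟨i', b', c''⟩, hx'⟩ h
    have h' := congrArg Subtype.val h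
    simp only at h'
    have e0 := DFunLike.congr_fun h' 0
    have e1 := DFunLike.congr_fun h' 1
    have e2 := DFunLike.congr_fun h' 2
    simp only [e3_zero, e3_one, e3_two] at e0 e1 e2
    subst e0 e1 e2
    rfl

end Groth.Agent.Helper25.HilbSlice

namespace Groth.Agent.Helper25.HilbCol

open MvPolynomial W4c1hilbpn Module
open Groth.Agent.Helper25.HilbTgt Groth.Agent.Helper25.HilbThree

variable {k : Type*} [Field k] {I : Ideal (MvPolynomial (Fin 3) k)} {u v w : Fin 3}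

/-! ### numerics -/

lemma hockey4 (r : ℕ) :
    ∑ i ∈ Finset.range r, Nat.choose (r - i + 2) 3 = Nat.choose (r + 3) 4 := by
  induction r with
  | zero => simp
  | succ r ih =>
    rw [Finset.sum_range_succ']
    have e : ∀ i ∈ Finset.range r,
        Nat.choose (r + 1 - (i + 1) + 2) 3 = Nat.choose (r - i + 2) 3 := by
      intro i _
      congr 1
      omega
    rw [Finset.sum_congr rfl e, ih]
    have h1 : Nat.choose (r + 1 + 3) 4 = Nat.choose (r + 3) 3 + Nat.choose (r + 3) 4 := by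
      rw [show r + 1 + 3 = (r + 3) + 1 by omega]
      exact Nat.choose_succ_succ (r + 3) 3
    have h2 : r + 1 - 0 + 2 = r + 3 := by omega
    rw [h2, h1]
    omega

lemma tail_t (r i : ℕ) :
    ∑ a ∈ Finset.Ico i r, HilbSlice.t (r - a) = Nat.choose (r - i + 2) 3 := by
  rw [Finset.sum_Ico_eq_sum_range]
  have e : ∀ a ∈ Finset.range (r - i), HilbSlice.t (r - (i + a)) = HilbSlice.t (r - i - a) := by
    intro a _
    congr 1
    omega
  rw [Finset.sum_congr rfl e, HilbSlice.hockey]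

lemma seq_core (c L : ℕ → ℕ) (r N d : ℕ) (hrN : r ≤ N)
    (R1 : ∀ i, c (i + 1) + L i ≤ c i) (R2 : ∀ i, c i ≤ HilbSlice.t (L i))
    (htotal : ∀ r', ∑ i ∈ Finset.range r', c i ≤ d) (hd : d ≤ Nat.choose (r + 2) 3) :
    (∑ i ∈ Finset.range N, ∑ a ∈ Finset.Ico i N, c a =
        ∑ i ∈ Finset.range r, ∑ a ∈ Finset.Ico i r, c a) ∧
    (∀ j, j ≤ r → ∑ a ∈ Finset.Ico j r, c a ≤ ∑ a ∈ Finset.Ico j r, HilbSlice.t (r - a)) := by
  have hT : ∀ j, j ≤ r →
      ∑ a ∈ Finset.Ico j r, c a ≤ ∑ a ∈ Finset.Ico j r, HilbSlice.t (r - a) :=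
    HilbSlice.tail_bound c L r R1 R2 ((htotal r).trans hd)
  have hcr : c r = 0 := by
    by_contra hne
    have hall : ∀ i, i ≤ r → HilbSlice.t (r - i) < c i := by
      intro i hi
      by_contra hle
      push_neg at hle
      have := HilbSlice.stepA' c L r R1 R2 i r hi hle
      rw [Nat.sub_self, HilbSlice.t_zero] at this
      omega
    have h1 := (htotal (r + 1)).trans hd
    rw [Finset.sum_range_succ] at h1
    have h2 : ∑ i ∈ Finset.range r, HilbSlice.t (r - i) ≤ ∑ i ∈ Finset.range r, c i :=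
      Finset.sum_le_sum fun i hi => (hall i (Finset.mem_range.1 hi).le).le
    rw [HilbSlice.hockey] at h2
    omega
  have hZ0 : ∀ a, r ≤ a → c a = 0 := by
    intro a ha
    have := HilbSlice.stepA' c L r R1 R2 r a ha (by rw [hcr]; exact Nat.zero_le _)
    rw [show r - a = 0 by omega, HilbSlice.t_zero] at this
    omega
  refine ⟨?_, hT⟩
  rw [← Finset.sum_range_add_sum_Ico _ hrN]
  have hz : ∑ i ∈ Finset.Ico r N, ∑ a ∈ Finset.Ico i N, c a = 0 := by
    refine Finset.sum_eq_zero fun i hi => Finset.sum_eq_zero fun a ha => hZ0 a ?_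
    have := (Finset.mem_Ico.1 hi).1
    have := (Finset.mem_Ico.1 ha).1
    omega
  rw [hz, add_zero]
  refine Finset.sum_congr rfl fun i hi => ?_
  have hir : i ≤ r := (Finset.mem_range.1 hi).le
  rw [← Finset.sum_Ico_consecutive c hir hrN]
  have hz' : ∑ a ∈ Finset.Ico r N, c a = 0 :=
    Finset.sum_eq_zero fun a ha => hZ0 a (Finset.mem_Ico.1 ha).1
  rw [hz', add_zero]

/-! ### swapping the two non-fixed axes -/

lemma pt_swap (u v w : Fin 3) (a b c : ℕ) : pt u v w a b c = pt u w v a c b := by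
  simp only [pt]; abel

open Classical in
lemma hh_eq_sum (h : Axes u v w) [Finite {γ : Fin 3 →₀ ℕ // γ ∉ exps I}] {M : ℕ}
    (hM : IsBound I u v w M) (a b : ℕ) :
    hh I u v w a b = ∑ c ∈ Finset.range M, if pt u v w a b c ∉ exps I then 1 else 0 := by
  rw [← Finset.card_filter]
  have : (Finset.range M).filter (fun c => pt u v w a b c ∉ exps I) =
      Finset.range (hh I u v w a b) := by
    ext c
    rw [Finset.mem_filter, Finset.mem_range, Finset.mem_range, notMem_pt_iff h]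
    exact ⟨fun h' => h'.2, fun h' => ⟨lt_of_lt_of_le h' (hM a b).2, h'⟩⟩
  rw [this, Finset.card_range]

lemma sum_hh_swap (h : Axes u v w) [Finite {γ : Fin 3 →₀ ℕ // γ ∉ exps I}] {M : ℕ}
    (hM : IsBound I u v w M) (hM' : IsBound I u w v M) (a : ℕ) :
    ∑ b ∈ Finset.range M, hh I u v w a b = ∑ c ∈ Finset.range M, hh I u w v a c := by
  classical
  have h' : Axes u w v := ⟨h.uw, h.uv, h.vw.symm⟩
  rw [Finset.sum_congr rfl fun b _ => hh_eq_sum h hM a b,
    Finset.sum_congr rfl fun c _ => hh_eq_sum h' hM' a c, Finset.sum_comm]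
  refine Finset.sum_congr rfl fun c _ => Finset.sum_congr rfl fun b _ => ?_
  rw [pt_swap]

lemma stairY_eq_hh (I : Ideal (MvPolynomial (Fin 3) k)) (i j : ℕ) :
    stairY I i j = hh I 0 2 1 i j := by
  unfold stairY hh
  have : ∀ b, e3 i b j = pt (0 : Fin 3) 2 1 i j b := fun b => by rw [e3_eq_pt, pt_swap]
  simp only [this]

lemma axes021 : Axes (0 : Fin 3) 2 1 := ⟨by decide, by decide, by decide⟩

lemma isBound_of_bound (h : Axes u v w) [Finite {γ : Fin 3 →₀ ℕ // γ ∉ exps I}] {N : ℕ}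
    (hN : ∀ δ : Fin 3 →₀ ℕ, δ ∉ exps I → ∀ i, δ i < N) : IsBound I u v w N := by
  intro a b
  refine ⟨fun hpos => ?_, ?_⟩
  · have h0 := (notMem_pt_iff (I := I) h a b 0).2 hpos
    have hu := hN _ h0 u
    have hv := hN _ h0 v
    rw [pt_u h.uv h.uw] at hu
    rw [pt_v h.uv h.vw] at hv
    exact ⟨hu, hv⟩
  · by_contra hcon
    push_neg at hcon
    have h0 := (notMem_pt_iff (I := I) h a b N).2 hcon
    have hw := hN _ h0 w
    rw [pt_w h.uw h.vw] at hw
    exact lt_irrefl _ hw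

/-! ### the extremality statements -/

theorem sig_single_extremal (h : Axes u v w) (r : ℕ) (hI : IsStronglyStable I)
    [Module.Finite k (MvPolynomial (Fin 3) k ⧸ I)]
    (hd : finrank k (MvPolynomial (Fin 3) k ⧸ I) = Nat.choose (r + 2) 3)
    (hst : ∀ a b, hh I u v w (a + 1) b ≤ hh I u v w a (b + 1))
    {N : ℕ} (hrN : r ≤ N) (hN : ∀ δ : Fin 3 →₀ ℕ, δ ∉ exps I → ∀ i, δ i < N)
    (hsl : ∀ a, ∑ j ∈ Finset.range N, hh I u v w a j = HilbSlice.cS I N a) :
    finrank k ↥(sigPiece I ({w} : Set (Fin 3))) ≤ Nat.choose (r + 3) 4 ∧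
    (finrank k ↥(sigPiece I ({w} : Set (Fin 3))) = Nat.choose (r + 3) 4 ↔
      I = (Ideal.span (Set.range (MvPolynomial.X : Fin 3 → MvPolynomial (Fin 3) k))) ^ r) := by
  classical
  haveI := finite_compl_exps hI.1
  have hB : IsBound I u v w N := isBound_of_bound h hN
  obtain ⟨R1, R2, htotal⟩ := HilbSlice.slice_facts hI hN
  obtain ⟨hBsum, hT⟩ := seq_core (HilbSlice.cS I N) (fun i => stairZ I i 0) r N _ hrN R1 R2
    htotal hd.le
  have hle := sig_le h hI.1 hB hst
  have e1 : ∑ i ∈ Finset.range N, ∑ a ∈ Finset.Ico i N, ∑ j ∈ Finset.range N, hh I u v w a j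
      = ∑ i ∈ Finset.range N, ∑ a ∈ Finset.Ico i N, HilbSlice.cS I N a :=
    Finset.sum_congr rfl fun i _ => Finset.sum_congr rfl fun a _ => hsl a
  rw [e1, hBsum] at hle
  have hK : ∑ i ∈ Finset.range r, ∑ a ∈ Finset.Ico i r, HilbSlice.t (r - a)
      = Nat.choose (r + 3) 4 := by
    rw [← hockey4]
    exact Finset.sum_congr rfl fun i _ => tail_t r i
  have hTK : ∑ i ∈ Finset.range r, ∑ a ∈ Finset.Ico i r, HilbSlice.cS I N a ≤
      ∑ i ∈ Finset.range r, ∑ a ∈ Finset.Ico i r, HilbSlice.t (r - a) :=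
    Finset.sum_le_sum fun i hi => hT i (Finset.mem_range.1 hi).le
  refine ⟨by omega, ?_, ?_⟩
  · intro heq
    have hsumeq : ∑ i ∈ Finset.range r, ∑ a ∈ Finset.Ico i r, HilbSlice.cS I N a =
        ∑ i ∈ Finset.range r, ∑ a ∈ Finset.Ico i r, HilbSlice.t (r - a) := by omega
    have hall := (Finset.sum_eq_sum_iff_of_le
      (fun i hi => hT i (Finset.mem_range.1 hi).le)).1 hsumeq
    apply (HilbSlice.main r hI hd.le).2
    intro j hj
    rw [Finset.sum_congr rfl fun i _ => HilbSlice.finrank_slice hI.1 hN i]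
    exact hall j (Finset.mem_range.2 hj)
  · intro hIeq
    rw [hIeq]
    exact finrank_sigPiece_single r w

theorem sig_compl_extremal (h : Axes u v w) (r : ℕ) (hI : IsMonomial I)
    [Module.Finite k (MvPolynomial (Fin 3) k ⧸ I)]
    (hd : finrank k (MvPolynomial (Fin 3) k ⧸ I) = Nat.choose (r + 2) 3) {P : Prop}
    (hs : finrank k ↥(sigPiece I ({w} : Set (Fin 3))) ≤ Nat.choose (r + 3) 4 ∧
      (finrank k ↥(sigPiece I ({w} : Set (Fin 3))) = Nat.choose (r + 3) 4 ↔ P)) :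
    finrank k ↥(sigPiece I ({w}ᶜ : Set (Fin 3))) ≤ Nat.choose (r + 2) 4 ∧
    (finrank k ↥(sigPiece I ({w}ᶜ : Set (Fin 3))) = Nat.choose (r + 2) 4 ↔ P) := by
  have hid := sig_identity h hI
  have hp : Nat.choose (r + 3) 4 = Nat.choose (r + 2) 3 + Nat.choose (r + 2) 4 :=
    Nat.choose_succ_succ (r + 2) 3
  obtain ⟨hs1, hs2⟩ := hs
  refine ⟨by omega, ?_, ?_⟩
  · intro heq
    exact hs2.1 (by omega)
  · intro hP
    have := hs2.2 hP
    omega

lemma set01 : ({0, 1} : Set (Fin 3)) = {2}ᶜ := by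
  ext x
  simp only [Set.mem_insert_iff, Set.mem_singleton_iff, Set.mem_compl_iff]
  revert x
  decide

lemma set02 : ({0, 2} : Set (Fin 3)) = {1}ᶜ := by
  ext x
  simp only [Set.mem_insert_iff, Set.mem_singleton_iff, Set.mem_compl_iff]
  revert x
  decide

theorem extremal (r : ℕ) (hI : IsStronglyStable I)
    [Module.Finite k (MvPolynomial (Fin 3) k ⧸ I)]
    (hd : finrank k (MvPolynomial (Fin 3) k ⧸ I) = Nat.choose (r + 2) 3) :
    (finrank k ↥(sigPiece I ({2} : Set (Fin 3))) ≤ Nat.choose (r + 3) 4 ∧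
      (finrank k ↥(sigPiece I ({2} : Set (Fin 3))) = Nat.choose (r + 3) 4 ↔
        I = (Ideal.span (Set.range (MvPolynomial.X : Fin 3 → MvPolynomial (Fin 3) k))) ^ r)) ∧
    (finrank k ↥(sigPiece I ({1} : Set (Fin 3))) ≤ Nat.choose (r + 3) 4 ∧
      (finrank k ↥(sigPiece I ({1} : Set (Fin 3))) = Nat.choose (r + 3) 4 ↔
        I = (Ideal.span (Set.range (MvPolynomial.X : Fin 3 → MvPolynomial (Fin 3) k))) ^ r)) ∧
    (finrank k ↥(sigPiece I ({0, 1} : Set (Fin 3))) ≤ Nat.choose (r + 2) 4 ∧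
      (finrank k ↥(sigPiece I ({0, 1} : Set (Fin 3))) = Nat.choose (r + 2) 4 ↔
        I = (Ideal.span (Set.range (MvPolynomial.X : Fin 3 → MvPolynomial (Fin 3) k))) ^ r)) ∧
    (finrank k ↥(sigPiece I ({0, 2} : Set (Fin 3))) ≤ Nat.choose (r + 2) 4 ∧
      (finrank k ↥(sigPiece I ({0, 2} : Set (Fin 3))) = Nat.choose (r + 2) 4 ↔
        I = (Ideal.span (Set.range (MvPolynomial.X : Fin 3 → MvPolynomial (Fin 3) k))) ^ r)) := by
  classical
  haveI := finite_compl_exps hI.1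
  obtain ⟨N0, hN0⟩ := exists_bound (I := I)
  have hN : ∀ δ : Fin 3 →₀ ℕ, δ ∉ exps I → ∀ i, δ i < N0 + r :=
    fun δ hδ i => lt_of_lt_of_le (hN0 δ hδ i) (Nat.le_add_right _ _)
  have hrN : r ≤ N0 + r := Nat.le_add_left _ _
  have hB012 : IsBound I 0 1 2 (N0 + r) := isBound_of_bound axes012 hN
  have hB021 : IsBound I 0 2 1 (N0 + r) := isBound_of_bound axes021 hN
  have hst2 : ∀ a b, hh I 0 1 2 (a + 1) b ≤ hh I 0 1 2 a (b + 1) := by
    intro a b
    rw [← stairZ_eq_hh, ← stairZ_eq_hh]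
    exact (HilbStair.stair I hI a b).1
  have hst1 : ∀ a b, hh I 0 2 1 (a + 1) b ≤ hh I 0 2 1 a (b + 1) := by
    intro a b
    rw [← stairY_eq_hh, ← stairY_eq_hh]
    exact (HilbStair.stair I hI a b).2
  have hsl2 : ∀ a, ∑ j ∈ Finset.range (N0 + r), hh I 0 1 2 a j = HilbSlice.cS I (N0 + r) a :=
    fun a => Finset.sum_congr rfl fun j _ => (stairZ_eq_hh I a j).symm
  have hsl1 : ∀ a, ∑ j ∈ Finset.range (N0 + r), hh I 0 2 1 a j = HilbSlice.cS I (N0 + r) a :=
    fun a => (sum_hh_swap axes021 hB021 hB012 a).trans (hsl2 a)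
  have A2 := sig_single_extremal axes012 r hI hd hst2 hrN hN hsl2
  have A1 := sig_single_extremal axes021 r hI hd hst1 hrN hN hsl1
  refine ⟨A2, A1, ?_, ?_⟩
  · rw [set01]
    exact sig_compl_extremal axes012 r hI.1 hd A2
  · rw [set02]
    exact sig_compl_extremal axes021 r hI.1 hd A1

end Groth.Agent.Helper25.HilbCol
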