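import Mathlib
import Groth.Prelude.Def_FGA

/-!
# The Hilbert scheme of an open subscheme (helper lemmas for S17082)
-/

universe u

open CategoryTheory CategoryTheory.Limits AlgebraicGeometry

namespace Groth.Agent.Helper25.HilbOpen

open Scheme.IdealSheafData

attribute [local simp] pullback.lift_fst pullback.lift_snd pullback.lift_fst_assoc
  pullback.lift_snd_assoc

/-- `hilbPull` is the `comap` of ideal sheaves. -/
theorem hilbPull_eq_comap {X S : Scheme.{u}} (f : X ⟶ S) {T T' : Over S} (g : T' ⟶ T)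
    (I : (PicF.XT f T).IdealSheafData) :
    FGA.hilbPull f g I = I.comap (PicF.XTmap f g) := by
  unfold FGA.hilbPull Scheme.IdealSheafData.comap
  rw [← Scheme.Hom.ker_comp_of_isIso (pullbackSymmetry _ _).hom]
  simp

/-- points of a pullback square -/
theorem exists_preimage_of_isPullback {P X Y Z : Scheme.{u}} {fst : P ⟶ X} {snd : P ⟶ Y}
    {f : X ⟶ Z} {g : Y ⟶ Z} (h : IsPullback fst snd f g) (x : X) (y : Y) (hxy : f x = g y) :
    ∃ p : P, fst p = x ∧ snd p = y := by
  obtain ⟨z, hz1, hz2⟩ := Scheme.Pullback.exists_preimage_pullback x y hxy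
  refine ⟨h.isoPullback.inv z, ?_, ?_⟩
  · rw [← hz1, ← Scheme.Hom.comp_apply, h.isoPullback_inv_fst]
  · rw [← hz2, ← Scheme.Hom.comp_apply, h.isoPullback_inv_snd]

/-- For an open immersion `n` and an ideal sheaf `J` supported inside the range of `n`,
pushing forward the restriction gives `J` back. -/
theorem map_comap_of_support_le {U X : Scheme.{u}} (n : U ⟶ X) [IsOpenImmersion n]
    (J : X.IdealSheafData) (hJ : (J.support : Set X) ⊆ Set.range n) :
    (J.comap n).map n = J := by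
  have h1 : (J.comap n).subschemeι ≫ n =
      (J.comapIso n).hom ≫ pullback.snd n J.subschemeι ≫ J.subschemeι := by
    rw [← comapIso_hom_fst, Category.assoc, pullback.condition]
  have hs : IsIso (pullback.snd n J.subschemeι) := by
    rw [isIso_iff_isOpenImmersion_and_surjective]
    refine ⟨inferInstance, ⟨?_⟩⟩
    rw [← Set.range_eq_univ, Scheme.Pullback.range_snd, Set.eq_univ_iff_forall]
    intro z
    apply hJ
    rw [← Scheme.IdealSheafData.range_subschemeι]
    exact ⟨z, rfl⟩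
  rw [Scheme.IdealSheafData.map, h1, Scheme.Hom.ker_comp_of_isIso, Scheme.Hom.ker_comp_of_isIso,
    ker_subschemeι]

/-- For a monomorphism `n` and an ideal sheaf `I` on the source whose closed subscheme stays
closed in the target, restricting the pushforward gives `I` back. -/
theorem comap_map_of_isClosedImmersion {U X : Scheme.{u}} (n : U ⟶ X) [Mono n]
    (I : U.IdealSheafData) [IsClosedImmersion (I.subschemeι ≫ n)] :
    (I.map n).comap n = I := by
  unfold Scheme.IdealSheafData.map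
  rw [← ker_fst_of_isClosedImmersion]
  let l : I.subscheme ⟶ pullback n (I.subschemeι ≫ n) :=
    pullback.lift I.subschemeι (𝟙 _) (by simp)
  have hl : IsIso l := ⟨pullback.snd _ _, by simp [l], by
    apply pullback.hom_ext
    · rw [← cancel_mono n]; simp [l, pullback.condition]
    · simp [l]⟩
  rw [← Scheme.Hom.ker_comp_of_isIso l]
  simp [l]

section

variable {X U S : Scheme.{u}} (f : X ⟶ S) (j : U ⟶ X)

/-- the map `U ×_S T ⟶ X ×_S T` -/
noncomputable def nT (T : Over S) : PicF.XT (j ≫ f) T ⟶ PicF.XT f T :=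
  pullback.map (j ≫ f) T.hom f T.hom j (𝟙 _) (𝟙 S) (Category.comp_id _) (by simp)

instance [IsOpenImmersion j] (T : Over S) : IsOpenImmersion (nT f j T) := by
  unfold nT; infer_instance

@[reassoc (attr := simp)]
theorem nT_fst (T : Over S) :
    nT f j T ≫ pullback.fst f T.hom = pullback.fst (j ≫ f) T.hom ≫ j := by
  simp [nT, pullback.map]

@[reassoc (attr := simp)]
theorem nT_snd (T : Over S) :
    nT f j T ≫ pullback.snd f T.hom = pullback.snd (j ≫ f) T.hom := by
  simp [nT, pullback.map]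

theorem isPullback_nT (T : Over S) :
    IsPullback (nT f j T) (pullback.fst (j ≫ f) T.hom) (pullback.fst f T.hom) j := by
  have s : IsPullback (pullback.fst (j ≫ f) T.hom) (nT f j T ≫ pullback.snd f T.hom) (j ≫ f)
      T.hom := by
    rw [nT_snd]; exact IsPullback.of_hasPullback _ _
  exact (IsPullback.of_bot s (nT_fst f j T).symm (IsPullback.of_hasPullback f T.hom)).flip

theorem isPullback_XTmap {T T' : Over S} (g : T' ⟶ T) :
    IsPullback (PicF.XTmap f g) (PicF.XTproj f T') (PicF.XTproj f T) g.left := by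
  have e1 : PicF.XTmap f g ≫ pullback.fst f T.hom = pullback.fst f T'.hom := by
    simp [PicF.XTmap, pullback.map]
  have e2 : g.left ≫ T.hom = T'.hom := Over.w g
  have s : IsPullback (PicF.XTmap f g ≫ pullback.fst f T.hom) (pullback.snd f T'.hom) f
      (g.left ≫ T.hom) := by
    rw [e1, e2]; exact IsPullback.of_hasPullback _ _
  exact IsPullback.of_right s (by simp [PicF.XTmap, pullback.map]) (IsPullback.of_hasPullback f T.hom)

theorem range_nT (T : Over S) :
    Set.range (nT f j T) = (pullback.fst f T.hom) ⁻¹' (Set.range j) := by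
  ext p
  constructor
  · rintro ⟨y, rfl⟩
    refine ⟨pullback.fst (j ≫ f) T.hom y, ?_⟩
    rw [← Scheme.Hom.comp_apply, ← nT_fst, Scheme.Hom.comp_apply]
  · rintro ⟨u, hu⟩
    obtain ⟨y, hy, -⟩ := exists_preimage_of_isPullback (isPullback_nT f j T) p u hu.symm
    exact ⟨y, hy⟩

end


section Main

variable {X U S : Scheme.{u}} (f : X ⟶ S) (j : U ⟶ X) [IsOpenImmersion j]
  (H : Over S) (H₀ : H.left.Opens)

/-- the open immersion `U ×_S H₀ ⟶ X ×_S H` -/
noncomputable abbrev mH : pullback (j ≫ f) (H₀.ι ≫ H.hom) ⟶ pullback f H.hom :=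
  pullback.map (j ≫ f) (H₀.ι ≫ H.hom) f H.hom j H₀.ι (𝟙 S)
    (Category.comp_id _) (Category.comp_id _)

/-- the inclusion `H₀ ⟶ H` over `S` -/
noncomputable abbrev ι₀ : Over.mk (H₀.ι ≫ H.hom) ⟶ H := Over.homMk H₀.ι rfl

theorem mH_fst : mH f j H H₀ ≫ pullback.fst f H.hom =
    pullback.fst (j ≫ f) (H₀.ι ≫ H.hom) ≫ j := by
  simp [mH, pullback.map]

theorem mH_snd : mH f j H H₀ ≫ pullback.snd f H.hom =
    pullback.snd (j ≫ f) (H₀.ι ≫ H.hom) ≫ H₀.ι := by
  simp [mH, pullback.map]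

theorem XTmap_mH {T : Over S} (g₁ : T ⟶ Over.mk (H₀.ι ≫ H.hom)) :
    PicF.XTmap (j ≫ f) g₁ ≫ mH f j H H₀ = nT f j T ≫ PicF.XTmap f (g₁ ≫ ι₀ H H₀) := by
  apply pullback.hom_ext
  · simp [mH, nT, PicF.XTmap, pullback.map]
  · simp [mH, nT, PicF.XTmap, pullback.map]

theorem mH_eq : mH f j H H₀ = PicF.XTmap (j ≫ f) (ι₀ H H₀) ≫ nT f j H := by
  apply pullback.hom_ext
  · simp [mH, nT, PicF.XTmap, pullback.map]
  · simp [mH, nT, PicF.XTmap, pullback.map]

theorem mem_range_mH (p : ↑(pullback f H.hom))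
    (h1 : pullback.fst f H.hom p ∈ Set.range j)
    (h2 : pullback.snd f H.hom p ∈ H₀) : p ∈ Set.range (mH f j H H₀) := by
  have hp : p ∈ Set.range (nT f j H) := by rw [range_nT]; exact h1
  obtain ⟨y, rfl⟩ := hp
  have h2' : pullback.snd (j ≫ f) H.hom y ∈ Set.range H₀.ι := by
    rw [Scheme.Opens.range_ι]
    rwa [← Scheme.Hom.comp_apply, nT_snd] at h2
  obtain ⟨h₀, hh₀⟩ := h2'
  obtain ⟨w, hw, -⟩ := exists_preimage_of_isPullback
    (isPullback_XTmap (j ≫ f) (ι₀ H H₀)) y h₀ hh₀.symm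
  refine ⟨w, ?_⟩
  rw [mH_eq, Scheme.Hom.comp_apply]
  exact congrArg _ hw

/-- the restricted family is a base change of the original one -/
theorem isPullback_restrict (I : (pullback f H.hom).IdealSheafData)
    (hH₀ : ∀ z : I.subscheme, (I.subschemeι ≫ pullback.snd f H.hom) z ∈ H₀ →
      pullback.fst f H.hom (I.subschemeι z) ∈ Set.range j) :
    IsPullback (pullback.snd (mH f j H H₀) I.subschemeι)
      (pullback.fst (mH f j H H₀) I.subschemeι ≫ pullback.snd (j ≫ f) (H₀.ι ≫ H.hom))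
      (I.subschemeι ≫ pullback.snd f H.hom) H₀.ι := by
  set π := I.subschemeι ≫ pullback.snd f H.hom with hπ
  set b := pullback.snd (mH f j H H₀) I.subschemeι with hb
  set q := pullback.fst (mH f j H H₀) I.subschemeι ≫ pullback.snd (j ≫ f) (H₀.ι ≫ H.hom) with hq
  have hqb : q ≫ H₀.ι = b ≫ π := by
    rw [hq, hb, hπ, Category.assoc, ← mH_snd, pullback.condition_assoc]
  have hrange : Set.range b = Set.range (π ⁻¹ᵁ H₀).ι := by
    rw [Scheme.Opens.range_ι, hb, Scheme.Pullback.range_snd]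
    ext z
    constructor
    · rintro ⟨y, hy⟩
      show π z ∈ H₀
      rw [hπ, Scheme.Hom.comp_apply, ← hy, ← Scheme.Hom.comp_apply, mH_snd,
        Scheme.Hom.comp_apply]
      exact (pullback.snd (j ≫ f) (H₀.ι ≫ H.hom) y).2
    · intro hz
      have hz' : π z ∈ H₀ := hz
      exact mem_range_mH f j H H₀ _ (hH₀ z hz') (by rwa [hπ, Scheme.Hom.comp_apply] at hz')
  let e := IsOpenImmersion.isoOfRangeEq b (π ⁻¹ᵁ H₀).ι hrange
  have he : e.inv ≫ b = (π ⁻¹ᵁ H₀).ι := IsOpenImmersion.isoOfRangeEq_inv_fac _ _ _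
  refine (isPullback_morphismRestrict π H₀).flip.of_iso e.symm (Iso.refl _) (Iso.refl _)
    (Iso.refl _) ?_ ?_ ?_ ?_
  · simpa using he.symm
  · rw [← cancel_mono H₀.ι]
    simp only [Iso.refl_hom, Category.comp_id, Iso.symm_hom, Category.assoc, hqb]
    rw [reassoc_of% he]
    exact morphismRestrict_ι _ _
  · simp
  · simp

/-- properness and flatness of the restricted family -/
theorem restrict_proper_flat (I : (pullback f H.hom).IdealSheafData)
    (hp : IsProper (I.subschemeι ≫ pullback.snd f H.hom))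
    (hf : Flat (I.subschemeι ≫ pullback.snd f H.hom))
    (hH₀ : ∀ z : I.subscheme, (I.subschemeι ≫ pullback.snd f H.hom) z ∈ H₀ →
      pullback.fst f H.hom (I.subschemeι z) ∈ Set.range j) :
    IsProper ((I.comap (mH f j H H₀)).subschemeι ≫ pullback.snd (j ≫ f) (H₀.ι ≫ H.hom)) ∧
    Flat ((I.comap (mH f j H H₀)).subschemeι ≫ pullback.snd (j ≫ f) (H₀.ι ≫ H.hom)) := by
  have hpb := isPullback_restrict f j H H₀ I hH₀
  have h1 : IsProper (pullback.fst (mH f j H H₀) I.subschemeι ≫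
      pullback.snd (j ≫ f) (H₀.ι ≫ H.hom)) := MorphismProperty.of_isPullback hpb hp
  have h2 : Flat (pullback.fst (mH f j H H₀) I.subschemeι ≫
      pullback.snd (j ≫ f) (H₀.ι ≫ H.hom)) := MorphismProperty.of_isPullback hpb hf
  rw [← comapIso_hom_fst, Category.assoc]
  exact ⟨inferInstance, inferInstance⟩

end Main

section Rep

variable {X U S : Scheme.{u}} (f : X ⟶ S) (j : U ⟶ X) [IsOpenImmersion j]
  (H : Over S) (Z : FGA.HilbSet f H)

/-- the open locus of `H` over which `Z` lies inside `U ×_S H` -/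
noncomputable def H0 : H.left.Opens :=
  ⟨((Z.1.subschemeι ≫ pullback.snd f H.hom) ''
    (Z.1.subschemeι ⁻¹' ((pullback.fst f H.hom) ⁻¹' (Set.range j))ᶜ))ᶜ, by
    have : IsProper (Z.1.subschemeι ≫ pullback.snd f H.hom) := Z.2.1
    rw [isOpen_compl_iff]
    apply (Z.1.subschemeι ≫ pullback.snd f H.hom).isClosedMap
    apply IsClosed.preimage Z.1.subschemeι.continuous
    rw [isClosed_compl_iff]
    exact j.isOpenEmbedding.isOpen_range.preimage (pullback.fst f H.hom).continuous⟩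

theorem mem_H0 (z : Z.1.subscheme)
    (hz : (Z.1.subschemeι ≫ pullback.snd f H.hom) z ∈ H0 f j H Z) :
    pullback.fst f H.hom (Z.1.subschemeι z) ∈ Set.range j := by
  by_contra hn
  exact hz ⟨z, hn, rfl⟩

theorem mem_H0_of (h : H.left)
    (hh : ∀ z : Z.1.subscheme, (Z.1.subschemeι ≫ pullback.snd f H.hom) z = h →
      pullback.fst f H.hom (Z.1.subschemeι z) ∈ Set.range j) : h ∈ H0 f j H Z := by
  rintro ⟨z, hz, rfl⟩
  exact hz (hh z rfl)

/-- a closed subscheme of `U ×_S T` proper over `T` is closed in `X ×_S T` -/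
theorem isClosedImmersion_comp_nT [IsSeparated f] (T : Over S)
    (I : (PicF.XT (j ≫ f) T).IdealSheafData)
    (hp : IsProper (I.subschemeι ≫ PicF.XTproj (j ≫ f) T)) :
    IsClosedImmersion (I.subschemeι ≫ nT f j T) := by
  have h1 : IsProper ((I.subschemeι ≫ nT f j T) ≫ pullback.snd f T.hom) := by
    rw [Category.assoc, nT_snd]; exact hp
  have h2 : IsProper (I.subschemeι ≫ nT f j T) := IsProper.of_comp _ (pullback.snd f T.hom)
  exact IsClosedImmersion.of_isPreimmersion _
    (I.subschemeι ≫ nT f j T).isClosedMap.isClosed_range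

/-- the corresponding element of `Hilb_{X/S}(T)` -/
theorem map_nT_proper_flat [IsSeparated f] (T : Over S)
    (Y : FGA.HilbSet (j ≫ f) T) :
    IsProper ((Y.1.map (nT f j T)).subschemeι ≫ PicF.XTproj f T) ∧
    Flat ((Y.1.map (nT f j T)).subschemeι ≫ PicF.XTproj f T) := by
  have := isClosedImmersion_comp_nT f j T Y.1 Y.2.1
  set c := Y.1.subschemeι ≫ nT f j T with hc
  have h0 : c.imageι = inv c.toImage ≫ c := (IsIso.eq_inv_comp _).mpr c.toImage_imageι
  have h1 : c ≫ PicF.XTproj f T = Y.1.subschemeι ≫ PicF.XTproj (j ≫ f) T := by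
    rw [hc, Category.assoc, nT_snd]
  have := Y.2.1
  have := Y.2.2
  show IsProper (c.imageι ≫ PicF.XTproj f T) ∧ Flat (c.imageι ≫ PicF.XTproj f T)
  rw [h0, Category.assoc, h1]
  exact ⟨inferInstance, inferInstance⟩

theorem XTmap_fst' {T T' : Over S} (g : T' ⟶ T) :
    PicF.XTmap f g ≫ pullback.fst f T.hom = pullback.fst f T'.hom := by
  simp [PicF.XTmap, pullback.map]

theorem XTmap_snd' {T T' : Over S} (g : T' ⟶ T) :
    PicF.XTmap f g ≫ pullback.snd f T.hom = pullback.snd f T'.hom ≫ g.left := by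
  simp [PicF.XTmap, pullback.map]

theorem mem_support_comap {A B : Scheme.{u}} (I : B.IdealSheafData) (φ : A ⟶ B) (a : A) :
    a ∈ (I.comap φ).support ↔ ∃ z : I.subscheme, I.subschemeι z = φ a := by
  rw [support_comap]
  show φ a ∈ (I.support : Set B) ↔ _
  rw [← range_subschemeι]
  rfl

/-- the classifying map of a subscheme of `U ×_S T` lands in `H0` -/
theorem classifying_mem_H0 {T : Over S} (g : T ⟶ H)
    (Y : (PicF.XT (j ≫ f) T).IdealSheafData)
    [IsClosedImmersion (Y.subschemeι ≫ nT f j T)]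
    (hg : Z.1.comap (PicF.XTmap f g) = Y.map (nT f j T)) (t : T.left) :
    g.left t ∈ H0 f j H Z := by
  apply mem_H0_of
  intro z hz
  rw [Scheme.Hom.comp_apply] at hz
  obtain ⟨x', hx1, hx2⟩ := exists_preimage_of_isPullback (isPullback_XTmap f g)
    (Z.1.subschemeι z) t hz
  have h1 : x' ∈ (Z.1.comap (PicF.XTmap f g)).support :=
    (mem_support_comap _ _ _).mpr ⟨z, hx1.symm⟩
  rw [hg] at h1
  have h2 : x' ∈ Set.range (Y.subschemeι ≫ nT f j T) := by
    have h3 : x' ∈ ((Y.subschemeι ≫ nT f j T).ker.support : Set _) := h1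
    rw [Scheme.Hom.support_ker] at h3
    rwa [(Y.subschemeι ≫ nT f j T).isClosedMap.isClosed_range.closure_eq] at h3
  obtain ⟨y, hy⟩ := h2
  have h4 : x' ∈ Set.range (nT f j T) := ⟨Y.subschemeι y, by
    rw [← hy, Scheme.Hom.comp_apply]⟩
  rw [range_nT] at h4
  have h5 : pullback.fst f T.hom x' = pullback.fst f H.hom (Z.1.subschemeι z) := by
    rw [← hx1, ← Scheme.Hom.comp_apply, XTmap_fst']
  rw [← h5]
  exact h4

/-- subschemes classified by maps into `H0` lie in `U ×_S T` -/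
theorem support_comap_le {T : Over S}
    (g₁ : T ⟶ Over.mk ((H0 f j H Z).ι ≫ H.hom)) :
    ((Z.1.comap (PicF.XTmap f (g₁ ≫ ι₀ H (H0 f j H Z)))).support : Set _) ⊆
      Set.range (nT f j T) := by
  intro x' hx'
  obtain ⟨z, hz⟩ := (mem_support_comap _ _ _).mp hx'
  rw [range_nT]
  show pullback.fst f T.hom x' ∈ Set.range j
  have h1 : pullback.fst f T.hom x' = pullback.fst f H.hom (Z.1.subschemeι z) := by
    rw [hz, ← Scheme.Hom.comp_apply, XTmap_fst']
  rw [h1]
  apply mem_H0
  rw [Scheme.Hom.comp_apply, hz, ← Scheme.Hom.comp_apply, XTmap_snd', Scheme.Hom.comp_apply]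
  show (H0 f j H Z).ι (g₁.left _) ∈ H0 f j H Z
  exact ((g₁.left _ : ↥(H0 f j H Z))).2

theorem main [IsSeparated f] (hH : FGA.HilbRepresentedBy f H Z) :
    ∃ (H₀ : H.left.Opens) (Z₀ : FGA.HilbSet (j ≫ f) (Over.mk (H₀.ι ≫ H.hom))),
      Z₀.1 = Z.1.comap (pullback.map (j ≫ f) (H₀.ι ≫ H.hom) f H.hom j H₀.ι (𝟙 S)
        (Category.comp_id _) (Category.comp_id _)) ∧
      FGA.HilbRepresentedBy (j ≫ f) (Over.mk (H₀.ι ≫ H.hom)) Z₀ := by
  set H₀ := H0 f j H Z with hH₀
  have hZ₀ := restrict_proper_flat f j H H₀ Z.1 Z.2.1 Z.2.2 (mem_H0 f j H Z)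
  refine ⟨H₀, ⟨Z.1.comap (mH f j H H₀), hZ₀⟩, rfl, ?_, ?_⟩
  · have := hH.1
    exact isLocallyNoetherian_of_isOpenImmersion H₀.ι
  · intro T _ Y
    have hc := isClosedImmersion_comp_nT f j T Y.1 Y.2.1
    obtain ⟨g, hg, huniq⟩ := hH.2 T ⟨Y.1.map (nT f j T), map_nT_proper_flat f j T Y⟩
    simp only [hilbPull_eq_comap] at hg huniq
    have hmem := classifying_mem_H0 f j H Z g Y.1 hg
    -- factor `g` through `H₀`
    let g₀ : T.left ⟶ H₀ := IsOpenImmersion.lift H₀.ι g.left (by
      rw [Scheme.Opens.range_ι]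
      rintro _ ⟨t, rfl⟩
      exact hmem t)
    have hg₀ : g₀ ≫ H₀.ι = g.left := IsOpenImmersion.lift_fac _ _ _
    let g₀' : T ⟶ Over.mk (H₀.ι ≫ H.hom) := Over.homMk g₀ (by
      simp only [Over.mk_hom]
      rw [reassoc_of% hg₀]
      exact Over.w g)
    have hg₀' : g₀' ≫ ι₀ H H₀ = g := by
      ext
      simp only [Over.comp_left, Over.homMk_left, g₀']
      exact hg₀
    refine ⟨g₀', ?_, ?_⟩
    · show FGA.hilbPull (j ≫ f) g₀' (Z.1.comap (mH f j H H₀)) = Y.1
      rw [hilbPull_eq_comap, ← comap_comp, XTmap_mH, hg₀', comap_comp, hg]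
      exact comap_map_of_isClosedImmersion _ _
    · intro g₁ hg₁
      have hg₁' : FGA.hilbPull (j ≫ f) g₁ (Z.1.comap (mH f j H H₀)) = Y.1 := hg₁
      rw [hilbPull_eq_comap, ← comap_comp, XTmap_mH, comap_comp] at hg₁'
      have h2 : g₁ ≫ ι₀ H H₀ = g := by
        apply huniq
        show Z.1.comap (PicF.XTmap f (g₁ ≫ ι₀ H H₀)) = Y.1.map (nT f j T)
        rw [← hg₁']
        exact (map_comap_of_support_le _ _ (support_comap_le f j H Z g₁)).symm
      ext
      rw [← cancel_mono H₀.ι]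
      have h3 := congrArg (fun k => k.left) (h2.trans hg₀'.symm)
      simpa using h3

end Rep

end Groth.Agent.Helper25.HilbOpen
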