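import Mathlib
import Groth.Agent.Lib.Helper25.HilbSig
import Groth.Agent.Lib.Helper25.HilbDecomp

/-! Parity of the dimension of the tangent space at a monomial point of the Hilbert scheme of
points of affine three-space. -/

namespace Groth.Agent.Helper25.HilbCol

open MvPolynomial W4c1hilbpn Module
open Groth.Agent.Helper25.HilbTgt Groth.Agent.Helper25.HilbLC Groth.Agent.Helper25.HilbCS
open Groth.Agent.Helper25.HilbPlanar Groth.Agent.Helper25.HilbThree

variable {k : Type*} [Field k] {I : Ideal (MvPolynomial (Fin 3) k)}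

lemma exists_isBound_all [Finite {γ : Fin 3 →₀ ℕ // γ ∉ exps I}] :
    ∃ M, ∀ u v w : Fin 3, Axes u v w → IsBound I u v w M := by
  obtain ⟨N, hN⟩ := exists_bound (I := I)
  refine ⟨N, fun u v w h a b => ⟨fun hpos => ?_, ?_⟩⟩
  · have h0 := (notMem_pt_iff (I := I) h a b 0).2 hpos
    have hu := hN _ h0 u
    have hv := hN _ h0 v
    rw [pt_u h.uv h.uw] at hu
    rw [pt_v h.uv h.vw] at hv
    exact ⟨hu, hv⟩
  · by_contra hcon
    push_neg at hcon
    have h0 := (notMem_pt_iff (I := I) h a b N).2 hcon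
    have hw := hN _ h0 w
    rw [pt_w h.uw h.vw] at hw
    exact lt_irrefl _ hw

lemma sign_cases (α : Fin 3 → ℤ) : (∀ l, 0 ≤ α l) ∨ (∀ l, α l < 0) ∨
    ∃ w : Fin 3, (α w < 0 ∧ 0 ≤ α (w + 1) ∧ 0 ≤ α (w + 2)) ∨
      (0 ≤ α w ∧ α (w + 1) < 0 ∧ α (w + 2) < 0) := by
  by_cases h0 : 0 ≤ α 0 <;> by_cases h1 : 0 ≤ α 1 <;> by_cases h2 : 0 ≤ α 2
  · left
    intro l
    fin_cases l <;> assumption
  · right; right
    exact ⟨2, Or.inl ⟨not_le.1 h2, h0, h1⟩⟩
  · right; right
    exact ⟨1, Or.inl ⟨not_le.1 h1, h2, h0⟩⟩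
  · right; right
    exact ⟨0, Or.inr ⟨h0, not_le.1 h1, not_le.1 h2⟩⟩
  · right; right
    exact ⟨0, Or.inl ⟨not_le.1 h0, h1, h2⟩⟩
  · right; right
    exact ⟨1, Or.inr ⟨h1, not_le.1 h2, not_le.1 h0⟩⟩
  · right; right
    exact ⟨2, Or.inr ⟨h2, not_le.1 h0, not_le.1 h1⟩⟩
  · right; left
    intro l
    fin_cases l
    · exact not_le.1 h0
    · exact not_le.1 h1
    · exact not_le.1 h2

/-- all multidegrees with possibly nonzero piece -/
def Atot (M : ℕ) : Finset (Fin 3 → ℤ) :=
  Finset.univ.biUnion (fun w : Fin 3 => AI (w + 1) (w + 2) w M ∪ AII (w + 1) (w + 2) w M)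

lemma bot_of_notMem_Atot (hI : IsMonomial I) [Finite {γ : Fin 3 →₀ ℕ // γ ∉ exps I}] {M : ℕ}
    (hM : ∀ u v w : Fin 3, Axes u v w → IsBound I u v w M) {α : Fin 3 → ℤ} (hα : α ∉ Atot M) :
    tPiece I α = ⊥ := by
  rcases sign_cases α with h0 | h0 | ⟨w, h0 | h0⟩
  · rw [tPiece_eq_bot_iff hI]; exact isEmpty_Bdd_of_all_nonneg h0
  · rw [tPiece_eq_bot_iff hI]; exact isEmpty_Bdd_of_all_neg h0
  · apply bot_of_patI (axes_of w) hI (hM _ _ _ (axes_of w)) h0.2.1 h0.2.2 h0.1
    intro hmem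
    apply hα
    exact Finset.mem_biUnion.2 ⟨w, Finset.mem_univ _, Finset.mem_union_left _ hmem⟩
  · apply bot_of_patII (axes_of w) hI (hM _ _ _ (axes_of w)) h0.2.1 h0.2.2 h0.1
    intro hmem
    apply hα
    exact Finset.mem_biUnion.2 ⟨w, Finset.mem_univ _, Finset.mem_union_right _ hmem⟩

/-- the set of negative entries of a multidegree -/
def pat (α : Fin 3 → ℤ) : Finset (Fin 3) := Finset.univ.filter (fun l => α l < 0)

lemma pat_iff (α : Fin 3 → ℤ) (N : Finset (Fin 3)) :
    pat α = N ↔ ∀ l, α l < 0 ↔ l ∈ (N : Set (Fin 3)) := by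
  constructor
  · rintro rfl l
    simp [pat]
  · intro h
    ext l
    simp only [pat, Finset.mem_filter, Finset.mem_univ, true_and]
    exact h l

theorem finrank_top_eq (hI : IsMonomial I) [Module.Finite k (MvPolynomial (Fin 3) k ⧸ I)] :
    finrank k (Tgt I) = ∑ N : Finset (Fin 3), finrank k ↥(sigPiece I (N : Set (Fin 3))) := by
  classical
  haveI := finite_compl_exps hI
  obtain ⟨M, hM⟩ := exists_isBound_all (I := I)
  have htop : (⊤ : Submodule k (Tgt I)) = (Atot M).sup (fun α => tPiece I α) := by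
    rw [← iSup_tPiece_eq_top hI]
    exact iSup_eq_finset_sup (Atot M) (fun α hα => bot_of_notMem_Atot hI hM hα)
  have h1 : finrank k (Tgt I) = ∑ α ∈ Atot M, finrank k ↥(tPiece I α) := by
    rw [← finrank_top k (Tgt I), htop, finrank_sup_tPiece hI]
  rw [h1, ← Finset.sum_fiberwise (Atot M) pat]
  refine Finset.sum_congr rfl fun N _ => ?_
  have hsup : sigPiece I (N : Set (Fin 3)) =
      ((Atot M).filter (fun α => pat α = N)).sup (fun α => tPiece I α) := by
    unfold sigPiece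
    apply iSup_subtype_eq_finset_sup
    · intro α hα
      exact (pat_iff α N).1 (Finset.mem_filter.1 hα).2
    · intro α hpat hα
      apply bot_of_notMem_Atot hI hM
      intro hmem
      exact hα (Finset.mem_filter.2 ⟨hmem, (pat_iff α N).2 hpat⟩)
  rw [hsup, finrank_sup_tPiece hI]

lemma sum_subsets (g : Finset (Fin 3) → ℕ) :
    ∑ N, g N = g ∅ + g {0} + g {1} + g {2} + g {1, 2} + g {0, 2} + g {0, 1} + g Finset.univ := by
  have : (Finset.univ : Finset (Finset (Fin 3))) =
      {∅, {0}, {1}, {2}, {1, 2}, {0, 2}, {0, 1}, Finset.univ} := by decide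
  rw [this]
  rw [Finset.sum_insert (by decide), Finset.sum_insert (by decide), Finset.sum_insert (by decide),
    Finset.sum_insert (by decide), Finset.sum_insert (by decide), Finset.sum_insert (by decide),
    Finset.sum_insert (by decide), Finset.sum_singleton]
  ring

theorem parity (hI : IsMonomial I) [Module.Finite k (MvPolynomial (Fin 3) k ⧸ I)] :
    finrank k (Tgt I) % 2 = finrank k (MvPolynomial (Fin 3) k ⧸ I) % 2 := by
  haveI := finite_compl_exps hI
  rw [finrank_top_eq hI, sum_subsets]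
  have s0 := sig_identity (k := k) (axes_of 0) hI
  have s1 := sig_identity (k := k) (axes_of 1) hI
  have s2 := sig_identity (k := k) (axes_of 2) hI
  have c0 : (({0} : Finset (Fin 3)) : Set (Fin 3)) = {0} := by simp
  have c1 : (({1} : Finset (Fin 3)) : Set (Fin 3)) = {1} := by simp
  have c2 : (({2} : Finset (Fin 3)) : Set (Fin 3)) = {2} := by simp
  have c12 : (({1, 2} : Finset (Fin 3)) : Set (Fin 3)) = ({0} : Set (Fin 3))ᶜ := by
    ext l; fin_cases l <;> simp
  have c02 : (({0, 2} : Finset (Fin 3)) : Set (Fin 3)) = ({1} : Set (Fin 3))ᶜ := by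
    ext l; fin_cases l <;> simp
  have c01 : (({0, 1} : Finset (Fin 3)) : Set (Fin 3)) = ({2} : Set (Fin 3))ᶜ := by
    ext l; fin_cases l <;> simp
  have e0 : sigPiece I ((∅ : Finset (Fin 3)) : Set (Fin 3)) = ⊥ := by
    rw [sigPiece_eq_bot_iff]
    intro α hα
    rw [tPiece_eq_bot_iff hI]
    apply isEmpty_Bdd_of_all_nonneg
    intro l
    by_contra hcon
    push_neg at hcon
    have := (hα l).1 hcon
    simp at this
  have e1 : sigPiece I ((Finset.univ : Finset (Fin 3)) : Set (Fin 3)) = ⊥ := by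
    rw [sigPiece_eq_bot_iff]
    intro α hα
    rw [tPiece_eq_bot_iff hI]
    apply isEmpty_Bdd_of_all_neg
    intro l
    exact (hα l).2 (by simp)
  rw [e0, e1, c0, c1, c2, c12, c02, c01, finrank_bot, s0, s1, s2]
  omega

end Groth.Agent.Helper25.HilbCol
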