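import Mathlib
import Groth.Prelude.Def_Hoch

/-!
# Invariants and cohomology of induced comodules (helper25)
-/

set_option autoImplicit false
set_option backward.isDefEq.respectTransparency false

namespace Groth.Agent.Helper25.HochInd

open TensorProduct Coalgebra Hoch

universe u v w

section inv

variable (k : Type u) [CommRing k] (A : Type v) [Ring A] [Bialgebra k A]
  (P : Type w) [AddCommGroup P] [Module k P]

/-- `(p ⊗ a) ⊗ b ↦ ε(a) • (p ⊗ b)`. -/
noncomputable def T : (P ⊗[k] A) ⊗[k] A →ₗ[k] P ⊗[k] A :=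
  ((TensorProduct.rid k P).toLinearMap).rTensor A ∘ₗ
    ((Coalgebra.counit (R := k) (A := A)).lTensor P).rTensor A

theorem T_assoc_symm (p : P) (z : A ⊗[k] A) :
    T k A P ((TensorProduct.assoc k P A A).symm (p ⊗ₜ[k] z)) =
      p ⊗ₜ[k] TensorProduct.lid k A ((Coalgebra.counit (R := k) (A := A)).rTensor A z) := by
  induction z using TensorProduct.induction_on with
  | zero => simp
  | add z z' h h' => simp only [tmul_add, map_add, h, h']
  | tmul a b => simp [T, TensorProduct.smul_tmul]

theorem T_coactAux (x : P ⊗[k] A) : T k A P (Ind.coactAux k A P x) = x := by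
  induction x using TensorProduct.induction_on with
  | zero => simp
  | add x x' h h' => simp only [map_add, h, h']
  | tmul p a =>
    rw [Ind.coactAux_tmul, T_assoc_symm, Coalgebra.rTensor_counit_comul]
    simp

theorem T_tmul_one (x : P ⊗[k] A) :
    T k A P (x ⊗ₜ[k] (1 : A)) =
      (TensorProduct.rid k P ((Coalgebra.counit (R := k) (A := A)).lTensor P x)) ⊗ₜ[k] (1 : A) := by
  simp [T]

theorem main :
    Function.Injective ((Hoch.Ind.equiv k A P).toLinearMap ∘ₗ (TensorProduct.mk k P A).flip (1 : A)) ∧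
    LinearMap.range ((Hoch.Ind.equiv k A P).toLinearMap ∘ₗ (TensorProduct.mk k P A).flip (1 : A)) =
      HopfRep.fixedPts k A (Hoch.Ind k A P) := by
  constructor
  · intro p p' h
    have h2 := congrArg (Ind.counit k A P) h
    simpa using h2
  · apply le_antisymm
    · rintro _ ⟨p, rfl⟩
      change Ind.coactAux k A P (p ⊗ₜ[k] (1 : A)) = (p ⊗ₜ[k] (1 : A)) ⊗ₜ[k] (1 : A)
      rw [Ind.coactAux_tmul, Bialgebra.comul_one, Algebra.TensorProduct.one_def]
      simp
    · intro x hx
      obtain ⟨y, rfl⟩ := (Ind.equiv k A P).surjective x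
      have hx' : Ind.coactAux k A P y = y ⊗ₜ[k] (1 : A) := hx
      have h2 := congrArg (T k A P) hx'
      rw [T_coactAux, T_tmul_one] at h2
      refine ⟨TensorProduct.rid k P ((Coalgebra.counit (R := k) (A := A)).lTensor P y), ?_⟩
      change Ind.equiv k A P (_ ⊗ₜ[k] (1 : A)) = Ind.equiv k A P y
      rw [← h2]

end inv


section acyclic

variable (k : Type u) [CommRing k] (A : Type v) [Ring A] [Bialgebra k A]

theorem tail_natural {M M' : Type v} [AddCommGroup M] [Module k M] [AddCommGroup M'] [Module k M']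
    (g : M →ₗ[k] M') (x : M ⊗[k] A) :
    (g.rTensor A).rTensor A (tail k A M x) = tail k A M' (g.rTensor A x) := by
  induction x using TensorProduct.induction_on with
  | zero => simp
  | add x x' h h' => simp only [map_add, h, h']
  | tmul m a =>
    rw [LinearMap.rTensor_tmul, tail_tmul, tail_tmul]
    generalize (Coalgebra.comul (R := k) a - a ⊗ₜ[k] (1 : A) - (1 : A) ⊗ₜ[k] a) = z
    induction z using TensorProduct.induction_on with
    | zero => simp
    | add z z' h h' => simp only [tmul_add, map_add, h, h']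
    | tmul b c => simp

variable (P : Type v) [AddCommGroup P] [Module k P]

theorem T_tmul (p : P) (a b : A) :
    T k A P ((p ⊗ₜ[k] a) ⊗ₜ[k] b) = Coalgebra.counit (R := k) a • (p ⊗ₜ[k] b) := by
  simp [T, TensorProduct.smul_tmul']

theorem base_aux' (p : P) (a : A) (z : A ⊗[k] A) :
    (T k A P).rTensor A ((TensorProduct.assoc k (P ⊗[k] A) A A).symm ((p ⊗ₜ[k] a) ⊗ₜ[k] z)) =
      Coalgebra.counit (R := k) a • (TensorProduct.assoc k P A A).symm (p ⊗ₜ[k] z) := by
  induction z using TensorProduct.induction_on with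
  | zero => simp
  | add z z' h h' => simp only [tmul_add, map_add, smul_add, h, h']
  | tmul b c => simp [T_tmul, TensorProduct.smul_tmul']

/-- the differential in degree `0` on the plain tensor product. -/
noncomputable def d0' : P ⊗[k] A →ₗ[k] (P ⊗[k] A) ⊗[k] A :=
  Ind.coactAux k A P - (TensorProduct.mk k (P ⊗[k] A) A).flip 1

/-- the differential in degree `1` on the plain tensor product. -/
noncomputable def d1' : (P ⊗[k] A) ⊗[k] A →ₗ[k] ((P ⊗[k] A) ⊗[k] A) ⊗[k] A :=
  (d0' k A P).rTensor A + ((-1 : k) ^ (0 + 1)) • tail k A (P ⊗[k] A)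

theorem base' : (T k A P).rTensor A ∘ₗ d1' k A P + d0' k A P ∘ₗ T k A P = LinearMap.id := by
  apply TensorProduct.ext_threefold
  intro p a b
  have h1 : d1' k A P ((p ⊗ₜ[k] a) ⊗ₜ[k] b) =
      (Ind.coactAux k A P (p ⊗ₜ[k] a)) ⊗ₜ[k] b - ((p ⊗ₜ[k] a) ⊗ₜ[k] (1 : A)) ⊗ₜ[k] b -
        ((TensorProduct.assoc k (P ⊗[k] A) A A).symm ((p ⊗ₜ[k] a) ⊗ₜ[k] Coalgebra.comul (R := k) b) -
          (TensorProduct.assoc k (P ⊗[k] A) A A).symm ((p ⊗ₜ[k] a) ⊗ₜ[k] (b ⊗ₜ[k] (1 : A))) -
          (TensorProduct.assoc k (P ⊗[k] A) A A).symm ((p ⊗ₜ[k] a) ⊗ₜ[k] ((1 : A) ⊗ₜ[k] b))) := by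
    simp only [d1', d0', LinearMap.add_apply, LinearMap.smul_apply, LinearMap.rTensor_tmul,
      LinearMap.sub_apply, LinearMap.flip_apply, TensorProduct.mk_apply, sub_tmul, tail_tmul,
      tmul_sub, map_sub, zero_add, pow_one]
    generalize (TensorProduct.assoc k (P ⊗[k] A) A A).symm (p ⊗ₜ[k] a ⊗ₜ[k] Coalgebra.comul (R := k) b) -
            (TensorProduct.assoc k (P ⊗[k] A) A A).symm (p ⊗ₜ[k] a ⊗ₜ[k] (b ⊗ₜ[k] (1:A))) -
          (TensorProduct.assoc k (P ⊗[k] A) A A).symm (p ⊗ₜ[k] a ⊗ₜ[k] ((1:A) ⊗ₜ[k] b)) = X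
    have e := neg_one_smul k X
    rw [e]
    abel
  have h2 : d0' k A P (T k A P ((p ⊗ₜ[k] a) ⊗ₜ[k] b)) =
      Coalgebra.counit (R := k) a • ((TensorProduct.assoc k P A A).symm
        (p ⊗ₜ[k] Coalgebra.comul (R := k) b) - (p ⊗ₜ[k] b) ⊗ₜ[k] (1 : A)) := by
    rw [T_tmul, map_smul]
    simp only [d0', LinearMap.sub_apply, Ind.coactAux_tmul, LinearMap.flip_apply,
      TensorProduct.mk_apply]
  simp only [LinearMap.add_apply, LinearMap.comp_apply, LinearMap.id_apply]
  rw [h1, h2]
  simp only [map_sub, LinearMap.rTensor_tmul, T_coactAux, T_tmul, base_aux',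
    TensorProduct.assoc_symm_tmul, smul_sub, TensorProduct.smul_tmul']
  abel

/-- the contracting homotopy in the lowest degree, `(p ⊗ a) ⊗ b ↦ ε(a) (p ⊗ b)`. -/
noncomputable def s0 : (Ind k A P) ⊗[k] A →ₗ[k] Ind k A P := T k A P

/-- the contracting homotopy. -/
noncomputable def s : (n : ℕ) → ((cochain k A (Ind k A P) (n + 1) : Type v) →ₗ[k]
    (cochain k A (Ind k A P) n : Type v))
  | 0 => s0 k A P
  | n + 1 => (s n).rTensor A

theorem base (x : (Ind k A P) ⊗[k] A) :
    s k A P 1 (d k A (Ind k A P) 1 x) + d k A (Ind k A P) 0 (s k A P 0 x) = x :=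
  LinearMap.congr_fun (base' k A P) x

theorem homotopy (n : ℕ) (x : (cochain k A (Ind k A P) (n + 1) : Type v)) :
    s k A P (n + 1) (d k A (Ind k A P) (n + 1) x) + d k A (Ind k A P) n (s k A P n x) = x := by
  induction n with
  | zero => exact base k A P x
  | succ n ih =>
    change ((s k A P (n + 1)).rTensor A) (((d k A (Ind k A P) (n + 1)).rTensor A +
        ((-1 : k) ^ (n + 1 + 1)) • tail k A (cochain k A (Ind k A P) (n + 1))) x) +
      ((d k A (Ind k A P) n).rTensor A + ((-1 : k) ^ (n + 1)) • tail k A (cochain k A (Ind k A P) n))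
        (((s k A P n).rTensor A) x) = x
    simp only [LinearMap.add_apply, LinearMap.smul_apply, map_add, map_smul]
    have hnat := tail_natural k A (s k A P n) x
    change ((s k A P (n + 1)).rTensor A) (tail k A (cochain k A (Ind k A P) (n + 1)) x) = _ at hnat
    rw [hnat]
    have hih : ((s k A P (n + 1)).rTensor A) (((d k A (Ind k A P) (n + 1)).rTensor A) x) +
        ((d k A (Ind k A P) n).rTensor A) (((s k A P n).rTensor A) x) = x := by
      rw [← LinearMap.comp_apply, ← LinearMap.comp_apply, ← LinearMap.rTensor_comp,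
        ← LinearMap.rTensor_comp, ← LinearMap.add_apply, ← LinearMap.rTensor_add]
      have : s k A P (n + 1) ∘ₗ d k A (Ind k A P) (n + 1) + d k A (Ind k A P) n ∘ₗ s k A P n =
          LinearMap.id := by
        apply LinearMap.ext
        intro y
        exact ih y
      rw [this, LinearMap.rTensor_id, LinearMap.id_apply]
    have hsign : ((-1 : k) ^ (n + 1 + 1)) = - ((-1 : k) ^ (n + 1)) := by ring
    rw [hsign]
    calc _ = (((s k A P (n + 1)).rTensor A) (((d k A (Ind k A P) (n + 1)).rTensor A) x) +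
        ((d k A (Ind k A P) n).rTensor A) (((s k A P n).rTensor A) x)) := by
          simp only [neg_smul]; abel
      _ = x := hih

theorem acyclic (n : ℕ) :
    cocycles k A (Ind k A P) (n + 1) ≤ coboundaries k A (Ind k A P) (n + 1) := by
  intro x hx
  have hx0 : d k A (Ind k A P) (n + 1) x = 0 := hx
  have h := homotopy k A P n x
  rw [hx0, map_zero, zero_add] at h
  exact ⟨s k A P n x, h⟩

end acyclic

end Groth.Agent.Helper25.HochInd
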