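import Mathlib

/-! Support calculus for the Hodge-number generating series of complete intersections
(power series in two variables with nonnegative integer coefficients). -/

namespace Groth.Agent.Helper25.HodgeSer

open MvPowerSeries Finset

abbrev R := MvPowerSeries (Fin 2) ℤ

noncomputable def E (p q : ℕ) : Fin 2 →₀ ℕ := Finsupp.single 0 p + Finsupp.single 1 q

@[simp] lemma E_zero (p q : ℕ) : E p q 0 = p := by simp [E]
@[simp] lemma E_one (p q : ℕ) : E p q 1 = q := by simp [E]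

lemma E_add (p q p' q' : ℕ) : E p q + E p' q' = E (p + p') (q + q') := by
  ext i; fin_cases i <;> simp [E]

lemma eq_E (m : Fin 2 →₀ ℕ) : m = E (m 0) (m 1) := by
  ext i; fin_cases i <;> simp [E]

lemma E_00 : E 0 0 = 0 := by ext i; fin_cases i <;> simp [E]

lemma E_inj {p q p' q' : ℕ} (h : E p q = E p' q') : p = p' ∧ q = q' := by
  have h0 := congrArg (fun m => m 0) h
  have h1 := congrArg (fun m => m 1) h
  simp only [E_zero, E_one] at h0 h1
  exact ⟨h0, h1⟩

/-- nonnegative coefficients -/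
def Pos (F : R) : Prop := ∀ m, 0 ≤ coeff m F

lemma Pos.add {F G : R} (hF : Pos F) (hG : Pos G) : Pos (F + G) := fun m => by
  rw [map_add]; exact add_nonneg (hF m) (hG m)

lemma Pos.mul {F G : R} (hF : Pos F) (hG : Pos G) : Pos (F * G) := fun m => by
  classical
  rw [coeff_mul]; exact Finset.sum_nonneg fun x _ => mul_nonneg (hF _) (hG _)

lemma pos_one : Pos (1 : R) := fun m => by
  classical
  rw [coeff_one]; split_ifs <;> norm_num

lemma pos_zero : Pos (0 : R) := fun m => by simp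

lemma pos_X (s : Fin 2) : Pos (X s : R) := fun m => by
  classical
  rw [coeff_X]; split_ifs <;> norm_num

lemma Pos.sum {ι : Type*} (s : Finset ι) (F : ι → R) (h : ∀ i ∈ s, Pos (F i)) :
    Pos (∑ i ∈ s, F i) := fun m => by
  rw [map_sum]; exact Finset.sum_nonneg fun i hi => h i hi m

lemma Pos.prod {ι : Type*} (s : Finset ι) (F : ι → R) (h : ∀ i ∈ s, Pos (F i)) :
    Pos (∏ i ∈ s, F i) := by
  classical
  induction s using Finset.induction_on with
  | empty => simpa using pos_one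
  | insert i s hi ih =>
    rw [Finset.prod_insert hi]
    exact (h i (Finset.mem_insert_self i s)).mul
      (ih fun j hj => h j (Finset.mem_insert_of_mem hj))

lemma Pos.pow {F : R} (hF : Pos F) (n : ℕ) : Pos (F ^ n) := by
  induction n with
  | zero => simpa using pos_one
  | succ n ih => rw [pow_succ]; exact ih.mul hF

lemma coeff_sum_pos {ι : Type*} (s : Finset ι) (F : ι → R) (h : ∀ i ∈ s, Pos (F i)) {i₀ : ι}
    (hi : i₀ ∈ s) {m : Fin 2 →₀ ℕ} (hm : 0 < coeff m (F i₀)) : 0 < coeff m (∑ i ∈ s, F i) := by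
  rw [map_sum]
  exact lt_of_lt_of_le hm
    (Finset.single_le_sum (f := fun i => coeff m (F i)) (fun i hi => h i hi m) hi)

lemma coeff_mul_ge {F G : R} (hF : Pos F) (hG : Pos G) (m m' : Fin 2 →₀ ℕ) :
    coeff m F * coeff m' G ≤ coeff (m + m') (F * G) := by
  classical
  rw [coeff_mul]
  exact Finset.single_le_sum (f := fun x : (Fin 2 →₀ ℕ) × (Fin 2 →₀ ℕ) => coeff x.1 F * coeff x.2 G)
    (fun x _ => mul_nonneg (hF _) (hG _)) (Finset.HasAntidiagonal.mem_antidiagonal.2 (rfl : (m, m').1 + (m, m').2 = m + m'))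

lemma coeff_mul_pos {F G : R} (hF : Pos F) (hG : Pos G) {m m' : Fin 2 →₀ ℕ}
    (h1 : 0 < coeff m F) (h2 : 0 < coeff m' G) : 0 < coeff (m + m') (F * G) :=
  lt_of_lt_of_le (mul_pos h1 h2) (coeff_mul_ge hF hG m m')

/-- the monomial `c y^u z^v` -/
noncomputable def term (c u v : ℕ) : R := (c : R) * X 0 ^ u * X 1 ^ v

lemma term_eq (c u v : ℕ) : term c u v = monomial (E u v) (c : ℤ) := by
  have h : (c : R) = monomial (0 : Fin 2 →₀ ℕ) (c : ℤ) := by
    rw [monomial_zero_eq_C_apply]; simp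
  unfold term E
  rw [h, X_pow_eq, X_pow_eq, monomial_mul_monomial, monomial_mul_monomial]
  simp

lemma coeff_term (m : Fin 2 →₀ ℕ) (c u v : ℕ) :
    coeff m (term c u v) = if m = E u v then (c : ℤ) else 0 := by
  classical
  rw [term_eq, coeff_monomial]

lemma pos_term (c u v : ℕ) : Pos (term c u v) := fun m => by
  rw [coeff_term]; split_ifs <;> simp

noncomputable def Pser (b : ℕ) : R :=
  ∑ u ∈ Finset.range (b + 1), ∑ v ∈ Finset.range (b + 1),
    if 1 ≤ u ∧ 1 ≤ v ∧ u + v ≤ b then (b.choose (u + v) : R) * X 0 ^ u * X 1 ^ v else 0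

noncomputable def Nser (b : ℕ) : R :=
  ∑ u ∈ Finset.range b, ∑ v ∈ Finset.range b,
    if u + v + 1 ≤ b - 1 then ((b - 1).choose (u + v + 1) : R) * X 0 ^ u * X 1 ^ v else 0

lemma pos_Pser (b : ℕ) : Pos (Pser b) := by
  unfold Pser
  refine Pos.sum _ _ fun u _ => Pos.sum _ _ fun v _ => ?_
  split_ifs
  · exact pos_term _ _ _
  · exact pos_zero

lemma pos_Nser (b : ℕ) : Pos (Nser b) := by
  unfold Nser
  refine Pos.sum _ _ fun u _ => Pos.sum _ _ fun v _ => ?_
  split_ifs
  · exact pos_term _ _ _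
  · exact pos_zero

lemma Pser_supp {b : ℕ} {m : Fin 2 →₀ ℕ} (h : coeff m (Pser b) ≠ 0) :
    1 ≤ m 0 ∧ 1 ≤ m 1 ∧ m 0 + m 1 ≤ b := by
  unfold Pser at h
  rw [map_sum] at h
  obtain ⟨u, hu, h⟩ := Finset.exists_ne_zero_of_sum_ne_zero h
  rw [map_sum] at h
  obtain ⟨v, hv, h⟩ := Finset.exists_ne_zero_of_sum_ne_zero h
  split_ifs at h with hc
  · change coeff m (term _ u v) ≠ 0 at h
    rw [coeff_term] at h
    split_ifs at h with hm
    · subst hm; simpa using hc
    · exact absurd rfl h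
  · simp at h

lemma Nser_supp {b : ℕ} {m : Fin 2 →₀ ℕ} (h : coeff m (Nser b) ≠ 0) :
    m 0 + m 1 + 2 ≤ b := by
  unfold Nser at h
  rw [map_sum] at h
  obtain ⟨u, hu, h⟩ := Finset.exists_ne_zero_of_sum_ne_zero h
  rw [map_sum] at h
  obtain ⟨v, hv, h⟩ := Finset.exists_ne_zero_of_sum_ne_zero h
  split_ifs at h with hc
  · change coeff m (term _ u v) ≠ 0 at h
    rw [coeff_term] at h
    split_ifs at h with hm
    · subst hm
      simp only [E_zero, E_one]
      rw [Finset.mem_range] at hu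
      omega
    · exact absurd rfl h
  · simp at h

lemma Pser_pos {b u v : ℕ} (hu : 1 ≤ u) (hv : 1 ≤ v) (huv : u + v ≤ b) :
    0 < coeff (E u v) (Pser b) := by
  unfold Pser
  refine coeff_sum_pos _ _ (fun u' _ => Pos.sum _ _ fun v' _ => ?_) (i₀ := u)
    (by rw [Finset.mem_range]; omega) ?_
  · split_ifs
    exacts [pos_term _ _ _, pos_zero]
  refine coeff_sum_pos _ _ (fun v' _ => ?_) (i₀ := v) (by rw [Finset.mem_range]; omega) ?_
  · split_ifs
    exacts [pos_term _ _ _, pos_zero]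
  rw [if_pos ⟨hu, hv, huv⟩]
  change 0 < coeff (E u v) (term _ u v)
  rw [coeff_term, if_pos rfl]
  exact_mod_cast Nat.choose_pos huv

lemma Nser_pos {b u v : ℕ} (huv : u + v + 2 ≤ b) :
    0 < coeff (E u v) (Nser b) := by
  unfold Nser
  refine coeff_sum_pos _ _ (fun u' _ => Pos.sum _ _ fun v' _ => ?_) (i₀ := u)
    (by rw [Finset.mem_range]; omega) ?_
  · split_ifs
    exacts [pos_term _ _ _, pos_zero]
  refine coeff_sum_pos _ _ (fun v' _ => ?_) (i₀ := v) (by rw [Finset.mem_range]; omega) ?_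
  · split_ifs
    exacts [pos_term _ _ _, pos_zero]
  rw [if_pos (by omega : u + v + 1 ≤ b - 1)]
  change 0 < coeff (E u v) (term _ u v)
  rw [coeff_term, if_pos rfl]
  exact_mod_cast Nat.choose_pos (by omega : u + v + 1 ≤ b - 1)

lemma eq_of_eqn {b : ℕ} {H : R} (hH : (1 - Pser b) * H = Nser b) : H = Nser b + Pser b * H := by
  linear_combination hH

lemma coeff_H {b : ℕ} {H : R} (hH : H = Nser b + Pser b * H) (m : Fin 2 →₀ ℕ) :
    coeff m H = coeff m (Nser b) +
      ∑ x ∈ Finset.HasAntidiagonal.antidiagonal m, coeff x.1 (Pser b) * coeff x.2 H := by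
  classical
  conv_lhs => rw [hH]
  rw [map_add, coeff_mul]

lemma deg_lt {m : Fin 2 →₀ ℕ} {x : (Fin 2 →₀ ℕ) × (Fin 2 →₀ ℕ)} (hx : x.1 + x.2 = m)
    (h1 : 1 ≤ x.1 0) : x.2 0 + x.2 1 < m 0 + m 1 := by
  subst hx
  simp only [Finsupp.add_apply]
  omega

lemma pos_H {b : ℕ} {H : R} (hH : H = Nser b + Pser b * H) : Pos H := by
  suffices h : ∀ n, ∀ m : Fin 2 →₀ ℕ, m 0 + m 1 = n → 0 ≤ coeff m H from fun m => h _ m rfl
  intro n
  induction n using Nat.strong_induction_on with
  | _ n ih =>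
    intro m hm
    rw [coeff_H hH]
    refine add_nonneg (pos_Nser b m) (Finset.sum_nonneg fun x hx => ?_)
    rw [Finset.HasAntidiagonal.mem_antidiagonal] at hx
    by_cases h0 : coeff x.1 (Pser b) = 0
    · rw [h0, zero_mul]
    · obtain ⟨h1, h2, h3⟩ := Pser_supp h0
      have hlt := deg_lt hx h1
      exact mul_nonneg (pos_Pser b _) (ih _ (hm ▸ hlt) _ rfl)

/-- necessary condition for a nonzero coefficient of the hypersurface series -/
lemma H_supp {b : ℕ} {H : R} (hH : H = Nser b + Pser b * H) :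
    ∀ m : Fin 2 →₀ ℕ, coeff m H ≠ 0 →
      ∃ r, r ≤ m 0 ∧ r ≤ m 1 ∧ m 0 + m 1 + 2 ≤ (r + 1) * b := by
  suffices h : ∀ n, ∀ m : Fin 2 →₀ ℕ, m 0 + m 1 = n → coeff m H ≠ 0 →
      ∃ r, r ≤ m 0 ∧ r ≤ m 1 ∧ m 0 + m 1 + 2 ≤ (r + 1) * b from fun m => h _ m rfl
  intro n
  induction n using Nat.strong_induction_on with
  | _ n ih =>
    intro m hm hne
    rw [coeff_H hH] at hne
    by_cases hN : coeff m (Nser b) = 0
    · rw [hN, zero_add] at hne
      obtain ⟨x, hx, hx'⟩ := Finset.exists_ne_zero_of_sum_ne_zero hne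
      rw [Finset.HasAntidiagonal.mem_antidiagonal] at hx
      obtain ⟨h1, h2, h3⟩ := Pser_supp (left_ne_zero_of_mul hx')
      have hlt := deg_lt hx h1
      obtain ⟨r, hr0, hr1, hr⟩ := ih _ (hm ▸ hlt) x.2 rfl (right_ne_zero_of_mul hx')
      refine ⟨r + 1, ?_, ?_, ?_⟩
      · rw [← hx]; simp only [Finsupp.add_apply]; omega
      · rw [← hx]; simp only [Finsupp.add_apply]; omega
      · rw [← hx]; simp only [Finsupp.add_apply]
        have : (r + 1 + 1) * b = (r + 1) * b + b := by ring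
        rw [this]; omega
    · have := Nser_supp hN
      exact ⟨0, Nat.zero_le _, Nat.zero_le _, by omega⟩

/-- sufficient condition for a positive coefficient of the hypersurface series -/
lemma H_pos {b : ℕ} {H : R} (hH : H = Nser b + Pser b * H) :
    ∀ r p q : ℕ, r ≤ p → r ≤ q → p + q + 2 ≤ (r + 1) * b → 0 < coeff (E p q) H := by
  have hP := pos_H hH
  intro r
  induction r with
  | zero =>
    intro p q _ _ h
    rw [coeff_H hH]
    have h1 : 0 < coeff (E p q) (Nser b) := Nser_pos (by omega)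
    have h2 : 0 ≤ ∑ x ∈ Finset.HasAntidiagonal.antidiagonal (E p q), coeff x.1 (Pser b) * coeff x.2 H :=
      Finset.sum_nonneg fun x _ => mul_nonneg (pos_Pser b _) (hP _)
    omega
  | succ r ih =>
    intro p q hp hq h
    have hb : 2 ≤ b := by
      by_contra hb
      have hb' : b ≤ 1 := by omega
      have : (r + 1 + 1) * b ≤ (r + 1 + 1) * 1 := Nat.mul_le_mul_left _ hb'
      omega
    have hM : 2 * (r + 1) ≤ (r + 1) * b := by
      rw [mul_comm 2]; exact Nat.mul_le_mul_left _ hb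
    have hM' : (r + 1 + 1) * b = (r + 1) * b + b := by ring
    rw [hM'] at h
    generalize (r + 1) * b = M at *
    obtain ⟨u, v, hu1, hu2, hv1, hv2, huv, hs⟩ : ∃ u v, 1 ≤ u ∧ u + r ≤ p ∧ 1 ≤ v ∧ v + r ≤ q ∧
        u + v ≤ b ∧ p + q + 2 ≤ M + u + v := by
      by_cases hc : p + q ≤ M
      · exact ⟨1, 1, by omega, by omega, by omega, by omega, by omega, by omega⟩
      · -- s = p + q + 2 - M ≥ 3
        by_cases hc2 : p + q + 2 - M - 1 ≤ p - r
        · exact ⟨p + q + 2 - M - 1, 1, by omega, by omega, by omega, by omega, by omega, by omega⟩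
        · exact ⟨p - r, p + q + 2 - M - (p - r), by omega, by omega, by omega, by omega, by omega,
            by omega⟩
    have e : E p q = E u v + E (p - u) (q - v) := by
      rw [E_add]; congr 1 <;> omega
    have h1 : 0 < coeff (E (p - u) (q - v)) H := ih _ _ (by omega) (by omega) (by omega)
    have h2 : 0 < coeff (E u v) (Pser b) := Pser_pos hu1 hv1 huv
    have h3 := coeff_mul_pos (pos_Pser b) hP h2 h1
    rw [← e] at h3
    have h4 : coeff (E p q) H = coeff (E p q) (Nser b) + coeff (E p q) (Pser b * H) := by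
      conv_lhs => rw [hH]
      rw [map_add]
    have h5 := pos_Nser b (E p q)
    omega

/-- weighted support bound, closed under products -/
def Bd (A c t : ℕ) (F : R) : Prop :=
  ∀ m : Fin 2 →₀ ℕ, coeff m F ≠ 0 → ∃ r, r ≤ m 0 ∧ m 0 + m 1 + t ≤ A * r + c

lemma Bd.mul {A c t c' t' : ℕ} {F G : R} (hF : Bd A c t F) (hG : Bd A c' t' G) :
    Bd A (c + c') (t + t') (F * G) := by
  classical
  intro m hm
  rw [coeff_mul] at hm
  obtain ⟨x, hx, hx'⟩ := Finset.exists_ne_zero_of_sum_ne_zero hm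
  rw [Finset.HasAntidiagonal.mem_antidiagonal] at hx
  obtain ⟨r1, h1, h1'⟩ := hF x.1 (left_ne_zero_of_mul hx')
  obtain ⟨r2, h2, h2'⟩ := hG x.2 (right_ne_zero_of_mul hx')
  refine ⟨r1 + r2, ?_, ?_⟩
  · rw [← hx]; simp only [Finsupp.add_apply]; omega
  · rw [← hx]; simp only [Finsupp.add_apply]; rw [Nat.mul_add]; omega

lemma bd_one (A : ℕ) : Bd A 0 0 (1 : R) := by
  classical
  intro m hm
  rw [coeff_one] at hm
  split_ifs at hm with h
  · subst h; exact ⟨0, by simp, by simp⟩
  · exact absurd rfl hm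

lemma Bd.prod {ι : Type*} {A : ℕ} (s : Finset ι) (F : ι → R) (c t : ι → ℕ)
    (h : ∀ i ∈ s, Bd A (c i) (t i) (F i)) :
    Bd A (∑ i ∈ s, c i) (∑ i ∈ s, t i) (∏ i ∈ s, F i) := by
  classical
  induction s using Finset.induction_on with
  | empty => simpa using bd_one A
  | insert i s hi ih =>
    rw [Finset.prod_insert hi, Finset.sum_insert hi, Finset.sum_insert hi]
    exact (h i (Finset.mem_insert_self i s)).mul
      (ih fun j hj => h j (Finset.mem_insert_of_mem hj))

lemma Bd.pow {A c t : ℕ} {F : R} (hF : Bd A c t F) (n : ℕ) : Bd A (n * c) (n * t) (F ^ n) := by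
  induction n with
  | zero => simpa using bd_one A
  | succ n ih =>
    rw [pow_succ, Nat.succ_mul, Nat.succ_mul]; exact ih.mul hF

lemma bd_H {A b : ℕ} (hb : b ≤ A) {H : R} (hH : H = Nser b + Pser b * H) : Bd A b 2 H := by
  intro m hm
  obtain ⟨r, h0, h1, h2⟩ := H_supp hH m hm
  refine ⟨r, h0, ?_⟩
  have : (r + 1) * b = r * b + b := by ring
  have h3 : r * b ≤ A * r := by rw [mul_comm A]; exact Nat.mul_le_mul_left _ hb
  omega

lemma bd_y (A : ℕ) (hA : 1 ≤ A) : Bd A 0 0 (1 + X 0 : R) := by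
  classical
  intro m hm
  rw [map_add, coeff_one, coeff_X] at hm
  by_cases h1 : m = 0
  · subst h1; exact ⟨0, by simp, by simp⟩
  · by_cases h2 : m = Finsupp.single 0 1
    · subst h2
      refine ⟨1, by simp, ?_⟩
      simp only [Finsupp.single_apply]
      simp
      omega
    · rw [if_neg h1, if_neg h2] at hm
      exact absurd rfl hm

lemma bd_z (A : ℕ) : Bd A 1 0 (1 + X 1 : R) := by
  classical
  intro m hm
  rw [map_add, coeff_one, coeff_X] at hm
  by_cases h1 : m = 0
  · subst h1; exact ⟨0, by simp, by simp⟩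
  · by_cases h2 : m = Finsupp.single 1 1
    · subst h2
      refine ⟨0, by simp, ?_⟩
      simp only [Finsupp.single_apply]
      simp
    · rw [if_neg h1, if_neg h2] at hm
      exact absurd rfl hm

lemma bd_yz (A : ℕ) (hA : 1 ≤ A) (k : ℕ) : Bd A k 0 (((1 + X 0) * (1 + X 1) : R) ^ k) := by
  have h := ((bd_y A hA).mul (bd_z A)).pow k
  simpa using h

/-- positivity along the `z`-axis: all coefficients of `z^q`, `q ≤ h`, are positive -/
def Seg0 (F : R) (h : ℕ) : Prop := ∀ q, q ≤ h → 0 < coeff (E 0 q) F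

lemma Seg0.mul {F G : R} {h h' : ℕ} (hF : Pos F) (hG : Pos G) (sF : Seg0 F h) (sG : Seg0 G h') :
    Seg0 (F * G) (h + h') := by
  intro q hq
  have e : E 0 q = E 0 (min q h) + E 0 (q - min q h) := by
    rw [E_add]; congr 1; omega
  rw [e]
  exact coeff_mul_pos hF hG (sF _ (by omega)) (sG _ (by omega))

lemma seg0_one : Seg0 (1 : R) 0 := by
  classical
  intro q hq
  have : q = 0 := by omega
  subst this
  rw [E_00, coeff_one, if_pos rfl]; norm_num

lemma Seg0.prod {ι : Type*} (s : Finset ι) (F : ι → R) (h : ι → ℕ)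
    (hP : ∀ i ∈ s, Pos (F i)) (hS : ∀ i ∈ s, Seg0 (F i) (h i)) :
    Seg0 (∏ i ∈ s, F i) (∑ i ∈ s, h i) := by
  classical
  induction s using Finset.induction_on with
  | empty => simpa using seg0_one
  | insert i s hi ih =>
    rw [Finset.prod_insert hi, Finset.sum_insert hi]
    exact Seg0.mul (hP i (Finset.mem_insert_self i s))
      (Pos.prod _ _ fun j hj => hP j (Finset.mem_insert_of_mem hj))
      (hS i (Finset.mem_insert_self i s))
      (ih (fun j hj => hP j (Finset.mem_insert_of_mem hj))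
        (fun j hj => hS j (Finset.mem_insert_of_mem hj)))

lemma Seg0.pow {F : R} {h : ℕ} (hF : Pos F) (sF : Seg0 F h) (n : ℕ) : Seg0 (F ^ n) (n * h) := by
  induction n with
  | zero => simpa using seg0_one
  | succ n ih =>
    rw [pow_succ, Nat.succ_mul]; exact Seg0.mul (hF.pow n) hF ih sF

lemma pos_y : Pos (1 + X 0 : R) := pos_one.add (pos_X 0)
lemma pos_z : Pos (1 + X 1 : R) := pos_one.add (pos_X 1)

lemma seg0_y : Seg0 (1 + X 0 : R) 0 := by
  classical
  intro q hq
  have : q = 0 := by omega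
  subst this
  rw [E_00, map_add, coeff_one, if_pos rfl, coeff_X]
  split_ifs <;> norm_num

lemma seg0_z : Seg0 (1 + X 1 : R) 1 := by
  classical
  intro q hq
  have hq' : q = 0 ∨ q = 1 := by omega
  rcases hq' with rfl | rfl
  · rw [E_00, map_add, coeff_one, if_pos rfl, coeff_X]
    split_ifs <;> norm_num
  · have e : E 0 1 = Finsupp.single 1 1 := by
      ext i; fin_cases i <;> simp [E]
    rw [e, map_add, coeff_X, if_pos rfl, coeff_one]
    split_ifs <;> norm_num

lemma seg0_yz (k : ℕ) : Seg0 (((1 + X 0) * (1 + X 1) : R) ^ k) k := by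
  have h := Seg0.pow (pos_y.mul pos_z) (Seg0.mul pos_y pos_z seg0_y seg0_z) k
  simpa using h

lemma seg0_H {b : ℕ} (hb : 2 ≤ b) {H : R} (hH : H = Nser b + Pser b * H) : Seg0 H (b - 2) := by
  intro q hq
  exact H_pos hH 0 0 q le_rfl (Nat.zero_le _) (by omega)

theorem main (d : ℕ) (a : Fin d → ℕ) (ha : ∀ i, 1 ≤ a i)
    (Hs : Fin d → R) (p q : ℕ) (hpq : p ≤ q)
    (hH : ∀ i, (1 - Pser (a i)) * Hs i = Nser (a i)) :
    (coeff (Finsupp.single 0 p + Finsupp.single 1 q)
      (∑ P ∈ (Finset.univ : Finset (Fin d)).powerset with P.Nonempty,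
        ((1 + X 0) * (1 + X 1) : R) ^ (P.card - 1) * ∏ i ∈ P, Hs i) ≠ 0 ↔
      p + q + d < p * Finset.univ.sup a + ∑ i, a i) := by
  classical
  have hE : ∀ i, Hs i = Nser (a i) + Pser (a i) * Hs i := fun i => eq_of_eqn (hH i)
  have hPos : ∀ i, Pos (Hs i) := fun i => pos_H (hE i)
  obtain ⟨A, hA⟩ : ∃ A, A = Finset.univ.sup a := ⟨_, rfl⟩
  rw [← hA]
  have haA : ∀ i, a i ≤ A := fun i => hA ▸ Finset.le_sup (Finset.mem_univ i)
  have hsum : ∀ P : Finset (Fin d), ∑ i ∈ P, a i = ∑ i ∈ P, (a i - 1) + P.card := by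
    intro P
    rw [Finset.card_eq_sum_ones, ← Finset.sum_add_distrib]
    exact Finset.sum_congr rfl fun i _ => by have := ha i; omega
  change coeff (E p q) _ ≠ 0 ↔ _
  constructor
  · intro hne
    rw [map_sum] at hne
    obtain ⟨P, hP, hne⟩ := Finset.exists_ne_zero_of_sum_ne_zero hne
    rw [Finset.mem_filter] at hP
    obtain ⟨i₁, hi₁⟩ := hP.2
    have hA1 : 1 ≤ A := le_trans (ha i₁) (haA i₁)
    have hbd := (bd_yz A hA1 (P.card - 1)).mul
      (Bd.prod P Hs a (fun _ => 2) fun i _ => bd_H (haA i) (hE i))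
    obtain ⟨r, hr, hr'⟩ := hbd _ hne
    simp only [E_zero, E_one, Finset.sum_const, smul_eq_mul] at hr hr'
    have hcard : 1 ≤ P.card := Finset.card_pos.2 ⟨i₁, hi₁⟩
    have h1 := hsum P
    have h2 := hsum Finset.univ
    rw [Finset.card_univ, Fintype.card_fin] at h2
    have h3 : ∑ i ∈ P, (a i - 1) ≤ ∑ i, (a i - 1) :=
      Finset.sum_le_sum_of_subset (Finset.subset_univ P)
    have h4 : A * r ≤ p * A := by rw [mul_comm p]; exact Nat.mul_le_mul_left _ hr
    generalize A * r = Ar at *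
    generalize p * A = pA at *
    omega
  · intro hlt
    have hA2 : 2 ≤ A := by
      by_contra hA2
      have hA1 : A ≤ 1 := by omega
      have h2 := hsum Finset.univ
      have h3 : ∑ i : Fin d, (a i - 1) = 0 :=
        Finset.sum_eq_zero fun i _ => by have := haA i; omega
      rw [Finset.card_univ, Fintype.card_fin, h3] at h2
      have h4 : p * A ≤ p * 1 := Nat.mul_le_mul_left _ hA1
      omega
    have hne : (Finset.univ : Finset (Fin d)).Nonempty := by
      by_contra hne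
      rw [Finset.not_nonempty_iff_eq_empty] at hne
      rw [hne, Finset.sup_empty] at hA
      simp at hA
      omega
    obtain ⟨i₀, -, hi₀⟩ := Finset.exists_mem_eq_sup Finset.univ hne a
    rw [← hA] at hi₀
    have hd : 1 ≤ d := Fin.pos i₀
    obtain ⟨Q, hQ⟩ : ∃ Q, Q = (Finset.univ.erase i₀).filter (fun i => 2 ≤ a i) := ⟨_, rfl⟩
    have hi₀Q : i₀ ∉ Q := by simp [hQ]
    have hmem : insert i₀ Q ∈
        (Finset.univ : Finset (Fin d)).powerset.filter (fun P => P.Nonempty) := by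
      rw [Finset.mem_filter]
      exact ⟨Finset.mem_powerset.2 (Finset.subset_univ _), Finset.insert_nonempty _ _⟩
    refine ne_of_gt (coeff_sum_pos _ _ (fun P _ => ((pos_y.mul pos_z).pow _).mul
      (Pos.prod _ _ fun i _ => hPos i)) hmem ?_)
    rw [Finset.card_insert_of_notMem hi₀Q, Nat.add_sub_cancel, Finset.prod_insert hi₀Q]
    obtain ⟨h, hh⟩ : ∃ h, h = Q.card + ∑ i ∈ Q, (a i - 2) := ⟨_, rfl⟩
    have hseg : Seg0 (((1 + X 0) * (1 + X 1) : R) ^ Q.card * ∏ i ∈ Q, Hs i) h := by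
      rw [hh]
      refine Seg0.mul ((pos_y.mul pos_z).pow _) (Pos.prod _ _ fun i _ => hPos i) (seg0_yz _)
        (Seg0.prod Q Hs (fun i => a i - 2) (fun i _ => hPos i) (fun i hi => seg0_H ?_ (hE i)))
      rw [hQ, Finset.mem_filter] at hi
      exact hi.2
    have hsumA : ∑ i, a i ≤ A + h + (d - 1) := by
      rw [← Finset.add_sum_erase Finset.univ a (Finset.mem_univ i₀), ← hi₀]
      have h1 : ∑ i ∈ Finset.univ.erase i₀, a i ≤
          ∑ i ∈ Finset.univ.erase i₀, ((if 2 ≤ a i then a i - 2 + 1 else 0) + 1) :=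
        Finset.sum_le_sum fun i _ => by have := ha i; split_ifs <;> omega
      rw [Finset.sum_add_distrib, ← Finset.sum_filter, ← hQ, Finset.sum_add_distrib] at h1
      simp only [Finset.sum_const, smul_eq_mul, mul_one,
        Finset.card_erase_of_mem (Finset.mem_univ i₀), Finset.card_univ, Fintype.card_fin] at h1
      omega
    obtain ⟨M, hM⟩ : ∃ M, M = (p + 1) * A := ⟨_, rfl⟩
    have hM2 : 2 * (p + 1) ≤ M := by
      rw [hM, mul_comm 2]; exact Nat.mul_le_mul_left _ hA2
    have hpA : p * A + A = M := by rw [hM]; ring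
    obtain ⟨q₀, w, hq0, hq1, hw, hqw⟩ :
        ∃ q₀ w, p ≤ q₀ ∧ p + q₀ + 2 ≤ M ∧ w ≤ h ∧ q = q₀ + w := by
      by_cases hc : p + q + 2 ≤ M
      · exact ⟨q, 0, hpq, hc, Nat.zero_le _, rfl⟩
      · exact ⟨M - 2 - p, q - (M - 2 - p), by omega, by omega, by omega, by omega⟩
    have e : E p q = E p q₀ + E 0 w := by rw [E_add, hqw]; rfl
    rw [e, mul_left_comm]
    refine coeff_mul_pos (hPos i₀) (((pos_y.mul pos_z).pow _).mul
      (Pos.prod _ _ fun i _ => hPos i))
      (H_pos (hE i₀) p p q₀ le_rfl hq0 ?_) (hseg w hw)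
    rw [← hi₀, ← hM]; exact hq1

end Groth.Agent.Helper25.HodgeSer
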