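import Mathlib

namespace Groth.Agent.Helper25.IntClPow

open Polynomial

theorem dvd_pow_sub_one_of_dvd {A : Type*} [CommRing A] (p : ℕ) (hp : p.Prime) (μ y : A)
    (hc : μ ^ (p - 1) ∣ (p : A)) (hy : μ ∣ y - 1) : μ ^ p ∣ y ^ p - 1 := by
  obtain ⟨q, rfl⟩ : ∃ q, p = q + 1 := ⟨p - 1, by have := hp.one_lt; omega⟩
  rw [Nat.add_sub_cancel] at hc
  obtain ⟨z, hz⟩ := hy
  obtain ⟨c, hc⟩ := hc
  have hy' : y = 1 + μ * z := by rw [← hz]; ring
  obtain ⟨r, hr⟩ := exists_add_pow_prime_eq hp (1 : A) (μ * z)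
  refine ⟨z ^ (q + 1) + c * z * r, ?_⟩
  rw [hy', hr, hc]
  ring

theorem dvd_sub_one_of_dvd_pow {A : Type*} [CommRing A] [IsDomain A] [IsIntegrallyClosed A]
    (p : ℕ) (hp : p.Prime) (μ y : A) (hμ : μ ≠ 0)
    (hc : μ ^ (p - 1) ∣ (p : A)) (hy : μ ^ p ∣ y ^ p - 1) : μ ∣ y - 1 := by
  obtain ⟨b, hb⟩ := hy
  set F : A[X] := ((1 + X) ^ p).comp (C μ * X) - 1 with hF
  have hcoef : ∀ k, F.coeff k = if k = 0 then 0 else (p.choose k : A) * μ ^ k := by
    intro k
    rw [hF, coeff_sub, comp_C_mul_X_coeff, coeff_one_add_X_pow, coeff_one]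
    by_cases hk : k = 0
    · subst hk; simp
    · simp [hk]
  have hdvd : ∀ k, μ ^ p ∣ F.coeff k := by
    intro k
    rw [hcoef]
    split_ifs with hk
    · exact dvd_zero _
    · rcases lt_trichotomy k p with h | h | h
      · have h1 : p ∣ p.choose k := hp.dvd_choose_self hk h
        obtain ⟨d, hd⟩ := h1
        obtain ⟨c, hc⟩ := hc
        rw [hd, Nat.cast_mul, hc]
        have h2 : μ ^ p ∣ μ ^ (p - 1) * μ ^ k := by
          rw [← pow_add]; exact pow_dvd_pow _ (by omega)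
        exact Dvd.dvd.trans h2 ⟨c * d, by ring⟩
      · subst h; exact Dvd.intro_left _ rfl
      · rw [Nat.choose_eq_zero_of_lt h]; simp
  obtain ⟨Q, hQ⟩ := (C_dvd_iff_dvd_coeff _ _).mpr hdvd
  have hμp : μ ^ p ≠ 0 := pow_ne_zero _ hμ
  have hQcoef : ∀ k, μ ^ p * Q.coeff k = F.coeff k := fun k => by rw [hQ, coeff_C_mul]
  have hQdeg : Q.natDegree ≤ p := by
    rw [natDegree_le_iff_coeff_eq_zero]
    intro N hN
    have h1 := hQcoef N
    rw [hcoef, if_neg (by omega), Nat.choose_eq_zero_of_lt hN, Nat.cast_zero, zero_mul] at h1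
    exact (mul_eq_zero.mp h1).resolve_left hμp
  have hQp : Q.coeff p = 1 := by
    have h1 := hQcoef p
    rw [hcoef, if_neg hp.ne_zero, Nat.choose_self, Nat.cast_one, one_mul] at h1
    exact mul_left_cancel₀ hμp (h1.trans (mul_one _).symm)
  have hQmonic : Q.Monic := monic_of_natDegree_le_of_coeff_eq_one p hQdeg hQp
  have hQnat : Q.natDegree ≠ 0 := by
    have : p ≤ Q.natDegree := le_natDegree_of_ne_zero (by rw [hQp]; exact one_ne_zero)
    have := hp.pos
    omega
  -- the element z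
  set K := FractionRing A
  have hinj : Function.Injective (algebraMap A K) := IsFractionRing.injective A K
  have hμK : algebraMap A K μ ≠ 0 := by
    rwa [Ne, map_eq_zero_iff _ hinj]
  set z : K := algebraMap A K (y - 1) / algebraMap A K μ with hz
  have hμz : algebraMap A K μ * z = algebraMap A K (y - 1) := by
    rw [hz, mul_div_cancel₀ _ hμK]
  have hFz : aeval z F = algebraMap A K (μ ^ p) * algebraMap A K b := by
    rw [hF]
    simp only [map_sub, aeval_comp, map_pow, map_add, map_one, aeval_X, map_mul, aeval_C]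
    rw [hμz]
    have hb' := congrArg (algebraMap A K) hb
    simp only [map_sub, map_one, map_pow, map_mul] at hb' ⊢
    rw [← hb', add_sub_cancel]
  have hQz : aeval z Q = algebraMap A K b := by
    have h1 : aeval z F = algebraMap A K (μ ^ p) * aeval z Q := by
      rw [hQ, map_mul, aeval_C]
    rw [h1] at hFz
    have hμpK : algebraMap A K (μ ^ p) ≠ 0 := by
      rwa [Ne, map_eq_zero_iff _ hinj]
    exact mul_left_cancel₀ hμpK hFz
  have hint : IsIntegral A z := by
    apply IsIntegral.of_aeval_monic hQmonic hQnat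
    rw [hQz]
    exact isIntegral_algebraMap
  obtain ⟨a, ha⟩ := IsIntegrallyClosed.isIntegral_iff.mp hint
  refine ⟨a, ?_⟩
  apply hinj
  rw [map_mul, ha, hμz]

theorem main_iff {A : Type*} [CommRing A] [IsDomain A] [IsIntegrallyClosed A]
    (p : ℕ) (hp : p.Prime) (a : A) (ha : a ≠ 0) :
    ∀ n, 1 ≤ n → a ^ (p ^ (n - 1) * (p - 1)) ∣ (p : A) → ∀ x : A,
      (a ^ p ^ n ∣ x ^ p ^ n - 1 ↔ a ∣ x - 1) := by
  intro n hn
  induction n, hn using Nat.le_induction with
  | base =>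
    intro h x
    simp only [Nat.sub_self, pow_zero, one_mul, pow_one] at h ⊢
    exact ⟨dvd_sub_one_of_dvd_pow p hp a x ha h, dvd_pow_sub_one_of_dvd p hp a x h⟩
  | succ n hn ih =>
    intro h x
    have hn1 : n + 1 - 1 = n := by omega
    rw [hn1] at h
    have h' : a ^ (p ^ (n - 1) * (p - 1)) ∣ (p : A) := by
      refine (pow_dvd_pow a ?_).trans h
      exact Nat.mul_le_mul_right _ (Nat.pow_le_pow_right hp.pos (by omega))
    have ih' := ih h'
    have hμ : (a ^ p ^ n) ^ (p - 1) ∣ (p : A) := by rw [← pow_mul]; exact h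
    have e1 : a ^ p ^ (n + 1) = (a ^ p ^ n) ^ p := by rw [← pow_mul, ← pow_succ]
    have e2 : x ^ p ^ (n + 1) = (x ^ p ^ n) ^ p := by rw [← pow_mul, ← pow_succ]
    rw [e1, e2, ← ih' x]
    exact ⟨dvd_sub_one_of_dvd_pow p hp _ _ (pow_ne_zero _ ha) hμ,
      dvd_pow_sub_one_of_dvd p hp _ _ hμ⟩

theorem final {R : Type*} [CommRing R] (p n : ℕ) [Fact p.Prime] (hn : 1 ≤ n)
    (lam : R) (hlam : lam ≠ 0)
    (hstar : lam ^ (p ^ (n - 1) * (p - 1)) ∣ (p : R))
    (A : Type*) [CommRing A] [IsDomain A] [IsIntegrallyClosed A] [Algebra R A]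
    [Module.FaithfullyFlat R A] (x : A) :
    (algebraMap R A lam ^ p ^ n ∣ x ^ p ^ n - 1) ↔ (algebraMap R A lam ∣ x - 1) := by
  have hinj : Function.Injective (algebraMap R A) := FaithfulSMul.algebraMap_injective R A
  have ha : algebraMap R A lam ≠ 0 := by rwa [Ne, map_eq_zero_iff _ hinj]
  have h := map_dvd (algebraMap R A) hstar
  rw [map_pow, map_natCast] at h
  exact main_iff p Fact.out _ ha n hn h x

end Groth.Agent.Helper25.IntClPow
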