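import Mathlib
import Groth.Prelude.Def_W4c2brnrinvarInvFld
import Groth.Agent.Lib.Helper25.NoNameA
import Groth.Agent.Lib.Helper25.FldLib

/-!
# Stable equivalence of fields of invariants of two faithful linear representations (helper25)
-/

namespace Groth.Agent.Helper25.InvFldCore

open MvPolynomial Groth.Agent.Helper25.FldLib

section Abstract

variable {k : Type*} [Field k]

theorem isoLemma {K L : Type*} [Field K] [Field L] [Algebra k K] [Algebra k L] (ι : K →ₐ[k] L)
    (E₀ : IntermediateField k K) (b : ℕ) (t : Fin b → L)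
    (ht : Function.Injective (MvPolynomial.eval₂Hom ι.toRingHom t))
    (E : IntermediateField k L) (h1 : ∀ a ∈ E₀, ι a ∈ E) (h2 : ∀ j, t j ∈ E)
    (h3 : ∀ z ∈ E, z ∈ Subfield.closure ((ι '' (E₀ : Set K)) ∪ Set.range t)) :
    Nonempty (InvFld.Fld (Fin b) ↥E₀ ≃ₐ[k] ↥E) := by
  let ψr : MvPolynomial (Fin b) ↥E₀ →+* L :=
    MvPolynomial.eval₂Hom (ι.toRingHom.comp (algebraMap ↥E₀ K)) t
  have hψC : ∀ c : ↥E₀, ψr (MvPolynomial.C c) = ι (c : K) := fun c => by
    simp only [ψr, MvPolynomial.coe_eval₂Hom, MvPolynomial.eval₂_C]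
    rfl
  have hψX : ∀ j, ψr (MvPolynomial.X j) = t j := fun j => by
    simp only [ψr, MvPolynomial.coe_eval₂Hom, MvPolynomial.eval₂_X]
  have hψinj : Function.Injective ψr := by
    have : ψr = (MvPolynomial.eval₂Hom ι.toRingHom t).comp
        (MvPolynomial.map (algebraMap ↥E₀ K)) := by
      apply MvPolynomial.ringHom_ext
      · intro c
        rw [hψC, RingHom.comp_apply, MvPolynomial.map_C, MvPolynomial.coe_eval₂Hom,
          MvPolynomial.eval₂_C]
        rfl
      · intro i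
        rw [hψX, RingHom.comp_apply, MvPolynomial.map_X, MvPolynomial.coe_eval₂Hom,
          MvPolynomial.eval₂_X]
    rw [this, RingHom.coe_comp]
    exact ht.comp (MvPolynomial.map_injective _ (algebraMap ↥E₀ K).injective)
  let ψ : MvPolynomial (Fin b) ↥E₀ →ₐ[k] L :=
    { ψr with
      commutes' := fun c => by
        show ψr (algebraMap k _ c) = algebraMap k L c
        rw [MvPolynomial.algebraMap_apply, hψC]
        show ι (algebraMap k K c) = algebraMap k L c
        rw [AlgHom.commutes] }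
  have hψ : ∀ P, ψ P = ψr P := fun P => rfl
  have hψinj' : Function.Injective ψ := hψinj
  let Ψ : InvFld.Fld (Fin b) ↥E₀ →ₐ[k] L := IsFractionRing.liftAlgHom (g := ψ) hψinj'
  have hΨalg : ∀ P : MvPolynomial (Fin b) ↥E₀,
      Ψ (algebraMap (MvPolynomial (Fin b) ↥E₀) (InvFld.Fld (Fin b) ↥E₀) P) = ψr P := by
    intro P
    show IsFractionRing.liftAlgHom (g := ψ) hψinj' _ = _
    rw [IsFractionRing.liftAlgHom_apply, IsFractionRing.lift_algebraMap]
  have hψE : ∀ P, ψr P ∈ E := by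
    intro P
    induction P using MvPolynomial.induction_on with
    | C c => rw [hψC]; exact h1 _ c.2
    | add p q hp hq => rw [map_add]; exact E.add_mem hp hq
    | mul_X p i hp => rw [map_mul, hψX]; exact E.mul_mem hp (h2 i)
  have hrange : Ψ.fieldRange = E := by
    apply le_antisymm
    · rintro _ ⟨z, rfl⟩
      obtain ⟨a, c, _, rfl⟩ := IsFractionRing.div_surjective (A := MvPolynomial (Fin b) ↥E₀) z
      show Ψ (_ / _) ∈ E
      rw [map_div₀, hΨalg, hΨalg]
      exact E.div_mem (hψE a) (hψE c)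
    · intro z hz
      have hz3 := h3 z hz
      have hle : Subfield.closure ((ι '' (E₀ : Set K)) ∪ Set.range t) ≤
          Ψ.fieldRange.toSubfield := by
        rw [Subfield.closure_le]
        rintro _ (⟨a, ha, rfl⟩ | ⟨j, rfl⟩)
        · exact AlgHom.mem_fieldRange.mpr
            ⟨algebraMap (MvPolynomial (Fin b) ↥E₀) (InvFld.Fld (Fin b) ↥E₀)
              (MvPolynomial.C ⟨a, ha⟩), by rw [hΨalg, hψC]⟩
        · exact AlgHom.mem_fieldRange.mpr
            ⟨algebraMap (MvPolynomial (Fin b) ↥E₀) (InvFld.Fld (Fin b) ↥E₀)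
              (MvPolynomial.X j), by rw [hΨalg, hψX]⟩
      exact hle hz3
  exact ⟨(AlgHom.equivFieldRange Ψ).trans (IntermediateField.equivOfEq hrange)⟩

theorem side {K L Γ : Type*} [Field K] [Field L] [Algebra k K] [Algebra k L] [Group Γ] [Finite Γ]
    [MulSemiringAction Γ K] [MulSemiringAction Γ L] [FaithfulSMul Γ K]
    (ι : K →ₐ[k] L) (heq : ∀ (g : Γ) (a : K), g • ι a = ι (g • a))
    (b : ℕ) (y : Fin b → L) (hy : Function.Injective (MvPolynomial.eval₂Hom ι.toRingHom y))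
    (hW : ∀ (g : Γ) (j : Fin b), ∃ c : Fin b → k, g • y j = ∑ l, c l • y l)
    (hgen : ∀ S : Subfield L, (∀ a, ι a ∈ S) → (∀ j, y j ∈ S) → S = ⊤)
    (E₀ : IntermediateField k K) (hE₀ : ∀ a, a ∈ E₀ ↔ ∀ g : Γ, g • a = a)
    (E : IntermediateField k L) (hE : ∀ z, z ∈ E ↔ ∀ g : Γ, g • z = z) :
    Nonempty (InvFld.Fld (Fin b) ↥E₀ ≃ₐ[k] ↥E) := by
  letI : Algebra K L := ι.toRingHom.toAlgebra
  have haev : ∀ (w : Fin b → L) (r : MvPolynomial (Fin b) K),
      MvPolynomial.aeval w r = MvPolynomial.eval₂Hom ι.toRingHom w r := fun w r => by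
    rw [MvPolynomial.aeval_def]; rfl
  have hyind : AlgebraicIndependent K y := by
    intro p q hpq
    apply hy
    rw [← haev, ← haev]; exact hpq
  have hW' : ∀ (g : Γ) (j : Fin b), g • y j ∈ Submodule.span K (Set.range y) := by
    intro g j
    obtain ⟨c, hc⟩ := hW g j
    rw [hc]
    refine Submodule.sum_mem _ fun l _ => ?_
    have : c l • y l = (algebraMap k K (c l)) • y l := by
      rw [Algebra.smul_def, Algebra.smul_def]
      congr 1
      show algebraMap k L (c l) = ι (algebraMap k K (c l))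
      rw [AlgHom.commutes]
    rw [this]
    exact Submodule.smul_mem _ _ (Submodule.subset_span ⟨l, rfl⟩)
  obtain ⟨t, ht, htfix, htgen⟩ := NoNameA.noname (K := K) (L := L) (G := Γ)
    (fun g a => heq g a) b y hyind hW' (fun S hK hY => hgen S hK hY)
  refine isoLemma ι E₀ b t ?_ E ?_ ?_ ?_
  · intro p q hpq
    apply ht
    rw [haev, haev]; exact hpq
  · intro a ha
    rw [hE]
    intro g
    rw [heq, (hE₀ a).mp ha g]
  · intro j
    rw [hE]
    exact fun g => htfix j g
  · intro z hz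
    have := htgen z ((hE z).mp hz)
    refine Subfield.closure_mono ?_ this
    apply Set.union_subset_union_left
    rintro _ ⟨a, ha, rfl⟩
    exact ⟨a, (hE₀ a).mpr ha, rfl⟩

end Abstract

section Concrete

universe u

variable {k : Type u} [Field k] {n m : ℕ}

/-- the embedding of the rational function field in the first block of variables -/
noncomputable abbrev ι₁ (k : Type u) [Field k] (n m : ℕ) :
    InvFld.Fld (Fin n) k →ₐ[k] InvFld.Fld (Fin n ⊕ Fin m) k :=
  fldMap Sum.inl Sum.inl_injective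

/-- the embedding of the rational function field in the second block of variables -/
noncomputable abbrev ι₂ (k : Type u) [Field k] (n m : ℕ) :
    InvFld.Fld (Fin m) k →ₐ[k] InvFld.Fld (Fin n ⊕ Fin m) k :=
  fldMap Sum.inr Sum.inr_injective

theorem algEquiv_ext_blocks
    (τ τ' : InvFld.Fld (Fin n ⊕ Fin m) k ≃ₐ[k] InvFld.Fld (Fin n ⊕ Fin m) k)
    (h1 : ∀ a, τ (ι₁ k n m a) = τ' (ι₁ k n m a)) (h2 : ∀ b, τ (ι₂ k n m b) = τ' (ι₂ k n m b)) :
    τ = τ' := by
  have : (τ : InvFld.Fld (Fin n ⊕ Fin m) k →ₐ[k] InvFld.Fld (Fin n ⊕ Fin m) k) =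
      (τ' : InvFld.Fld (Fin n ⊕ Fin m) k →ₐ[k] InvFld.Fld (Fin n ⊕ Fin m) k) := by
    apply algHom_ext_X
    intro v
    cases v with
    | inl i =>
      have := h1 (InvFld.X i)
      rwa [fldMap_X] at this
    | inr j =>
      have := h2 (InvFld.X j)
      rwa [fldMap_X] at this
  exact AlgEquiv.ext fun z => AlgHom.congr_fun this z

variable (G : Subgroup (InvFld.Fld (Fin n) k ≃ₐ[k] InvFld.Fld (Fin n) k))
  (H : Subgroup (InvFld.Fld (Fin m) k ≃ₐ[k] InvFld.Fld (Fin m) k)) (e : G ≃* H)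
  (hG : ∀ σ ∈ G, ∀ i : Fin n, σ (InvFld.X i) ∈
    Submodule.span k (Set.range fun j : Fin n => (InvFld.X j : InvFld.Fld (Fin n) k)))
  (hH : ∀ τ ∈ H, ∀ i : Fin m, τ (InvFld.X i) ∈
    Submodule.span k (Set.range fun j : Fin m => (InvFld.X j : InvFld.Fld (Fin m) k)))

include hG hH in
theorem exists_Phi (g : G) :
    ∃ τ : InvFld.Fld (Fin n ⊕ Fin m) k ≃ₐ[k] InvFld.Fld (Fin n ⊕ Fin m) k,
      (∀ a, τ (ι₁ k n m a) = ι₁ k n m (g.1 a)) ∧ (∀ b, τ (ι₂ k n m b) = ι₂ k n m ((e g).1 b)) :=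
  exists_sumExt g.1 (e g).1 (polyPres_of_lin _ (hG _ g.2))
    (polyPres_of_lin _ (hG _ (G.inv_mem g.2)))
    (polyPres_of_lin _ (hH _ (e g).2)) (polyPres_of_lin _ (hH _ (H.inv_mem (e g).2)))

/-- the chosen extension of `g` to the big field -/
noncomputable def Phi (g : G) :
    InvFld.Fld (Fin n ⊕ Fin m) k ≃ₐ[k] InvFld.Fld (Fin n ⊕ Fin m) k :=
  Classical.choose (exists_Phi G H e hG hH g)

theorem Phi_ι₁ (g : G) (a : InvFld.Fld (Fin n) k) :
    Phi G H e hG hH g (ι₁ k n m a) = ι₁ k n m (g.1 a) :=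
  (Classical.choose_spec (exists_Phi G H e hG hH g)).1 a

theorem Phi_ι₂ (g : G) (b : InvFld.Fld (Fin m) k) :
    Phi G H e hG hH g (ι₂ k n m b) = ι₂ k n m ((e g).1 b) :=
  (Classical.choose_spec (exists_Phi G H e hG hH g)).2 b

theorem Phi_mul (g g' : G) :
    Phi G H e hG hH (g * g') = Phi G H e hG hH g * Phi G H e hG hH g' := by
  apply algEquiv_ext_blocks
  · intro a
    rw [Phi_ι₁, AlgEquiv.mul_apply, Phi_ι₁, Phi_ι₁]
    rfl
  · intro b
    rw [Phi_ι₂, AlgEquiv.mul_apply, Phi_ι₂, Phi_ι₂, map_mul]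
    rfl

theorem Phi_one : Phi G H e hG hH 1 = 1 := by
  apply algEquiv_ext_blocks
  · intro a
    rw [Phi_ι₁]
    rfl
  · intro b
    rw [Phi_ι₂, map_one]
    rfl

/-- the action of `G` on the big field as a group homomorphism -/
noncomputable def PhiHom :
    G →* (InvFld.Fld (Fin n ⊕ Fin m) k ≃ₐ[k] InvFld.Fld (Fin n ⊕ Fin m) k) where
  toFun := Phi G H e hG hH
  map_one' := Phi_one G H e hG hH
  map_mul' := Phi_mul G H e hG hH

include e hG hH in
theorem main [Finite G] :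
    Nonempty (InvFld.Fld (Fin m) ↥(IntermediateField.fixedField G) ≃ₐ[k]
      InvFld.Fld (Fin n) ↥(IntermediateField.fixedField H)) := by
  classical
  letI actL : MulSemiringAction G (InvFld.Fld (Fin n ⊕ Fin m) k) :=
    MulSemiringAction.compHom _ (PhiHom G H e hG hH)
  have hL : ∀ (g : G) (z : InvFld.Fld (Fin n ⊕ Fin m) k), g • z = Phi G H e hG hH g z :=
    fun g z => rfl
  letI actK₂ : MulSemiringAction G (InvFld.Fld (Fin m) k) :=
    MulSemiringAction.compHom _ (e : G →* H)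
  have hK₂ : ∀ (g : G) (b : InvFld.Fld (Fin m) k), g • b = (e g).1 b := fun g b => rfl
  have hK₁ : ∀ (g : G) (a : InvFld.Fld (Fin n) k), g • a = g.1 a := fun g a => rfl
  haveI : FaithfulSMul G (InvFld.Fld (Fin n) k) :=
    ⟨fun {g g'} h => Subtype.ext (AlgEquiv.ext fun a => h a)⟩
  haveI : FaithfulSMul G (InvFld.Fld (Fin m) k) :=
    ⟨fun {g g'} h => e.injective (Subtype.ext (AlgEquiv.ext fun b => h b))⟩
  let E : IntermediateField k (InvFld.Fld (Fin n ⊕ Fin m) k) :=
    IntermediateField.fixedField (PhiHom G H e hG hH).range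
  have hE : ∀ z, z ∈ E ↔ ∀ g : G, g • z = z := by
    intro z
    rw [IntermediateField.mem_fixedField_iff]
    constructor
    · intro h g
      exact h _ ⟨g, rfl⟩
    · rintro h _ ⟨g, rfl⟩
      exact h g
  have hgen₁ : ∀ S : Subfield (InvFld.Fld (Fin n ⊕ Fin m) k), (∀ a, ι₁ k n m a ∈ S) →
      (∀ j : Fin m, (InvFld.X (Sum.inr j) : InvFld.Fld (Fin n ⊕ Fin m) k) ∈ S) → S = ⊤ := by
    intro S hK hY
    refine subfield_eq_top S (fun c => ?_) (fun v => ?_)
    · have := hK (algebraMap k _ c)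
      rwa [AlgHom.commutes] at this
    · cases v with
      | inl i =>
        have := hK (InvFld.X i)
        rwa [fldMap_X] at this
      | inr j => exact hY j
  have hgen₂ : ∀ S : Subfield (InvFld.Fld (Fin n ⊕ Fin m) k), (∀ a, ι₂ k n m a ∈ S) →
      (∀ j : Fin n, (InvFld.X (Sum.inl j) : InvFld.Fld (Fin n ⊕ Fin m) k) ∈ S) → S = ⊤ := by
    intro S hK hY
    refine subfield_eq_top S (fun c => ?_) (fun v => ?_)
    · have := hK (algebraMap k _ c)
      rwa [AlgHom.commutes] at this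
    · cases v with
      | inl i => exact hY i
      | inr j =>
        have := hK (InvFld.X j)
        rwa [fldMap_X] at this
  have hW₁ : ∀ (g : G) (j : Fin m), ∃ c : Fin m → k,
      g • (InvFld.X (Sum.inr j) : InvFld.Fld (Fin n ⊕ Fin m) k) =
        ∑ l, c l • (InvFld.X (Sum.inr l) : InvFld.Fld (Fin n ⊕ Fin m) k) := by
    intro g j
    obtain ⟨c, hc⟩ := (Submodule.mem_span_range_iff_exists_fun k).mp (hH _ (e g).2 j)
    refine ⟨c, ?_⟩
    rw [hL, ← fldMap_X (k := k) Sum.inr Sum.inr_injective j, Phi_ι₂, ← hc, map_sum]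
    refine Finset.sum_congr rfl fun l _ => ?_
    rw [map_smul, fldMap_X]
  have hW₂ : ∀ (g : G) (j : Fin n), ∃ c : Fin n → k,
      g • (InvFld.X (Sum.inl j) : InvFld.Fld (Fin n ⊕ Fin m) k) =
        ∑ l, c l • (InvFld.X (Sum.inl l) : InvFld.Fld (Fin n ⊕ Fin m) k) := by
    intro g j
    obtain ⟨c, hc⟩ := (Submodule.mem_span_range_iff_exists_fun k).mp (hG _ g.2 j)
    refine ⟨c, ?_⟩
    rw [hL, ← fldMap_X (k := k) Sum.inl Sum.inl_injective j, Phi_ι₁, ← hc, map_sum]
    refine Finset.sum_congr rfl fun l _ => ?_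
    rw [map_smul, fldMap_X]
  have hE₀₁ : ∀ a, a ∈ IntermediateField.fixedField G ↔ ∀ g : G, g • a = a := by
    intro a
    rw [IntermediateField.mem_fixedField_iff]
    exact ⟨fun h g => h g.1 g.2, fun h f hf => h ⟨f, hf⟩⟩
  have hE₀₂ : ∀ b, b ∈ IntermediateField.fixedField H ↔ ∀ g : G, g • b = b := by
    intro b
    rw [IntermediateField.mem_fixedField_iff]
    constructor
    · intro h g
      exact h _ (e g).2
    · intro h f hf
      have := h (e.symm ⟨f, hf⟩)
      rwa [hK₂, e.apply_symm_apply] at this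
  obtain ⟨iso₁⟩ := side (k := k) (Γ := G) (ι₁ k n m)
    (fun g a => by rw [hL, Phi_ι₁]; rfl)
    m (fun j => InvFld.X (Sum.inr j))
    (inj_eval₂_block (k := k) (Equiv.refl (Fin n ⊕ Fin m))) hW₁ hgen₁
    (IntermediateField.fixedField G) hE₀₁ E hE
  obtain ⟨iso₂⟩ := side (k := k) (Γ := G) (ι₂ k n m)
    (fun g a => by rw [hL, Phi_ι₂]; rfl)
    n (fun j => InvFld.X (Sum.inl j))
    (inj_eval₂_block (k := k) (Equiv.sumComm (Fin m) (Fin n))) hW₂ hgen₂
    (IntermediateField.fixedField H) hE₀₂ E hE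
  exact ⟨iso₁.trans iso₂.symm⟩

end Concrete

end Groth.Agent.Helper25.InvFldCore
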