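import Mathlib
import Groth.Prelude.Def_W4c2brnrinvarInvFld
import Groth.Agent.Lib.Helper25.FldLib
import Groth.Agent.Lib.Helper25.InvFldCore

/-!
# Symmetric functions in the rational function field and stable purity of `k(V)^{S_n}` (helper25)
-/

namespace Groth.Agent.Helper25.InvFldSym

open MvPolynomial Groth.Agent.Helper25.FldLib

universe u

section Sym

variable (k : Type u) [Field k] (n : ℕ)

/-- permutation of variables as an automorphism of the rational function field -/
noncomputable def permAut (π : Equiv.Perm (Fin n)) :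
    InvFld.Fld (Fin n) k ≃ₐ[k] InvFld.Fld (Fin n) k :=
  IsFractionRing.algEquivOfAlgEquiv (MvPolynomial.renameEquiv k π)

theorem permAut_algebraMap (π : Equiv.Perm (Fin n)) (P : MvPolynomial (Fin n) k) :
    permAut k n π (algebraMap (MvPolynomial (Fin n) k) (InvFld.Fld (Fin n) k) P) =
      algebraMap (MvPolynomial (Fin n) k) (InvFld.Fld (Fin n) k) (rename π P) := by
  unfold permAut
  rw [IsFractionRing.algEquivOfAlgEquiv_algebraMap]
  rfl

theorem permAut_X (π : Equiv.Perm (Fin n)) (i : Fin n) :
    permAut k n π (InvFld.X i : InvFld.Fld (Fin n) k) = InvFld.X (π i) := by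
  show permAut k n π (algebraMap (MvPolynomial (Fin n) k) (InvFld.Fld (Fin n) k)
    (MvPolynomial.X i)) = algebraMap (MvPolynomial (Fin n) k) (InvFld.Fld (Fin n) k)
    (MvPolynomial.X (π i))
  rw [permAut_algebraMap, rename_X]

/-- permutation of variables as a group homomorphism -/
noncomputable def permHom :
    Equiv.Perm (Fin n) →* (InvFld.Fld (Fin n) k ≃ₐ[k] InvFld.Fld (Fin n) k) where
  toFun := permAut k n
  map_one' := by
    have : ((permAut k n 1 : InvFld.Fld (Fin n) k ≃ₐ[k] InvFld.Fld (Fin n) k) :
        InvFld.Fld (Fin n) k →ₐ[k] InvFld.Fld (Fin n) k) = AlgHom.id k _ := by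
      apply algHom_ext_X
      intro i
      show permAut k n 1 (InvFld.X i) = InvFld.X i
      rw [permAut_X]
      rfl
    exact AlgEquiv.ext fun z => AlgHom.congr_fun this z
  map_mul' π ρ := by
    have : ((permAut k n (π * ρ) : InvFld.Fld (Fin n) k ≃ₐ[k] InvFld.Fld (Fin n) k) :
        InvFld.Fld (Fin n) k →ₐ[k] InvFld.Fld (Fin n) k) =
        ((permAut k n π * permAut k n ρ : InvFld.Fld (Fin n) k ≃ₐ[k] InvFld.Fld (Fin n) k) :
        InvFld.Fld (Fin n) k →ₐ[k] InvFld.Fld (Fin n) k) := by
      apply algHom_ext_X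
      intro i
      show permAut k n (π * ρ) (InvFld.X i) = permAut k n π (permAut k n ρ (InvFld.X i))
      rw [permAut_X, permAut_X, permAut_X]
      rfl
    exact AlgEquiv.ext fun z => AlgHom.congr_fun this z

theorem permHom_apply (π : Equiv.Perm (Fin n)) : permHom k n π = permAut k n π := rfl

theorem permHom_injective : Function.Injective (permHom k n) := by
  intro π ρ h
  apply Equiv.ext
  intro i
  have h1 := congrArg (fun τ : InvFld.Fld (Fin n) k ≃ₐ[k] InvFld.Fld (Fin n) k =>
    τ (InvFld.X i)) h
  simp only [permHom_apply, permAut_X] at h1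
  exact (algInd_X (k := k) (α := Fin n)).injective h1

/-- the elementary symmetric functions in the rational function field -/
noncomputable def ebar (i : Fin n) : InvFld.Fld (Fin n) k :=
  algebraMap (MvPolynomial (Fin n) k) _ (MvPolynomial.esymm (Fin n) k (i + 1))

theorem algInd_ebar : AlgebraicIndependent k (ebar k n) := by
  have h1 : AlgebraicIndependent k (fun i : Fin n =>
      (⟨esymm (Fin n) k (i + 1), esymm_isSymmetric _ _ _⟩ : symmetricSubalgebra (Fin n) k)) :=
    esymmAlgHom_fin_injective k (le_refl n)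
  have h2 := h1.map'
    (f := (IsScalarTower.toAlgHom k (MvPolynomial (Fin n) k) (InvFld.Fld (Fin n) k)).comp
      (symmetricSubalgebra (Fin n) k).val)
    (by
      have : Function.Injective
          ((IsScalarTower.toAlgHom k (MvPolynomial (Fin n) k) (InvFld.Fld (Fin n) k)) ∘
            (symmetricSubalgebra (Fin n) k).val) :=
        (IsFractionRing.injective (MvPolynomial (Fin n) k) (InvFld.Fld (Fin n) k)).comp
          Subtype.val_injective
      exact this)
  exact h2

theorem permAut_ebar (π : Equiv.Perm (Fin n)) (i : Fin n) :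
    permAut k n π (ebar k n i) = ebar k n i := by
  unfold ebar
  rw [permAut_algebraMap, esymm_isSymmetric (Fin n) k (i + 1) π]

theorem fixed_sym (f : InvFld.Fld (Fin n) k)
    (hf : ∀ π : Equiv.Perm (Fin n), permAut k n π f = f) :
    f ∈ IntermediateField.adjoin k (Set.range (ebar k n)) := by
  classical
  obtain ⟨P, Q, hQ, rfl⟩ := IsFractionRing.div_surjective (A := MvPolynomial (Fin n) k) f
  have hQ0 : Q ≠ 0 := nonZeroDivisors.ne_zero hQ
  have hren0 : ∀ π : Equiv.Perm (Fin n), rename π Q ≠ 0 := fun π =>
    (map_ne_zero_iff _ (rename_injective _ π.injective)).mpr hQ0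
  have hNQ : (∏ π : Equiv.Perm (Fin n), rename π Q) =
      Q * ∏ π ∈ (Finset.univ.erase (1 : Equiv.Perm (Fin n))), rename π Q := by
    rw [← Finset.mul_prod_erase Finset.univ (fun π : Equiv.Perm (Fin n) => rename π Q)
      (Finset.mem_univ 1)]
    congr 1
    rw [Equiv.Perm.coe_one, rename_id_apply]
  have hNQ0 : (∏ π : Equiv.Perm (Fin n), rename π Q) ≠ 0 :=
    Finset.prod_ne_zero_iff.mpr fun π _ => hren0 π
  have hR0 : (∏ π ∈ (Finset.univ.erase (1 : Equiv.Perm (Fin n))), rename π Q) ≠ 0 :=
    Finset.prod_ne_zero_iff.mpr fun π _ => hren0 π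
  have hNQsym : (∏ π : Equiv.Perm (Fin n), rename π Q).IsSymmetric := by
    intro ρ
    rw [map_prod]
    simp only [rename_rename]
    exact Fintype.prod_equiv (Equiv.mulLeft ρ) _ _ (fun π => rfl)
  set NQ := ∏ π : Equiv.Perm (Fin n), rename π Q with hNQdef
  set R := ∏ π ∈ (Finset.univ.erase (1 : Equiv.Perm (Fin n))), rename π Q with hRdef
  have hinj := IsFractionRing.injective (MvPolynomial (Fin n) k) (InvFld.Fld (Fin n) k)
  have haNQ0 : algebraMap (MvPolynomial (Fin n) k) (InvFld.Fld (Fin n) k) NQ ≠ 0 :=
    (map_ne_zero_iff _ hinj).mpr hNQ0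
  have haR0 : algebraMap (MvPolynomial (Fin n) k) (InvFld.Fld (Fin n) k) R ≠ 0 :=
    (map_ne_zero_iff _ hinj).mpr hR0
  have hf' : algebraMap (MvPolynomial (Fin n) k) (InvFld.Fld (Fin n) k) P /
      algebraMap (MvPolynomial (Fin n) k) (InvFld.Fld (Fin n) k) Q =
      algebraMap (MvPolynomial (Fin n) k) (InvFld.Fld (Fin n) k) (P * R) /
      algebraMap (MvPolynomial (Fin n) k) (InvFld.Fld (Fin n) k) NQ := by
    rw [hNQ, map_mul, map_mul, mul_div_mul_right _ _ haR0]
  have key : algebraMap (MvPolynomial (Fin n) k) (InvFld.Fld (Fin n) k) (P * R) =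
      (algebraMap (MvPolynomial (Fin n) k) (InvFld.Fld (Fin n) k) P /
      algebraMap (MvPolynomial (Fin n) k) (InvFld.Fld (Fin n) k) Q) *
      algebraMap (MvPolynomial (Fin n) k) (InvFld.Fld (Fin n) k) NQ := by
    rw [hf', div_mul_cancel₀ _ haNQ0]
  have hP'sym : (P * R).IsSymmetric := by
    intro ρ
    apply hinj
    rw [← permAut_algebraMap, key, map_mul, hf ρ, permAut_algebraMap, hNQsym ρ]
  obtain ⟨p, hp⟩ := (esymmAlgHom_fin_bijective k n).2 ⟨P * R, hP'sym⟩
  obtain ⟨q, hq⟩ := (esymmAlgHom_fin_bijective k n).2 ⟨NQ, hNQsym⟩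
  have hmem : ∀ r : MvPolynomial (Fin n) k,
      algebraMap (MvPolynomial (Fin n) k) (InvFld.Fld (Fin n) k)
        ((esymmAlgHom (Fin n) k n r : symmetricSubalgebra (Fin n) k) : MvPolynomial (Fin n) k) ∈
      IntermediateField.adjoin k (Set.range (ebar k n)) := by
    intro r
    rw [esymmAlgHom_apply]
    have h1 : algebraMap (MvPolynomial (Fin n) k) (InvFld.Fld (Fin n) k)
        (aeval (fun i : Fin n => esymm (Fin n) k (i + 1)) r) = aeval (ebar k n) r := by
      have := MvPolynomial.comp_aeval_apply (fun i : Fin n => esymm (Fin n) k (i + 1))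
        (IsScalarTower.toAlgHom k (MvPolynomial (Fin n) k) (InvFld.Fld (Fin n) k)) r
      exact this
    rw [h1]
    have h2 : aeval (ebar k n) r ∈ Algebra.adjoin k (Set.range (ebar k n)) := by
      rw [Algebra.adjoin_range_eq_range_aeval]
      exact ⟨r, rfl⟩
    exact IntermediateField.algebra_adjoin_le_adjoin k _ h2
  rw [hf']
  have e1 := hmem p
  have e2 := hmem q
  rw [hp] at e1
  rw [hq] at e2
  exact (IntermediateField.adjoin k (Set.range (ebar k n))).div_mem e1 e2

theorem fixedField_range_permHom :
    IntermediateField.fixedField (permHom k n).range =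
      IntermediateField.adjoin k (Set.range (ebar k n)) := by
  apply le_antisymm
  · intro f hf
    rw [IntermediateField.mem_fixedField_iff] at hf
    exact fixed_sym k n f (fun π => hf _ ⟨π, rfl⟩)
  · rw [IntermediateField.adjoin_le_iff]
    rintro _ ⟨i, rfl⟩
    show ebar k n i ∈ IntermediateField.fixedField (permHom k n).range
    rw [IntermediateField.mem_fixedField_iff]
    rintro _ ⟨π, rfl⟩
    exact permAut_ebar k n π i

end Sym

section Pure

variable {k : Type u} [Field k]

/-- a rational function field over a purely transcendental extension is purely transcendental -/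
theorem purelyTrans_Fld {K : Type u} [Field K] [Algebra k K] (a b : ℕ) (x : Fin a → K)
    (hx : AlgebraicIndependent k x) (hgen : IntermediateField.adjoin k (Set.range x) = ⊤) :
    ∃ t : Fin (b + a) → InvFld.Fld (Fin b) K, AlgebraicIndependent k t ∧
      IntermediateField.adjoin k (Set.range t) = ⊤ := by
  have hT : AlgebraicIndependent k
      (Sum.elim (fun j : Fin b => (InvFld.X j : InvFld.Fld (Fin b) K))
        (algebraMap K (InvFld.Fld (Fin b) K) ∘ x)) :=
    hx.sumElim_comp (algInd_X (k := K) (α := Fin b))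
  refine ⟨Sum.elim (fun j : Fin b => (InvFld.X j : InvFld.Fld (Fin b) K))
    (algebraMap K (InvFld.Fld (Fin b) K) ∘ x) ∘ finSumFinEquiv.symm, ?_, ?_⟩
  · exact hT.comp _ finSumFinEquiv.symm.injective
  · rw [finSumFinEquiv.symm.surjective.range_comp]
    set F := IntermediateField.adjoin k (Set.range
      (Sum.elim (fun j : Fin b => (InvFld.X j : InvFld.Fld (Fin b) K))
        (algebraMap K (InvFld.Fld (Fin b) K) ∘ x))) with hF
    have hK : ∀ c : K, algebraMap K (InvFld.Fld (Fin b) K) c ∈ F := by
      intro c
      have h1 : F.comap (IsScalarTower.toAlgHom k K (InvFld.Fld (Fin b) K)) = ⊤ := by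
        rw [eq_top_iff, ← hgen, IntermediateField.adjoin_le_iff]
        rintro _ ⟨i, rfl⟩
        show algebraMap K (InvFld.Fld (Fin b) K) (x i) ∈ F
        exact IntermediateField.subset_adjoin _ _ ⟨Sum.inr i, rfl⟩
      have : c ∈ F.comap (IsScalarTower.toAlgHom k K (InvFld.Fld (Fin b) K)) := by
        rw [h1]; trivial
      exact this
    have h2 := subfield_eq_top F.toSubfield hK
      (fun j => IntermediateField.subset_adjoin _ _ ⟨Sum.inl j, rfl⟩)
    rw [eq_top_iff]
    intro z _
    have : z ∈ F.toSubfield := by rw [h2]; trivial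
    exact this

end Pure

section Main

variable {k : Type u} [Field k] {n m : ℕ}

theorem main (G : Subgroup (InvFld.Fld (Fin m) k ≃ₐ[k] InvFld.Fld (Fin m) k)) [Finite G]
    (e : G ≃* Equiv.Perm (Fin n))
    (hG : ∀ σ ∈ G, ∀ i : Fin m, σ (InvFld.X i) ∈
      Submodule.span k (Set.range fun j : Fin m => (InvFld.X j : InvFld.Fld (Fin m) k))) :
    ∃ (r N : ℕ) (t : Fin N → InvFld.Fld (Fin r) (IntermediateField.fixedField G)),
      AlgebraicIndependent k t ∧ IntermediateField.adjoin k (Set.range t) = ⊤ := by
  have hH : ∀ τ ∈ (permHom k n).range, ∀ i : Fin n, τ (InvFld.X i) ∈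
      Submodule.span k (Set.range fun j : Fin n => (InvFld.X j : InvFld.Fld (Fin n) k)) := by
    rintro _ ⟨π, rfl⟩ i
    rw [permHom_apply, permAut_X]
    exact Submodule.subset_span ⟨π i, rfl⟩
  obtain ⟨iso⟩ := InvFldCore.main G (permHom k n).range
    (e.trans (MonoidHom.ofInjective (permHom_injective k n))) hG hH
  -- the fixed field of the symmetric group is purely transcendental
  have hfix := fixedField_range_permHom k n
  let x : Fin n → ↥(IntermediateField.fixedField (permHom k n).range) := fun i =>
    ⟨ebar k n i, by rw [hfix]; exact IntermediateField.subset_adjoin _ _ ⟨i, rfl⟩⟩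
  have hx : AlgebraicIndependent k x := by
    apply AlgebraicIndependent.of_comp
      (IntermediateField.fixedField (permHom k n).range).val
    exact algInd_ebar k n
  have hgen : IntermediateField.adjoin k (Set.range x) = ⊤ := by
    rw [eq_top_iff]
    intro z _
    have h1 : (IntermediateField.adjoin k (Set.range x)).map
        (IntermediateField.fixedField (permHom k n).range).val =
        IntermediateField.fixedField (permHom k n).range := by
      rw [IntermediateField.adjoin_map]
      have hrange : (⇑(IntermediateField.fixedField (permHom k n).range).val '' Set.range x) =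
          Set.range (ebar k n) := by
        ext w
        constructor
        · rintro ⟨_, ⟨i, rfl⟩, rfl⟩
          exact ⟨i, rfl⟩
        · rintro ⟨i, rfl⟩
          exact ⟨x i, ⟨i, rfl⟩, rfl⟩
      rw [hrange]
      exact hfix.symm
    have h2 : (z : InvFld.Fld (Fin n) k) ∈ (IntermediateField.adjoin k (Set.range x)).map
        (IntermediateField.fixedField (permHom k n).range).val := by
      rw [h1]; exact z.2
    obtain ⟨z', hz', hzz⟩ := h2
    have : z' = z := Subtype.ext hzz
    rwa [this] at hz'
  obtain ⟨t, ht, htgen⟩ := purelyTrans_Fld (k := k) n m x hx hgen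
  refine ⟨n, m + n, iso.symm.toAlgHom ∘ t, ht.map' iso.symm.injective, ?_⟩
  rw [eq_top_iff]
  intro z _
  have h1 : iso z ∈ IntermediateField.adjoin k (Set.range t) := by rw [htgen]; trivial
  rw [Set.range_comp, ← IntermediateField.adjoin_map]
  exact ⟨iso z, h1, iso.symm_apply_apply z⟩

end Main

end Groth.Agent.Helper25.InvFldSym
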