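import Mathlib
import Groth.Prelude.Def_Isoc

/-!
# Helper library for isocrystal statements (helper25): basic lattice calculus
-/

set_option autoImplicit false
set_option linter.unusedSectionVars false

noncomputable section

open scoped Pointwise Isocrystal

universe u v w

namespace Groth.Agent.Helper25.IsocLib

variable {p : ℕ} [Fact p.Prime] {k : Type u} [Field k] [CharP k p] [PerfectRing k p]


theorem pL_ne_zero : ((p : ℕ) : K(p, k)) ≠ 0 := by
  have h : ((p : ℕ) : K(p, k)) = algebraMap (WittVector p k) K(p, k) ((p : ℕ) : (WittVector p k)) := (map_natCast _ _).symm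
  rw [h]
  exact (map_ne_zero_iff _ (IsFractionRing.injective (WittVector p k) K(p, k))).mpr (WittVector.p_nonzero p k)

theorem zpow_pL_ne_zero (r : ℤ) : ((p : ℕ) : K(p, k)) ^ r ≠ 0 := zpow_ne_zero _ pL_ne_zero

section Module

variable {N : Type v} [AddCommGroup N] [Module (WittVector p k) N] [Module K(p, k) N] [IsScalarTower (WittVector p k) K(p, k) N]

theorem mem_pPow {r : ℤ} {M : Submodule (WittVector p k) N} {x : N} :
    x ∈ Isoc.pPow r M ↔ ∃ y ∈ M, (((p : ℕ) : K(p, k)) ^ r) • y = x :=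
  Submodule.mem_smul_pointwise_iff_exists _ _ _

theorem mem_pPow_iff {r : ℤ} {M : Submodule (WittVector p k) N} {x : N} :
    x ∈ Isoc.pPow r M ↔ (((p : ℕ) : K(p, k)) ^ (-r)) • x ∈ M := by
  have hp : (((p : ℕ) : K(p, k)) ^ r) ≠ 0 := zpow_pL_ne_zero r
  rw [mem_pPow]
  constructor
  · rintro ⟨y, hy, rfl⟩
    rwa [smul_smul, zpow_neg, inv_mul_cancel₀ hp, one_smul]
  · intro h
    exact ⟨_, h, by rw [smul_smul, zpow_neg, mul_inv_cancel₀ hp, one_smul]⟩

theorem smul_mem_pPow {r : ℤ} {M : Submodule (WittVector p k) N} {y : N} (hy : y ∈ M) :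
    (((p : ℕ) : K(p, k)) ^ r) • y ∈ Isoc.pPow r M :=
  mem_pPow.mpr ⟨y, hy, rfl⟩

theorem natPow_smul_eq (n : ℕ) (y : N) :
    (((p : ℕ) : K(p, k)) ^ (n : ℤ)) • y = (((p : ℕ) : (WittVector p k)) ^ n) • y := by
  rw [zpow_natCast, ← algebraMap_smul K(p, k) (((p : ℕ) : (WittVector p k)) ^ n) y, map_pow, map_natCast]

theorem natPow_smul_mem {M : Submodule (WittVector p k) N} (n : ℕ) {y : N} (hy : y ∈ M) :
    (((p : ℕ) : K(p, k)) ^ (n : ℤ)) • y ∈ M := by
  rw [natPow_smul_eq]; exact M.smul_mem _ hy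

@[simp] theorem pPow_zero (M : Submodule (WittVector p k) N) : Isoc.pPow 0 M = M := by
  ext x; rw [mem_pPow_iff]; simp

theorem pPow_add (r s : ℤ) (M : Submodule (WittVector p k) N) :
    Isoc.pPow (r + s) M = Isoc.pPow r (Isoc.pPow s M) := by
  ext x
  rw [mem_pPow_iff, mem_pPow_iff, mem_pPow_iff, smul_smul, ← zpow_add₀ pL_ne_zero, neg_add, add_comm]

theorem pPow_mono {r : ℤ} {M M' : Submodule (WittVector p k) N} (h : M ≤ M') : Isoc.pPow r M ≤ Isoc.pPow r M' := by
  intro x hx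
  rw [mem_pPow_iff] at hx ⊢
  exact h hx

theorem pPow_le_pPow_iff {r : ℤ} {M M' : Submodule (WittVector p k) N} :
    Isoc.pPow r M ≤ Isoc.pPow r M' ↔ M ≤ M' := by
  refine ⟨fun h => ?_, pPow_mono⟩
  have := pPow_mono (r := -r) h
  rwa [← pPow_add, ← pPow_add, neg_add_cancel, pPow_zero, pPow_zero] at this

theorem pPow_natCast_le (n : ℕ) (M : Submodule (WittVector p k) N) : Isoc.pPow (n : ℤ) M ≤ M := by
  intro x hx
  obtain ⟨y, hy, rfl⟩ := mem_pPow.mp hx
  exact natPow_smul_mem n hy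

theorem pPow_anti {r r' : ℤ} (h : r ≤ r') (M : Submodule (WittVector p k) N) :
    Isoc.pPow r' M ≤ Isoc.pPow r M := by
  obtain ⟨n, rfl⟩ := Int.le.dest h
  rw [pPow_add]
  exact pPow_mono (pPow_natCast_le n M)

theorem pPow_sup (r : ℤ) (M M' : Submodule (WittVector p k) N) :
    Isoc.pPow r (M ⊔ M') = Isoc.pPow r M ⊔ Isoc.pPow r M' :=
  Submodule.smul_sup' _ _ _

theorem pPow_bot (r : ℤ) : Isoc.pPow r (⊥ : Submodule (WittVector p k) N) = ⊥ :=
  Submodule.smul_bot' _

theorem pPow_le_iff {r : ℤ} {M M' : Submodule (WittVector p k) N} :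
    Isoc.pPow r M ≤ M' ↔ M ≤ Isoc.pPow (-r) M' := by
  rw [← pPow_le_pPow_iff (r := -r), ← pPow_add, neg_add_cancel, pPow_zero]

end Module

/-! ### Twists compatible with an automorphism of `W` -/

/-- `τ` restricts to a ring automorphism `σ` of `W`. -/
structure Compat (τ : K(p, k) →+* K(p, k)) where
  σ : WittVector p k ≃+* WittVector p k
  map_alg : ∀ w, τ (algebraMap (WittVector p k) K(p, k) w) =
    algebraMap (WittVector p k) K(p, k) (σ w)

/-- The twist `σ^a` is compatible. -/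
def compatFrob (a : ℤ) : Compat (Isoc.frob p k a) := ⟨_, Isoc.frob_algebraMap p k a⟩

/-- Powers of a compatible twist are compatible. -/
def Compat.pow {τ : K(p, k) →+* K(p, k)} (c : Compat τ) (n : ℕ) : Compat (τ ^ n) where
  σ := c.σ ^ n
  map_alg := by
    induction n with
    | zero => intro w; simp [RingHom.one_def]
    | succ n ih =>
      intro w
      rw [pow_succ, pow_succ, RingHom.mul_def, RingHom.comp_apply, c.map_alg, ih, RingAut.mul_apply]

theorem map_zpow_p (τ : K(p, k) →+* K(p, k)) (r : ℤ) :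
    τ (((p : ℕ) : K(p, k)) ^ r) = ((p : ℕ) : K(p, k)) ^ r := by
  rw [map_zpow₀, map_natCast]

section Semilinear

variable {N : Type v} [AddCommGroup N] [Module (WittVector p k) N] [Module K(p, k) N]
  [IsScalarTower (WittVector p k) K(p, k) N]
variable {τ : K(p, k) →+* K(p, k)}

/-- A `τ`-semilinear map over `L` as a `σ`-semilinear map over `W`. -/
def Compat.toW (c : Compat τ) (F : N →ₛₗ[τ] N) :
    N →ₛₗ[(c.σ : WittVector p k →+* WittVector p k)] N where
  toFun := F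
  map_add' := F.map_add
  map_smul' w x := by
    show F (w • x) = (c.σ w) • F x
    rw [← algebraMap_smul K(p, k) w x, map_smulₛₗ, c.map_alg, algebraMap_smul]

@[simp] theorem Compat.toW_apply (c : Compat τ) (F : N →ₛₗ[τ] N) (x : N) : c.toW F x = F x := rfl

theorem latImg_eq_latImg_iter (F : N →ₛₗ[τ] N) (s : ℕ) (M : Submodule (WittVector p k) N) :
    Isoc.latImg F s M = Isoc.latImg (Isoc.iter F s) 1 M := rfl

theorem latImg_one_eq_map (c : Compat τ) (F : N →ₛₗ[τ] N) (M : Submodule (WittVector p k) N) :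
    Isoc.latImg F 1 M = M.map (c.toW F) := by
  apply le_antisymm
  · exact Submodule.span_le.mpr (by rintro _ ⟨y, hy, rfl⟩; exact ⟨y, hy, rfl⟩)
  · rintro _ ⟨y, hy, rfl⟩; exact Submodule.subset_span ⟨y, hy, rfl⟩

theorem latImg_eq_map (c : Compat τ) (F : N →ₛₗ[τ] N) (s : ℕ) (M : Submodule (WittVector p k) N) :
    Isoc.latImg F s M = M.map ((c.pow s).toW (Isoc.iter F s)) := by
  rw [latImg_eq_latImg_iter, latImg_one_eq_map (c.pow s)]

theorem mem_latImg (c : Compat τ) (F : N →ₛₗ[τ] N) (s : ℕ) (M : Submodule (WittVector p k) N)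
    {x : N} : x ∈ Isoc.latImg F s M ↔ ∃ y ∈ M, (⇑F)^[s] y = x := by
  rw [latImg_eq_map c]; rfl

theorem iterate_mem_latImg (F : N →ₛₗ[τ] N) (s : ℕ) {M : Submodule (WittVector p k) N}
    {y : N} (hy : y ∈ M) : (⇑F)^[s] y ∈ Isoc.latImg F s M :=
  Submodule.subset_span ⟨y, hy, rfl⟩

theorem latImg_mono (F : N →ₛₗ[τ] N) (s : ℕ) {M M' : Submodule (WittVector p k) N} (h : M ≤ M') :
    Isoc.latImg F s M ≤ Isoc.latImg F s M' :=
  Submodule.span_mono (Set.image_mono h)

theorem latImg_zero (F : N →ₛₗ[τ] N) (M : Submodule (WittVector p k) N) :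
    Isoc.latImg F 0 M = M := by
  unfold Isoc.latImg; simp

theorem latImg_add (c : Compat τ) (F : N →ₛₗ[τ] N) (s t : ℕ) (M : Submodule (WittVector p k) N) :
    Isoc.latImg F (s + t) M = Isoc.latImg F s (Isoc.latImg F t M) := by
  ext x
  rw [mem_latImg c, mem_latImg c]
  constructor
  · rintro ⟨y, hy, rfl⟩
    exact ⟨_, iterate_mem_latImg F t hy, (Function.iterate_add_apply _ _ _ _).symm⟩
  · rintro ⟨z, hz, rfl⟩
    obtain ⟨y, hy, rfl⟩ := (mem_latImg c F t M).mp hz
    exact ⟨y, hy, Function.iterate_add_apply _ _ _ _⟩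

theorem iterate_zpow_smul (F : N →ₛₗ[τ] N) (s : ℕ) (r : ℤ) (y : N) :
    (⇑F)^[s] ((((p : ℕ) : K(p, k)) ^ r) • y) = (((p : ℕ) : K(p, k)) ^ r) • (⇑F)^[s] y := by
  rw [← Isoc.iter_apply, ← Isoc.iter_apply, map_smulₛₗ, map_zpow_p]

theorem latImg_pPow (c : Compat τ) (F : N →ₛₗ[τ] N) (s : ℕ) (r : ℤ)
    (M : Submodule (WittVector p k) N) :
    Isoc.latImg F s (Isoc.pPow r M) = Isoc.pPow r (Isoc.latImg F s M) := by
  ext x
  rw [mem_latImg c, mem_pPow]
  constructor
  · rintro ⟨y, hy, rfl⟩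
    obtain ⟨z, hz, rfl⟩ := mem_pPow.mp hy
    exact ⟨_, iterate_mem_latImg F s hz, (iterate_zpow_smul F s r z).symm⟩
  · rintro ⟨z, hz, rfl⟩
    obtain ⟨y, hy, rfl⟩ := (mem_latImg c F s M).mp hz
    exact ⟨_, smul_mem_pPow hy, iterate_zpow_smul F s r y⟩

theorem latImg_sup (c : Compat τ) (F : N →ₛₗ[τ] N) (s : ℕ) (M M' : Submodule (WittVector p k) N) :
    Isoc.latImg F s (M ⊔ M') = Isoc.latImg F s M ⊔ Isoc.latImg F s M' := by
  rw [latImg_eq_map c, latImg_eq_map c, latImg_eq_map c, Submodule.map_sup]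

theorem latImg_fg (c : Compat τ) (F : N →ₛₗ[τ] N) (s : ℕ) {M : Submodule (WittVector p k) N}
    (hM : M.FG) : (Isoc.latImg F s M).FG := by
  rw [latImg_eq_map c]; exact hM.map _

theorem latImg_bot (c : Compat τ) (F : N →ₛₗ[τ] N) (s : ℕ) :
    Isoc.latImg F s (⊥ : Submodule (WittVector p k) N) = ⊥ := by
  rw [latImg_eq_map c, Submodule.map_bot]

end Semilinear

end Groth.Agent.Helper25.IsocLib

end
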