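import Groth.Agent.Lib.Helper25.IsocDM

/-!
# Helper library for isocrystal statements (helper25): the Dieudonné–Manin classification
-/

set_option autoImplicit false
set_option linter.unusedSectionVars false

noncomputable section

open scoped Pointwise Isocrystal
open Filter Topology

universe u v w

namespace Groth.Agent.Helper25.IsocLib

variable {p : ℕ} [Fact p.Prime] {k : Type u} [Field k] [CharP k p] [PerfectRing k p]
variable {τ : K(p, k) →+* K(p, k)}

/-! ### A lattice-theoretic lemma -/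

theorem le_of_iSupIndep_of_le_of_iSup_eq_top {α : Type*} {ι : Type*} {V : Type*} [Ring α]
    [AddCommGroup V] [Module α V] {A B : ι → Submodule α V} (hB : iSupIndep B)
    (hAB : ∀ i, A i ≤ B i) (hA : ⨆ i, A i = ⊤) (i : ι) : B i ≤ A i := by
  intro x hx
  have hx' : x ∈ A i ⊔ ⨆ (j) (_ : j ≠ i), A j := by
    rw [← iSup_split_single A i, hA]; trivial
  obtain ⟨a, ha, c, hc, rfl⟩ := Submodule.mem_sup.mp hx'
  have hc' : c ∈ ⨆ (j) (_ : j ≠ i), B j := by
    refine (iSup_mono fun j => iSup_mono fun _ => hAB j) hc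
  have hcB : c ∈ B i := by
    have : c = (a + c) - a := by abel
    rw [this]
    exact Submodule.sub_mem _ hx (hAB i ha)
  have hc0 : c = 0 := by
    have := (hB i).le_bot ⟨hcB, hc'⟩
    exact (Submodule.mem_bot α).mp this
  rw [hc0, add_zero]
  exact ha

/-! ### Invariance and additivity of the Newton multiplicities -/

section Two

variable {N₁ : Type v} {N₂ : Type w} [AddCommGroup N₁] [Module (WittVector p k) N₁]
  [Module K(p, k) N₁] [IsScalarTower (WittVector p k) K(p, k) N₁]
  [AddCommGroup N₂] [Module (WittVector p k) N₂]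
  [Module K(p, k) N₂] [IsScalarTower (WittVector p k) K(p, k) N₂]

theorem map_slopePart_le (c : Compat τ) (F₁ : N₁ →ₛₗ[τ] N₁) (F₂ : N₂ →ₛₗ[τ] N₂)
    [Module.Finite K(p, k) N₁] (f : N₁ →ₗ[K(p, k)] N₂) (hcomm : ∀ x, f (F₁ x) = F₂ (f x))
    (μ : ℚ) : (Isoc.slopePart F₁ μ).map f ≤ Isoc.slopePart F₂ μ := by
  apply le_slopePart c F₂
  · rintro _ ⟨x, hx, rfl⟩
    exact ⟨F₁ x, slopePart_stable F₁ μ x hx, hcomm x⟩
  · exact isIsoclinicOn_map c F₁ F₂ f hcomm (slopePart_isIsoclinicOn c F₁ μ)

theorem newtonMult_eq_of_equiv (c : Compat τ) (F₁ : N₁ →ₛₗ[τ] N₁) (F₂ : N₂ →ₛₗ[τ] N₂)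
    [Module.Finite K(p, k) N₁] [Module.Finite K(p, k) N₂] (e : N₁ ≃ₗ[K(p, k)] N₂)
    (hcomm : ∀ x, e (F₁ x) = F₂ (e x)) (μ : ℚ) :
    Isoc.newtonMult F₁ μ = Isoc.newtonMult F₂ μ := by
  have h1 : (Isoc.slopePart F₁ μ).map (e : N₁ →ₗ[K(p, k)] N₂) = Isoc.slopePart F₂ μ := by
    apply le_antisymm (map_slopePart_le c F₁ F₂ _ hcomm μ)
    intro y hy
    have hcomm' : ∀ y, (e.symm : N₂ →ₗ[K(p, k)] N₁) (F₂ y) = F₁ ((e.symm : N₂ →ₗ[K(p, k)] N₁) y) := by
      intro y
      apply e.injective
      simp [hcomm]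
    have := map_slopePart_le c F₂ F₁ _ hcomm' μ ⟨y, hy, rfl⟩
    exact ⟨e.symm y, this, by simp⟩
  unfold Isoc.newtonMult
  rw [← h1]
  exact (LinearEquiv.finrank_eq (e.submoduleMap (Isoc.slopePart F₁ μ)))

end Two

variable {N : Type v} [AddCommGroup N] [Module (WittVector p k) N] [Module K(p, k) N]
  [IsScalarTower (WittVector p k) K(p, k) N]

theorem restrict_bijective (c : Compat τ) (F : N →ₛₗ[τ] N) (hF : Function.Injective F)
    [Module.Finite K(p, k) N] {P : Submodule K(p, k) N} (hP : ∀ x ∈ P, F x ∈ P) :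
    Function.Bijective (F.restrict hP) := by
  have hinj : Function.Injective (F.restrict hP) := by
    intro a b hab
    apply Subtype.ext
    apply hF
    exact congrArg Subtype.val hab
  exact ⟨hinj, semilinear_surjective_of_injective c.bijective _ hinj⟩

/-- Additivity of Newton multiplicities in a stable direct sum decomposition. -/
theorem newtonMult_add_of_isCompl (c : Compat τ) (F : N →ₛₗ[τ] N) (hF : Function.Bijective F)
    [Module.Finite K(p, k) N] {S Q : Submodule K(p, k) N} (hS : ∀ x ∈ S, F x ∈ S)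
    (hQ : ∀ x ∈ Q, F x ∈ Q) (hSQ : IsCompl S Q) (μ : ℚ) :
    Isoc.newtonMult F μ =
      Isoc.newtonMult (F.restrict hS) μ + Isoc.newtonMult (F.restrict hQ) μ := by
  have hbS := restrict_bijective c F hF.1 hS
  have hbQ := restrict_bijective c F hF.1 hQ
  have hSle : ∀ ν, (Isoc.slopePart (F.restrict hS) ν).map S.subtype ≤ Isoc.slopePart F ν :=
    fun ν => map_slopePart_le c (F.restrict hS) F S.subtype (fun _ => rfl) ν
  have hQle : ∀ ν, (Isoc.slopePart (F.restrict hQ) ν).map Q.subtype ≤ Isoc.slopePart F ν :=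
    fun ν => map_slopePart_le c (F.restrict hQ) F Q.subtype (fun _ => rfl) ν
  have hsupS : ⨆ ν, (Isoc.slopePart (F.restrict hS) ν).map S.subtype = S := by
    rw [← Submodule.map_iSup, iSup_slopePart_eq_top c (F.restrict hS) hbS, Submodule.map_top,
      Submodule.range_subtype]
  have hsupQ : ⨆ ν, (Isoc.slopePart (F.restrict hQ) ν).map Q.subtype = Q := by
    rw [← Submodule.map_iSup, iSup_slopePart_eq_top c (F.restrict hQ) hbQ, Submodule.map_top,
      Submodule.range_subtype]
  have hA : ⨆ ν, ((Isoc.slopePart (F.restrict hS) ν).map S.subtype ⊔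
      (Isoc.slopePart (F.restrict hQ) ν).map Q.subtype) = ⊤ := by
    rw [iSup_sup_eq, hsupS, hsupQ]
    exact hSQ.sup_eq_top
  have hle := le_of_iSupIndep_of_le_of_iSup_eq_top (iSupIndep_slopePart c F hF.1)
    (fun ν => sup_le (hSle ν) (hQle ν)) hA μ
  have heq : Isoc.slopePart F μ = (Isoc.slopePart (F.restrict hS) μ).map S.subtype ⊔
      (Isoc.slopePart (F.restrict hQ) μ).map Q.subtype :=
    le_antisymm hle (sup_le (hSle μ) (hQle μ))
  have hinf : (Isoc.slopePart (F.restrict hS) μ).map S.subtype ⊓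
      (Isoc.slopePart (F.restrict hQ) μ).map Q.subtype = ⊥ := by
    rw [eq_bot_iff, ← hSQ.inf_eq_bot]
    refine inf_le_inf ?_ ?_
    · rintro _ ⟨x, -, rfl⟩; exact x.2
    · rintro _ ⟨x, -, rfl⟩; exact x.2
  have h1 := Submodule.finrank_sup_add_finrank_inf_eq
    ((Isoc.slopePart (F.restrict hS) μ).map S.subtype)
    ((Isoc.slopePart (F.restrict hQ) μ).map Q.subtype)
  rw [hinf, finrank_bot, add_zero, Submodule.finrank_map_subtype_eq,
    Submodule.finrank_map_subtype_eq, ← heq] at h1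
  exact h1

/-- Newton multiplicities of a standard isocrystal. -/
theorem newtonMult_stdIsoc (c : Compat τ) (d : ℤ) (n : ℕ) (μ : ℚ) :
    Isoc.newtonMult (Isoc.stdIsoc τ d (n + 1)) μ =
      if (d : ℚ) / ((n + 1 : ℕ) : ℚ) = μ then n + 1 else 0 := by
  have hiso := stdIsoc_isIsoclinicOn (p := p) (k := k) c d n
  have hinj := stdIsoc_injective (p := p) (k := k) c d (n + 1)
  unfold Isoc.newtonMult
  split_ifs with h
  · have htop : Isoc.slopePart (Isoc.stdIsoc τ d (n + 1)) μ = ⊤ := by
      rw [eq_top_iff, ← h]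
      exact le_slopePart c (Isoc.stdIsoc τ d (n + 1)) (P := ⊤) (fun x _ => Submodule.mem_top) hiso
    rw [htop, finrank_top, Module.finrank_fin_fun]
  · have hbot : Isoc.slopePart (Isoc.stdIsoc τ d (n + 1)) μ = ⊥ := by
      by_contra hne
      apply h
      have h1 := slopePart_isIsoclinicOn c (Isoc.stdIsoc τ d (n + 1)) μ
      have h2 := isIsoclinicOn_of_top c (Isoc.stdIsoc τ d (n + 1)) hinj
        (slopePart_stable (Isoc.stdIsoc τ d (n + 1)) μ) hiso
      exact isIsoclinicOn_unique c _ hne h2 h1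
    rw [hbot, finrank_bot]

/-! ### Families of embedded standard isocrystals -/

/-- an embedded standard isocrystal -/
structure StdSub (F : N →ₛₗ[τ] N) where
  d : ℤ
  h : ℕ
  f : (Fin h → K(p, k)) →ₗ[K(p, k)] N
  hpos : 0 < h
  hgcd : Int.gcd d (h : ℤ) = 1
  hinj : Function.Injective f
  hequiv : ∀ v, f (Isoc.stdIsoc τ d h v) = F (f v)

/-- from a stable subspace to the whole space -/
def StdSub.ofRestrict {F : N →ₛₗ[τ] N} {Q : Submodule K(p, k) N} (hQ : ∀ x ∈ Q, F x ∈ Q)
    (u : StdSub (F.restrict hQ)) : StdSub F where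
  d := u.d
  h := u.h
  f := Q.subtype.comp u.f
  hpos := u.hpos
  hgcd := u.hgcd
  hinj := Subtype.val_injective.comp u.hinj
  hequiv v := by
    show ((u.f (Isoc.stdIsoc τ u.d u.h v) : Q) : N) = F ((u.f v : Q) : N)
    rw [u.hequiv]
    rfl

/-- the sum map of a family -/
def sumMap {F : N →ₛₗ[τ] N} {t : ℕ} (s : Fin t → StdSub F) :
    (∀ i, Fin (s i).h → K(p, k)) →ₗ[K(p, k)] N :=
  ∑ i, ((s i).f).comp (LinearMap.proj i)

theorem sumMap_apply {F : N →ₛₗ[τ] N} {t : ℕ} (s : Fin t → StdSub F)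
    (y : ∀ i, Fin (s i).h → K(p, k)) : sumMap s y = ∑ i, (s i).f (y i) := by
  simp [sumMap, LinearMap.sum_apply]

theorem sumMap_equivariant {F : N →ₛₗ[τ] N} {t : ℕ} (s : Fin t → StdSub F)
    (y : ∀ i, Fin (s i).h → K(p, k)) :
    sumMap s (fun i => Isoc.stdIsoc τ (s i).d (s i).h (y i)) = F (sumMap s y) := by
  rw [sumMap_apply, sumMap_apply, map_sum]
  exact Finset.sum_congr rfl fun i _ => (s i).hequiv (y i)

/-- Dieudonné–Manin: decomposition into standard isocrystals, with multiplicities. -/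
theorem exists_stdSub_family [IsAlgClosed k] {a : ℤ} (ha : a ≠ 0) : ∀ (n : ℕ) (N : Type v)
    [AddCommGroup N] [Module (WittVector p k) N] [Module K(p, k) N]
    [IsScalarTower (WittVector p k) K(p, k) N] [Module.Finite K(p, k) N]
    (F : N →ₛₗ[Isoc.frob p k a] N), Function.Bijective F → Module.finrank K(p, k) N = n →
    ∃ (t : ℕ) (s : Fin t → StdSub F), Function.Bijective (sumMap s) ∧
      ∀ μ : ℚ, Isoc.newtonMult F μ =
        ∑ i, (if ((s i).d : ℚ) / ((s i).h : ℚ) = μ then (s i).h else 0) := by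
  intro n
  induction n using Nat.strong_induction_on with
  | _ n ih =>
    intro N _ _ _ _ _ F hF hn
    rcases Nat.eq_zero_or_pos n with h0 | hpos
    · subst h0
      have hsub : Subsingleton N := Module.finrank_zero_iff.mp hn
      refine ⟨0, fun i => i.elim0, ⟨Function.injective_of_subsingleton _,
        fun x => ⟨0, Subsingleton.elim _ _⟩⟩, fun μ => ?_⟩
      rw [Finset.univ_eq_empty, Finset.sum_empty]
      unfold Isoc.newtonMult
      have := Submodule.finrank_le (Isoc.slopePart F μ)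
      omega
    · have hnt : Nontrivial N := Module.finrank_pos_iff.mp (hn ▸ hpos)
      have hsup := sSup_stdRanges_eq_top ha F hF
      have hex : ∃ S, S ∈ stdRanges F := by
        by_contra hcon
        push Not at hcon
        have : stdRanges F = ∅ := Set.eq_empty_of_forall_notMem hcon
        rw [this, sSup_empty] at hsup
        exact bot_ne_top hsup
      obtain ⟨S, hS⟩ := hex
      have hSs := stdRanges_stable F hS
      obtain ⟨d₀, h₀, f₀, hpos₀, hgcd₀, hinj₀, hequiv₀, rfl⟩ := hS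
      obtain ⟨n₀, rfl⟩ : ∃ n₀, h₀ = n₀ + 1 := ⟨h₀ - 1, by omega⟩
      obtain ⟨Q, hQs, hSQ⟩ := exists_stable_isCompl ha F hF _ hSs
      have hfS : Module.finrank K(p, k) (LinearMap.range f₀) = n₀ + 1 := by
        rw [LinearMap.finrank_range_of_inj hinj₀, Module.finrank_fin_fun]
      have hfQ : Module.finrank K(p, k) Q < n := by
        have := Submodule.finrank_add_eq_of_isCompl hSQ
        omega
      obtain ⟨t', s', hbij', hmult'⟩ := ih _ hfQ Q (F.restrict hQs)
        (restrict_bijective (compatFrob a) F hF.1 hQs) rfl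
      let s₀ : StdSub F := ⟨d₀, n₀ + 1, f₀, hpos₀, hgcd₀, hinj₀, hequiv₀⟩
      let s : Fin (t' + 1) → StdSub F := Fin.cons s₀ (fun i => (s' i).ofRestrict hQs)
      have key : ∀ y : (∀ i, Fin (s i).h → K(p, k)),
          sumMap s y = f₀ (y 0) + ((sumMap s' (fun i => y i.succ) : Q) : N) := by
        intro y
        rw [sumMap_apply, Fin.sum_univ_succ, sumMap_apply, Submodule.coe_sum]
        rfl
      refine ⟨t' + 1, s, ⟨?_, ?_⟩, ?_⟩
      · -- injective
        rw [injective_iff_map_eq_zero]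
        intro y hy
        rw [key] at hy
        have h1 : f₀ (y 0) ∈ LinearMap.range f₀ ⊓ Q := by
          refine ⟨LinearMap.mem_range_self _ _, ?_⟩
          rw [eq_neg_of_add_eq_zero_left hy]
          exact Q.neg_mem (Subtype.mem _)
        rw [hSQ.inf_eq_bot, Submodule.mem_bot] at h1
        have hy0 : y 0 = 0 := hinj₀ (h1.trans (map_zero f₀).symm)
        rw [h1, zero_add] at hy
        have h2 : sumMap s' (fun i => y i.succ) = 0 := Subtype.ext hy
        have h3 : (fun i : Fin t' => y i.succ) = 0 :=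
          hbij'.1 (h2.trans (map_zero (sumMap s')).symm)
        funext i
        refine Fin.cases ?_ (fun j => ?_) i
        · exact hy0
        · exact congrFun h3 j
      · -- surjective
        intro x
        have hx : x ∈ LinearMap.range f₀ ⊔ Q := by rw [hSQ.sup_eq_top]; trivial
        obtain ⟨_, ⟨v₀, rfl⟩, b, hb, rfl⟩ := Submodule.mem_sup.mp hx
        obtain ⟨y', hy'⟩ := hbij'.2 ⟨b, hb⟩
        refine ⟨Fin.cons (α := fun i => Fin (s i).h → K(p, k)) v₀ y', ?_⟩
        rw [key]
        simp only [Fin.cons_zero, Fin.cons_succ]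
        rw [hy']
      · -- multiplicities
        intro μ
        rw [newtonMult_add_of_isCompl (compatFrob a) F hF hSs hQs hSQ μ, hmult' μ,
          Fin.sum_univ_succ]
        congr 1
        let e₀ : (Fin (n₀ + 1) → K(p, k)) ≃ₗ[K(p, k)] LinearMap.range f₀ :=
          LinearEquiv.ofInjective f₀ hinj₀
        have hcomm : ∀ v, e₀ (Isoc.stdIsoc (Isoc.frob p k a) d₀ (n₀ + 1) v) =
            F.restrict hSs (e₀ v) := fun v => Subtype.ext (hequiv₀ v)
        rw [← newtonMult_eq_of_equiv (compatFrob a) _ (F.restrict hSs) e₀ hcomm μ,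
          newtonMult_stdIsoc (compatFrob a) d₀ n₀ μ]
        rfl

/-- Dieudonné–Manin classification in the form of the statement. -/
theorem exists_linearEquiv_pi_stdIsoc [IsAlgClosed k] {a : ℤ} (ha : a ≠ 0)
    [Module.Finite K(p, k) N] (F : N →ₛₗ[Isoc.frob p k a] N) (hF : Function.Bijective F) :
    ∃ (t : ℕ) (d : Fin t → ℤ) (h : Fin t → ℕ)
      (e : N ≃ₗ[K(p, k)] ((i : Fin t) → (Fin (h i) → K(p, k)))),
      (∀ i, 0 < h i ∧ Int.gcd (d i) (h i) = 1) ∧
      (∀ (x : N) (i : Fin t),
        e (F x) i = Isoc.stdIsoc (Isoc.frob p k a) (d i) (h i) (e x i)) ∧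
      ∀ μ : ℚ, Isoc.newtonMult F μ =
        ∑ i : Fin t, (if ((d i : ℚ) / (h i : ℚ)) = μ then h i else 0) := by
  obtain ⟨t, s, hbij, hmult⟩ := exists_stdSub_family ha _ N F hF rfl
  refine ⟨t, fun i => (s i).d, fun i => (s i).h,
    (LinearEquiv.ofBijective (sumMap s) hbij).symm, fun i => ⟨(s i).hpos, (s i).hgcd⟩, ?_, hmult⟩
  intro x i
  have hx : x = (LinearEquiv.ofBijective (sumMap s) hbij)
      ((LinearEquiv.ofBijective (sumMap s) hbij).symm x) :=
    ((LinearEquiv.ofBijective (sumMap s) hbij).apply_symm_apply x).symm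
  have h1 : F x = (LinearEquiv.ofBijective (sumMap s) hbij)
      (fun i => Isoc.stdIsoc (Isoc.frob p k a) (s i).d (s i).h
        ((LinearEquiv.ofBijective (sumMap s) hbij).symm x i)) := by
    conv_lhs => rw [hx]
    exact (sumMap_equivariant s _).symm
  rw [h1, LinearEquiv.symm_apply_apply]

end Groth.Agent.Helper25.IsocLib

end
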