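import Groth.Agent.Lib.Helper25.IsocOn2

/-!
# Helper library for isocrystal statements (helper25): the standard isocrystals are simple
-/

set_option autoImplicit false
set_option linter.unusedSectionVars false

noncomputable section

open scoped Pointwise Isocrystal
open Filter Topology

universe u v w

namespace Groth.Agent.Helper25.IsocLib

theorem linearIndependent_semilinear_comp {K : Type*} {V : Type*} [Field K] [AddCommGroup V]
    [Module K V] {τ : K →+* K} (hτ : Function.Bijective τ)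
    (F : V →ₛₗ[τ] V) (hF : Function.Injective F) {ι : Type*} [Fintype ι]
    (b : Module.Basis ι K V) : LinearIndependent K (fun i => F (b i)) := by
  classical
  obtain ⟨τinv, hl, hr⟩ := Function.bijective_iff_has_inverse.mp hτ
  rw [Fintype.linearIndependent_iff]
  intro g hg i
  have h1 : F (∑ i, τinv (g i) • b i) = 0 := by
    rw [map_sum, ← hg]
    refine Finset.sum_congr rfl fun i _ => ?_
    rw [map_smulₛₗ, hr (g i)]
  have h0 := hF (h1.trans (map_zero F).symm)
  have h2 := Fintype.linearIndependent_iff.mp b.linearIndependent _ h0 i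
  have h3 := congrArg τ h2
  rwa [hr, map_zero] at h3

variable {p : ℕ} [Fact p.Prime] {k : Type u} [Field k] [CharP k p] [PerfectRing k p]
variable {τ : K(p, k) →+* K(p, k)}

theorem detCoeff_ne_zero {N : Type v} [AddCommGroup N] [Module K(p, k) N]
    (c : Compat τ) (F : N →ₛₗ[τ] N) (hF : Function.Injective F) {h : ℕ}
    (b : Module.Basis (Fin h) K(p, k) N) : Isoc.detCoeff b F ≠ 0 := by
  have hli := linearIndependent_semilinear_comp c.bijective F hF b
  have : Module.Finite K(p, k) N := Module.Finite.of_basis b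
  have hsp : Submodule.span K(p, k) (Set.range fun i => F (b i)) = ⊤ :=
    hli.span_eq_top_of_card_eq_finrank' (by rw [Module.finrank_eq_card_basis b])
  have hu : IsUnit (b.det fun i => F (b i)) := (Module.Basis.is_basis_iff_det b).mp ⟨hli, hsp⟩
  exact hu.ne_zero

variable (p k)

/-- the filtration lattices of the standard isocrystal -/
def stdLat (h : ℕ) (d : ℤ) (j : ℕ) : Submodule (WittVector p k) (Fin h → K(p, k)) where
  carrier := {x | ∀ i : Fin h, ∃ w : WittVector p k,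
    x i = (if i.val < j then ((p : ℕ) : K(p, k)) ^ d else 1) *
      algebraMap (WittVector p k) K(p, k) w}
  add_mem' := by
    intro x y hx hy i
    obtain ⟨w, hw⟩ := hx i
    obtain ⟨w', hw'⟩ := hy i
    exact ⟨w + w', by rw [Pi.add_apply, hw, hw', map_add, mul_add]⟩
  zero_mem' := fun i => ⟨0, by simp⟩
  smul_mem' := by
    intro v x hx i
    obtain ⟨w, hw⟩ := hx i
    exact ⟨v * w, by rw [Pi.smul_apply, hw, Algebra.smul_def, map_mul]; ring⟩

variable {p k}

theorem stdIsoc_mem_stdLat_succ (c : Compat τ) (d : ℤ) {n : ℕ} {j : ℕ} (hj : j < n + 1)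
    {x : Fin (n + 1) → K(p, k)} (hx : x ∈ stdLat p k (n + 1) d j) :
    Isoc.stdIsoc τ d (n + 1) x ∈ stdLat p k (n + 1) d (j + 1) := by
  intro i
  rw [Isoc.stdIsoc_apply]
  obtain ⟨w, hw⟩ := hx ((finRotate (n + 1)).symm i)
  refine ⟨c.σ w, ?_⟩
  rw [hw, map_mul, c.map_alg]
  by_cases hi : i = 0
  · subst hi
    have hsymm : (finRotate (n + 1)).symm 0 = Fin.last n := by
      rw [Equiv.symm_apply_eq, finRotate_last]
    rw [hsymm]
    have h1 : ¬ ((Fin.last n : Fin (n + 1)) : ℕ) < j := by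
      rw [Fin.val_last]; omega
    rw [if_neg h1, map_one, one_mul, if_pos (by simp), if_pos (by simp)]
  · have hv : ((finRotate (n + 1)).symm i : ℕ) = i - 1 := coe_finRotate_symm_of_ne_zero hi
    have hi0 : (i : ℕ) ≠ 0 := fun h => hi (Fin.ext h)
    rw [if_neg hi0, one_mul]
    by_cases hlt : ((finRotate (n + 1)).symm i : ℕ) < j
    · rw [if_pos hlt, map_zpow_p, if_pos (by omega)]
    · rw [if_neg hlt, map_one, if_neg (by omega)]

theorem latImg_stdIsoc_le (c : Compat τ) (d : ℤ) (n : ℕ) : ∀ j ≤ n + 1,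
    Isoc.latImg (Isoc.stdIsoc τ d (n + 1)) j (stdLat p k (n + 1) d 0) ≤ stdLat p k (n + 1) d j
  | 0, _ => by rw [latImg_zero]
  | j + 1, hj => by
    have e : Isoc.latImg (Isoc.stdIsoc τ d (n + 1)) (j + 1) (stdLat p k (n + 1) d 0) =
        Isoc.latImg (Isoc.stdIsoc τ d (n + 1)) 1
          (Isoc.latImg (Isoc.stdIsoc τ d (n + 1)) j (stdLat p k (n + 1) d 0)) := by
      rw [← latImg_add c, add_comm 1 j]
    rw [e, latImg_one_eq_map c]
    rintro _ ⟨x, hx, rfl⟩
    exact stdIsoc_mem_stdLat_succ c d (by omega) (latImg_stdIsoc_le c d n j (by omega) hx)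

theorem span_basisFun_eq (h : ℕ) (d : ℤ) :
    Submodule.span (WittVector p k) (Set.range (Pi.basisFun K(p, k) (Fin h))) =
      stdLat p k h d 0 := by
  ext x
  rw [Module.Basis.mem_span_iff_repr_mem]
  constructor
  · intro hx i
    obtain ⟨w, hw⟩ := hx i
    exact ⟨w, by simpa using hw.symm⟩
  · intro hx i
    obtain ⟨w, hw⟩ := hx i
    exact ⟨w, by simpa using hw.symm⟩

theorem stdLat_top_eq (h : ℕ) (d : ℤ) :
    stdLat p k h d h = Isoc.pPow d (stdLat p k h d 0) := by
  ext x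
  rw [mem_pPow_iff_repr (Pi.basisFun K(p, k) (Fin h)) (span_basisFun_eq h d)]
  constructor
  · intro hx i
    obtain ⟨w, hw⟩ := hx i
    exact ⟨w, by simpa using hw⟩
  · intro hx i
    obtain ⟨w, hw⟩ := hx i
    exact ⟨w, by simpa using hw⟩

theorem isOrdP_detCoeff_stdIsoc (d : ℤ) (n : ℕ) :
    Isoc.IsOrdP (Isoc.detCoeff (Pi.basisFun K(p, k) (Fin (n + 1)))
      (Isoc.stdIsoc τ d (n + 1))) d := by
  have hA : (Matrix.of fun i j => (Pi.basisFun K(p, k) (Fin (n + 1))).repr
      (Isoc.stdIsoc τ d (n + 1) (Pi.basisFun K(p, k) (Fin (n + 1)) j)) i) =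
      Matrix.diagonal (fun i : Fin (n + 1) => if i.val = 0 then ((p : ℕ) : K(p, k)) ^ d else 1) *
        (1 : Matrix (Fin (n + 1)) (Fin (n + 1)) K(p, k)).submatrix (finRotate (n + 1)).symm id := by
    ext i j
    rw [Matrix.diagonal_mul]
    simp [Isoc.stdIsoc_apply, Matrix.one_apply, Pi.single_apply]
  unfold Isoc.detCoeff
  rw [hA, Matrix.det_mul, Matrix.det_diagonal, Matrix.det_permute, Matrix.det_one, mul_one]
  have hprod : ∏ i : Fin (n + 1), (if i.val = 0 then ((p : ℕ) : K(p, k)) ^ d else 1) =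
      ((p : ℕ) : K(p, k)) ^ d := by
    rw [Finset.prod_eq_single (0 : Fin (n + 1))]
    · simp
    · intro b _ hb
      have : (b : ℕ) ≠ 0 := fun h => hb (Fin.ext h)
      simp [this]
    · simp
  rw [hprod]
  rcases Int.units_eq_one_or (Equiv.Perm.sign (finRotate (n + 1)).symm) with h | h <;> rw [h]
  · simpa using isOrdP_zpow (p := p) (k := k) d
  · exact ⟨-1, by simp⟩

theorem stdIsoc_isIsoclinicOn (c : Compat τ) (d : ℤ) (n : ℕ) :
    IsIsoclinicOn (Isoc.stdIsoc τ d (n + 1)) ⊤ ((d : ℚ) / ((n + 1 : ℕ) : ℚ)) := by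
  have he := span_basisFun_eq (p := p) (k := k) (n + 1) d
  refine ⟨stdLat p k (n + 1) d 0, ?_, ?_, d, n + 1, Nat.succ_pos n, rfl, ?_⟩
  · rw [← he]
    exact Submodule.fg_span (Set.finite_range _)
  · rw [← he, Submodule.span_span_of_tower, Module.Basis.span_eq]
  · have hle : Isoc.latImg (Isoc.stdIsoc τ d (n + 1)) (n + 1) (stdLat p k (n + 1) d 0) ≤
        Isoc.pPow d (stdLat p k (n + 1) d 0) := by
      rw [← stdLat_top_eq]
      exact latImg_stdIsoc_le c d n (n + 1) le_rfl
    have hord := isOrdP_detCoeff_iter c (Pi.basisFun K(p, k) (Fin (n + 1)))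
      (Isoc.stdIsoc τ d (n + 1)) (isOrdP_detCoeff_stdIsoc d n) (n + 1)
    rw [mul_comm] at hord
    exact latImg_eq_of_le_of_isOrdP c _ he _ hle hord

theorem stdIsoc_injective (c : Compat τ) (d : ℤ) (h : ℕ) :
    Function.Injective (Isoc.stdIsoc τ d h) := by
  rw [← LinearMap.ker_eq_bot, LinearMap.ker_eq_bot']
  intro x hx
  funext j
  have h1 := congrFun hx ((finRotate h) j)
  rw [Isoc.stdIsoc_apply, Equiv.symm_apply_apply, Pi.zero_apply] at h1
  have h2 : (if ((finRotate h) j).val = 0 then ((p : ℕ) : K(p, k)) ^ d else 1) ≠ 0 := by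
    split_ifs
    · exact zpow_pL_ne_zero d
    · exact one_ne_zero
  have h3 := (mul_eq_zero.mp h1).resolve_left h2
  exact (map_eq_zero_iff τ c.bijective.injective).mp h3

/-- The standard isocrystal of slope `d/h` with `gcd(d, h) = 1` is simple. -/
theorem stdIsoc_simple (c : Compat τ) (d : ℤ) (h : ℕ) (hh : 0 < h) (hdh : Int.gcd d h = 1)
    (P : Submodule K(p, k) (Fin h → K(p, k)))
    (hP : ∀ x ∈ P, Isoc.stdIsoc τ d h x ∈ P) : P = ⊥ ∨ P = ⊤ := by
  obtain ⟨n, rfl⟩ : ∃ n, h = n + 1 := ⟨h - 1, by omega⟩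
  have hFinj := stdIsoc_injective (p := p) (k := k) c d (n + 1)
  have hon := isIsoclinicOn_of_top c (Isoc.stdIsoc τ d (n + 1)) hFinj hP
    (stdIsoc_isIsoclinicOn c d n)
  obtain ⟨M, hM, r', s', hs', hμ', heq'⟩ :=
    isIsoclinic_restrict_of_on c (Isoc.stdIsoc τ d (n + 1)) hP hon
  have hGinj : Function.Injective ((Isoc.stdIsoc τ d (n + 1)).restrict hP) := by
    intro a b hab
    apply Subtype.ext
    apply hFinj
    exact congrArg Subtype.val hab
  let b' := Module.finBasis K(p, k) P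
  obtain ⟨d', hd'⟩ := exists_isOrdP (detCoeff_ne_zero c _ hGinj b')
  have hmul := mul_eq_of_latImg_eq c _ b' hd' hM heq'
  -- arithmetic
  set h' := Module.finrank K(p, k) P with hh'
  have hle : h' ≤ n + 1 := by
    have := Submodule.finrank_le P
    simpa using this
  have hs0 : (s' : ℚ) ≠ 0 := by exact_mod_cast hs'.ne'
  have hn0 : ((n + 1 : ℕ) : ℚ) ≠ 0 := by exact_mod_cast (Nat.succ_ne_zero n)
  have h1 : r' * ((n + 1 : ℕ) : ℤ) = s' * d := by
    rw [div_eq_div_iff hs0 hn0] at hμ'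
    have : ((r' * ((n + 1 : ℕ) : ℤ) : ℤ) : ℚ) = ((s' * d : ℤ) : ℚ) := by
      push_cast; push_cast at hμ'; linarith
    exact_mod_cast this
  have h2 : d' * ((n + 1 : ℕ) : ℤ) = d * h' := by
    have hs'' : (s' : ℤ) ≠ 0 := by exact_mod_cast hs'.ne'
    apply mul_left_cancel₀ hs''
    calc (s' : ℤ) * (d' * ((n + 1 : ℕ) : ℤ)) = (s' * d') * ((n + 1 : ℕ) : ℤ) := by ring
      _ = (r' * h') * ((n + 1 : ℕ) : ℤ) := by rw [hmul]
      _ = (r' * ((n + 1 : ℕ) : ℤ)) * h' := by ring
      _ = (s' * d) * h' := by rw [h1]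
      _ = (s' : ℤ) * (d * h') := by ring
  have hdvd : ((n + 1 : ℕ) : ℤ) ∣ (h' : ℤ) := by
    have h3 : ((n + 1 : ℕ) : ℤ) ∣ d * h' := ⟨d', by rw [← h2]; ring⟩
    have hcop : IsCoprime ((n + 1 : ℕ) : ℤ) d := by
      rw [Int.isCoprime_iff_gcd_eq_one, Int.gcd_comm]; exact hdh
    exact hcop.dvd_of_dvd_mul_left h3
  have hdvd' : (n + 1) ∣ h' := by exact_mod_cast hdvd
  rcases Nat.eq_zero_or_pos h' with h0 | hpos
  · left
    exact Submodule.finrank_eq_zero.mp h0
  · right
    have : h' = n + 1 := le_antisymm hle (Nat.le_of_dvd hpos hdvd')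
    apply Submodule.eq_top_of_finrank_eq
    rw [← hh', this]
    simp

end Groth.Agent.Helper25.IsocLib

end
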