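import Groth.Agent.Lib.Helper25.Lang
import Mathlib.RingTheory.WittVector.Complete
import Mathlib.RingTheory.WittVector.DiscreteValuationRing
import Mathlib.RingTheory.WittVector.Teichmuller
import Mathlib.LinearAlgebra.Determinant
import Mathlib.LinearAlgebra.StdBasis
import Mathlib.LinearAlgebra.FreeModule.Finite.Basic

/-!
# Lang-type lemma for Witt vector modules (helper25)
-/

set_option autoImplicit false
set_option linter.unusedSectionVars false

noncomputable section

namespace Groth.Agent.Helper25.Lang

open WittVector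

variable {p : ℕ} [Fact p.Prime] {k : Type*} [Field k] [CharP k p] [PerfectRing k p]

/-! ### Completeness of `W` in elementary terms -/

theorem exists_limit_witt (f : ℕ → WittVector p k)
    (hf : ∀ n, ((p : ℕ) : WittVector p k) ^ n ∣ f (n + 1) - f n) :
    ∃ a : WittVector p k, ∀ n, ((p : ℕ) : WittVector p k) ^ n ∣ a - f n := by
  have hprec : IsPrecomplete (Ideal.span {((p : ℕ) : WittVector p k)}) (WittVector p k) :=
    inferInstance
  have hcauchy : ∀ {m n}, m ≤ n → f m ≡ f n
      [SMOD ((Ideal.span {((p : ℕ) : WittVector p k)}) ^ m • ⊤ :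
        Submodule (WittVector p k) (WittVector p k))] := by
    intro m n hmn
    rw [SModEq.sub_mem, smul_eq_mul, Ideal.mul_top, Ideal.span_singleton_pow,
      Ideal.mem_span_singleton]
    induction n, hmn using Nat.le_induction with
    | base => simp
    | succ n hmn ih =>
      have h1 : f m - f (n + 1) = (f m - f n) - (f (n + 1) - f n) := by ring
      rw [h1]
      exact dvd_sub ih ((pow_dvd_pow _ hmn).trans (hf n))
  obtain ⟨a, ha⟩ := hprec.prec hcauchy
  refine ⟨a, fun n => ?_⟩
  have := ha n
  rw [SModEq.sub_mem, smul_eq_mul, Ideal.mul_top, Ideal.span_singleton_pow,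
    Ideal.mem_span_singleton] at this
  rw [← dvd_neg, neg_sub]
  exact this

theorem eq_zero_of_forall_pow_dvd (x : WittVector p k)
    (h : ∀ n, ((p : ℕ) : WittVector p k) ^ n ∣ x) : x = 0 := by
  have hh : IsHausdorff (Ideal.span {((p : ℕ) : WittVector p k)}) (WittVector p k) :=
    inferInstance
  apply hh.haus
  intro n
  rw [SModEq.zero, smul_eq_mul, Ideal.mul_top, Ideal.span_singleton_pow,
    Ideal.mem_span_singleton]
  exact h n

/-! ### Reduction modulo `p` on `W^n` -/

variable {n : ℕ}

/-- reduction modulo `p`, coordinatewise -/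
def red (x : Fin n → WittVector p k) : Fin n → k := fun i => constantCoeff (x i)

theorem red_add (x y : Fin n → WittVector p k) : red (x + y) = red x + red y := by
  funext i; simp only [red, Pi.add_apply, map_add]

theorem red_sub (x y : Fin n → WittVector p k) : red (x - y) = red x - red y := by
  funext i; simp only [red, Pi.sub_apply, map_sub]

theorem red_zero : red (0 : Fin n → WittVector p k) = 0 := by
  funext i; simp only [red, Pi.zero_apply, map_zero]

theorem red_smul (a : WittVector p k) (x : Fin n → WittVector p k) :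
    red (a • x) = constantCoeff a • red x := by
  funext i; simp only [red, Pi.smul_apply, smul_eq_mul, map_mul]

theorem red_surjective : Function.Surjective (red : (Fin n → WittVector p k) → Fin n → k) := by
  intro y
  choose x hx using fun i => constantCoeff_surjective (p := p) (y i)
  exact ⟨x, funext hx⟩

/-- a set-theoretic section of `red` -/
def sec (y : Fin n → k) : Fin n → WittVector p k := Function.surjInv red_surjective y

theorem red_sec (y : Fin n → k) : red (sec (p := p) y) = y :=
  Function.surjInv_eq red_surjective y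

theorem red_eq_zero_iff (x : Fin n → WittVector p k) :
    red x = 0 ↔ ∃ t : Fin n → WittVector p k, x = ((p : ℕ) : WittVector p k) • t := by
  constructor
  · intro h
    have h1 : ∀ i, ∃ t : WittVector p k, x i = ((p : ℕ) : WittVector p k) * t := by
      intro i
      have h2 : (x i).coeff 0 = 0 := congrFun h i
      have h3 := (mem_span_p_iff_coeff_zero_eq_zero (x i)).mpr h2
      exact Ideal.mem_span_singleton.mp h3
    choose t ht using h1
    exact ⟨t, funext fun i => by rw [Pi.smul_apply, smul_eq_mul, ht i]⟩
  · rintro ⟨t, rfl⟩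
    funext i
    simp only [red, Pi.smul_apply, smul_eq_mul, map_mul, Pi.zero_apply]
    have : constantCoeff ((p : ℕ) : WittVector p k) = 0 := by
      rw [map_natCast]; exact CharP.cast_eq_zero k p
    rw [this, zero_mul]

theorem constantCoeff_iterate_frobenius (ν : ℕ) (a : WittVector p k) :
    constantCoeff ((⇑(frobenius : WittVector p k →+* WittVector p k))^[ν] a) =
      (constantCoeff a) ^ (p ^ ν) := by
  induction ν with
  | zero => simp
  | succ ν ih =>
    rw [Function.iterate_succ_apply', pow_succ, pow_mul, ← ih]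
    exact coeff_frobenius_charP p _ 0

theorem iterate_frobenius_natCast_pow (ν j : ℕ) :
    (⇑(frobenius : WittVector p k →+* WittVector p k))^[ν]
      (((p : ℕ) : WittVector p k) ^ j) = ((p : ℕ) : WittVector p k) ^ j :=
  Function.iterate_fixed (by rw [map_pow, map_natCast]) ν

section Main

variable {ν : ℕ} (F : (Fin n → WittVector p k) →+ (Fin n → WittVector p k))
  (hF : ∀ (a : WittVector p k) (x : Fin n → WittVector p k),
    F (a • x) = ((⇑(frobenius : WittVector p k →+* WittVector p k))^[ν] a) • F x)

include hF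

theorem map_pow_smul (j : ℕ) (x : Fin n → WittVector p k) :
    F ((((p : ℕ) : WittVector p k) ^ j) • x) = (((p : ℕ) : WittVector p k) ^ j) • F x := by
  rw [hF, iterate_frobenius_natCast_pow]

theorem map_p_smul (x : Fin n → WittVector p k) :
    F (((p : ℕ) : WittVector p k) • x) = ((p : ℕ) : WittVector p k) • F x := by
  have := map_pow_smul F hF 1 x
  simpa using this

theorem red_map_congr {x x' : Fin n → WittVector p k} (h : red x = red x') :
    red (F x) = red (F x') := by
  have h1 : red (x - x') = 0 := by rw [red_sub, h, sub_self]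
  obtain ⟨t, ht⟩ := (red_eq_zero_iff _).mp h1
  have h2 : F x - F x' = ((p : ℕ) : WittVector p k) • F t := by
    rw [← map_sub, ht, map_p_smul F hF]
  have h3 : red (F x - F x') = 0 := (red_eq_zero_iff _).mpr ⟨F t, h2⟩
  rw [red_sub, sub_eq_zero] at h3
  exact h3

/-- the reduction of `F` modulo `p` -/
def redMap : (Fin n → k) →ₛₗ[iterateFrobenius k p ν] (Fin n → k) where
  toFun y := red (F (sec y))
  map_add' y y' := by
    rw [← red_add, ← map_add]
    apply red_map_congr F hF
    rw [red_add, red_sec, red_sec, red_sec]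
  map_smul' c y := by
    obtain ⟨a, rfl⟩ := constantCoeff_surjective (p := p) c
    have h1 : red (F (sec (constantCoeff a • y))) = red (F (a • sec y)) := by
      apply red_map_congr F hF
      rw [red_sec, red_smul, red_sec]
    show red (F _) = iterateFrobenius k p ν (constantCoeff a) • red (F _)
    rw [h1, hF, red_smul, constantCoeff_iterate_frobenius, iterateFrobenius_def]

theorem redMap_red (x : Fin n → WittVector p k) : redMap F hF (red x) = red (F x) := by
  show red (F (sec (red x))) = red (F x)
  apply red_map_congr F hF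
  exact red_sec _

theorem redMap_injective (hbij : Function.Bijective F) :
    Function.Injective (redMap F hF) := by
  rw [← LinearMap.ker_eq_bot, LinearMap.ker_eq_bot']
  intro y hy
  obtain ⟨x, rfl⟩ := red_surjective y
  rw [redMap_red] at hy
  obtain ⟨t, ht⟩ := (red_eq_zero_iff _).mp hy
  obtain ⟨t', rfl⟩ := hbij.2 t
  rw [← map_p_smul F hF] at ht
  have := hbij.1 ht
  rw [this]
  exact (red_eq_zero_iff _).mpr ⟨t', rfl⟩

variable [IsAlgClosed k]

theorem two_le_pow (hν : 1 ≤ ν) : 2 ≤ p ^ ν :=
  le_trans (Fact.out : p.Prime).two_le (Nat.le_self_pow (by omega) p)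

omit hF in
theorem two_le_pow' (hν : 1 ≤ ν) : 2 ≤ p ^ ν :=
  le_trans (Fact.out : p.Prime).two_le (Nat.le_self_pow (by omega) p)

theorem exists_step (hν : 1 ≤ ν) (hbij : Function.Bijective F) (r : Fin n → WittVector p k) :
    ∃ u r' : Fin n → WittVector p k, F u - u = r - ((p : ℕ) : WittVector p k) • r' := by
  obtain ⟨ub, hub⟩ := exists_sub_eq (two_le_pow' hν) (fun a => iterateFrobenius_def p ν a)
    (redMap F hF) (redMap_injective F hF hbij) (red r)
  obtain ⟨u, rfl⟩ := red_surjective ub
  rw [redMap_red, ← red_sub] at hub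
  have h1 : red (F u - u - r) = 0 := by rw [red_sub, hub, sub_self]
  obtain ⟨t, ht⟩ := (red_eq_zero_iff _).mp h1
  refine ⟨u, -t, ?_⟩
  rw [smul_neg, sub_neg_eq_add, ← ht]
  abel

/-- Artin–Schreier–Witt: `F - 1` is surjective. -/
theorem exists_sub_eq_witt (hν : 1 ≤ ν) (hbij : Function.Bijective F)
    (m : Fin n → WittVector p k) : ∃ z, F z - z = m := by
  choose u r' hur using exists_step F hF hν hbij
  let rr : ℕ → (Fin n → WittVector p k) := fun j => r'^[j] m
  have hrr : ∀ j, F (u (rr j)) - u (rr j) = rr j - ((p : ℕ) : WittVector p k) • rr (j + 1) := by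
    intro j
    rw [show rr (j + 1) = r' (rr j) from Function.iterate_succ_apply' r' j m]
    exact hur (rr j)
  let z : ℕ → (Fin n → WittVector p k) :=
    fun j => ∑ i ∈ Finset.range j, (((p : ℕ) : WittVector p k) ^ i) • u (rr i)
  have hzs : ∀ j, z (j + 1) = z j + (((p : ℕ) : WittVector p k) ^ j) • u (rr j) :=
    fun j => Finset.sum_range_succ _ _
  have hz : ∀ j, F (z j) - z j = m - (((p : ℕ) : WittVector p k) ^ j) • rr j := by
    intro j
    induction j with
    | zero => simp [z, rr]
    | succ j ih =>
      rw [hzs, map_add, map_pow_smul F hF]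
      have h1 : F (z j) + (((p : ℕ) : WittVector p k) ^ j) • F (u (rr j)) -
          (z j + (((p : ℕ) : WittVector p k) ^ j) • u (rr j)) =
          (F (z j) - z j) + (((p : ℕ) : WittVector p k) ^ j) • (F (u (rr j)) - u (rr j)) := by
        rw [smul_sub]; abel
      rw [h1, ih, hrr, smul_sub, smul_smul, ← pow_succ]
      abel
  have hcoord : ∀ i : Fin n, ∃ a : WittVector p k,
      ∀ j, ((p : ℕ) : WittVector p k) ^ j ∣ a - z j i := by
    intro i
    apply exists_limit_witt (fun j => z j i)
    intro j
    rw [hzs]
    simp only [Pi.add_apply, Pi.smul_apply, smul_eq_mul, add_sub_cancel_left]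
    exact dvd_mul_right _ _
  choose a ha using hcoord
  refine ⟨a, ?_⟩
  rw [← sub_eq_zero]
  funext i
  show (F a - a - m) i = 0
  apply eq_zero_of_forall_pow_dvd
  intro j
  have hex : ∃ t : Fin n → WittVector p k, a - z j = (((p : ℕ) : WittVector p k) ^ j) • t := by
    choose t ht using fun i => ha i j
    exact ⟨t, funext fun i => by rw [Pi.sub_apply, Pi.smul_apply, smul_eq_mul, ht i]⟩
  obtain ⟨t, ht⟩ := hex
  have h1 : F a - a - m = (((p : ℕ) : WittVector p k) ^ j) • (F t - t - rr j) := by
    have e1 : a = z j + (((p : ℕ) : WittVector p k) ^ j) • t := by rw [← ht]; abel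
    have e2 : F (z j) = z j + (m - (((p : ℕ) : WittVector p k) ^ j) • rr j) := by
      rw [← hz j]; abel
    rw [e1, map_add, map_pow_smul F hF, e2, smul_sub, smul_sub]
    abel
  rw [h1, Pi.smul_apply, smul_eq_mul]
  exact dvd_mul_right _ _

theorem exists_fixed_lift (hν : 1 ≤ ν) (hbij : Function.Bijective F) {y : Fin n → k}
    (hy : redMap F hF y = y) : ∃ x, F x = x ∧ red x = y := by
  obtain ⟨x₀, rfl⟩ := red_surjective y
  rw [redMap_red] at hy
  have h1 : red (F x₀ - x₀) = 0 := by rw [red_sub, hy, sub_self]
  obtain ⟨m₁, hm₁⟩ := (red_eq_zero_iff _).mp h1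
  obtain ⟨z, hz⟩ := exists_sub_eq_witt F hF hν hbij m₁
  refine ⟨x₀ - ((p : ℕ) : WittVector p k) • z, ?_, ?_⟩
  · rw [map_sub, map_p_smul F hF]
    have e1 : F x₀ = x₀ + ((p : ℕ) : WittVector p k) • m₁ := by rw [← hm₁]; abel
    have e2 : F z = z + m₁ := by rw [← hz]; abel
    rw [e1, e2, smul_add]
    abel
  · rw [red_sub, (red_eq_zero_iff _).mpr ⟨z, rfl⟩, sub_zero]

theorem exists_basis_fixed_pi (hν : 1 ≤ ν) (hbij : Function.Bijective F) :
    ∃ e : Module.Basis (Fin n) (WittVector p k) (Fin n → WittVector p k),
      ∀ i, F (e i) = e i := by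
  classical
  obtain ⟨b, B, hB⟩ := exists_basis_fixed (two_le_pow' hν)
    (fun a => iterateFrobenius_def p ν a) (redMap F hF) (redMap_injective F hF hbij)
  have : Fintype b := FiniteDimensional.fintypeBasisIndex B
  have hcard : Fintype.card b = n := by
    rw [← Module.finrank_eq_card_basis B, Module.finrank_fin_fun]
  let B' := B.reindex (Fintype.equivFinOfCardEq hcard)
  have hB' : ∀ i, redMap F hF (B' i) = B' i := fun i => by
    rw [Module.Basis.reindex_apply]; exact hB _
  choose e he hered using fun i => exists_fixed_lift F hF hν hbij (hB' i)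
  have hdet : IsUnit ((Pi.basisFun (WittVector p k) (Fin n)).det e) := by
    apply isUnit_of_coeff_zero_ne_zero
    have h1 : constantCoeff ((Pi.basisFun (WittVector p k) (Fin n)).det e) =
        (Pi.basisFun k (Fin n)).det B' := by
      rw [Module.Basis.det_apply, Module.Basis.det_apply, RingHom.map_det]
      congr 1
      ext i j
      simp only [RingHom.mapMatrix_apply, Matrix.map_apply, Module.Basis.toMatrix_apply,
        Pi.basisFun_repr]
      exact congrFun (hered j) i
    show constantCoeff _ ≠ 0
    rw [h1]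
    exact (Module.Basis.isUnit_det _ _).ne_zero
  obtain ⟨hli, hsp⟩ := (Module.Basis.is_basis_iff_det (Pi.basisFun (WittVector p k) (Fin n))).mpr hdet
  refine ⟨Module.Basis.mk hli hsp.ge, fun i => ?_⟩
  rw [Module.Basis.mk_apply]
  exact he i

end Main

theorem exists_basis_fixed_witt [IsAlgClosed k] {M : Type*} [AddCommGroup M]
    [Module (WittVector p k) M] [Module.Finite (WittVector p k) M]
    [Module.Free (WittVector p k) M] {ν : ℕ} (hν : 1 ≤ ν) (F : M →+ M)
    (hF : ∀ (a : WittVector p k) (m : M),
      F (a • m) = ((⇑(frobenius : WittVector p k →+* WittVector p k))^[ν] a) • F m)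
    (hbij : Function.Bijective F) :
    ∃ (n : ℕ) (b : Module.Basis (Fin n) (WittVector p k) M), ∀ i, F (b i) = b i := by
  let b₀ := Module.Free.chooseBasis (WittVector p k) M
  let n := Fintype.card (Module.Free.ChooseBasisIndex (WittVector p k) M)
  let b₁ : Module.Basis (Fin n) (WittVector p k) M := b₀.reindex (Fintype.equivFin _)
  let T : M ≃ₗ[WittVector p k] (Fin n → WittVector p k) := b₁.equivFun
  let F' : (Fin n → WittVector p k) →+ (Fin n → WittVector p k) :=
    T.toLinearMap.toAddMonoidHom.comp (F.comp T.symm.toLinearMap.toAddMonoidHom)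
  have hF'app : ∀ x, F' x = T (F (T.symm x)) := fun x => rfl
  have hF' : ∀ (a : WittVector p k) (x : Fin n → WittVector p k),
      F' (a • x) = ((⇑(frobenius : WittVector p k →+* WittVector p k))^[ν] a) • F' x := by
    intro a x
    rw [hF'app, hF'app, map_smul, hF, map_smul]
  have hbij' : Function.Bijective F' := by
    have : ⇑F' = ⇑T ∘ ⇑F ∘ ⇑T.symm := rfl
    rw [this]
    exact T.bijective.comp (hbij.comp T.symm.bijective)
  obtain ⟨e, he⟩ := exists_basis_fixed_pi F' hF' hν hbij'
  refine ⟨n, e.map T.symm, fun i => ?_⟩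
  rw [Module.Basis.map_apply]
  apply T.injective
  rw [T.apply_symm_apply]
  exact he i

end Groth.Agent.Helper25.Lang

end
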