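import Groth.Agent.Lib.Helper25.IsocBasic
import Groth.Agent.Lib.Helper25.LangWitt
import Mathlib.LinearAlgebra.FreeModule.PID

/-!
# Helper library for isocrystal statements (helper25): unit-root lattices are spanned by fixed
vectors (over an algebraically closed field)
-/

set_option autoImplicit false
set_option linter.unusedSectionVars false

noncomputable section

open scoped Pointwise Isocrystal

universe u v

namespace Groth.Agent.Helper25.IsocLib

variable {p : ℕ} [Fact p.Prime] {k : Type u} [Field k] [CharP k p] [PerfectRing k p]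
variable {τ' : K(p, k) →+* K(p, k)}
variable {N : Type v} [AddCommGroup N] [Module (WittVector p k) N] [Module K(p, k) N]
  [IsScalarTower (WittVector p k) K(p, k) N]

theorem frobeniusEquiv_zpow_natCast_apply (n : ℕ) (w : WittVector p k) :
    (WittVector.frobeniusEquiv p k ^ (n : ℤ)) w =
      (⇑(WittVector.frobenius : WittVector p k →+* WittVector p k))^[n] w := by
  rw [zpow_natCast]
  induction n with
  | zero => rfl
  | succ n ih =>
    rw [pow_succ', RingAut.mul_apply, ih, Function.iterate_succ_apply',
      WittVector.frobeniusEquiv_apply]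

theorem frobeniusEquiv_zpow_neg_natCast_apply (n : ℕ) (w : WittVector p k) :
    (WittVector.frobeniusEquiv p k ^ (-(n : ℤ)))
      ((⇑(WittVector.frobenius : WittVector p k →+* WittVector p k))^[n] w) = w := by
  rw [← frobeniusEquiv_zpow_natCast_apply, ← RingAut.mul_apply, ← zpow_add, neg_add_cancel,
    zpow_zero]
  rfl

/-- A finitely generated `W`-submodule stable under a bijective `σ^b`-semilinear map `G`
(`b ≠ 0`, `k` algebraically closed) with `G M₀ = M₀` is spanned by `G`-fixed vectors. -/
theorem span_fixed_eq_of_latImg_eq [IsAlgClosed k] (c' : Compat τ') {b : ℤ} (hb : b ≠ 0)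
    (hσ : c'.σ = WittVector.frobeniusEquiv p k ^ b) (G : N →ₛₗ[τ'] N)
    (hG : Function.Injective G) {M₀ : Submodule (WittVector p k) N} (hfg : M₀.FG)
    (hGM : Isoc.latImg G 1 M₀ = M₀) :
    Submodule.span (WittVector p k) {x | x ∈ M₀ ∧ G x = x} = M₀ := by
  have : Module.IsTorsionFree (WittVector p k) N :=
    Module.IsTorsionFree.trans_faithfulSMul (WittVector p k) K(p, k) N
  have : Module.Finite (WittVector p k) M₀ := Module.Finite.iff_fg.mpr hfg
  have hmem : ∀ x ∈ M₀, G x ∈ M₀ := fun x hx => by
    have := iterate_mem_latImg G 1 hx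
    rw [hGM] at this
    simpa using this
  let Eh : M₀ →+ M₀ :=
    { toFun := fun x => ⟨G (x : N), hmem x x.2⟩
      map_zero' := Subtype.ext (map_zero G)
      map_add' := fun x y => Subtype.ext (map_add G (x : N) (y : N)) }
  have hEh : ∀ x : M₀, ((Eh x : M₀) : N) = G (x : N) := fun x => rfl
  have hEhsmul : ∀ (w : WittVector p k) (x : M₀), Eh (w • x) = c'.σ w • Eh x := by
    intro w x
    apply Subtype.ext
    rw [hEh, Submodule.coe_smul, Submodule.coe_smul, hEh]
    exact (c'.toW G).map_smulₛₗ w x
  have hbij : Function.Bijective Eh := by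
    constructor
    · intro x y hxy
      apply Subtype.ext
      apply hG
      exact congrArg Subtype.val hxy
    · intro y
      have hy : (y : N) ∈ Isoc.latImg G 1 M₀ := by rw [hGM]; exact y.2
      obtain ⟨x, hx, hxy⟩ := (mem_latImg c' G 1 M₀).mp hy
      exact ⟨⟨x, hx⟩, Subtype.ext ((hEh _).trans (by simpa using hxy))⟩
  -- a basis of fixed vectors
  have hbasis : ∃ (n : ℕ) (B : Module.Basis (Fin n) (WittVector p k) M₀), ∀ i, Eh (B i) = B i := by
    rcases lt_or_gt_of_ne hb with hneg | hpos
    · -- `b < 0`: use the inverse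
      obtain ⟨ν, hν⟩ : ∃ ν : ℕ, b = -(ν : ℤ) := ⟨(-b).toNat, by omega⟩
      have hν1 : 1 ≤ ν := by omega
      let E := AddEquiv.ofBijective Eh hbij
      have hE : ∀ x, E x = Eh x := fun x => rfl
      have hF : ∀ (w : WittVector p k) (m : M₀), E.symm.toAddMonoidHom (w • m) =
          ((⇑(WittVector.frobenius : WittVector p k →+* WittVector p k))^[ν] w) •
            E.symm.toAddMonoidHom m := by
        intro w m
        show E.symm (w • m) = _ • E.symm m
        apply E.injective
        rw [E.apply_symm_apply, hE, hEhsmul, ← hE, E.apply_symm_apply, hσ, hν,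
          frobeniusEquiv_zpow_neg_natCast_apply]
      obtain ⟨n, B, hB⟩ := Lang.exists_basis_fixed_witt hν1 E.symm.toAddMonoidHom hF
        E.symm.bijective
      refine ⟨n, B, fun i => ?_⟩
      have h1 : E.symm (B i) = B i := hB i
      rw [← hE, ← h1, E.apply_symm_apply, h1]
    · obtain ⟨ν, hν⟩ : ∃ ν : ℕ, b = (ν : ℤ) := ⟨b.toNat, by omega⟩
      have hν1 : 1 ≤ ν := by omega
      have hF : ∀ (w : WittVector p k) (m : M₀), Eh (w • m) =
          ((⇑(WittVector.frobenius : WittVector p k →+* WittVector p k))^[ν] w) • Eh m := by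
        intro w m
        rw [hEhsmul, hσ, hν, frobeniusEquiv_zpow_natCast_apply]
      exact Lang.exists_basis_fixed_witt hν1 Eh hF hbij
  obtain ⟨n, B, hB⟩ := hbasis
  apply le_antisymm
  · exact Submodule.span_le.mpr fun x hx => hx.1
  · intro x hx
    have hx' : (⟨x, hx⟩ : M₀) ∈ Submodule.span (WittVector p k) (Set.range B) := by
      rw [B.span_eq]; trivial
    have h1 := Submodule.mem_map_of_mem (f := M₀.subtype) hx'
    rw [Submodule.map_span] at h1
    refine Submodule.span_mono ?_ h1
    rintro _ ⟨_, ⟨i, rfl⟩, rfl⟩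
    exact ⟨(B i).2, congrArg Subtype.val (hB i)⟩

end Groth.Agent.Helper25.IsocLib

end
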