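import Mathlib.LinearAlgebra.FiniteDimensional.Lemmas
import Mathlib.LinearAlgebra.Span.Basic
import Mathlib.RingTheory.Noetherian.Basic
import Mathlib.Order.WellFounded

/-!
# Stable complements from a spanning family of simple stable subspaces (helper25)
-/

set_option autoImplicit false

namespace Groth.Agent.Helper25.StableCompl

variable {K : Type*} [Field K] {σ : K →+* K} {V : Type*} [AddCommGroup V] [Module K V]

theorem stable_sup (F : V →ₛₗ[σ] V) {Q S : Submodule K V} (hQ : ∀ x ∈ Q, F x ∈ Q)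
    (hS : ∀ x ∈ S, F x ∈ S) : ∀ x ∈ Q ⊔ S, F x ∈ Q ⊔ S := by
  intro x hx
  obtain ⟨q, hq, s, hs, rfl⟩ := Submodule.mem_sup.mp hx
  rw [map_add]
  exact Submodule.add_mem_sup (hQ q hq) (hS s hs)

theorem stable_inf (F : V →ₛₗ[σ] V) {Q S : Submodule K V} (hQ : ∀ x ∈ Q, F x ∈ Q)
    (hS : ∀ x ∈ S, F x ∈ S) : ∀ x ∈ Q ⊓ S, F x ∈ Q ⊓ S :=
  fun x hx => ⟨hQ x hx.1, hS x hx.2⟩

/-- If the whole space is the supremum of simple stable subspaces, every stable subspace has a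
stable complement. -/
theorem exists_stable_isCompl [FiniteDimensional K V] (F : V →ₛₗ[σ] V)
    (𝒮 : Set (Submodule K V)) (hstab : ∀ S ∈ 𝒮, ∀ x ∈ S, F x ∈ S)
    (hsimple : ∀ S ∈ 𝒮, ∀ T : Submodule K V, T ≤ S → (∀ x ∈ T, F x ∈ T) → T = ⊥ ∨ T = S)
    (htop : sSup 𝒮 = ⊤) (P : Submodule K V) (hP : ∀ x ∈ P, F x ∈ P) :
    ∃ Q : Submodule K V, (∀ x ∈ Q, F x ∈ Q) ∧ IsCompl P Q := by
  let 𝒬 : Set (Submodule K V) := {Q | (∀ x ∈ Q, F x ∈ Q) ∧ P ⊓ Q = ⊥}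
  have hne : 𝒬.Nonempty := ⟨⊥, fun x hx => by
    rw [Submodule.mem_bot] at hx ⊢; rw [hx, map_zero], inf_bot_eq P⟩
  obtain ⟨Q, ⟨hQs, hPQ⟩, hmax⟩ := (wellFounded_gt (α := Submodule K V)).has_min 𝒬 hne
  refine ⟨Q, hQs, ⟨disjoint_iff.mpr hPQ, codisjoint_iff.mpr ?_⟩⟩
  by_contra htop'
  -- some simple `S` is not contained in `P ⊔ Q`
  have hex : ∃ S ∈ 𝒮, ¬ S ≤ P ⊔ Q := by
    by_contra hcon
    push Not at hcon
    apply htop'
    rw [eq_top_iff, ← htop]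
    exact sSup_le hcon
  obtain ⟨S, hS, hSle⟩ := hex
  have hSs := hstab S hS
  have hPQs := stable_sup F hP hQs
  have hinf : S ⊓ (P ⊔ Q) = ⊥ := by
    rcases hsimple S hS (S ⊓ (P ⊔ Q)) inf_le_left (stable_inf F hSs hPQs) with h | h
    · exact h
    · exact absurd (inf_eq_left.mp h) hSle
  -- `Q ⊔ S` contradicts maximality
  have hQS : Q ⊔ S ∈ 𝒬 := by
    refine ⟨stable_sup F hQs hSs, ?_⟩
    rw [eq_bot_iff]
    rintro x ⟨hxP, hxQS⟩
    obtain ⟨q, hq, s, hs, rfl⟩ := Submodule.mem_sup.mp hxQS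
    have hs0 : s ∈ S ⊓ (P ⊔ Q) := by
      refine ⟨hs, ?_⟩
      have : s = (q + s) - q := by abel
      rw [this]
      exact Submodule.sub_mem _ (Submodule.mem_sup_left hxP) (Submodule.mem_sup_right hq)
    rw [hinf, Submodule.mem_bot] at hs0
    rw [hs0, add_zero] at hxP ⊢
    have : q ∈ P ⊓ Q := ⟨hxP, hq⟩
    rwa [hPQ] at this
  have hlt : Q < Q ⊔ S := by
    refine lt_of_le_of_ne le_sup_left fun heq => ?_
    apply hSle
    have : S ≤ Q := by rw [heq]; exact le_sup_right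
    exact this.trans le_sup_right
  exact hmax (Q ⊔ S) hQS hlt

end Groth.Agent.Helper25.StableCompl
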