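import Groth.Agent.Lib.Helper25.IsocDecomp
import Groth.Agent.Lib.Helper25.IsocStd
import Groth.Agent.Lib.Helper25.IsocUnitRoot
import Groth.Agent.Lib.Helper25.StableCompl

/-!
# Helper library for isocrystal statements (helper25): Dieudonné–Manin, semisimplicity
-/

set_option autoImplicit false
set_option linter.unusedSectionVars false

noncomputable section

open scoped Pointwise Isocrystal
open Filter Topology

universe u v w

namespace Groth.Agent.Helper25.IsocLib

variable {p : ℕ} [Fact p.Prime] {k : Type u} [Field k] [CharP k p] [PerfectRing k p]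
variable {τ : K(p, k) →+* K(p, k)}
variable {N : Type v} [AddCommGroup N] [Module (WittVector p k) N] [Module K(p, k) N]
  [IsScalarTower (WittVector p k) K(p, k) N]

/-! ### The map from a standard isocrystal defined by a vector -/

/-- `v ↦ ∑ v_j F^j x` -/
def stdMap (F : N →ₛₗ[τ] N) (x : N) (h : ℕ) : (Fin h → K(p, k)) →ₗ[K(p, k)] N :=
  Fintype.linearCombination K(p, k) (fun j : Fin h => (⇑F)^[j] x)

theorem stdMap_apply (F : N →ₛₗ[τ] N) (x : N) (h : ℕ) (v : Fin h → K(p, k)) :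
    stdMap F x h v = ∑ j, v j • (⇑F)^[j] x :=
  Fintype.linearCombination_apply _ _ _

theorem stdMap_single_zero (F : N →ₛₗ[τ] N) (x : N) (n : ℕ) :
    stdMap F x (n + 1) (Pi.single 0 1) = x := by
  classical
  rw [stdMap, Fintype.linearCombination_apply_single, one_smul]
  rfl

theorem stdMap_equivariant (F : N →ₛₗ[τ] N) (x : N) (n : ℕ) (d : ℤ)
    (hx : (⇑F)^[n + 1] x = (((p : ℕ) : K(p, k)) ^ d) • x) (v : Fin (n + 1) → K(p, k)) :
    stdMap F x (n + 1) (Isoc.stdIsoc τ d (n + 1) v) = F (stdMap F x (n + 1) v) := by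
  rw [stdMap_apply, stdMap_apply, map_sum,
    ← Equiv.sum_comp (finRotate (n + 1))
      (fun i => Isoc.stdIsoc τ d (n + 1) v i • (⇑F)^[(i : ℕ)] x)]
  refine Finset.sum_congr rfl fun j _ => ?_
  rw [Isoc.stdIsoc_apply, Equiv.symm_apply_apply, map_smulₛₗ,
    show F ((⇑F)^[(j : ℕ)] x) = (⇑F)^[(j : ℕ) + 1] x from
      (Function.iterate_succ_apply' F j x).symm]
  by_cases hj : j = Fin.last n
  · subst hj
    rw [finRotate_last]
    simp only [Fin.val_zero, if_true, Function.iterate_zero, id_eq, Fin.val_last]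
    rw [hx, smul_smul, mul_comm]
  · rw [coe_finRotate_of_ne_last hj, if_neg (Nat.succ_ne_zero _), one_mul]

theorem stdMap_injective (c : Compat τ) (F : N →ₛₗ[τ] N) (x : N) (hx0 : x ≠ 0) (n : ℕ) (d : ℤ)
    (hdh : Int.gcd d ((n + 1 : ℕ) : ℤ) = 1)
    (hx : (⇑F)^[n + 1] x = (((p : ℕ) : K(p, k)) ^ d) • x) :
    Function.Injective (stdMap F x (n + 1)) := by
  rw [← LinearMap.ker_eq_bot]
  have hstab : ∀ v ∈ LinearMap.ker (stdMap F x (n + 1)),
      Isoc.stdIsoc τ d (n + 1) v ∈ LinearMap.ker (stdMap F x (n + 1)) := by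
    intro v hv
    rw [LinearMap.mem_ker] at hv ⊢
    rw [stdMap_equivariant F x n d hx, hv, map_zero]
  rcases stdIsoc_simple c d (n + 1) (Nat.succ_pos n) hdh _ hstab with h | h
  · exact h
  · exfalso
    apply hx0
    have : (Pi.single 0 1 : Fin (n + 1) → K(p, k)) ∈ LinearMap.ker (stdMap F x (n + 1)) := by
      rw [h]; trivial
    rw [LinearMap.mem_ker, stdMap_single_zero] at this
    exact this

/-! ### Sub-isocrystals isomorphic to standard ones -/

/-- The ranges of the injective equivariant maps from standard isocrystals. -/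
def stdRanges (F : N →ₛₗ[τ] N) : Set (Submodule K(p, k) N) :=
  {S | ∃ (d : ℤ) (h : ℕ) (f : (Fin h → K(p, k)) →ₗ[K(p, k)] N), 0 < h ∧ Int.gcd d (h : ℤ) = 1 ∧
    Function.Injective f ∧ (∀ v, f (Isoc.stdIsoc τ d h v) = F (f v)) ∧ S = LinearMap.range f}

theorem stdRanges_stable (F : N →ₛₗ[τ] N) {S : Submodule K(p, k) N} (hS : S ∈ stdRanges F) :
    ∀ x ∈ S, F x ∈ S := by
  obtain ⟨d, h, f, -, -, -, hf, rfl⟩ := hS
  rintro _ ⟨v, rfl⟩
  exact ⟨_, hf v⟩

theorem stdRanges_simple (c : Compat τ) (F : N →ₛₗ[τ] N) {S : Submodule K(p, k) N}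
    (hS : S ∈ stdRanges F) (T : Submodule K(p, k) N) (hTS : T ≤ S) (hT : ∀ x ∈ T, F x ∈ T) :
    T = ⊥ ∨ T = S := by
  obtain ⟨d, h, f, hh, hdh, hinj, hf, rfl⟩ := hS
  have hstab : ∀ v ∈ T.comap f, Isoc.stdIsoc τ d h v ∈ T.comap f := by
    intro v hv
    rw [Submodule.mem_comap] at hv ⊢
    rw [hf]
    exact hT _ hv
  have hT' : (T.comap f).map f = T := by
    rw [Submodule.map_comap_eq, inf_eq_right.mpr hTS]
  rcases stdIsoc_simple c d h hh hdh _ hstab with h0 | h0
  · left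
    rw [← hT', h0, Submodule.map_bot]
  · right
    rw [← hT', h0, Submodule.map_top]

theorem latImg_finset_sup {ι : Type*} (c : Compat τ) (F : N →ₛₗ[τ] N) (s : ℕ) (T : Finset ι)
    (f : ι → Submodule (WittVector p k) N) :
    Isoc.latImg F s (T.sup f) = T.sup (fun i => Isoc.latImg F s (f i)) := by
  classical
  induction T using Finset.induction_on with
  | empty => rw [Finset.sup_empty, Finset.sup_empty, latImg_bot c]
  | insert i T hi ih => rw [Finset.sup_insert, Finset.sup_insert, latImg_sup c, ih]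

section AlgClosed

variable [IsAlgClosed k] {a : ℤ}

/-- a fixed vector of `p^{-d} F^h` lies in the sup of the standard sub-isocrystals -/
theorem mem_sSup_stdRanges_of_fixed (F : N →ₛₗ[Isoc.frob p k a] N) (d : ℤ) (n : ℕ)
    (hdh : Int.gcd d ((n + 1 : ℕ) : ℤ) = 1) {x : N}
    (hx : ((((p : ℕ) : K(p, k)) ^ (-d)) • Isoc.iter F (n + 1)) x = x) :
    x ∈ sSup (stdRanges F) := by
  by_cases hx0 : x = 0
  · rw [hx0]; exact zero_mem _
  rw [LinearMap.smul_apply, Isoc.iter_apply] at hx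
  have hx' : (⇑F)^[n + 1] x = (((p : ℕ) : K(p, k)) ^ d) • x := by
    calc (⇑F)^[n + 1] x
        = (((p : ℕ) : K(p, k)) ^ d) • ((((p : ℕ) : K(p, k)) ^ (-d)) • (⇑F)^[n + 1] x) := by
          rw [smul_smul, ← zpow_add₀ pL_ne_zero, add_neg_cancel, zpow_zero, one_smul]
      _ = (((p : ℕ) : K(p, k)) ^ d) • x := by rw [hx]
  have hmem : x ∈ LinearMap.range (stdMap F x (n + 1)) :=
    ⟨Pi.single 0 1, stdMap_single_zero F x n⟩
  have hS : LinearMap.range (stdMap F x (n + 1)) ∈ stdRanges F :=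
    ⟨d, n + 1, stdMap F x (n + 1), Nat.succ_pos n, hdh,
      stdMap_injective (compatFrob a) F x hx0 n d hdh hx', stdMap_equivariant F x n d hx', rfl⟩
  exact (le_sSup hS) hmem

theorem le_sSup_stdRanges_of_isIsoclinicOn (ha : a ≠ 0) (F : N →ₛₗ[Isoc.frob p k a] N)
    (hF : Function.Bijective F) {P : Submodule K(p, k) N} {μ : ℚ} (h : IsIsoclinicOn F P μ) :
    P ≤ sSup (stdRanges F) := by
  obtain ⟨M, hfg, hsp, r, s, hs, hμ, he⟩ := h
  obtain ⟨n, hn⟩ : ∃ n, μ.den = n + 1 := ⟨μ.den - 1, by have := μ.den_pos; omega⟩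
  have hdh : Int.gcd μ.num ((n + 1 : ℕ) : ℤ) = 1 := by
    rw [← hn]
    exact μ.reduced
  have hrel : r * ((n + 1 : ℕ) : ℤ) = μ.num * s := by
    have h1 : (r : ℚ) / s = (μ.num : ℚ) / ((n + 1 : ℕ) : ℚ) := by
      rw [hμ, ← hn]; exact (Rat.num_div_den μ).symm
    have hs' : (s : ℚ) ≠ 0 := by exact_mod_cast hs.ne'
    have hn' : (((n + 1 : ℕ)) : ℚ) ≠ 0 := by exact_mod_cast Nat.succ_ne_zero n
    rw [div_eq_div_iff hs' hn'] at h1
    exact_mod_cast h1
  have hdvd : ((n + 1 : ℕ) : ℤ) ∣ (s : ℤ) := by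
    have hcop : IsCoprime ((n + 1 : ℕ) : ℤ) μ.num := by
      rw [Int.isCoprime_iff_gcd_eq_one, Int.gcd_comm]; exact hdh
    exact hcop.dvd_of_dvd_mul_left ⟨r, by rw [← hrel]; ring⟩
  obtain ⟨t, ht⟩ := Int.natCast_dvd_natCast.mp hdvd
  subst ht
  have hrt : r = μ.num * t := by
    have h1 : r * ((n + 1 : ℕ) : ℤ) = (μ.num * t) * ((n + 1 : ℕ) : ℤ) := by
      rw [hrel]; push_cast; ring
    exact mul_right_cancel₀ (by exact_mod_cast Nat.succ_ne_zero n) h1
  have ht0 : 0 < t := by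
    rcases Nat.eq_zero_or_pos t with h0 | h0
    · subst h0; simp at hs
    · exact h0
  have hGt : Isoc.latImg ((((p : ℕ) : K(p, k)) ^ (-μ.num)) • Isoc.iter F (n + 1)) t M = M := by
    rw [latImg_zpow_smul_iter (compatFrob a) F (-μ.num) (n + 1) t M, he, hrt, ← pPow_add]
    convert pPow_zero M using 2
    ring
  have hGb := bijective_zpow_smul_iter F hF (-μ.num) (n + 1)
  have hM'fg : ((Finset.range t).sup (fun i =>
      Isoc.latImg ((((p : ℕ) : K(p, k)) ^ (-μ.num)) • Isoc.iter F (n + 1)) i M)).FG :=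
    Submodule.fg_finset_sup _ _ fun i _ => latImg_fg ((compatFrob a).pow (n + 1)) _ i hfg
  have hMle : M ≤ (Finset.range t).sup (fun i =>
      Isoc.latImg ((((p : ℕ) : K(p, k)) ^ (-μ.num)) • Isoc.iter F (n + 1)) i M) := by
    have := Finset.le_sup (f := fun i =>
      Isoc.latImg ((((p : ℕ) : K(p, k)) ^ (-μ.num)) • Isoc.iter F (n + 1)) i M)
      (Finset.mem_range.mpr ht0)
    rwa [latImg_zero] at this
  have hGM' : Isoc.latImg ((((p : ℕ) : K(p, k)) ^ (-μ.num)) • Isoc.iter F (n + 1)) 1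
      ((Finset.range t).sup (fun i =>
        Isoc.latImg ((((p : ℕ) : K(p, k)) ^ (-μ.num)) • Isoc.iter F (n + 1)) i M)) =
      (Finset.range t).sup (fun i =>
        Isoc.latImg ((((p : ℕ) : K(p, k)) ^ (-μ.num)) • Isoc.iter F (n + 1)) i M) := by
    have h1 : Isoc.latImg ((((p : ℕ) : K(p, k)) ^ (-μ.num)) • Isoc.iter F (n + 1)) 1
        ((Finset.range t).sup (fun i =>
          Isoc.latImg ((((p : ℕ) : K(p, k)) ^ (-μ.num)) • Isoc.iter F (n + 1)) i M)) =
        (Finset.range t).sup (fun i =>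
          Isoc.latImg ((((p : ℕ) : K(p, k)) ^ (-μ.num)) • Isoc.iter F (n + 1)) (i + 1) M) := by
      rw [latImg_finset_sup ((compatFrob a).pow (n + 1))]
      refine Finset.sup_congr rfl fun i _ => ?_
      rw [← latImg_add ((compatFrob a).pow (n + 1)), Nat.add_comm 1 i]
    rw [h1]
    apply le_antisymm
    · refine Finset.sup_le fun i hi => ?_
      rcases Nat.lt_or_ge (i + 1) t with hlt | hge
      · exact Finset.le_sup (f := fun i =>
          Isoc.latImg ((((p : ℕ) : K(p, k)) ^ (-μ.num)) • Isoc.iter F (n + 1)) i M)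
          (Finset.mem_range.mpr hlt)
      · have hit : i + 1 = t := by have := Finset.mem_range.mp hi; omega
        rw [hit, hGt]
        exact hMle
    · refine Finset.sup_le fun i hi => ?_
      have hle : Isoc.latImg ((((p : ℕ) : K(p, k)) ^ (-μ.num)) • Isoc.iter F (n + 1))
          ((if i = 0 then t - 1 else i - 1) + 1) M ≤ (Finset.range t).sup (fun i =>
          Isoc.latImg ((((p : ℕ) : K(p, k)) ^ (-μ.num)) • Isoc.iter F (n + 1)) (i + 1) M) :=
        Finset.le_sup (f := fun i =>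
          Isoc.latImg ((((p : ℕ) : K(p, k)) ^ (-μ.num)) • Isoc.iter F (n + 1)) (i + 1) M)
          (Finset.mem_range.mpr (by have := Finset.mem_range.mp hi; split_ifs <;> omega))
      rcases Nat.eq_zero_or_pos i with h0 | hpos
      · subst h0
        rw [if_pos rfl, show t - 1 + 1 = t by omega, hGt] at hle
        rwa [latImg_zero]
      · rw [if_neg (by omega), show i - 1 + 1 = i by omega] at hle
        exact hle
  have hσ : ((compatFrob (p := p) (k := k) a).pow (n + 1)).σ =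
      WittVector.frobeniusEquiv p k ^ (a * ((n + 1 : ℕ) : ℤ)) := by
    show (WittVector.frobeniusEquiv p k ^ a) ^ (n + 1) = _
    rw [zpow_mul, zpow_natCast]
  have hb : a * ((n + 1 : ℕ) : ℤ) ≠ 0 :=
    mul_ne_zero ha (by exact_mod_cast Nat.succ_ne_zero n)
  have hU := span_fixed_eq_of_latImg_eq ((compatFrob (p := p) (k := k) a).pow (n + 1)) hb hσ
    ((((p : ℕ) : K(p, k)) ^ (-μ.num)) • Isoc.iter F (n + 1)) hGb.1 hM'fg hGM'
  have hM'le : (Finset.range t).sup (fun i =>
      Isoc.latImg ((((p : ℕ) : K(p, k)) ^ (-μ.num)) • Isoc.iter F (n + 1)) i M) ≤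
      (sSup (stdRanges F)).restrictScalars (WittVector p k) := by
    rw [← hU]
    refine Submodule.span_le.mpr ?_
    rintro x ⟨-, hx⟩
    exact mem_sSup_stdRanges_of_fixed F μ.num n hdh hx
  rw [← hsp]
  exact Submodule.span_le.mpr fun x hx => hM'le (hMle hx)

theorem sSup_stdRanges_eq_top (ha : a ≠ 0) (F : N →ₛₗ[Isoc.frob p k a] N)
    (hF : Function.Bijective F) [Module.Finite K(p, k) N] : sSup (stdRanges F) = ⊤ := by
  rw [eq_top_iff, ← iSup_slopePart_eq_top (compatFrob a) F hF]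
  exact iSup_le fun μ => le_sSup_stdRanges_of_isIsoclinicOn ha F hF
    (slopePart_isIsoclinicOn (compatFrob a) F μ)

/-- Semisimplicity of isocrystals over an algebraically closed field. -/
theorem exists_stable_isCompl (ha : a ≠ 0) (F : N →ₛₗ[Isoc.frob p k a] N)
    (hF : Function.Bijective F) [Module.Finite K(p, k) N] (P : Submodule K(p, k) N)
    (hP : ∀ x ∈ P, F x ∈ P) :
    ∃ Q : Submodule K(p, k) N, (∀ x ∈ Q, F x ∈ Q) ∧ IsCompl P Q :=
  StableCompl.exists_stable_isCompl F (stdRanges F) (fun _ hS => stdRanges_stable F hS)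
    (fun _ hS => stdRanges_simple (compatFrob a) F hS) (sSup_stdRanges_eq_top ha F hF) P hP

end AlgClosed

end Groth.Agent.Helper25.IsocLib

end
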