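import Groth.Agent.Lib.Helper25.IsocFitting
import Mathlib.Algebra.DirectSum.Module

/-!
# Helper library for isocrystal statements (helper25): the slope decomposition
-/

set_option autoImplicit false
set_option linter.unusedSectionVars false

noncomputable section

open scoped Pointwise Isocrystal
open Filter Topology

universe u v w

namespace Groth.Agent.Helper25.IsocLib

variable {p : ℕ} [Fact p.Prime] {k : Type u} [Field k] [CharP k p] [PerfectRing k p]
variable {τ τ' : K(p, k) →+* K(p, k)}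
variable {N : Type v} [AddCommGroup N] [Module (WittVector p k) N] [Module K(p, k) N]
  [IsScalarTower (WittVector p k) K(p, k) N]

theorem exists_isLattice [Module.Finite K(p, k) N] :
    ∃ M : Submodule (WittVector p k) N, M.IsLattice K(p, k) := by
  let b := Module.finBasis K(p, k) N
  refine ⟨Submodule.span (WittVector p k) (Set.range b),
    ⟨Submodule.fg_span (Set.finite_range b), ?_⟩⟩
  rw [Submodule.span_span_of_tower, b.span_eq]

/-- `F` commutes with `p^m F^s`. -/
theorem map_zpow_smul_iter_comm (F : N →ₛₗ[τ] N) (m : ℤ) (s : ℕ) (x : N) :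
    F (((((p : ℕ) : K(p, k)) ^ m) • Isoc.iter F s) x) =
      ((((p : ℕ) : K(p, k)) ^ m) • Isoc.iter F s) (F x) := by
  rw [LinearMap.smul_apply, LinearMap.smul_apply, map_smulₛₗ, map_zpow_p, Isoc.iter_apply,
    Isoc.iter_apply]
  congr 1
  exact (Function.iterate_succ_apply' F s x).symm.trans (Function.iterate_succ_apply F s x)

theorem iterate_comm' (F : N →ₛₗ[τ] N) (G : N →ₛₗ[τ'] N) (hcomm : ∀ x, F (G x) = G (F x))
    (j : ℕ) (x : N) : F ((⇑G)^[j] x) = (⇑G)^[j] (F x) := by
  induction j generalizing x with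
  | zero => rfl
  | succ j ih => rw [Function.iterate_succ_apply, ih, hcomm, ← Function.iterate_succ_apply]

theorem stable_span (F : N →ₛₗ[τ] N) {M₀ : Submodule (WittVector p k) N}
    (h : ∀ x ∈ M₀, F x ∈ Submodule.span K(p, k) (M₀ : Set N)) :
    ∀ x ∈ Submodule.span K(p, k) (M₀ : Set N), F x ∈ Submodule.span K(p, k) (M₀ : Set N) := by
  intro x hx
  induction hx using Submodule.span_induction with
  | mem y hy => exact h y hy
  | zero => rw [map_zero]; exact zero_mem _
  | add a b _ _ ha hb => rw [map_add]; exact add_mem ha hb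
  | smul l a _ ha => rw [map_smulₛₗ]; exact Submodule.smul_mem _ _ ha

theorem smul_map_mem_of_mem (F : N →ₛₗ[τ] N) {M : Submodule (WittVector p k) N} {e : ℕ}
    (he : Isoc.latImg F 1 M ≤ Isoc.pPow (-(e : ℤ)) M) {y : N} (hy : y ∈ M) :
    (((p : ℕ) : K(p, k)) ^ (e : ℤ)) • F y ∈ M := by
  have h1 : F y ∈ Isoc.pPow (-(e : ℤ)) M := he (by simpa using iterate_mem_latImg F 1 hy)
  rw [mem_pPow_iff, neg_neg] at h1
  exact h1

section Decomp

variable (c' : Compat τ') (F : N →ₛₗ[τ] N) (G : N →ₛₗ[τ'] N)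
  {M : Submodule (WittVector p k) N}

/-- The intersection of the images `G^j M`. -/
def imgLat (M : Submodule (WittVector p k) N) : Submodule (WittVector p k) N :=
  ⨅ j : ℕ, Isoc.latImg G j M

/-- The topologically nilpotent part of `M`. -/
def nilLat (M : Submodule (WittVector p k) N) (h : ℕ) : Submodule (WittVector p k) N :=
  ⨅ cc : ℕ, kerLat c' G M cc (cc * h)

theorem mem_imgLat {x : N} : x ∈ imgLat G M ↔ ∀ j, x ∈ Isoc.latImg G j M :=
  Submodule.mem_iInf _

theorem mem_nilLat {h : ℕ} {x : N} :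
    x ∈ nilLat c' G M h ↔ x ∈ M ∧ ∀ cc : ℕ, (⇑G)^[cc * h] x ∈ Isoc.pPow (cc : ℤ) M := by
  rw [nilLat, Submodule.mem_iInf]
  constructor
  · intro hx
    exact ⟨((mem_kerLat c' G).mp (hx 0)).1, fun cc => ((mem_kerLat c' G).mp (hx cc)).2⟩
  · rintro ⟨h1, h2⟩ cc
    exact (mem_kerLat c' G).mpr ⟨h1, h2 cc⟩

theorem imgLat_le : imgLat G M ≤ M := fun x hx => by
  simpa [latImg_zero] using (mem_imgLat G).mp hx 0

theorem nilLat_le (h : ℕ) : nilLat c' G M h ≤ M := fun x hx => ((mem_nilLat c' G).mp hx).1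

theorem le_imgLat_sup_nilLat [Module.Finite K(p, k) N] {h : ℕ}
    (hh : Module.finrank K(p, k) N = h) (hpos : 0 < h) (hM : M.IsLattice K(p, k))
    (hGs : Function.Surjective G) (hG : Isoc.latImg G 1 M ≤ M) :
    M ≤ imgLat G M ⊔ nilLat c' G M h := by
  intro x hx
  obtain ⟨b, z, hxbz, hb, hz, hz'⟩ := exists_fitting_decomp c' G hh hpos hM hGs hG hx
  rw [hxbz]
  exact Submodule.add_mem_sup ((mem_imgLat G).mpr hb) ((mem_nilLat c' G).mpr ⟨hz, hz'⟩)

include c' in
theorem latImg_one_imgLat (hGb : Function.Bijective G) (hG : Isoc.latImg G 1 M ≤ M) :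
    Isoc.latImg G 1 (imgLat G M) = imgLat G M := by
  apply le_antisymm
  · intro x hx
    obtain ⟨y, hy, rfl⟩ := (mem_latImg c' G 1 _).mp hx
    rw [mem_imgLat] at hy ⊢
    intro j
    obtain ⟨z, hz, rfl⟩ := (mem_latImg c' G j M).mp (hy j)
    rw [← Function.iterate_add_apply]
    exact latImg_anti_of_le c' G hG (Nat.le_add_left j 1) (iterate_mem_latImg G (1 + j) hz)
  · intro x hx
    obtain ⟨y, rfl⟩ := hGb.2 x
    have hy : y ∈ imgLat G M := by
      rw [mem_imgLat] at hx ⊢
      intro j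
      obtain ⟨z, hz, hzx⟩ := (mem_latImg c' G (j + 1) M).mp (hx (j + 1))
      rw [Function.iterate_succ_apply'] at hzx
      rw [← hGb.1 hzx]
      exact iterate_mem_latImg G j hz
    simpa using iterate_mem_latImg G 1 hy

include c' in
theorem imgLat_stable (hcomm : ∀ x, F (G x) = G (F x)) {e : ℕ}
    (he : Isoc.latImg F 1 M ≤ Isoc.pPow (-(e : ℤ)) M) :
    ∀ x ∈ Submodule.span K(p, k) (imgLat G M : Set N),
      F x ∈ Submodule.span K(p, k) (imgLat G M : Set N) := by
  apply stable_span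
  intro x hx
  apply mem_span_of_natPow_smul_mem (c := (e : ℤ))
  rw [mem_imgLat] at hx ⊢
  intro j
  obtain ⟨y, hy, rfl⟩ := (mem_latImg c' G j M).mp (hx j)
  rw [iterate_comm' F G hcomm, ← iterate_zpow_smul]
  exact iterate_mem_latImg G j (smul_map_mem_of_mem F he hy)

theorem nilLat_stable (hcomm : ∀ x, F (G x) = G (F x)) {e : ℕ}
    (he : Isoc.latImg F 1 M ≤ Isoc.pPow (-(e : ℤ)) M) (h : ℕ) :
    ∀ x ∈ Submodule.span K(p, k) (nilLat c' G M h : Set N),
      F x ∈ Submodule.span K(p, k) (nilLat c' G M h : Set N) := by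
  apply stable_span
  intro x hx
  apply mem_span_of_natPow_smul_mem (c := (e : ℤ))
  rw [mem_nilLat] at hx ⊢
  refine ⟨smul_map_mem_of_mem F he hx.1, fun cc => ?_⟩
  obtain ⟨y, hy, hyx⟩ := mem_pPow.mp (hx.2 cc)
  rw [iterate_zpow_smul, ← iterate_comm' F G hcomm, ← hyx, map_smulₛₗ, map_zpow_p, smul_comm]
  exact smul_mem_pPow (smul_map_mem_of_mem F he hy)

theorem span_nilLat_ne_top (hM : M.IsLattice K(p, k)) (h : ℕ)
    (hord : ∀ n, ¬ Isoc.latImg G n M ≤ Isoc.pPow 1 M) :
    Submodule.span K(p, k) (nilLat c' G M h : Set N) ≠ ⊤ := by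
  intro htop
  obtain ⟨m, hm⟩ := exists_le_pPow_neg htop hM.fg
  apply hord ((m + 1) * h)
  have hle : Isoc.latImg G ((m + 1) * h) (nilLat c' G M h) ≤ Isoc.pPow ((m + 1 : ℕ) : ℤ) M := by
    intro x hx
    obtain ⟨y, hy, rfl⟩ := (mem_latImg c' G _ _).mp hx
    exact ((mem_nilLat c' G).mp hy).2 (m + 1)
  calc Isoc.latImg G ((m + 1) * h) M
      ≤ Isoc.latImg G ((m + 1) * h) (Isoc.pPow (-(m : ℤ)) (nilLat c' G M h)) :=
        latImg_mono G _ hm
    _ = Isoc.pPow (-(m : ℤ)) (Isoc.latImg G ((m + 1) * h) (nilLat c' G M h)) :=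
        latImg_pPow c' G _ _ _
    _ ≤ Isoc.pPow (-(m : ℤ)) (Isoc.pPow ((m + 1 : ℕ) : ℤ) M) := pPow_mono hle
    _ = Isoc.pPow 1 M := by
        rw [← pPow_add]; congr 1; push_cast; ring

end Decomp

theorem isIsoclinicOn_span_imgLat (c : Compat τ) (F : N →ₛₗ[τ] N) (hFb : Function.Bijective F)
    (r : ℤ) {s : ℕ} (hs : 0 < s) {M : Submodule (WittVector p k) N} (hM : M.IsLattice K(p, k))
    (hG : Isoc.latImg ((((p : ℕ) : K(p, k)) ^ (-r)) • Isoc.iter F s) 1 M ≤ M) :
    IsIsoclinicOn F (Submodule.span K(p, k)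
      (imgLat ((((p : ℕ) : K(p, k)) ^ (-r)) • Isoc.iter F s) M : Set N)) ((r : ℚ) / s) := by
  have h1 := latImg_one_imgLat (c.pow s) ((((p : ℕ) : K(p, k)) ^ (-r)) • Isoc.iter F s)
    (bijective_zpow_smul_iter F hFb (-r) s) hG
  refine ⟨imgLat ((((p : ℕ) : K(p, k)) ^ (-r)) • Isoc.iter F s) M,
    Submodule.FG.of_le hM.fg (imgLat_le _), rfl, r, s, hs, rfl, ?_⟩
  have h2 := latImg_zpow_smul_iter c F (-r) s 1
    (imgLat ((((p : ℕ) : K(p, k)) ^ (-r)) • Isoc.iter F s) M)
  rw [h1] at h2
  conv_rhs => rw [h2]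
  rw [← pPow_add]
  simp

/-- The slope parts span: by induction on the dimension. -/
theorem iSup_slopePart_eq_top_aux (c : Compat τ) : ∀ (n : ℕ) (N : Type v) [AddCommGroup N]
    [Module (WittVector p k) N] [Module K(p, k) N] [IsScalarTower (WittVector p k) K(p, k) N]
    [Module.Finite K(p, k) N] (F : N →ₛₗ[τ] N), Function.Bijective F →
    Module.finrank K(p, k) N = n → ⨆ μ : ℚ, Isoc.slopePart F μ = ⊤ := by
  intro n
  induction n using Nat.strong_induction_on with
  | _ n ih =>
    intro N _ _ _ _ _ F hF hn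
    rcases Nat.eq_zero_or_pos n with h0 | hpos
    · subst h0
      have : Subsingleton N := Module.finrank_zero_iff.mp hn
      exact Subsingleton.elim _ _
    · have hnt : Nontrivial N := Module.finrank_pos_iff.mp (hn ▸ hpos)
      obtain ⟨M₁, hM₁⟩ := exists_isLattice (p := p) (k := k) (N := N)
      obtain ⟨o, lam, -, -, hlam⟩ :=
        exists_isFirstSlope c F hF hM₁ (ne_bot_of_span_eq_top hM₁.span_eq_top)
      obtain ⟨r, s, M, hs, -, -, hM, hord⟩ := exists_rat_slope_strong c F hF hn hlam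
      have hGb := bijective_zpow_smul_iter F hF (-r) s
      have hG : Isoc.latImg ((((p : ℕ) : K(p, k)) ^ (-r)) • Isoc.iter F s) 1 M ≤ M := by
        have := (hord 1).1
        rwa [pPow_zero] at this
      have hord' : ∀ n, ¬ Isoc.latImg ((((p : ℕ) : K(p, k)) ^ (-r)) • Isoc.iter F s) n M ≤
          Isoc.pPow 1 M := fun n => by simpa using (hord n).2
      have hcomm := map_zpow_smul_iter_comm F (-r) s
      obtain ⟨e, he⟩ := exists_le_pPow_neg hM.span_eq_top (latImg_fg c F 1 hM.fg)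
      have hBs := imgLat_stable (c.pow s) F _ hcomm he
      have hCs := nilLat_stable (c.pow s) F _ hcomm he n
      have hBiso := isIsoclinicOn_span_imgLat c F hF r hs hM hG
      have hCtop := span_nilLat_ne_top (c.pow s) _ hM n hord'
      have hBC : Submodule.span K(p, k)
            (imgLat ((((p : ℕ) : K(p, k)) ^ (-r)) • Isoc.iter F s) M : Set N) ⊔
          Submodule.span K(p, k)
            (nilLat (c.pow s) ((((p : ℕ) : K(p, k)) ^ (-r)) • Isoc.iter F s) M n : Set N) = ⊤ := by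
        rw [← span_sup_eq, eq_top_iff, ← hM.span_eq_top]
        exact Submodule.span_mono (le_imgLat_sup_nilLat (c.pow s) _ hn hpos hM hGb.2 hG)
      have hBle := (le_slopePart c F hBs hBiso).trans
        (le_iSup (fun μ : ℚ => Isoc.slopePart F μ) _)
      set C := Submodule.span K(p, k)
            (nilLat (c.pow s) ((((p : ℕ) : K(p, k)) ^ (-r)) • Isoc.iter F s) M n : Set N) with hC
      have hCle : C ≤ ⨆ μ : ℚ, Isoc.slopePart F μ := by
        have hlt : Module.finrank K(p, k) C < n :=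
          hn ▸ Submodule.finrank_lt hCtop
        have hFCinj : Function.Injective (F.restrict hCs) := by
          intro a b hab
          apply Subtype.ext
          apply hF.1
          exact congrArg Subtype.val hab
        have hFCb : Function.Bijective (F.restrict hCs) :=
          ⟨hFCinj, semilinear_surjective_of_injective c.bijective _ hFCinj⟩
        have hIH := ih _ hlt C (F.restrict hCs) hFCb rfl
        calc C = (⊤ : Submodule K(p, k) C).map C.subtype := by
              rw [Submodule.map_top, Submodule.range_subtype]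
          _ = (⨆ μ : ℚ, Isoc.slopePart (F.restrict hCs) μ).map C.subtype := by rw [hIH]
          _ = ⨆ μ : ℚ, (Isoc.slopePart (F.restrict hCs) μ).map C.subtype := Submodule.map_iSup _ _
          _ ≤ ⨆ μ : ℚ, Isoc.slopePart F μ := iSup_mono fun μ => ?_
        apply le_slopePart c F
        · rintro _ ⟨x, hx, rfl⟩
          exact ⟨F.restrict hCs x, slopePart_stable _ μ x hx, rfl⟩
        · exact isIsoclinicOn_map c (F.restrict hCs) F C.subtype (fun x => rfl)
            (slopePart_isIsoclinicOn c (F.restrict hCs) μ)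
      rw [eq_top_iff, ← hBC]
      exact sup_le hBle hCle

theorem iSup_slopePart_eq_top (c : Compat τ) (F : N →ₛₗ[τ] N) (hF : Function.Bijective F)
    [Module.Finite K(p, k) N] : ⨆ μ : ℚ, Isoc.slopePart F μ = ⊤ :=
  iSup_slopePart_eq_top_aux c _ N F hF rfl

theorem isInternal_slopePart (c : Compat τ) (F : N →ₛₗ[τ] N) (hF : Function.Bijective F)
    [Module.Finite K(p, k) N] : DirectSum.IsInternal (fun μ : ℚ => Isoc.slopePart F μ) := by
  rw [DirectSum.isInternal_submodule_iff_iSupIndep_and_iSup_eq_top]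
  exact ⟨iSupIndep_slopePart c F hF.injective, iSup_slopePart_eq_top c F hF⟩

end Groth.Agent.Helper25.IsocLib

end
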