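import Groth.Agent.Lib.Helper25.IsocSlope

/-!
# Helper library for isocrystal statements (helper25): determinants of semilinear maps
-/

set_option autoImplicit false
set_option linter.unusedSectionVars false

noncomputable section

open scoped Pointwise Isocrystal
open Filter Topology

universe u v w

namespace Groth.Agent.Helper25.IsocLib

section General

variable {R : Type*} [CommRing R] {M : Type*} [AddCommGroup M] [Module R M] {τ : R →+* R}
variable {ι : Type*} [Fintype ι] [DecidableEq ι]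

theorem toMatrix_semilinear (b : Module.Basis ι R M) (F : M →ₛₗ[τ] M) (v : ι → M) :
    b.toMatrix (fun j => F (v j)) = b.toMatrix (fun j => F (b j)) * (b.toMatrix v).map τ := by
  ext i j
  rw [Matrix.mul_apply, Module.Basis.toMatrix_apply]
  conv_lhs => rw [← b.sum_repr (v j)]
  rw [map_sum, map_sum, Finsupp.finsetSum_apply]
  refine Finset.sum_congr rfl fun l _ => ?_
  rw [map_smulₛₗ, map_smul, Finsupp.smul_apply, smul_eq_mul, Matrix.map_apply,
    Module.Basis.toMatrix_apply, Module.Basis.toMatrix_apply, mul_comm]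

theorem det_semilinear (b : Module.Basis ι R M) (F : M →ₛₗ[τ] M) (v : ι → M) :
    b.det (fun j => F (v j)) = b.det (fun j => F (b j)) * τ (b.det v) := by
  rw [Module.Basis.det_apply, toMatrix_semilinear, Matrix.det_mul, Module.Basis.det_apply,
    Module.Basis.det_apply, RingHom.map_det, RingHom.mapMatrix_apply]

end General

variable {p : ℕ} [Fact p.Prime] {k : Type u} [Field k] [CharP k p] [PerfectRing k p]

/-! ### The order relation `IsOrdP` -/

theorem isOrdP_mul {c c' : K(p, k)} {r r' : ℤ} (h : Isoc.IsOrdP c r) (h' : Isoc.IsOrdP c' r') :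
    Isoc.IsOrdP (c * c') (r + r') := by
  obtain ⟨u, rfl⟩ := h
  obtain ⟨u', rfl⟩ := h'
  refine ⟨u * u', ?_⟩
  rw [zpow_add₀ pL_ne_zero, Units.val_mul, map_mul]
  ring

theorem isOrdP_inv {c : K(p, k)} {r : ℤ} (h : Isoc.IsOrdP c r) : Isoc.IsOrdP c⁻¹ (-r) := by
  obtain ⟨u, rfl⟩ := h
  refine ⟨u⁻¹, ?_⟩
  have h1 : algebraMap (WittVector p k) K(p, k) (u : WittVector p k) *
      algebraMap (WittVector p k) K(p, k) ((u⁻¹ : (WittVector p k)ˣ) : WittVector p k) = 1 := by
    rw [← map_mul, Units.mul_inv, map_one]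
  rw [mul_inv, zpow_neg, inv_eq_of_mul_eq_one_right h1]

theorem isOrdP_map {τ : K(p, k) →+* K(p, k)} (cτ : Compat τ) {c : K(p, k)} {r : ℤ}
    (h : Isoc.IsOrdP c r) : Isoc.IsOrdP (τ c) r := by
  obtain ⟨u, rfl⟩ := h
  refine ⟨Units.mapEquiv cτ.σ.toMulEquiv u, ?_⟩
  rw [map_mul, map_zpow_p, cτ.map_alg]
  rfl

theorem isOrdP_zpow (r : ℤ) : Isoc.IsOrdP (((p : ℕ) : K(p, k)) ^ r) r :=
  ⟨1, by simp⟩

theorem isOrdP_one : Isoc.IsOrdP (1 : K(p, k)) 0 :=
  ⟨1, by simp⟩

theorem isOrdP_algebraMap {a : WittVector p k} (ha : a ≠ 0) :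
    ∃ m : ℕ, Isoc.IsOrdP (algebraMap (WittVector p k) K(p, k) a) m := by
  obtain ⟨m, u, hu⟩ := WittVector.exists_eq_pow_p_mul' a ha
  refine ⟨m, u, ?_⟩
  rw [hu, map_mul, map_pow, map_natCast, zpow_natCast]

theorem exists_isOrdP {c : K(p, k)} (hc : c ≠ 0) : ∃ r, Isoc.IsOrdP c r := by
  obtain ⟨a, b, hb, rfl⟩ := IsFractionRing.div_surjective (A := WittVector p k) c
  have hb0 : b ≠ 0 := nonZeroDivisors.ne_zero hb
  have ha0 : a ≠ 0 := by
    rintro rfl
    simp at hc
  obtain ⟨m, hm⟩ := isOrdP_algebraMap ha0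
  obtain ⟨m', hm'⟩ := isOrdP_algebraMap hb0
  exact ⟨m + -m', by rw [div_eq_mul_inv]; exact isOrdP_mul hm (isOrdP_inv hm')⟩

theorem isOrdP_le_of_eq {c : K(p, k)} {r m : ℤ} (h : Isoc.IsOrdP c r) (w : WittVector p k)
    (hw : c = ((p : ℕ) : K(p, k)) ^ m * algebraMap (WittVector p k) K(p, k) w) : m ≤ r := by
  obtain ⟨u, rfl⟩ := h
  by_contra hlt
  push Not at hlt
  obtain ⟨n, hn⟩ : ∃ n : ℕ, m = r + ((n + 1 : ℕ) : ℤ) := ⟨(m - r - 1).toNat, by omega⟩
  rw [hn, zpow_add₀ pL_ne_zero, mul_assoc] at hw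
  have h2 := mul_left_cancel₀ (zpow_pL_ne_zero r) hw
  have h3 : (u : WittVector p k) = ((p : ℕ) : WittVector p k) ^ (n + 1) * w := by
    apply IsFractionRing.injective (WittVector p k) K(p, k)
    rw [h2, map_mul, map_pow, map_natCast, zpow_natCast]
  have : IsUnit ((p : ℕ) : WittVector p k) :=
    isUnit_of_dvd_unit ⟨((p : ℕ) : WittVector p k) ^ n * w, by rw [h3]; ring⟩ u.isUnit
  exact (WittVector.irreducible p).not_isUnit this

theorem isOrdP_unique {c : K(p, k)} {r r' : ℤ} (h : Isoc.IsOrdP c r) (h' : Isoc.IsOrdP c r') :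
    r = r' := by
  obtain ⟨u, hu⟩ := id h
  obtain ⟨u', hu'⟩ := id h'
  exact le_antisymm (isOrdP_le_of_eq h' u hu) (isOrdP_le_of_eq h u' hu')

theorem isOrdP_of_mul_eq_one {c : K(p, k)} {m : ℤ} (w w' : WittVector p k)
    (hw : c = ((p : ℕ) : K(p, k)) ^ m * algebraMap (WittVector p k) K(p, k) w)
    (hww : w * w' = 1) : Isoc.IsOrdP c m :=
  ⟨⟨w, w', hww, by rw [mul_comm]; exact hww⟩, hw⟩

/-! ### Bases of lattices -/

variable {N : Type v} [AddCommGroup N] [Module (WittVector p k) N] [Module K(p, k) N]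
  [IsScalarTower (WittVector p k) K(p, k) N]
variable {τ : K(p, k) →+* K(p, k)}

theorem exists_basis_span_eq {M : Submodule (WittVector p k) N} (hM : M.IsLattice K(p, k))
    {h : ℕ} (b : Module.Basis (Fin h) K(p, k) N) :
    ∃ e : Module.Basis (Fin h) K(p, k) N,
      Submodule.span (WittVector p k) (Set.range e) = M := by
  have := hM
  let e₀ := Module.finBasis (WittVector p k) M
  let e' := e₀.extendOfIsLattice K(p, k)
  have hn : Module.finrank (WittVector p k) M = h := by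
    have h1 := Module.finrank_eq_card_basis e'
    have h2 := Module.finrank_eq_card_basis b
    simp only [Fintype.card_fin] at h1 h2
    omega
  refine ⟨e'.reindex (finCongr hn), ?_⟩
  rw [Module.Basis.range_reindex]
  have hr : Set.range e' = M.subtype '' (Set.range e₀) := by
    ext x
    simp only [Set.mem_range, Set.mem_image, exists_exists_eq_and]
    constructor
    · rintro ⟨i, rfl⟩
      exact ⟨i, by simp [e']⟩
    · rintro ⟨i, rfl⟩
      exact ⟨i, by simp [e']⟩
  rw [hr, ← Submodule.map_span, e₀.span_eq, Submodule.map_top, Submodule.range_subtype]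

theorem mem_iff_repr {h : ℕ} (e : Module.Basis (Fin h) K(p, k) N)
    {M : Submodule (WittVector p k) N}
    (he : Submodule.span (WittVector p k) (Set.range e) = M) (x : N) :
    x ∈ M ↔ ∀ i, e.repr x i ∈ Set.range (algebraMap (WittVector p k) K(p, k)) := by
  rw [← he]
  exact e.mem_span_iff_repr_mem (WittVector p k) x

theorem mem_pPow_iff_repr {h : ℕ} (e : Module.Basis (Fin h) K(p, k) N)
    {M : Submodule (WittVector p k) N}
    (he : Submodule.span (WittVector p k) (Set.range e) = M) (r : ℤ) (x : N) :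
    x ∈ Isoc.pPow r M ↔ ∀ i, ∃ w : WittVector p k,
      e.repr x i = ((p : ℕ) : K(p, k)) ^ r * algebraMap (WittVector p k) K(p, k) w := by
  rw [mem_pPow_iff, mem_iff_repr e he]
  simp only [map_smul, Finsupp.smul_apply, smul_eq_mul, Set.mem_range]
  refine forall_congr' fun i => ⟨?_, ?_⟩
  · rintro ⟨w, hw⟩
    exact ⟨w, by rw [hw, ← mul_assoc, ← zpow_add₀ pL_ne_zero, add_neg_cancel, zpow_zero, one_mul]⟩
  · rintro ⟨w, hw⟩
    exact ⟨w, by rw [hw, ← mul_assoc, ← zpow_add₀ pL_ne_zero, neg_add_cancel, zpow_zero, one_mul]⟩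

theorem basis_mem {h : ℕ} (e : Module.Basis (Fin h) K(p, k) N)
    {M : Submodule (WittVector p k) N}
    (he : Submodule.span (WittVector p k) (Set.range e) = M) (j : Fin h) : e j ∈ M := by
  rw [← he]; exact Submodule.subset_span ⟨j, rfl⟩

theorem det_eq_of_entries {h : ℕ} (A : Matrix (Fin h) (Fin h) K(p, k)) (r : ℤ)
    (hA : ∀ i j, ∃ w : WittVector p k,
      A i j = ((p : ℕ) : K(p, k)) ^ r * algebraMap (WittVector p k) K(p, k) w) :
    ∃ w : WittVector p k,
      A.det = ((p : ℕ) : K(p, k)) ^ (r * h) * algebraMap (WittVector p k) K(p, k) w := by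
  choose B hB using hA
  have hAB : A = (((p : ℕ) : K(p, k)) ^ r) •
      (Matrix.of B).map (algebraMap (WittVector p k) K(p, k)) := by
    ext i j
    simp [hB]
  refine ⟨(Matrix.of B).det, ?_⟩
  rw [hAB, Matrix.det_smul, Fintype.card_fin, RingHom.map_det, RingHom.mapMatrix_apply,
    ← zpow_natCast, ← zpow_mul]

theorem detCoeff_eq_det {h : ℕ} (e : Module.Basis (Fin h) K(p, k) N) (F : N →ₛₗ[τ] N) :
    Isoc.detCoeff e F = e.det (fun j => F (e j)) := rfl

theorem detCoeff_iter_eq_of_latImg_le {h : ℕ} (cτ : Compat τ) (e : Module.Basis (Fin h) K(p, k) N)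
    {M : Submodule (WittVector p k) N}
    (he : Submodule.span (WittVector p k) (Set.range e) = M) (F : N →ₛₗ[τ] N) {s : ℕ} {r : ℤ}
    (hle : Isoc.latImg F s M ≤ Isoc.pPow r M) :
    ∃ w : WittVector p k, Isoc.detCoeff e (Isoc.iter F s) =
      ((p : ℕ) : K(p, k)) ^ (r * h) * algebraMap (WittVector p k) K(p, k) w := by
  apply det_eq_of_entries
  intro i j
  have h1 : (⇑F)^[s] (e j) ∈ Isoc.pPow r M := hle (iterate_mem_latImg F s (basis_mem e he j))
  exact (mem_pPow_iff_repr e he r _).mp h1 i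

theorem isOrdP_detCoeff_iter {h : ℕ} (cτ : Compat τ) (e : Module.Basis (Fin h) K(p, k) N)
    (F : N →ₛₗ[τ] N) {d : ℤ} (hd : Isoc.IsOrdP (Isoc.detCoeff e F) d) (s : ℕ) :
    Isoc.IsOrdP (Isoc.detCoeff e (Isoc.iter F s)) (s * d) := by
  induction s with
  | zero =>
    have : Isoc.detCoeff e (Isoc.iter F 0) = 1 := by
      rw [detCoeff_eq_det]
      exact e.det_self
    rw [this]
    simpa using isOrdP_one (p := p) (k := k)
  | succ s ih =>
    have : Isoc.detCoeff e (Isoc.iter F (s + 1)) =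
        Isoc.detCoeff e F * τ (Isoc.detCoeff e (Isoc.iter F s)) := by
      rw [detCoeff_eq_det, detCoeff_eq_det, detCoeff_eq_det, ← det_semilinear]
      congr 1
      funext j
      rw [Isoc.iter_apply, Isoc.iter_apply, Function.iterate_succ_apply']
    rw [this]
    have := isOrdP_mul hd (isOrdP_map cτ ih)
    convert this using 1
    push_cast
    ring

theorem isOrdP_detCoeff_of_basis {h : ℕ} (cτ : Compat τ) (b e : Module.Basis (Fin h) K(p, k) N)
    (F : N →ₛₗ[τ] N) {d : ℤ} (hd : Isoc.IsOrdP (Isoc.detCoeff b F) d) :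
    Isoc.IsOrdP (Isoc.detCoeff e F) d := by
  have h1 : Isoc.detCoeff e F = e.det b * (Isoc.detCoeff b F * τ (b.det e)) := by
    rw [detCoeff_eq_det, detCoeff_eq_det, Module.Basis.det_apply,
      ← Module.Basis.toMatrix_mul_toMatrix e b, Matrix.det_mul, ← Module.Basis.det_apply,
      ← Module.Basis.det_apply, det_semilinear]
  have h2 : e.det b * b.det e = 1 := by
    rw [Module.Basis.det_apply, Module.Basis.det_apply, ← Matrix.det_mul,
      Module.Basis.toMatrix_mul_toMatrix_flip, Matrix.det_one]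
  have hq : b.det e ≠ 0 := right_ne_zero_of_mul_eq_one h2
  obtain ⟨t, ht⟩ := exists_isOrdP hq
  have h3 : e.det b = (b.det e)⁻¹ := eq_inv_of_mul_eq_one_left h2
  rw [h1, h3]
  have := isOrdP_mul (isOrdP_inv ht) (isOrdP_mul hd (isOrdP_map cτ ht))
  convert this using 1
  ring

/-- If `F^s M ⊆ p^r M` then `r·h ≤ s·orddet F`. -/
theorem mul_le_of_latImg_le {h : ℕ} (cτ : Compat τ) (F : N →ₛₗ[τ] N)
    (b : Module.Basis (Fin h) K(p, k) N) {d : ℤ} (hd : Isoc.IsOrdP (Isoc.detCoeff b F) d)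
    {M : Submodule (WittVector p k) N} (hM : M.IsLattice K(p, k)) {s : ℕ} {r : ℤ}
    (hle : Isoc.latImg F s M ≤ Isoc.pPow r M) : r * h ≤ s * d := by
  obtain ⟨e, he⟩ := exists_basis_span_eq hM b
  have hd' := isOrdP_detCoeff_iter cτ e F (isOrdP_detCoeff_of_basis cτ b e F hd) s
  obtain ⟨w, hw⟩ := detCoeff_iter_eq_of_latImg_le cτ e he F hle
  exact isOrdP_le_of_eq hd' w hw

/-- If `F^s M = p^r M` then `r·h = s·orddet F`. -/
theorem mul_eq_of_latImg_eq {h : ℕ} (cτ : Compat τ) (F : N →ₛₗ[τ] N)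
    (b : Module.Basis (Fin h) K(p, k) N) {d : ℤ} (hd : Isoc.IsOrdP (Isoc.detCoeff b F) d)
    {M : Submodule (WittVector p k) N} (hM : M.IsLattice K(p, k)) {s : ℕ} {r : ℤ}
    (heq : Isoc.latImg F s M = Isoc.pPow r M) : r * h = s * d := by
  obtain ⟨e, he⟩ := exists_basis_span_eq hM b
  have hd' := isOrdP_detCoeff_iter cτ e F (isOrdP_detCoeff_of_basis cτ b e F hd) s
  obtain ⟨w, hw⟩ := detCoeff_iter_eq_of_latImg_le cτ e he F heq.le
  -- the reverse inclusion
  have hex : ∀ j : Fin h, ∃ m ∈ M, (⇑F)^[s] m = (((p : ℕ) : K(p, k)) ^ r) • e j := by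
    intro j
    have : (((p : ℕ) : K(p, k)) ^ r) • e j ∈ Isoc.latImg F s M := by
      rw [heq]; exact smul_mem_pPow (basis_mem e he j)
    exact (mem_latImg cτ F s M).mp this
  choose m hmM hm using hex
  have h1 : e.det (fun j => (Isoc.iter F s) (m j)) = ((p : ℕ) : K(p, k)) ^ (r * h) := by
    have : (fun j => (Isoc.iter F s) (m j)) = (((p : ℕ) : K(p, k)) ^ r) • (⇑e) := by
      funext j
      rw [Isoc.iter_apply, hm j]; rfl
    rw [this, Module.Basis.det_apply]
    have h2 : e.toMatrix ((((p : ℕ) : K(p, k)) ^ r) • (⇑e)) =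
        (((p : ℕ) : K(p, k)) ^ r) • (1 : Matrix (Fin h) (Fin h) K(p, k)) := by
      ext i j
      simp [Module.Basis.toMatrix_apply, Matrix.one_apply, Finsupp.single_apply, eq_comm]
    rw [h2, Matrix.det_smul, Matrix.det_one, mul_one, Fintype.card_fin, ← zpow_natCast, ← zpow_mul]
  rw [det_semilinear, ← detCoeff_eq_det] at h1
  obtain ⟨w₀, hw₀⟩ : ∃ w₀ : WittVector p k,
      e.det m = algebraMap (WittVector p k) K(p, k) w₀ := by
    obtain ⟨w₀, hw₀⟩ := det_eq_of_entries (e.toMatrix m) 0 (fun i j => by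
      obtain ⟨w, hw⟩ := (mem_iff_repr e he (m j)).mp (hmM j) i
      exact ⟨w, by rw [zpow_zero, one_mul, Module.Basis.toMatrix_apply, hw]⟩)
    exact ⟨w₀, by rw [Module.Basis.det_apply, hw₀, zero_mul, zpow_zero, one_mul]⟩
  rw [hw₀, (cτ.pow s).map_alg, hw, mul_assoc, ← map_mul] at h1
  have h3 : algebraMap (WittVector p k) K(p, k) (w * ((cτ.pow s).σ w₀)) = 1 := by
    have := mul_left_cancel₀ (zpow_pL_ne_zero (p := p) (k := k) (r * h)) (h1.trans (mul_one _).symm)
    exact this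
  have h4 : w * ((cτ.pow s).σ w₀) = 1 := by
    apply IsFractionRing.injective (WittVector p k) K(p, k)
    rw [h3, map_one]
  exact isOrdP_unique (isOrdP_of_mul_eq_one w _ hw h4) hd'

end Groth.Agent.Helper25.IsocLib

end
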