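import Groth.Agent.Lib.Helper25.IsocMain

/-!
# Helper library for isocrystal statements (helper25): effectivity lemma
-/

set_option autoImplicit false
set_option linter.unusedSectionVars false

noncomputable section

open scoped Pointwise Isocrystal
open Filter Topology

universe u v w

namespace Groth.Agent.Helper25.IsocLib

variable {p : ℕ} [Fact p.Prime] {k : Type u} [Field k] [CharP k p] [PerfectRing k p]
variable {N : Type v} [AddCommGroup N] [Module (WittVector p k) N] [Module K(p, k) N]
  [IsScalarTower (WittVector p k) K(p, k) N]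
variable {τ : K(p, k) →+* K(p, k)}

theorem isLattice_pPow (r : ℤ) {M : Submodule (WittVector p k) N} (hM : M.IsLattice K(p, k)) :
    (Isoc.pPow r M).IsLattice K(p, k) where
  fg := by
    unfold Isoc.pPow
    rw [Submodule.pointwise_smul_def]
    exact hM.fg.map _
  span_eq_top := by
    rw [eq_top_iff, ← hM.span_eq_top]
    apply Submodule.span_le.mpr
    intro y hy
    have : y = (((p : ℕ) : K(p, k)) ^ (-r)) • ((((p : ℕ) : K(p, k)) ^ r) • y) := by
      rw [smul_smul, zpow_neg, inv_mul_cancel₀ (zpow_pL_ne_zero r), one_smul]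
    rw [this]
    exact Submodule.smul_mem _ _ (Submodule.subset_span (smul_mem_pPow hy))

theorem natCast_smul_eq (y : N) :
    (((p : ℕ) : WittVector p k)) • y = (((p : ℕ) : K(p, k))) • y := by
  rw [← algebraMap_smul K(p, k) ((p : ℕ) : WittVector p k), map_natCast]

theorem exists_unit_relation {n : ℕ} (x : Fin n → N)
    (hdep : ¬ LinearIndependent (WittVector p k) x) :
    ∃ a : Fin n → WittVector p k, ∑ i, a i • x i = 0 ∧ ∃ i, IsUnit (a i) := by
  by_contra hno
  push Not at hno
  have hmax : IsLocalRing.maximalIdeal (WittVector p k) =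
      Ideal.span {((p : ℕ) : WittVector p k)} :=
    (IsDiscreteValuationRing.irreducible_iff_uniformizer _).mp (WittVector.irreducible p)
  have key : ∀ m : ℕ, ∀ a : Fin n → WittVector p k, ∑ i, a i • x i = 0 →
      ∀ i, ((p : ℕ) : WittVector p k) ^ m ∣ a i := by
    intro m
    induction m with
    | zero => intro a _ i; simp
    | succ m ih =>
      intro a ha i
      have hnu : ∀ j, ∃ b, a j = ((p : ℕ) : WittVector p k) * b := by
        intro j
        have h1 : a j ∈ IsLocalRing.maximalIdeal (WittVector p k) :=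
          (IsLocalRing.mem_maximalIdeal _).mpr (hno a ha j)
        rw [hmax, Ideal.mem_span_singleton] at h1
        exact h1
      choose b hb using hnu
      have hb0 : ∑ j, b j • x j = 0 := by
        have h2 : ((p : ℕ) : WittVector p k) • ∑ j, b j • x j = 0 := by
          rw [Finset.smul_sum, ← ha]
          refine Finset.sum_congr rfl fun j _ => ?_
          rw [smul_smul, ← hb j]
        rw [natCast_smul_eq] at h2
        exact (smul_eq_zero.mp h2).resolve_left pL_ne_zero
      obtain ⟨c, hc⟩ := ih b hb0 i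
      exact ⟨c, by rw [hb i, hc, pow_succ]; ring⟩
  obtain ⟨a, ha, i₀, hi₀⟩ := Fintype.not_linearIndependent_iff.mp hdep
  obtain ⟨m, u, hu⟩ := WittVector.exists_eq_pow_p_mul' (a i₀) hi₀
  obtain ⟨c, hc⟩ := key (m + 1) a ha i₀
  rw [hu, pow_succ, mul_assoc] at hc
  have := mul_left_cancel₀ (pow_ne_zero m (WittVector.p_nonzero p k)) hc
  exact (WittVector.irreducible p).not_isUnit (isUnit_of_dvd_unit ⟨c, this⟩ u.isUnit)

/-- A descending chain of `h + 2` submodules between `p M'` and `M'` has a repetition. -/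
theorem exists_le_succ_of_antitone_chain [Module.Finite K(p, k) N]
    {M' : Submodule (WittVector p k) N} (Lc : ℕ → Submodule (WittVector p k) N)
    (hanti : Antitone Lc) (h0 : Lc 0 ≤ M') (h : ℕ) (hh : Module.finrank K(p, k) N = h)
    (hp : Isoc.pPow 1 M' ≤ Lc (h + 1)) : ∃ i ≤ h, Lc i ≤ Lc (i + 1) := by
  by_contra hcon
  push Not at hcon
  have hx : ∀ i : Fin (h + 1), ∃ x ∈ Lc i, x ∉ Lc (i + 1) := fun i =>
    SetLike.not_le_iff_exists.mp (hcon i (Nat.lt_succ_iff.mp i.2))
  choose x hxm hxn using hx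
  have hdep : ¬ LinearIndependent (WittVector p k) x := by
    rw [LinearIndependent.iff_fractionRing (R := WittVector p k) (K := K(p, k))]
    intro hli
    have := hli.fintype_card_le_finrank
    simp only [Fintype.card_fin, hh] at this
    omega
  obtain ⟨a, ha, i₁, hi₁⟩ := exists_unit_relation x hdep
  have hmax : IsLocalRing.maximalIdeal (WittVector p k) =
      Ideal.span {((p : ℕ) : WittVector p k)} :=
    (IsDiscreteValuationRing.irreducible_iff_uniformizer _).mp (WittVector.irreducible p)
  classical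
  let S := Finset.univ.filter (fun i => IsUnit (a i))
  have hS : S.Nonempty := ⟨i₁, by simp [S, hi₁]⟩
  let i := S.min' hS
  have hiu : IsUnit (a i) := (Finset.mem_filter.mp (S.min'_mem hS)).2
  have hlt : ∀ j < i, ¬ IsUnit (a j) := fun j hj hju =>
    absurd (S.min'_le j (by simp [S, hju])) (not_le.mpr hj)
  have hmem : a i • x i ∈ Lc (i + 1) := by
    have e1 : a i • x i = - ∑ j ∈ Finset.univ.erase i, a j • x j := by
      rw [eq_neg_iff_add_eq_zero, ← ha]
      exact Finset.add_sum_erase Finset.univ (fun j => a j • x j) (Finset.mem_univ i)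
    rw [e1]
    refine neg_mem (sum_mem fun j hj => ?_)
    have hji : j ≠ i := Finset.ne_of_mem_erase hj
    rcases lt_or_gt_of_ne hji with hlt' | hgt
    · have h1 : a j ∈ IsLocalRing.maximalIdeal (WittVector p k) :=
        (IsLocalRing.mem_maximalIdeal _).mpr (hlt j hlt')
      rw [hmax, Ideal.mem_span_singleton] at h1
      obtain ⟨w, hw⟩ := h1
      have h2 : a j • x j = (((p : ℕ) : K(p, k)) ^ (1 : ℤ)) • (w • x j) := by
        rw [hw, mul_smul, natCast_smul_eq, zpow_one]
      have h3 : a j • x j ∈ Isoc.pPow 1 M' := by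
        rw [h2]
        exact smul_mem_pPow (M'.smul_mem _ (h0 (hanti (Nat.zero_le _) (hxm j))))
      exact hanti (by have := i.2; omega) (hp h3)
    · exact (Lc (i + 1)).smul_mem _ (hanti (by
        have : (i : ℕ) < j := hgt
        omega) (hxm j))
  obtain ⟨u, hu⟩ := hiu
  have hfin : x i ∈ Lc (i + 1) := by
    have := (Lc (i + 1)).smul_mem ((u⁻¹ : (WittVector p k)ˣ) : WittVector p k) hmem
    rwa [← hu, smul_smul, Units.inv_mul, one_smul] at this
  exact hxn i hfin

/-- The submodule of `x` with `x, F x, …, F^i x ∈ M'`. -/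
def stab (c : Compat τ) (F : N →ₛₗ[τ] N) (M' : Submodule (WittVector p k) N) (i : ℕ) :
    Submodule (WittVector p k) N where
  carrier := {x | ∀ j ≤ i, (⇑F)^[j] x ∈ M'}
  add_mem' := by
    intro x y hx hy j hj
    show (⇑F)^[j] (x + y) ∈ M'
    rw [← Isoc.iter_apply, map_add]
    exact M'.add_mem (hx j hj) (hy j hj)
  zero_mem' := by
    intro j _
    show (⇑F)^[j] 0 ∈ M'
    rw [← Isoc.iter_apply, map_zero]
    exact M'.zero_mem
  smul_mem' := by
    intro w x hx j hj
    have := ((c.pow j).toW (Isoc.iter F j)).map_smulₛₗ w x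
    show (⇑F)^[j] (w • x) ∈ M'
    rw [← Isoc.iter_apply, ← Compat.toW_apply (c.pow j), this]
    exact M'.smul_mem _ (hx j hj)

theorem mem_stab (c : Compat τ) (F : N →ₛₗ[τ] N) (M' : Submodule (WittVector p k) N) (i : ℕ)
    (x : N) : x ∈ stab c F M' i ↔ ∀ j ≤ i, (⇑F)^[j] x ∈ M' := Iff.rfl

/-- The key lemma: `F^{h+1} M ⊆ p^{-1} M` implies that `F` is effective. -/
theorem isEffective_of_latImg_succ_le (c : Compat τ) (F : N →ₛₗ[τ] N) [Module.Finite K(p, k) N]
    {h : ℕ} (hh : Module.finrank K(p, k) N = h) {M : Submodule (WittVector p k) N}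
    (hM : M.IsLattice K(p, k)) (hFM : Isoc.latImg F (h + 1) M ≤ Isoc.pPow (-1) M) :
    Isoc.IsEffective F := by
  let M' : Submodule (WittVector p k) N := ⨆ i : Fin (h + 1), Isoc.latImg F i M
  have hMM' : M ≤ M' := by
    have := le_iSup (fun i : Fin (h + 1) => Isoc.latImg F i M) 0
    simpa [latImg_zero] using this
  have hM'fg : M'.FG := Submodule.fg_iSup _ fun i => latImg_fg c F i hM.fg
  have hM' : M'.IsLattice K(p, k) :=
    haveI := hM
    Submodule.IsLattice.of_le_of_isLattice_of_fg K(p, k) hMM' hM'fg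
  have hle_i : ∀ t ≤ h, Isoc.latImg F t M ≤ M' := fun t ht =>
    le_iSup (fun i : Fin (h + 1) => Isoc.latImg F i M) ⟨t, Nat.lt_succ_of_le ht⟩
  have hstep : ∀ j ≤ h + 1, Isoc.latImg F j M' ≤ Isoc.pPow (-1) M' := by
    intro j hj
    have e1 : Isoc.latImg F j M' = ⨆ i : Fin (h + 1), Isoc.latImg F j (Isoc.latImg F i M) := by
      rw [latImg_eq_map c, Submodule.map_iSup]
      congr 1
      funext i
      rw [latImg_eq_map c F j]
    rw [e1]
    refine iSup_le fun i => ?_
    rw [← latImg_add c]
    by_cases hji : j + i ≤ h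
    · exact (hle_i _ hji).trans (by
        have := pPow_anti (show (-1 : ℤ) ≤ 0 by omega) M'
        rwa [pPow_zero] at this)
    · have hi := i.2
      obtain ⟨t, ht⟩ : ∃ t, j + (i : ℕ) = t + (h + 1) := ⟨j + i - (h + 1), by omega⟩
      have hth : t ≤ h := by omega
      rw [ht, latImg_add c]
      calc Isoc.latImg F t (Isoc.latImg F (h + 1) M)
          ≤ Isoc.latImg F t (Isoc.pPow (-1) M) := latImg_mono F t hFM
        _ = Isoc.pPow (-1) (Isoc.latImg F t M) := latImg_pPow c F t _ M
        _ ≤ Isoc.pPow (-1) M' := pPow_mono (hle_i t hth)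
  -- the chain
  have hanti : Antitone (stab c F M') := by
    intro i i' hii x hx j hj
    exact hx j (hj.trans hii)
  have h0 : stab c F M' 0 ≤ M' := by
    intro x hx
    have := hx 0 le_rfl
    simpa using this
  have hp : Isoc.pPow 1 M' ≤ stab c F M' (h + 1) := by
    intro x hx j hj
    obtain ⟨y, hy, rfl⟩ := mem_pPow.mp hx
    rw [iterate_zpow_smul]
    have h1 : (⇑F)^[j] y ∈ Isoc.pPow (-1) M' := hstep j hj (iterate_mem_latImg F j hy)
    have h2 := smul_mem_pPow (r := 1) h1
    rwa [← pPow_add, show (1 : ℤ) + -1 = 0 by omega, pPow_zero] at h2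
  obtain ⟨i, hi, hle⟩ := exists_le_succ_of_antitone_chain (stab c F M') hanti h0 h hh hp
  refine ⟨stab c F M' i, ?_, ?_⟩
  · have := isLattice_pPow 1 hM'
    refine Submodule.IsLattice.of_le_of_isLattice_of_fg K(p, k)
      (hp.trans (hanti (by omega))) ?_
    exact Submodule.FG.of_le hM'fg ((hanti (Nat.zero_le i)).trans h0)
  · rw [latImg_one_eq_map c]
    rintro _ ⟨x, hx, rfl⟩
    intro j hj
    have := hle hx (j + 1) (by omega)
    rwa [Function.iterate_succ_apply] at this

end Groth.Agent.Helper25.IsocLib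

end
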