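import Groth.Agent.Lib.Helper25.IsocBasic

/-!
# Helper library for isocrystal statements (helper25): finite fields
-/

set_option autoImplicit false
set_option linter.unusedSectionVars false

noncomputable section

open scoped Pointwise Isocrystal

universe u v w

namespace Groth.Agent.Helper25.IsocLib

variable {p : ℕ} [Fact p.Prime] {k : Type u} [Field k] [CharP k p] [PerfectRing k p]

theorem natCast_ne_zero_W {m : ℕ} (hm : m ≠ 0) : ((m : ℕ) : WittVector p k) ≠ 0 := by
  obtain ⟨e, n', hn', rfl⟩ :=
    Nat.exists_eq_pow_mul_and_not_dvd hm p (Fact.out : p.Prime).ne_one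
  rw [Nat.cast_mul, Nat.cast_pow]
  refine mul_ne_zero (pow_ne_zero _ (WittVector.p_nonzero p k)) ?_
  intro h0
  have := congrArg (WittVector.constantCoeff (p := p) (R := k)) h0
  rw [map_natCast, map_zero] at this
  exact hn' ((CharP.cast_eq_zero_iff k p n').mp this)

theorem natCast_ne_zero_L {m : ℕ} (hm : m ≠ 0) : ((m : ℕ) : K(p, k)) ≠ 0 := by
  rw [← map_natCast (algebraMap (WittVector p k) K(p, k))]
  exact (map_ne_zero_iff _ (IsFractionRing.injective (WittVector p k) K(p, k))).mpr
    (natCast_ne_zero_W hm)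

theorem frobenius_iterate_eq_self [Fintype k] {m : ℕ} (hk : Fintype.card k = p ^ m)
    (x : WittVector p k) : WittVector.frobenius^[m] x = x := by
  ext n
  rw [WittVector.iterate_frobenius_coeff, ← hk, FiniteField.pow_card]

theorem frob_one_iterate_algebraMap (x : WittVector p k) (n : ℕ) :
    (⇑(Isoc.frob p k 1))^[n] (algebraMap (WittVector p k) K(p, k) x) =
      algebraMap (WittVector p k) K(p, k) (WittVector.frobenius^[n] x) := by
  induction n generalizing x with
  | zero => rfl
  | succ n ih =>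
    rw [Function.iterate_succ_apply, Isoc.frob_algebraMap, zpow_one, ih,
      Function.iterate_succ_apply]
    rfl

theorem frob_one_iterate_eq_self [Fintype k] {m : ℕ} (hk : Fintype.card k = p ^ m)
    (l : K(p, k)) : (⇑(Isoc.frob p k 1))^[m] l = l := by
  obtain ⟨a, b, hb, rfl⟩ := IsFractionRing.div_surjective (A := WittVector p k) l
  rw [← RingHom.coe_pow, map_div₀, RingHom.coe_pow, frob_one_iterate_algebraMap,
    frob_one_iterate_algebraMap, frobenius_iterate_eq_self hk, frobenius_iterate_eq_self hk]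

/-- Over a finite field there is no `a` with `σ(a) = a + 1`. -/
theorem frob_one_ne_add_one [Finite k] (a : K(p, k)) : Isoc.frob p k 1 a ≠ a + 1 := by
  intro hσ
  have := Fintype.ofFinite k
  obtain ⟨m, -, hm⟩ := FiniteField.card k p
  have hiter : ∀ n : ℕ, (⇑(Isoc.frob p k 1))^[n] a = a + n := by
    intro n
    induction n with
    | zero => simp
    | succ n ih =>
      rw [Function.iterate_succ_apply', ih, map_add, map_natCast, hσ]
      push_cast
      ring
  have h1 := hiter m
  rw [frob_one_iterate_eq_self hm] at h1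
  have h2 : ((m : ℕ) : K(p, k)) = 0 := by linear_combination -h1
  exact natCast_ne_zero_L m.pos.ne' h2

theorem not_isCompl_unipotent [Finite k]
    (U : (Fin 2 → K(p, k)) →ₛₗ[Isoc.frob p k 1] (Fin 2 → K(p, k)))
    (hU0 : U (Pi.single 0 1) = Pi.single 0 1)
    (hU1 : U (Pi.single 1 1) = Pi.single 0 1 + Pi.single 1 1)
    (Q : Submodule K(p, k) (Fin 2 → K(p, k))) (hQ : ∀ x ∈ Q, U x ∈ Q) :
    ¬ IsCompl (Submodule.span K(p, k) {(Pi.single 0 1 : Fin 2 → K(p, k))}) Q := by
  intro hc
  have htop : (Pi.single 1 1 : Fin 2 → K(p, k)) ∈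
      Submodule.span K(p, k) {(Pi.single 0 1 : Fin 2 → K(p, k))} ⊔ Q := by
    rw [hc.sup_eq_top]; trivial
  obtain ⟨y, hy, z, hz, hyz⟩ := Submodule.mem_sup.mp htop
  obtain ⟨a, rfl⟩ := Submodule.mem_span_singleton.mp hy
  have hz' : z = Pi.single 1 1 - a • (Pi.single 0 1 : Fin 2 → K(p, k)) := by
    rw [← hyz]; abel
  have hUz : U z = (Pi.single 0 1 + Pi.single 1 1) -
      (Isoc.frob p k 1 a) • (Pi.single 0 1 : Fin 2 → K(p, k)) := by
    rw [hz', map_sub, map_smulₛₗ, hU0, hU1]
  have hdiff : z - U z ∈ Q := Q.sub_mem hz (hQ z hz)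
  have hform : z - U z = (Isoc.frob p k 1 a - a - 1) • (Pi.single 0 1 : Fin 2 → K(p, k)) := by
    rw [hUz, hz']
    ext i
    fin_cases i <;> simp <;> ring
  have hin : z - U z ∈ Submodule.span K(p, k) {(Pi.single 0 1 : Fin 2 → K(p, k))} := by
    rw [hform]; exact Submodule.smul_mem _ _ (Submodule.mem_span_singleton_self _)
  have hzero : z - U z = 0 := by
    have := hc.disjoint.le_bot (Submodule.mem_inf.mpr ⟨hin, hdiff⟩)
    simpa using this
  have hσ : Isoc.frob p k 1 a = a + 1 := by
    rw [hform] at hzero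
    have h0 := congrFun hzero 0
    simp at h0
    linear_combination h0
  exact frob_one_ne_add_one a hσ

end Groth.Agent.Helper25.IsocLib

end
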