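import Groth.Agent.Lib.Helper25.IsocNewton
import Groth.Agent.Lib.Helper25.IsocClassify
import Groth.Agent.Lib.Helper25.EigenIntegral
import Mathlib.LinearAlgebra.Charpoly.ToMatrix
import Mathlib.FieldTheory.IsAlgClosed.Basic
import Mathlib.RingTheory.IntegralClosure.IntegrallyClosed
import Mathlib.RingTheory.DedekindDomain.Dvr

/-!
# Helper library for isocrystal statements (helper25): Newton slopes and eigenvalues of the
linear Frobenius over a finite field
-/

set_option autoImplicit false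
set_option linter.unusedSectionVars false

noncomputable section

open scoped Pointwise Isocrystal
open Polynomial

universe u v w

namespace Groth.Agent.Helper25.IsocLib

/-! ### Generalities -/

theorem charpoly_eq_mul_of_isCompl {K : Type*} {V : Type*} [Field K] [AddCommGroup V] [Module K V]
    [Module.Finite K V] (T : V →ₗ[K] V) {S Q : Submodule K V} (hS : ∀ x ∈ S, T x ∈ S)
    (hQ : ∀ x ∈ Q, T x ∈ Q) (h : IsCompl S Q) :
    T.charpoly = (T.restrict hS).charpoly * (T.restrict hQ).charpoly := by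
  have h1 : (Submodule.prodEquivOfIsCompl S Q h).conj
      ((T.restrict hS).prodMap (T.restrict hQ)) = T := by
    apply LinearMap.ext
    intro x
    obtain ⟨⟨s, q⟩, rfl⟩ := (Submodule.prodEquivOfIsCompl S Q h).surjective x
    rw [LinearEquiv.conj_apply_apply, LinearEquiv.symm_apply_apply]
    simp [map_add]
  rw [← LinearMap.charpoly_prodMap, ← LinearEquiv.charpoly_conj
    (Submodule.prodEquivOfIsCompl S Q h), h1]

theorem sum_countP_le_card {α : Type*} {ι : Type*} (T : Finset ι) (c : ι → α → Prop)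
    [∀ i, DecidablePred (c i)] (s : Multiset α)
    (hexcl : ∀ a ∈ s, ∀ i ∈ T, ∀ j ∈ T, c i a → c j a → i = j) :
    ∑ i ∈ T, s.countP (c i) ≤ Multiset.card s := by
  classical
  induction s using Multiset.induction_on with
  | empty => simp
  | cons a s ih =>
    have ih' := ih fun b hb => hexcl b (Multiset.mem_cons_of_mem hb)
    simp only [Multiset.countP_cons, Multiset.card_cons, Finset.sum_add_distrib]
    have h1 : ∑ i ∈ T, (if c i a then 1 else 0) ≤ 1 := by
      rw [Finset.sum_boole]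
      have : (T.filter (fun i => c i a)).card ≤ 1 := by
        rw [Finset.card_le_one]
        intro i hi j hj
        rw [Finset.mem_filter] at hi hj
        exact hexcl a (Multiset.mem_cons_self a s) i hi.1 j hj.1 hi.2 hj.2
      exact_mod_cast this
    omega

/-- lowest terms -/
theorem exists_mul_of_div_eq {r : ℤ} {s : ℕ} (hs : 0 < s) {ν : ℚ} (h : (r : ℚ) / s = ν) :
    ∃ t : ℕ, 0 < t ∧ s = ν.den * t ∧ r = ν.num * t := by
  have hrel : r * (ν.den : ℤ) = ν.num * s := by
    have h1 : (r : ℚ) / s = (ν.num : ℚ) / (ν.den : ℚ) := by rw [h]; exact (Rat.num_div_den ν).symm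
    have hs' : (s : ℚ) ≠ 0 := by exact_mod_cast hs.ne'
    have hn' : ((ν.den : ℕ) : ℚ) ≠ 0 := by exact_mod_cast ν.den_pos.ne'
    rw [div_eq_div_iff hs' hn'] at h1
    exact_mod_cast h1
  have hdvd : ((ν.den : ℕ) : ℤ) ∣ (s : ℤ) := by
    have hcop : IsCoprime ((ν.den : ℕ) : ℤ) ν.num := by
      rw [Int.isCoprime_iff_gcd_eq_one, Int.gcd_comm]; exact ν.reduced
    exact hcop.dvd_of_dvd_mul_left ⟨r, by rw [← hrel]; ring⟩
  obtain ⟨t, ht⟩ := Int.natCast_dvd_natCast.mp hdvd
  subst ht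
  refine ⟨t, ?_, rfl, ?_⟩
  · rcases Nat.eq_zero_or_pos t with h0 | h0
    · subst h0; simp at hs
    · exact h0
  · have h1 : r * ((ν.den : ℕ) : ℤ) = (ν.num * t) * ((ν.den : ℕ) : ℤ) := by
      rw [hrel]; push_cast; ring
    exact mul_right_cancel₀ (by exact_mod_cast ν.den_pos.ne') h1

theorem mul_zpow_pow {Ω : Type*} [Field Ω] (a P : Ω) (d : ℕ) (z : ℤ) (n : ℕ) :
    (a ^ d * P ^ z) ^ n = a ^ (d * n) * P ^ (z * (n : ℤ)) := by
  rw [mul_pow, ← pow_mul, ← zpow_natCast (P ^ z) n, ← zpow_mul]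

variable {p : ℕ} [Fact p.Prime] {k : Type u} [Field k] [CharP k p] [PerfectRing k p]
variable {τ : K(p, k) →+* K(p, k)}
variable {N : Type v} [AddCommGroup N] [Module (WittVector p k) N] [Module K(p, k) N]
  [IsScalarTower (WittVector p k) K(p, k) N]
variable {Ω : Type w} [Field Ω] [Algebra (WittVector p k) Ω] [Algebra K(p, k) Ω]
  [IsScalarTower (WittVector p k) K(p, k) Ω]

/-- the slope condition on an eigenvalue -/
def SlopeCond (p : ℕ) [Fact p.Prime] (k : Type u) [Field k] [CharP k p] [PerfectRing k p]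
    {Ω : Type w} [Field Ω] [Algebra (WittVector p k) Ω] [Algebra K(p, k) Ω]
    (m : ℕ) (μ : ℚ) (α : Ω) : Prop :=
  IsIntegral (WittVector p k)
    (α ^ μ.den * (algebraMap K(p, k) Ω ((p : ℕ) : K(p, k))) ^ (-(μ.num * (m : ℤ)))) ∧
  IsIntegral (WittVector p k)
    (α ^ μ.den * (algebraMap K(p, k) Ω ((p : ℕ) : K(p, k))) ^ (-(μ.num * (m : ℤ))))⁻¹

/-- In an isoclinic isocrystal of slope `ν`, the eigenvalues of `π = F^m` satisfy the slope
condition for `ν`. -/
theorem slopeCond_of_isRoot (c : Compat τ) (F : N →ₛₗ[τ] N) (hF : Function.Bijective F)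
    [Module.Finite K(p, k) N] {m : ℕ} (π : N →ₗ[K(p, k)] N) (hπ : ∀ x, π x = (⇑F)^[m] x) {ν : ℚ}
    (hiso : Isoc.IsIsoclinic F ν) {α : Ω}
    (hα : (π.charpoly.map (algebraMap K(p, k) Ω)).IsRoot α) : SlopeCond p k m ν α := by
  obtain ⟨M, hM, r, s, hs, hrs, he⟩ := hiso
  obtain ⟨t, ht, hst, hrt⟩ := exists_mul_of_div_eq hs hrs
  have hπs : ∀ x, (π ^ s) x = (⇑F)^[m * s] x := by
    intro x
    rw [Module.End.pow_apply, Function.iterate_mul]
    have : ⇑π = (⇑F)^[m] := funext hπ
    rw [this]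
  have he' := latImg_mul_eq c F M he m
  have hgx : ∀ x, ((((p : ℕ) : K(p, k)) ^ (-((m : ℤ) * r))) • π ^ s) x =
      (((p : ℕ) : K(p, k)) ^ (-((m : ℤ) * r))) • (⇑F)^[m * s] x :=
    fun x => by rw [LinearMap.smul_apply, hπs]
  have hg : ∀ x ∈ M, ((((p : ℕ) : K(p, k)) ^ (-((m : ℤ) * r))) • π ^ s) x ∈ M := by
    intro x hx
    rw [hgx]
    have h1 : (⇑F)^[m * s] x ∈ Isoc.pPow ((m : ℤ) * r) M := he' ▸ iterate_mem_latImg F (m * s) hx
    exact mem_pPow_iff.mp h1
  have hginv : ∀ x ∈ M, ∃ y ∈ M,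
      ((((p : ℕ) : K(p, k)) ^ (-((m : ℤ) * r))) • π ^ s) y = x := by
    intro x hx
    have h1 : (((p : ℕ) : K(p, k)) ^ ((m : ℤ) * r)) • x ∈ Isoc.latImg F (m * s) M := by
      rw [he']; exact smul_mem_pPow hx
    obtain ⟨y, hy, hyx⟩ := (mem_latImg c F (m * s) M).mp h1
    refine ⟨y, hy, ?_⟩
    rw [hgx, hyx, smul_smul, ← zpow_add₀ pL_ne_zero, neg_add_cancel, zpow_zero, one_smul]
  have hgb : Function.Bijective ((((p : ℕ) : K(p, k)) ^ (-((m : ℤ) * r))) • π ^ s) := by
    have h1 : Function.Bijective (⇑F)^[m * s] := hF.iterate _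
    have h2 : Function.Bijective
        (fun x : N => (((p : ℕ) : K(p, k)) ^ (-((m : ℤ) * r))) • x) :=
      MulAction.bijective₀ (zpow_pL_ne_zero _)
    have h3 : ⇑((((p : ℕ) : K(p, k)) ^ (-((m : ℤ) * r))) • π ^ s) =
        (fun x : N => (((p : ℕ) : K(p, k)) ^ (-((m : ℤ) * r))) • x) ∘ (⇑F)^[m * s] :=
      funext hgx
    rw [h3]
    exact h2.comp h1
  obtain ⟨hi1, hi2⟩ := EigenIntegral.isIntegral_of_isRoot_charpoly hM.fg hM.span_eq_top π
    (((p : ℕ) : K(p, k)) ^ (-((m : ℤ) * r))) s hgb hg hginv hα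
  have hβ : (α ^ ν.den * (algebraMap K(p, k) Ω ((p : ℕ) : K(p, k))) ^ (-(ν.num * (m : ℤ)))) ^ t =
      algebraMap K(p, k) Ω (((p : ℕ) : K(p, k)) ^ (-((m : ℤ) * r))) * α ^ s := by
    rw [mul_zpow_pow, ← hst, map_zpow₀, mul_comm]
    congr 2
    rw [hrt]
    ring
  constructor
  · exact IsIntegral.of_pow ht (hβ ▸ hi1)
  · apply IsIntegral.of_pow ht
    rw [inv_pow, hβ]
    exact hi2

theorem not_isIntegral_zpow_neg {e : ℕ} (he : 0 < e) :
    ¬ IsIntegral (WittVector p k)
      ((algebraMap K(p, k) Ω ((p : ℕ) : K(p, k))) ^ (-(e : ℤ))) := by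
  intro h
  rw [← map_zpow₀, isIntegral_algebraMap_iff (algebraMap K(p, k) Ω).injective,
    IsIntegrallyClosed.isIntegral_iff] at h
  obtain ⟨w, hw⟩ := h
  have h1 : ((p : ℕ) : WittVector p k) ^ e * w = 1 := by
    apply IsFractionRing.injective (WittVector p k) K(p, k)
    rw [map_mul, map_pow, map_natCast, hw, map_one, zpow_neg, zpow_natCast,
      mul_inv_cancel₀ (pow_ne_zero _ pL_ne_zero)]
  have h2 : IsUnit (((p : ℕ) : WittVector p k) ^ e) := IsUnit.of_mul_eq_one _ h1
  have h3 : IsUnit ((p : ℕ) : WittVector p k) := (isUnit_pow_iff he.ne').mp h2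
  exact (WittVector.irreducible p).not_isUnit h3

/-- The slope conditions for different slopes exclude each other (for nonzero eigenvalues). -/
theorem eq_of_slopeCond {m : ℕ} (hm : 0 < m) {μ ν : ℚ} {α : Ω} (hα : α ≠ 0)
    (h1 : SlopeCond p k m μ α) (h2 : SlopeCond p k m ν α) : μ = ν := by
  have hP : algebraMap K(p, k) Ω ((p : ℕ) : K(p, k)) ≠ 0 :=
    (map_ne_zero (algebraMap K(p, k) Ω)).mpr pL_ne_zero
  set P := algebraMap K(p, k) Ω ((p : ℕ) : K(p, k)) with hPdef
  have hA : α ^ (μ.den * ν.den) ≠ 0 := pow_ne_zero _ hα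
  have e1 : (α ^ μ.den * P ^ (-(μ.num * (m : ℤ)))) ^ ν.den =
      α ^ (μ.den * ν.den) * P ^ (-(μ.num * (m : ℤ)) * ν.den) := by
    rw [mul_zpow_pow]
  have e2 : (α ^ ν.den * P ^ (-(ν.num * (m : ℤ)))) ^ μ.den =
      α ^ (μ.den * ν.den) * P ^ (-(ν.num * (m : ℤ)) * μ.den) := by
    rw [mul_zpow_pow, mul_comm ν.den μ.den]
  -- the two "units"
  have hu : IsIntegral (WittVector p k)
      (P ^ ((ν.num * μ.den - μ.num * ν.den) * (m : ℤ))) := by
    have h3 : (α ^ μ.den * P ^ (-(μ.num * (m : ℤ)))) ^ ν.den *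
        ((α ^ ν.den * P ^ (-(ν.num * (m : ℤ))))⁻¹) ^ μ.den =
        P ^ ((ν.num * μ.den - μ.num * ν.den) * (m : ℤ)) := by
      rw [inv_pow, e1, e2, mul_inv, mul_mul_mul_comm, mul_inv_cancel₀ hA, one_mul,
        ← zpow_neg, ← zpow_add₀ hP]
      congr 1
      ring
    rw [← h3]
    exact (h1.1.pow _).mul (h2.2.pow _)
  have hu' : IsIntegral (WittVector p k)
      (P ^ (-((ν.num * μ.den - μ.num * ν.den) * (m : ℤ)))) := by
    have h3 : (α ^ ν.den * P ^ (-(ν.num * (m : ℤ)))) ^ μ.den *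
        ((α ^ μ.den * P ^ (-(μ.num * (m : ℤ))))⁻¹) ^ ν.den =
        P ^ (-((ν.num * μ.den - μ.num * ν.den) * (m : ℤ))) := by
      rw [inv_pow, e1, e2, mul_inv, mul_mul_mul_comm, mul_inv_cancel₀ hA, one_mul,
        ← zpow_neg, ← zpow_add₀ hP]
      congr 1
      ring
    rw [← h3]
    exact (h2.1.pow _).mul (h1.2.pow _)
  have hzero : (ν.num * μ.den - μ.num * ν.den) * (m : ℤ) = 0 := by
    by_contra hne
    rcases lt_or_gt_of_ne hne with hlt | hgt
    · obtain ⟨e, he⟩ : ∃ e : ℕ, (ν.num * μ.den - μ.num * ν.den) * (m : ℤ) = -(e : ℤ) :=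
        ⟨(-((ν.num * μ.den - μ.num * ν.den) * (m : ℤ))).toNat, by omega⟩
      rw [he] at hu
      exact not_isIntegral_zpow_neg (by omega) hu
    · obtain ⟨e, he⟩ : ∃ e : ℕ, (ν.num * μ.den - μ.num * ν.den) * (m : ℤ) = (e : ℤ) :=
        ⟨((ν.num * μ.den - μ.num * ν.den) * (m : ℤ)).toNat, by omega⟩
      rw [he] at hu'
      exact not_isIntegral_zpow_neg (by omega) hu'
  have hm' : (m : ℤ) ≠ 0 := by exact_mod_cast hm.ne'
  have h4 : ν.num * μ.den - μ.num * ν.den = 0 := (mul_eq_zero.mp hzero).resolve_right hm'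
  rw [Rat.eq_iff_mul_eq_mul]
  linarith

/-! ### Assembly -/

theorem finrank_eq_sum_of_isInternal {K : Type*} {V : Type*} {ι : Type*} [Field K]
    [AddCommGroup V] [Module K V] [Module.Finite K V] [Fintype ι] [DecidableEq ι]
    (A : ι → Submodule K V) (h : DirectSum.IsInternal A) :
    Module.finrank K V = ∑ i, Module.finrank K (A i) := by
  have b := h.collectedBasis (fun i => Module.finBasis K (A i))
  rw [Module.finrank_eq_card_basis b, Fintype.card_sigma]
  simp

theorem card_roots_charpoly_map {K : Type*} {V : Type*} {Ω : Type*} [Field K] [AddCommGroup V]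
    [Module K V] [Module.Finite K V] [Field Ω] [IsAlgClosed Ω] [Algebra K Ω] (T : V →ₗ[K] V) :
    Multiset.card ((T.charpoly.map (algebraMap K Ω)).roots) = Module.finrank K V := by
  rw [← (IsAlgClosed.splits _).natDegree_eq_card_roots, natDegree_map, LinearMap.charpoly_natDegree]

theorem newtonMult_eq_countP [IsAlgClosed Ω] (c : Compat τ) (F : N →ₛₗ[τ] N)
    (hF : Function.Bijective F) [Module.Finite K(p, k) N] {m : ℕ} (hm : 0 < m)
    (π : N →ₗ[K(p, k)] N) (hπ : ∀ x, π x = (⇑F)^[m] x) (μ : ℚ)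
    (inst : DecidablePred (SlopeCond p k m μ (Ω := Ω))) :
    Isoc.newtonMult F μ =
      @Multiset.countP Ω (SlopeCond p k m μ) inst
        ((π.charpoly.map (algebraMap K(p, k) Ω)).roots) := by
  classical
  set R := (π.charpoly.map (algebraMap K(p, k) Ω)).roots with hR
  have hχ0 : π.charpoly.map (algebraMap K(p, k) Ω) ≠ 0 := (π.charpoly_monic.map _).ne_zero
  have hcard : Multiset.card R = Module.finrank K(p, k) N := card_roots_charpoly_map π
  have hπb : Function.Bijective π := by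
    have : ⇑π = (⇑F)^[m] := funext hπ
    rw [this]; exact hF.iterate m
  have hπst : ∀ ν, ∀ x ∈ Isoc.slopePart F ν, π x ∈ Isoc.slopePart F ν := fun ν x hx => by
    rw [hπ]; exact iterate_mem_of_mem F (slopePart_stable F ν) m hx
  have hind := iSupIndep_slopePart c F hF.injective
  have htop := iSup_slopePart_eq_top c F hF
  -- lower bound
  have hlow : ∀ ν, Module.finrank K(p, k) (Isoc.slopePart F ν) ≤
      R.countP (SlopeCond p k m ν) := by
    intro ν
    set Q : Submodule K(p, k) N := ⨆ (j) (_ : j ≠ ν), Isoc.slopePart F j with hQ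
    have hcompl : IsCompl (Isoc.slopePart F ν) Q := by
      refine ⟨hind ν, ?_⟩
      rw [codisjoint_iff, ← iSup_split_single, htop]
    have hQst : ∀ x ∈ Q, π x ∈ Q := by
      have : Q ≤ Q.comap π := by
        refine iSup₂_le fun j hj x hx => ?_
        exact (le_iSup₂ (f := fun j (_ : j ≠ ν) => Isoc.slopePart F j) j hj) (hπst j x hx)
      exact this
    have hfac := charpoly_eq_mul_of_isCompl π (hπst ν) hQst hcompl
    set χν := ((π.restrict (hπst ν)).charpoly.map (algebraMap K(p, k) Ω)) with hχν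
    have hle : χν.roots ≤ R := by
      apply Polynomial.roots.le_of_dvd hχ0
      rw [hfac, Polynomial.map_mul]
      exact dvd_mul_right _ _
    have hall : ∀ α ∈ χν.roots, SlopeCond p k m ν α := by
      intro α hα
      have hroot : χν.IsRoot α := (Polynomial.mem_roots'.mp hα).2
      obtain ⟨hP, hiso⟩ := slopePart_isIsoclinic c F ν
      refine slopeCond_of_isRoot c (F.restrict hP) (restrict_bijective c F hF.injective hP)
        (π.restrict (hπst ν)) (fun x => ?_) hiso hroot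
      apply Subtype.ext
      have h1 := iterate_comm (F₁ := F.restrict hP) (F₂ := F) (Isoc.slopePart F ν).subtype
        (fun _ => rfl) m x
      rw [Submodule.subtype_apply, Submodule.subtype_apply] at h1
      rw [h1, LinearMap.coe_restrict_apply, hπ]
    calc Module.finrank K(p, k) (Isoc.slopePart F ν)
        = Multiset.card χν.roots := (card_roots_charpoly_map _).symm
      _ = χν.roots.countP (SlopeCond p k m ν) := (Multiset.countP_eq_card.mpr hall).symm
      _ ≤ R.countP (SlopeCond p k m ν) := Multiset.countP_le_of_le _ hle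
  have hfin : {ν : ℚ | Isoc.slopePart F ν ≠ ⊥}.Finite :=
    WellFoundedGT.finite_ne_bot_of_iSupIndep hind
  have hTmem : ∀ ν, ν ∈ hfin.toFinset ↔ Isoc.slopePart F ν ≠ ⊥ := by
    intro ν
    rw [Set.Finite.mem_toFinset]
    rfl
  have hint := isInternal_slopePart c F hF
  have hintA : DirectSum.IsInternal
      (fun ν : hfin.toFinset => Isoc.slopePart F (ν : ℚ)) := by
    rw [DirectSum.isInternal_submodule_iff_iSupIndep_and_iSup_eq_top]
    refine ⟨hind.comp Subtype.val_injective, ?_⟩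
    rw [eq_top_iff, ← hint.submodule_iSup_eq_top]
    refine iSup_le fun ν => ?_
    by_cases hν : Isoc.slopePart F ν = ⊥
    · rw [hν]; exact bot_le
    · exact le_iSup (fun ν : hfin.toFinset => Isoc.slopePart F (ν : ℚ)) ⟨ν, (hTmem ν).mpr hν⟩
  have hrk : Module.finrank K(p, k) N =
      ∑ ν ∈ hfin.toFinset, Module.finrank K(p, k) (Isoc.slopePart F ν) := by
    rw [finrank_eq_sum_of_isInternal _ hintA,
      ← Finset.sum_coe_sort hfin.toFinset
        (fun ν => Module.finrank K(p, k) (Isoc.slopePart F ν))]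
  have hrk' : Module.finrank K(p, k) N =
      ∑ ν ∈ insert μ hfin.toFinset, Module.finrank K(p, k) (Isoc.slopePart F ν) := by
    rw [hrk]
    by_cases hμ : μ ∈ hfin.toFinset
    · rw [Finset.insert_eq_of_mem hμ]
    · rw [Finset.sum_insert hμ]
      have : Isoc.slopePart F μ = ⊥ := by
        by_contra h
        exact hμ ((hTmem μ).mpr h)
      rw [this, finrank_bot, zero_add]
  have hexcl : ∀ α ∈ R, ∀ i ∈ insert μ hfin.toFinset, ∀ j ∈ insert μ hfin.toFinset,
      SlopeCond p k m i α → SlopeCond p k m j α → i = j := by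
    intro α hα i _ j _ h1 h2
    have hroot := (Polynomial.mem_roots'.mp hα).2
    exact eq_of_slopeCond hm (EigenIntegral.ne_zero_of_isRoot_charpoly π hπb hroot) h1 h2
  have hup : ∑ ν ∈ insert μ hfin.toFinset, R.countP (SlopeCond p k m ν) ≤
      ∑ ν ∈ insert μ hfin.toFinset, Module.finrank K(p, k) (Isoc.slopePart F ν) := by
    rw [← hrk', ← hcard]
    exact sum_countP_le_card _ (fun ν => SlopeCond p k m ν) R hexcl
  have heq : ∑ ν ∈ insert μ hfin.toFinset, Module.finrank K(p, k) (Isoc.slopePart F ν) =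
      ∑ ν ∈ insert μ hfin.toFinset, R.countP (SlopeCond p k m ν) :=
    le_antisymm (Finset.sum_le_sum fun ν _ => hlow ν) hup
  have hfinal := (Finset.sum_eq_sum_iff_of_le (fun ν _ => hlow ν)).mp heq μ
    (Finset.mem_insert_self _ _)
  unfold Isoc.newtonMult
  rw [hfinal]
  congr

end Groth.Agent.Helper25.IsocLib

end
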