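import Groth.Agent.Lib.Helper25.IsocIndep

/-!
# Helper library for isocrystal statements (helper25): the p-adic Fitting decomposition
-/

set_option autoImplicit false
set_option linter.unusedSectionVars false

noncomputable section

open scoped Pointwise Isocrystal
open Filter Topology

universe u v w

namespace Groth.Agent.Helper25.IsocLib

variable {p : ℕ} [Fact p.Prime] {k : Type u} [Field k] [CharP k p] [PerfectRing k p]
variable {τ : K(p, k) →+* K(p, k)}
variable {N : Type v} [AddCommGroup N] [Module (WittVector p k) N] [Module K(p, k) N]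
  [IsScalarTower (WittVector p k) K(p, k) N]

/-! ### Completeness -/

theorem exists_limit_W (f : ℕ → WittVector p k)
    (hf : ∀ n, ((p : ℕ) : WittVector p k) ^ n ∣ f (n + 1) - f n) :
    ∃ a : WittVector p k, ∀ n, ((p : ℕ) : WittVector p k) ^ n ∣ a - f n := by
  have hprec : IsPrecomplete (Ideal.span {((p : ℕ) : WittVector p k)}) (WittVector p k) :=
    inferInstance
  have hcauchy : ∀ {m n}, m ≤ n → f m ≡ f n
      [SMOD ((Ideal.span {((p : ℕ) : WittVector p k)}) ^ m • ⊤ :
        Submodule (WittVector p k) (WittVector p k))] := by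
    intro m n hmn
    rw [SModEq.sub_mem, smul_eq_mul, Ideal.mul_top, Ideal.span_singleton_pow,
      Ideal.mem_span_singleton]
    induction n, hmn using Nat.le_induction with
    | base => simp
    | succ n hmn ih =>
      have h1 : f m - f (n + 1) = (f m - f n) - (f (n + 1) - f n) := by ring
      rw [h1]
      exact dvd_sub ih ((pow_dvd_pow _ hmn).trans (hf n))
  obtain ⟨a, ha⟩ := hprec.prec hcauchy
  refine ⟨a, fun n => ?_⟩
  have := ha n
  rw [SModEq.sub_mem, smul_eq_mul, Ideal.mul_top, Ideal.span_singleton_pow,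
    Ideal.mem_span_singleton] at this
  rw [← dvd_neg, neg_sub]
  exact this

theorem repr_sum_smul {h : ℕ} (e : Module.Basis (Fin h) K(p, k) N)
    (l : Fin h → WittVector p k) (i : Fin h) :
    e.repr (∑ j, l j • e j) i = algebraMap (WittVector p k) K(p, k) (l i) := by
  rw [map_sum, Finsupp.finsetSum_apply]
  simp_rw [← algebraMap_smul K(p, k) (l _) (e _), map_smul, Module.Basis.repr_self,
    Finsupp.smul_apply, Finsupp.single_apply, smul_eq_mul]
  simp

theorem exists_limit_lattice [Module.Finite K(p, k) N] {M : Submodule (WittVector p k) N}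
    (hM : M.IsLattice K(p, k)) (b : ℕ → N) (hb : ∀ n, b n ∈ M)
    (hc : ∀ n : ℕ, b (n + 1) - b n ∈ Isoc.pPow (n : ℤ) M) :
    ∃ x ∈ M, ∀ n : ℕ, x - b n ∈ Isoc.pPow (n : ℤ) M := by
  obtain ⟨e, he⟩ := exists_basis_span_eq hM (Module.finBasis K(p, k) N)
  have hcoord : ∀ n i, ∃ w : WittVector p k,
      e.repr (b n) i = algebraMap (WittVector p k) K(p, k) w :=
    fun n i => by
      obtain ⟨w, hw⟩ := (mem_iff_repr e he (b n)).mp (hb n) i
      exact ⟨w, hw.symm⟩
  choose a ha using hcoord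
  have hdiv : ∀ i n, ((p : ℕ) : WittVector p k) ^ n ∣ a (n + 1) i - a n i := by
    intro i n
    obtain ⟨w, hw⟩ := (mem_pPow_iff_repr e he n _).mp (hc n) i
    rw [map_sub, Finsupp.sub_apply, ha, ha, ← map_sub, zpow_natCast,
      ← map_natCast (algebraMap (WittVector p k) K(p, k)), ← map_pow, ← map_mul] at hw
    exact ⟨w, IsFractionRing.injective (WittVector p k) K(p, k) hw⟩
  have hlim : ∀ i, ∃ l : WittVector p k, ∀ n, ((p : ℕ) : WittVector p k) ^ n ∣ l - a n i :=
    fun i => exists_limit_W (fun n => a n i) (hdiv i)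
  choose l hl using hlim
  refine ⟨∑ i, l i • e i, sum_mem fun i _ => M.smul_mem _ (basis_mem e he i), fun n => ?_⟩
  rw [mem_pPow_iff_repr e he]
  intro i
  obtain ⟨w, hw⟩ := hl i n
  refine ⟨w, ?_⟩
  rw [map_sub, Finsupp.sub_apply, ha, repr_sum_smul, ← map_sub, hw, map_mul, map_pow,
    map_natCast, zpow_natCast]

/-! ### Images -/

section Fitting

theorem iterate_sub (G : N →ₛₗ[τ] N) (t : ℕ) (x y : N) :
    (⇑G)^[t] (x - y) = (⇑G)^[t] x - (⇑G)^[t] y := by
  rw [← Isoc.iter_apply, map_sub]; rfl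

variable (c : Compat τ) (G : N →ₛₗ[τ] N) {M : Submodule (WittVector p k) N}

include c

theorem iterate_mem_pPow_of_mem (hG : Isoc.latImg G 1 M ≤ M) {r : ℤ} {y : N}
    (hy : y ∈ Isoc.pPow r M) (t : ℕ) : (⇑G)^[t] y ∈ Isoc.pPow r M := by
  obtain ⟨y', hy', rfl⟩ := mem_pPow.mp hy
  rw [iterate_zpow_smul]
  exact smul_mem_pPow (latImg_le_self_of_le c G hG t (iterate_mem_latImg G t hy'))

theorem latImg_h_le_sup [Module.Finite K(p, k) N] {h : ℕ}
    (hh : Module.finrank K(p, k) N = h) (hG : Isoc.latImg G 1 M ≤ M) (j : ℕ) :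
    Isoc.latImg G h M ≤ Isoc.latImg G j M ⊔ Isoc.pPow 1 M := by
  let Lc : ℕ → Submodule (WittVector p k) N := fun i => Isoc.latImg G i M ⊔ Isoc.pPow 1 M
  have hanti : Antitone Lc := fun a b hab =>
    sup_le_sup_right (latImg_anti_of_le c G hG hab) _
  have h0 : Lc 0 ≤ M := by
    simp only [Lc, latImg_zero]
    exact sup_le le_rfl (pPow_natCast_le 1 M)
  have hp : Isoc.pPow 1 M ≤ Lc (h + 1) := le_sup_right
  obtain ⟨i, hi, hle⟩ := exists_le_succ_of_antitone_chain Lc hanti h0 h hh hp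
  have hi' : Isoc.latImg G i M ≤ Isoc.latImg G (i + 1) M ⊔ Isoc.pPow 1 M :=
    le_sup_left.trans hle
  have claim : ∀ t : ℕ, Isoc.latImg G i M ≤ Isoc.latImg G (i + t) M ⊔ Isoc.pPow 1 M := by
    intro t
    induction t with
    | zero => exact le_sup_left
    | succ t ih =>
      refine ih.trans (sup_le ?_ le_sup_right)
      calc Isoc.latImg G (i + t) M = Isoc.latImg G t (Isoc.latImg G i M) := by
            rw [add_comm, latImg_add c]
        _ ≤ Isoc.latImg G t (Isoc.latImg G (i + 1) M ⊔ Isoc.pPow 1 M) := latImg_mono G t hi'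
        _ = Isoc.latImg G (t + (i + 1)) M ⊔ Isoc.pPow 1 (Isoc.latImg G t M) := by
            rw [latImg_sup c, latImg_pPow c, ← latImg_add c]
        _ ≤ Isoc.latImg G (i + (t + 1)) M ⊔ Isoc.pPow 1 M := by
            rw [show t + (i + 1) = i + (t + 1) by ring]
            exact sup_le_sup_left (pPow_mono (latImg_le_self_of_le c G hG t)) _
  rcases le_or_gt j i with hji | hji
  · exact ((latImg_anti_of_le c G hG (hji.trans hi)).trans le_sup_left)
  · obtain ⟨t, rfl⟩ := Nat.exists_eq_add_of_le hji.le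
    exact (latImg_anti_of_le c G hG hi).trans (claim t)

theorem latImg_mul_h_le_sup [Module.Finite K(p, k) N] {h : ℕ}
    (hh : Module.finrank K(p, k) N = h) (hG : Isoc.latImg G 1 M ≤ M) (cc : ℕ) :
    ∀ j : ℕ, Isoc.latImg G (cc * h) M ≤ Isoc.latImg G j M ⊔ Isoc.pPow (cc : ℤ) M := by
  induction cc with
  | zero =>
    intro j
    simp only [Nat.zero_mul, latImg_zero, Nat.cast_zero, pPow_zero]
    exact le_sup_right
  | succ cc ih =>
    intro j
    rcases le_or_gt j h with hjh | hjh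
    · exact (latImg_anti_of_le c G hG (hjh.trans (Nat.le_mul_of_pos_left h (Nat.succ_pos cc)))).trans
        le_sup_left
    · obtain ⟨j', rfl⟩ := Nat.exists_eq_add_of_le hjh.le
      calc Isoc.latImg G ((cc + 1) * h) M
          = Isoc.latImg G h (Isoc.latImg G (cc * h) M) := by
            rw [← latImg_add c]; congr 1; ring
        _ ≤ Isoc.latImg G h (Isoc.latImg G j' M ⊔ Isoc.pPow (cc : ℤ) M) :=
            latImg_mono G h (ih j')
        _ = Isoc.latImg G (h + j') M ⊔ Isoc.pPow (cc : ℤ) (Isoc.latImg G h M) := by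
            rw [latImg_sup c, latImg_pPow c, ← latImg_add c]
        _ ≤ Isoc.latImg G (h + j') M ⊔
              Isoc.pPow (cc : ℤ) (Isoc.latImg G (h + j') M ⊔ Isoc.pPow 1 M) :=
            sup_le_sup_left (pPow_mono (latImg_h_le_sup c G hh hG (h + j'))) _
        _ ≤ Isoc.latImg G (h + j') M ⊔ Isoc.pPow ((cc + 1 : ℕ) : ℤ) M := by
            rw [pPow_sup, ← pPow_add]
            refine sup_le le_sup_left (sup_le ?_ ?_)
            · exact (pPow_natCast_le cc _).trans le_sup_left
            · push_cast; exact le_sup_right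

/-! ### Kernels -/

/-- `x ∈ M` with `G^j x ∈ p^cc M`. -/
def kerLat (M : Submodule (WittVector p k) N) (cc : ℕ) (j : ℕ) :
    Submodule (WittVector p k) N :=
  M ⊓ (Isoc.pPow (cc : ℤ) M).comap ((c.pow j).toW (Isoc.iter G j))

theorem mem_kerLat {cc j : ℕ} {x : N} :
    x ∈ kerLat c G M cc j ↔ x ∈ M ∧ (⇑G)^[j] x ∈ Isoc.pPow (cc : ℤ) M := Iff.rfl

theorem kerLat_mono_j (hG : Isoc.latImg G 1 M ≤ M) (cc : ℕ) {j j' : ℕ} (hjj : j ≤ j') :
    kerLat c G M cc j ≤ kerLat c G M cc j' := by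
  intro x hx0
  obtain ⟨hxM, hx⟩ := (mem_kerLat c G).mp hx0
  refine (mem_kerLat c G).mpr ⟨hxM, ?_⟩
  obtain ⟨t, rfl⟩ := Nat.exists_eq_add_of_le hjj
  rw [add_comm, Function.iterate_add_apply]
  exact iterate_mem_pPow_of_mem c G hG hx t

theorem kerLat_anti_cc {cc cc' : ℕ} (h : cc ≤ cc') (j : ℕ) :
    kerLat c G M cc' j ≤ kerLat c G M cc j := by
  intro x hx0
  obtain ⟨hxM, hx⟩ := (mem_kerLat c G).mp hx0
  exact (mem_kerLat c G).mpr ⟨hxM, pPow_anti (by exact_mod_cast h) M hx⟩

theorem kerLat_one_le [Module.Finite K(p, k) N] {h : ℕ}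
    (hh : Module.finrank K(p, k) N = h) (hG : Isoc.latImg G 1 M ≤ M) (j : ℕ) :
    kerLat c G M 1 j ≤ kerLat c G M 1 h := by
  have hGmem : ∀ x ∈ M, G x ∈ M := fun x hx =>
    hG (by simpa using iterate_mem_latImg G 1 hx)
  let Lc : ℕ → Submodule (WittVector p k) N := fun i => kerLat c G M 1 (h + 1 - i)
  have hanti : Antitone Lc := fun a b hab => kerLat_mono_j c G hG 1 (by omega)
  have h0 : Lc 0 ≤ M := fun x hx => ((mem_kerLat c G).mp hx).1
  have hp : Isoc.pPow 1 M ≤ Lc (h + 1) := by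
    intro x hx
    refine (mem_kerLat c G).mpr ⟨pPow_natCast_le 1 M hx, ?_⟩
    simpa using hx
  obtain ⟨i, hi, hle⟩ := exists_le_succ_of_antitone_chain Lc hanti h0 h hh hp
  have hle' : kerLat c G M 1 (h - i + 1) ≤ kerLat c G M 1 (h - i) := by
    have e1 : h + 1 - i = h - i + 1 := by omega
    have e2 : h + 1 - (i + 1) = h - i := by omega
    simpa only [Lc, e1, e2] using hle
  have claim : ∀ t : ℕ, kerLat c G M 1 (h - i + t) ≤ kerLat c G M 1 (h - i) := by
    intro t
    induction t with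
    | zero => exact le_rfl
    | succ t ih =>
      intro x hx0
      obtain ⟨hxM, hx⟩ := (mem_kerLat c G).mp hx0
      have h1 : G x ∈ kerLat c G M 1 (h - i + t) := by
        refine (mem_kerLat c G).mpr ⟨hGmem x hxM, ?_⟩
        rw [← Function.iterate_succ_apply]
        exact hx
      have h2 := ((mem_kerLat c G).mp (ih h1)).2
      rw [← Function.iterate_succ_apply] at h2
      exact hle' ((mem_kerLat c G).mpr ⟨hxM, h2⟩)
  rcases le_or_gt j (h - i) with hji | hji
  · exact kerLat_mono_j c G hG 1 (hji.trans (Nat.sub_le h i))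
  · obtain ⟨t, rfl⟩ := Nat.exists_eq_add_of_le hji.le
    exact (claim t).trans (kerLat_mono_j c G hG 1 (Nat.sub_le h i))

theorem kerLat_le [Module.Finite K(p, k) N] {h : ℕ}
    (hh : Module.finrank K(p, k) N = h) (hG : Isoc.latImg G 1 M ≤ M) (cc : ℕ) :
    ∀ j : ℕ, kerLat c G M cc j ≤ kerLat c G M cc (cc * h) := by
  induction cc with
  | zero =>
    intro j x hx
    have hxM := ((mem_kerLat c G).mp hx).1
    refine (mem_kerLat c G).mpr ⟨hxM, ?_⟩
    simpa using hxM
  | succ cc ih =>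
    intro j
    rcases le_or_gt j ((cc + 1) * h) with hjh | hjh
    · exact kerLat_mono_j c G hG _ hjh
    · intro x hx0
      obtain ⟨hxM, hx⟩ := (mem_kerLat c G).mp hx0
      refine (mem_kerLat c G).mpr ⟨hxM, ?_⟩
      have h1 : x ∈ kerLat c G M cc (cc * h) :=
        ih j (kerLat_anti_cc c G (Nat.le_succ cc) j hx0)
      obtain ⟨y, hyM, hy⟩ := mem_pPow.mp ((mem_kerLat c G).mp h1).2
      have hj : j = (j - cc * h) + cc * h := by
        have : cc * h ≤ j := by nlinarith
        omega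
      -- `G^(j - cc h) y ∈ p M`
      have h2 : (⇑G)^[j - cc * h] y ∈ Isoc.pPow 1 M := by
        rw [hj, Function.iterate_add_apply, ← hy, iterate_zpow_smul] at hx
        have h3 := mem_pPow_iff.mp hx
        rw [smul_smul, ← zpow_add₀ pL_ne_zero] at h3
        rw [mem_pPow_iff]
        convert h3 using 2
        push_cast
        ring_nf
      have h4 : (⇑G)^[h] y ∈ Isoc.pPow 1 M :=
        ((mem_kerLat c G).mp
          (kerLat_one_le c G hh hG (j - cc * h) ((mem_kerLat c G).mpr ⟨hyM, h2⟩))).2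
      have h5 : (⇑G)^[(cc + 1) * h] x =
          (((p : ℕ) : K(p, k)) ^ (cc : ℤ)) • (⇑G)^[h] y := by
        rw [show (cc + 1) * h = h + cc * h by ring, Function.iterate_add_apply, ← hy,
          iterate_zpow_smul]
      rw [h5]
      have := smul_mem_pPow (r := (cc : ℤ)) h4
      rw [← pPow_add] at this
      convert this using 2
      push_cast
      ring

/-! ### The decomposition at level `cc` -/

theorem exists_sub_mem_kerLat [Module.Finite K(p, k) N] {h : ℕ}
    (hh : Module.finrank K(p, k) N = h) (hG : Isoc.latImg G 1 M ≤ M) (cc : ℕ) {x : N}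
    (hx : x ∈ M) : ∃ b ∈ Isoc.latImg G (cc * h) M, x - b ∈ kerLat c G M cc (cc * h) := by
  have h1 : (⇑G)^[cc * h] x ∈ Isoc.latImg G (cc * h + cc * h) M ⊔ Isoc.pPow (cc : ℤ) M :=
    latImg_mul_h_le_sup c G hh hG cc _ (iterate_mem_latImg G _ hx)
  obtain ⟨u, hu, v, hv, huv⟩ := Submodule.mem_sup.mp h1
  obtain ⟨x', hx', rfl⟩ := (mem_latImg c G _ M).mp hu
  rw [Function.iterate_add_apply] at huv
  refine ⟨(⇑G)^[cc * h] x', iterate_mem_latImg G _ hx', (mem_kerLat c G).mpr ⟨?_, ?_⟩⟩
  · exact M.sub_mem hx (latImg_le_self_of_le c G hG _ (iterate_mem_latImg G _ hx'))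
  · rw [iterate_sub, ← huv, add_sub_cancel_left]
    exact hv

theorem mem_pPow_of_mem_latImg_of_mem_kerLat [Module.Finite K(p, k) N] {h : ℕ}
    (hh : Module.finrank K(p, k) N = h) (hG : Isoc.latImg G 1 M ≤ M) (cc : ℕ) {u : N}
    (hu : u ∈ Isoc.latImg G (cc * h) M) (hk : u ∈ kerLat c G M cc (cc * h)) :
    u ∈ Isoc.pPow (cc : ℤ) M := by
  obtain ⟨v, hv, rfl⟩ := (mem_latImg c G _ M).mp hu
  have h1 : v ∈ kerLat c G M cc (cc * h + cc * h) := by
    refine (mem_kerLat c G).mpr ⟨hv, ?_⟩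
    rw [Function.iterate_add_apply]
    exact ((mem_kerLat c G).mp hk).2
  exact ((mem_kerLat c G).mp (kerLat_le c G hh hG cc _ h1)).2

/-- The `p`-adic Fitting decomposition of elements of `M`. -/
theorem exists_fitting_decomp [Module.Finite K(p, k) N] {h : ℕ}
    (hh : Module.finrank K(p, k) N = h) (hpos : 0 < h) (hM : M.IsLattice K(p, k))
    (hGs : Function.Surjective G) (hG : Isoc.latImg G 1 M ≤ M) {x : N} (hx : x ∈ M) :
    ∃ b z : N, x = b + z ∧ (∀ j, b ∈ Isoc.latImg G j M) ∧ z ∈ M ∧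
      ∀ cc : ℕ, (⇑G)^[cc * h] z ∈ Isoc.pPow (cc : ℤ) M := by
  choose b hb hz using fun cc : ℕ => exists_sub_mem_kerLat c G hh hG cc hx
  have hbM : ∀ cc, b cc ∈ M := fun cc => latImg_le_self_of_le c G hG _ (hb cc)
  have hcauchy : ∀ cc : ℕ, b (cc + 1) - b cc ∈ Isoc.pPow (cc : ℤ) M := by
    intro cc
    apply mem_pPow_of_mem_latImg_of_mem_kerLat c G hh hG cc
    · refine Submodule.sub_mem _ ?_ (hb cc)
      exact latImg_anti_of_le c G hG (Nat.mul_le_mul_right h (Nat.le_succ cc)) (hb (cc + 1))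
    · have h1 : b (cc + 1) - b cc = (x - b cc) - (x - b (cc + 1)) := by abel
      rw [h1]
      refine Submodule.sub_mem _ (hz cc) ?_
      exact kerLat_le c G hh hG cc _ (kerLat_anti_cc c G (Nat.le_succ cc) _ (hz (cc + 1)))
  obtain ⟨bl, hblM, hbl⟩ := exists_limit_lattice hM b hbM hcauchy
  refine ⟨bl, x - bl, by abel, ?_, M.sub_mem hx hblM, ?_⟩
  · intro j
    obtain ⟨c₀, hc₀⟩ := exists_pPow_le_latImg_one c G hGs hM
    have h1 := pPow_mul_le_latImg c G hc₀ j
    set cc := max (j * c₀) j with hcc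
    have h2 : bl = b cc + (bl - b cc) := by abel
    rw [h2]
    refine Submodule.add_mem _ ?_ ?_
    · refine latImg_anti_of_le c G hG ?_ (hb cc)
      calc j ≤ cc := le_max_right _ _
        _ ≤ cc * h := Nat.le_mul_of_pos_right cc hpos
    · refine h1 (pPow_anti ?_ M (hbl cc))
      have : j * c₀ ≤ cc := le_max_left _ _
      exact_mod_cast this
  · intro cc
    have h1 : x - bl = (x - b cc) - (bl - b cc) := by abel
    rw [h1, iterate_sub]
    exact Submodule.sub_mem _ ((mem_kerLat c G).mp (hz cc)).2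
      (iterate_mem_pPow_of_mem c G hG (hbl cc) _)

end Fitting

end Groth.Agent.Helper25.IsocLib

end
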