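import Groth.Agent.Lib.Helper25.IsocOn2

/-!
# Helper library for isocrystal statements (helper25): independence of the slope parts
-/

set_option autoImplicit false
set_option linter.unusedSectionVars false

noncomputable section

open scoped Pointwise Isocrystal
open Filter Topology

universe u v w

namespace Groth.Agent.Helper25.IsocLib

variable {p : ℕ} [Fact p.Prime] {k : Type u} [Field k] [CharP k p] [PerfectRing k p]
variable {τ : K(p, k) →+* K(p, k)}
variable {N : Type v} [AddCommGroup N] [Module (WittVector p k) N] [Module K(p, k) N]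
  [IsScalarTower (WittVector p k) K(p, k) N]

/-- A stable subspace of an isoclinic stable subspace is isoclinic of the same slope. -/
theorem isIsoclinicOn_of_le (c : Compat τ) (F : N →ₛₗ[τ] N) (hF : Function.Injective F)
    [Module.Finite K(p, k) N] {P P' : Submodule K(p, k) N} (hle : P' ≤ P)
    (hP' : ∀ x ∈ P', F x ∈ P') {μ : ℚ} (h : IsIsoclinicOn F P μ) : IsIsoclinicOn F P' μ := by
  obtain ⟨M, hfg, hsp, r, s, hs, hμ, he⟩ := h
  refine ⟨M ⊓ P'.restrictScalars (WittVector p k), Submodule.FG.of_le hfg inf_le_left, ?_, r, s,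
    hs, hμ, ?_⟩
  · apply le_antisymm
    · exact Submodule.span_le.mpr fun x hx => hx.2
    · intro x hx
      obtain ⟨c₀, hc₀⟩ := exists_natPow_smul_mem' (M := M) (x := x) (hsp ▸ hle hx)
      exact mem_span_of_natPow_smul_mem (M := M ⊓ P'.restrictScalars (WittVector p k))
        ⟨hc₀, P'.smul_mem _ hx⟩
  · ext x
    rw [mem_latImg c, mem_pPow_iff]
    constructor
    · rintro ⟨y, ⟨hyM, hyP⟩, rfl⟩
      have h1 : (⇑F)^[s] y ∈ Isoc.pPow r M := he ▸ iterate_mem_latImg F s hyM
      exact ⟨mem_pPow_iff.mp h1, P'.smul_mem _ (iterate_mem_of_mem F hP' s hyP)⟩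
    · rintro ⟨hxM, hxP⟩
      have h1 : x ∈ Isoc.latImg F s M := he ▸ mem_pPow_iff.mpr hxM
      obtain ⟨y, hyM, rfl⟩ := (mem_latImg c F s M).mp h1
      have h2 : (⇑F)^[s] y ∈ P' := by
        have := P'.smul_mem (((p : ℕ) : K(p, k)) ^ r) hxP
        rwa [smul_smul, ← zpow_add₀ pL_ne_zero, add_neg_cancel, zpow_zero, one_smul] at this
      exact ⟨y, ⟨hyM, mem_of_iterate_mem c F hF hP' s h2⟩, rfl⟩

theorem finset_sup_slopePart_stable (F : N →ₛₗ[τ] N) (T : Finset ℚ) :
    ∀ x ∈ T.sup (fun ν => Isoc.slopePart F ν), F x ∈ T.sup (fun ν => Isoc.slopePart F ν) := by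
  have : T.sup (fun ν => Isoc.slopePart F ν) ≤
      (T.sup (fun ν => Isoc.slopePart F ν)).comap F := by
    refine Finset.sup_le fun ν hν x hx => ?_
    exact (Finset.le_sup (f := fun ν => Isoc.slopePart F ν) hν) (slopePart_stable F ν x hx)
  exact fun x hx => this hx

theorem inf_finset_sup_slopePart_eq_bot (c : Compat τ) (F : N →ₛₗ[τ] N)
    (hF : Function.Injective F) [Module.Finite K(p, k) N] {μ : ℚ} (T : Finset ℚ) :
    μ ∉ T → ∀ (P : Submodule K(p, k) N), (∀ x ∈ P, F x ∈ P) → IsIsoclinicOn F P μ →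
      P ⊓ T.sup (fun ν => Isoc.slopePart F ν) = ⊥ := by
  classical
  induction T using Finset.induction_on with
  | empty => intro _ P _ _; simp
  | insert ν T' hν ih =>
    intro hμ P hP hPiso
    have hμν : μ ≠ ν := fun h => hμ (h ▸ Finset.mem_insert_self _ _)
    have hμT' : μ ∉ T' := fun h => hμ (Finset.mem_insert_of_mem h)
    rw [Finset.sup_insert]
    set Q' := T'.sup (fun ν => Isoc.slopePart F ν) with hQ'
    have hQ's := finset_sup_slopePart_stable F T'
    have hQ'le : Q' ≤ Q'.comap F := fun x hx => hQ's x hx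
    set R := P ⊓ (Isoc.slopePart F ν ⊔ Q') with hR
    have hRs : ∀ x ∈ R, F x ∈ R := by
      rintro x ⟨hxP, hxQ⟩
      refine ⟨hP x hxP, ?_⟩
      obtain ⟨y, hy, z, hz, rfl⟩ := Submodule.mem_sup.mp hxQ
      rw [map_add]
      exact Submodule.add_mem_sup (slopePart_stable F ν y hy) (hQ's z hz)
    have hRiso : IsIsoclinicOn F R μ := isIsoclinicOn_of_le c F hF inf_le_left hRs hPiso
    -- pass to the quotient by `Q'`
    set Fq := Q'.mapQ Q' F hQ'le with hFq
    have hcomm : ∀ x, Q'.mkQ (F x) = Fq (Q'.mkQ x) := fun x => rfl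
    have hFqinj : Function.Injective Fq := by
      rw [← LinearMap.ker_eq_bot, LinearMap.ker_eq_bot']
      intro y hy
      obtain ⟨x, rfl⟩ := Q'.mkQ_surjective y
      rw [← hcomm] at hy
      have h1 : F x ∈ Q' := (Submodule.Quotient.mk_eq_zero Q').mp hy
      have h2 : x ∈ Q' := mem_of_iterate_mem c F hF hQ's 1 h1
      exact (Submodule.Quotient.mk_eq_zero Q').mpr h2
    have e1 : IsIsoclinicOn Fq (R.map Q'.mkQ) μ := isIsoclinicOn_map c F Fq Q'.mkQ hcomm hRiso
    have e2 : IsIsoclinicOn Fq ((Isoc.slopePart F ν).map Q'.mkQ) ν :=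
      isIsoclinicOn_map c F Fq Q'.mkQ hcomm (slopePart_isIsoclinicOn c F ν)
    have hle : R.map Q'.mkQ ≤ (Isoc.slopePart F ν).map Q'.mkQ := by
      rintro _ ⟨x, ⟨-, hxQ⟩, rfl⟩
      obtain ⟨y, hy, z, hz, rfl⟩ := Submodule.mem_sup.mp hxQ
      refine ⟨y, hy, ?_⟩
      have hz0 : Q'.mkQ z = 0 := (Submodule.Quotient.mk_eq_zero Q').mpr hz
      rw [map_add, hz0, add_zero]
    have hstab : ∀ y ∈ R.map Q'.mkQ, Fq y ∈ R.map Q'.mkQ := by
      rintro _ ⟨x, hx, rfl⟩
      exact ⟨F x, hRs x hx, hcomm x⟩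
    have e3 : IsIsoclinicOn Fq (R.map Q'.mkQ) ν := isIsoclinicOn_of_le c Fq hFqinj hle hstab e2
    have hbot : R.map Q'.mkQ = ⊥ := by
      by_contra hne
      exact hμν (isIsoclinicOn_unique c Fq hne e1 e3)
    have hRQ' : R ≤ Q' := by
      intro x hx
      have : Q'.mkQ x ∈ R.map Q'.mkQ := ⟨x, hx, rfl⟩
      rw [hbot] at this
      exact (Submodule.Quotient.mk_eq_zero Q').mp this
    have := ih hμT' P hP hPiso
    rw [eq_bot_iff] at this ⊢
    exact fun x hx => this ⟨hx.1, hRQ' hx⟩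

theorem iSupIndep_slopePart (c : Compat τ) (F : N →ₛₗ[τ] N) (hF : Function.Injective F)
    [Module.Finite K(p, k) N] : iSupIndep (fun μ : ℚ => Isoc.slopePart F μ) := by
  classical
  rw [iSupIndep_iff_finsetSum_eq_zero_imp_eq_zero]
  intro s v hv hsum i hi
  have h1 : v i = - ∑ j ∈ s.erase i, v j := by
    rw [eq_neg_iff_add_eq_zero, Finset.add_sum_erase s v hi]
    exact hsum
  have h2 : v i ∈ (s.erase i).sup (fun ν => Isoc.slopePart F ν) := by
    rw [h1]
    refine neg_mem (sum_mem fun j hj => ?_)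
    exact (Finset.le_sup (f := fun ν => Isoc.slopePart F ν) hj) (hv j (Finset.mem_of_mem_erase hj))
  have h3 := inf_finset_sup_slopePart_eq_bot c F hF (s.erase i) (Finset.notMem_erase i s)
    (Isoc.slopePart F i) (slopePart_stable F i) (slopePart_isIsoclinicOn c F i)
  have h4 : v i ∈ Isoc.slopePart F i ⊓ (s.erase i).sup (fun ν => Isoc.slopePart F ν) :=
    ⟨hv i hi, h2⟩
  rw [h3] at h4
  exact (Submodule.mem_bot _).mp h4

end Groth.Agent.Helper25.IsocLib

end
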