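import Groth.Agent.Lib.Helper25.IsocRat

/-!
# Helper library for isocrystal statements (helper25): isoclinic isocrystals
-/

set_option autoImplicit false
set_option linter.unusedSectionVars false

noncomputable section

open scoped Pointwise Isocrystal
open Filter Topology

universe u v w

namespace Groth.Agent.Helper25.IsocLib

variable {p : ℕ} [Fact p.Prime] {k : Type u} [Field k] [CharP k p] [PerfectRing k p]
variable {N : Type v} [AddCommGroup N] [Module (WittVector p k) N] [Module K(p, k) N]
  [IsScalarTower (WittVector p k) K(p, k) N]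
variable {τ : K(p, k) →+* K(p, k)}

theorem finrank_pos_of_isFirstSlope (c : Compat τ) (F : N →ₛₗ[τ] N) [Module.Finite K(p, k) N]
    {lam : ℝ} (hlam : Isoc.IsFirstSlope F lam) : 0 < Module.finrank K(p, k) N := by
  obtain ⟨M₀, hM₀, o, ho, -⟩ := id hlam
  have hM0 : M₀ ≠ ⊥ := isOrd_ne_bot c (ho 1 le_rfl)
  obtain ⟨x, -, hx0⟩ := Submodule.exists_mem_ne_zero_of_ne_bot hM0
  have : Nontrivial N := nontrivial_of_ne x 0 hx0
  exact Module.finrank_pos

/-- If `F^s M ⊆ p^r M` and the determinant of `F^s` has order exactly `r h`, then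
`F^s M = p^r M`. -/
theorem latImg_eq_of_le_of_isOrdP {h : ℕ} (cτ : Compat τ) (e : Module.Basis (Fin h) K(p, k) N)
    {M : Submodule (WittVector p k) N}
    (he : Submodule.span (WittVector p k) (Set.range e) = M) (F : N →ₛₗ[τ] N) {s : ℕ} {r : ℤ}
    (hle : Isoc.latImg F s M ≤ Isoc.pPow r M)
    (hord : Isoc.IsOrdP (Isoc.detCoeff e (Isoc.iter F s)) (r * h)) :
    Isoc.latImg F s M = Isoc.pPow r M := by
  apply le_antisymm hle
  have hent : ∀ i j, ∃ w : WittVector p k, e.repr ((⇑F)^[s] (e j)) i =
      ((p : ℕ) : K(p, k)) ^ r * algebraMap (WittVector p k) K(p, k) w := fun i j =>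
    (mem_pPow_iff_repr e he r _).mp (hle (iterate_mem_latImg F s (basis_mem e he j))) i
  choose B hB using hent
  set A : Matrix (Fin h) (Fin h) K(p, k) := e.toMatrix (fun j => Isoc.iter F s (e j)) with hAdef
  set Bm : Matrix (Fin h) (Fin h) (WittVector p k) := Matrix.of B with hBm
  have hA : A = (((p : ℕ) : K(p, k)) ^ r) • Bm.map (algebraMap (WittVector p k) K(p, k)) := by
    ext i j
    simp [A, Bm, Module.Basis.toMatrix_apply, Isoc.iter_apply, hB]
  have hdet : A.det = ((p : ℕ) : K(p, k)) ^ (r * h) *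
      algebraMap (WittVector p k) K(p, k) Bm.det := by
    rw [hA, Matrix.det_smul, Fintype.card_fin, RingHom.map_det, RingHom.mapMatrix_apply,
      ← zpow_natCast, ← zpow_mul]
  obtain ⟨u, hu⟩ := hord
  have hBu : Bm.det = u := by
    apply IsFractionRing.injective (WittVector p k) K(p, k)
    have h1 : A.det = ((p : ℕ) : K(p, k)) ^ (r * h) *
        algebraMap (WittVector p k) K(p, k) (u : WittVector p k) := hu
    rw [hdet] at h1
    exact mul_left_cancel₀ (zpow_pL_ne_zero _) h1
  have hBunit : IsUnit Bm.det := hBu ▸ u.isUnit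
  let C : Matrix (Fin h) (Fin h) (WittVector p k) := (Bm⁻¹).map (cτ.pow s).σ.symm
  let m : Fin h → N := fun j => ∑ i, C i j • e i
  have hmM : ∀ j, m j ∈ M := fun j => sum_mem fun i _ => M.smul_mem _ (basis_mem e he i)
  have hm_repr : e.toMatrix m = C.map (algebraMap (WittVector p k) K(p, k)) := by
    ext i j
    simp only [Module.Basis.toMatrix_apply, m, map_sum, Matrix.map_apply]
    rw [Finsupp.finsetSum_apply]
    simp_rw [← algebraMap_smul K(p, k) (C _ j) (e _), map_smul, Module.Basis.repr_self,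
      Finsupp.smul_apply, Finsupp.single_apply, smul_eq_mul]
    simp
  have key : e.toMatrix (fun j => Isoc.iter F s (m j)) =
      (((p : ℕ) : K(p, k)) ^ r) • (1 : Matrix (Fin h) (Fin h) K(p, k)) := by
    rw [toMatrix_semilinear, hm_repr, ← hAdef, hA]
    have hmap : (C.map (algebraMap (WittVector p k) K(p, k))).map (τ ^ s) =
        (Bm⁻¹).map (algebraMap (WittVector p k) K(p, k)) := by
      ext i j
      simp only [Matrix.map_apply, C]
      rw [(cτ.pow s).map_alg]
      simp
    rw [hmap, Matrix.smul_mul, ← Matrix.map_mul, Matrix.mul_nonsing_inv _ hBunit]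
    simp
  have hFm : ∀ j, (⇑F)^[s] (m j) = (((p : ℕ) : K(p, k)) ^ r) • e j := by
    intro j
    apply e.repr.injective
    ext i
    have := congrFun (congrFun key i) j
    simp only [Module.Basis.toMatrix_apply, Isoc.iter_apply] at this
    rw [this]
    simp [Matrix.one_apply, Finsupp.single_apply, eq_comm]
  intro x hx
  obtain ⟨y, hy, rfl⟩ := mem_pPow.mp hx
  clear hx
  rw [← he] at hy
  induction hy using Submodule.span_induction with
  | mem z hz =>
    obtain ⟨j, rfl⟩ := hz
    rw [← hFm j]
    exact iterate_mem_latImg F s (hmM j)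
  | zero => simp
  | add a b _ _ ha hb => rw [smul_add]; exact add_mem ha hb
  | smul w a _ ha => rw [smul_comm]; exact Submodule.smul_mem _ w ha

/-- If the first slope is `d/h` (the average slope) then `F^h M = p^d M` for some lattice. -/
theorem exists_latImg_eq_of_isFirstSlope (c : Compat τ) (F : N →ₛₗ[τ] N)
    [Module.Finite K(p, k) N] {h : ℕ} (b : Module.Basis (Fin h) K(p, k) N) {d : ℤ}
    (hd : Isoc.IsOrdP (Isoc.detCoeff b F) d) (hlam : Isoc.IsFirstSlope F ((d : ℝ) / h)) :
    ∃ M : Submodule (WittVector p k) N, M.IsLattice K(p, k) ∧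
      Isoc.latImg F h M = Isoc.pPow d M := by
  have hh : Module.finrank K(p, k) N = h := by
    rw [Module.finrank_eq_card_basis b, Fintype.card_fin]
  have hpos : 0 < h := hh ▸ finrank_pos_of_isFirstSlope c F hlam
  obtain ⟨M, hM, hle⟩ := exists_latImg_le_of_div_le c F hlam hpos le_rfl
  obtain ⟨e, he⟩ := exists_basis_span_eq hM b
  have hord := isOrdP_detCoeff_iter c e F (isOrdP_detCoeff_of_basis c b e F hd) h
  rw [mul_comm] at hord
  exact ⟨M, hM, latImg_eq_of_le_of_isOrdP c e he F hle hord⟩

end Groth.Agent.Helper25.IsocLib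

end
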