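import Groth.Agent.Lib.Helper25.IsocBasic

/-!
# Helper library for isocrystal statements (helper25): lattices, orders
-/

set_option autoImplicit false
set_option linter.unusedSectionVars false

noncomputable section

open scoped Pointwise Isocrystal

universe u v w

namespace Groth.Agent.Helper25.IsocLib

variable {p : ℕ} [Fact p.Prime] {k : Type u} [Field k] [CharP k p] [PerfectRing k p]

/-- Every element of `L` becomes integral after multiplying by a power of `p`. -/
theorem exists_pow_mul_eq_algebraMap (l : K(p, k)) :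
    ∃ (m : ℕ) (w : WittVector p k),
      ((p : ℕ) : K(p, k)) ^ m * l = algebraMap (WittVector p k) K(p, k) w := by
  obtain ⟨a, b, hb, rfl⟩ := IsFractionRing.div_surjective (A := WittVector p k) l
  have hb0 : b ≠ 0 := nonZeroDivisors.ne_zero hb
  obtain ⟨m, u, hu⟩ := WittVector.exists_eq_pow_p_mul' b hb0
  refine ⟨m, a * ((u⁻¹ : (WittVector p k)ˣ) : WittVector p k), ?_⟩
  have h1 : algebraMap (WittVector p k) K(p, k) (u : WittVector p k) *
      algebraMap (WittVector p k) K(p, k) ((u⁻¹ : (WittVector p k)ˣ) : WittVector p k) = 1 := by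
    rw [← map_mul, Units.mul_inv, map_one]
  have hu0 : algebraMap (WittVector p k) K(p, k) (u : WittVector p k) ≠ 0 :=
    left_ne_zero_of_mul_eq_one h1
  have hp0 : ((p : ℕ) : K(p, k)) ^ m ≠ 0 := pow_ne_zero _ pL_ne_zero
  rw [hu, map_mul, map_mul, map_pow, map_natCast]
  rw [eq_inv_of_mul_eq_one_right h1]
  field_simp

variable {N : Type v} [AddCommGroup N] [Module (WittVector p k) N] [Module K(p, k) N]
  [IsScalarTower (WittVector p k) K(p, k) N]

theorem exists_natPow_smul_mem {M : Submodule (WittVector p k) N}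
    (hM : Submodule.span K(p, k) (M : Set N) = ⊤) (x : N) :
    ∃ c : ℕ, (((p : ℕ) : K(p, k)) ^ (c : ℤ)) • x ∈ M := by
  have hx : x ∈ Submodule.span K(p, k) (M : Set N) := hM ▸ Submodule.mem_top
  induction hx using Submodule.span_induction with
  | mem y hy => exact ⟨0, by simpa using hy⟩
  | zero => exact ⟨0, by simp⟩
  | add x y _ _ hx hy =>
    obtain ⟨c₁, h₁⟩ := hx
    obtain ⟨c₂, h₂⟩ := hy
    refine ⟨c₁ + c₂, ?_⟩
    rw [smul_add]
    refine M.add_mem ?_ ?_
    · have : (((p : ℕ) : K(p, k)) ^ ((c₁ + c₂ : ℕ) : ℤ)) • x =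
          (((p : ℕ) : K(p, k)) ^ (c₂ : ℤ)) • (((p : ℕ) : K(p, k)) ^ (c₁ : ℤ)) • x := by
        rw [smul_smul, ← zpow_add₀ pL_ne_zero]; push_cast; rw [add_comm]
      rw [this]; exact natPow_smul_mem c₂ h₁
    · have : (((p : ℕ) : K(p, k)) ^ ((c₁ + c₂ : ℕ) : ℤ)) • y =
          (((p : ℕ) : K(p, k)) ^ (c₁ : ℤ)) • (((p : ℕ) : K(p, k)) ^ (c₂ : ℤ)) • y := by
        rw [smul_smul, ← zpow_add₀ pL_ne_zero]; push_cast; rfl
      rw [this]; exact natPow_smul_mem c₁ h₂
  | smul l x _ hx =>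
    obtain ⟨c, hc⟩ := hx
    obtain ⟨m, w, hw⟩ := exists_pow_mul_eq_algebraMap l
    refine ⟨m + c, ?_⟩
    have : (((p : ℕ) : K(p, k)) ^ ((m + c : ℕ) : ℤ)) • (l • x) =
        w • ((((p : ℕ) : K(p, k)) ^ (c : ℤ)) • x) := by
      rw [← algebraMap_smul K(p, k) w, ← hw, smul_smul, smul_smul]
      congr 1
      push_cast
      rw [zpow_add₀ pL_ne_zero, zpow_natCast, zpow_natCast]
      ring
    rw [this]; exact M.smul_mem w hc

theorem exists_le_pPow_neg {M M' : Submodule (WittVector p k) N}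
    (hM : Submodule.span K(p, k) (M : Set N) = ⊤) (hM' : M'.FG) :
    ∃ c : ℕ, M' ≤ Isoc.pPow (-(c : ℤ)) M := by
  refine Submodule.fg_induction
    (motive := fun M' _ => ∃ c : ℕ, M' ≤ Isoc.pPow (-(c : ℤ)) M) ?_ ?_ M' hM'
  · intro x
    obtain ⟨c, hc⟩ := exists_natPow_smul_mem hM x
    refine ⟨c, ?_⟩
    rw [Submodule.span_singleton_le_iff_mem, mem_pPow_iff, neg_neg]
    exact hc
  · rintro M₁ M₂ _ _ ⟨c₁, h₁⟩ ⟨c₂, h₂⟩
    refine ⟨max c₁ c₂, sup_le (h₁.trans (pPow_anti ?_ M)) (h₂.trans (pPow_anti ?_ M))⟩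
    · exact neg_le_neg (by exact_mod_cast le_max_left _ _)
    · exact neg_le_neg (by exact_mod_cast le_max_right _ _)

theorem eq_zero_of_forall_mem_pPow {M : Submodule (WittVector p k) N} (hM : M.FG) {x : N}
    (hx : ∀ n : ℕ, x ∈ Isoc.pPow (n : ℤ) M) : x = 0 := by
  have hx0 : x ∈ M := by simpa using hx 0
  have : Module.Finite (WittVector p k) M := Module.Finite.iff_fg.mpr hM
  have hI : Ideal.span {((p : ℕ) : WittVector p k)} ≠ ⊤ := by
    rw [Ne, Ideal.span_singleton_eq_top]; exact (WittVector.irreducible p).not_isUnit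
  have key := Ideal.iInf_pow_smul_eq_bot_of_isLocalRing (M := M) _ hI
  have hmem : (⟨x, hx0⟩ : M) ∈ (⨅ i : ℕ, (Ideal.span {((p : ℕ) : WittVector p k)}) ^ i • ⊤ :
      Submodule (WittVector p k) M) := by
    rw [Submodule.mem_iInf]
    intro n
    obtain ⟨y, hy, hyx⟩ := mem_pPow.mp (hx n)
    rw [natPow_smul_eq] at hyx
    have : (⟨x, hx0⟩ : M) = (((p : ℕ) : WittVector p k) ^ n) • (⟨y, hy⟩ : M) :=
      Subtype.ext hyx.symm
    rw [this]
    exact Submodule.smul_mem_smul (Ideal.pow_mem_pow (Ideal.mem_span_singleton_self _) n)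
      Submodule.mem_top
  rw [key] at hmem
  simpa using congrArg Subtype.val ((Submodule.mem_bot _).mp hmem)

theorem not_pPow_le_pPow {M : Submodule (WittVector p k) N} (hM : M.FG) (hM0 : M ≠ ⊥) {r r' : ℤ}
    (h : r < r') : ¬ Isoc.pPow r M ≤ Isoc.pPow r' M := by
  intro hle
  have h1 : M ≤ Isoc.pPow 1 M := by
    have := pPow_mono (r := -r) hle
    rw [← pPow_add, ← pPow_add, neg_add_cancel, pPow_zero] at this
    exact this.trans (pPow_anti (by omega) M)
  have hn : ∀ n : ℕ, M ≤ Isoc.pPow (n : ℤ) M := by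
    intro n
    induction n with
    | zero => simp
    | succ n ih =>
      calc M ≤ Isoc.pPow 1 M := h1
        _ ≤ Isoc.pPow 1 (Isoc.pPow n M) := pPow_mono ih
        _ = Isoc.pPow ((n + 1 : ℕ) : ℤ) M := by
          rw [← pPow_add]; congr 1; push_cast; ring
  apply hM0
  rw [eq_bot_iff]
  intro x hx
  exact (Submodule.mem_bot _).mpr (eq_zero_of_forall_mem_pPow hM fun n => hn n hx)

theorem pPow_le_pPow_iff_le {M : Submodule (WittVector p k) N} (hM : M.FG) (hM0 : M ≠ ⊥)
    {r r' : ℤ} : Isoc.pPow r M ≤ Isoc.pPow r' M ↔ r' ≤ r := by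
  refine ⟨fun h => ?_, fun h => pPow_anti h M⟩
  by_contra hlt
  exact not_pPow_le_pPow hM hM0 (not_le.mp hlt) h

theorem ne_bot_of_span_eq_top [Nontrivial N] {M : Submodule (WittVector p k) N}
    (hM : Submodule.span K(p, k) (M : Set N) = ⊤) : M ≠ ⊥ := by
  rintro rfl
  rw [Submodule.bot_coe, Submodule.span_zero_singleton] at hM
  exact bot_ne_top hM

end Groth.Agent.Helper25.IsocLib

end
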