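import Groth.Agent.Lib.Helper25.IsocDet

/-!
# Helper library for isocrystal statements (helper25): main results on slopes
-/

set_option autoImplicit false
set_option linter.unusedSectionVars false

noncomputable section

open scoped Pointwise Isocrystal
open Filter Topology

universe u v w

namespace Groth.Agent.Helper25.IsocLib

variable {p : ℕ} [Fact p.Prime] {k : Type u} [Field k] [CharP k p] [PerfectRing k p]
variable {N : Type v} [AddCommGroup N] [Module (WittVector p k) N] [Module K(p, k) N]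
  [IsScalarTower (WittVector p k) K(p, k) N]
variable {τ : K(p, k) →+* K(p, k)}

theorem isOrd_of_latImg_eq {F : N →ₛₗ[τ] N} {M : Submodule (WittVector p k) N} (hM : M.FG)
    (hM0 : M ≠ ⊥) {s : ℕ} {r : ℤ} (h : Isoc.latImg F s M = Isoc.pPow r M) :
    Isoc.IsOrd M F s r :=
  ⟨h.le, by rw [h]; exact not_pPow_le_pPow hM hM0 (by omega)⟩

/-- The first slope exists for every non-zero lattice, and is computed by any lattice. -/
theorem exists_isFirstSlope (c : Compat τ) (F : N →ₛₗ[τ] N) (hF : Function.Bijective F)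
    {M : Submodule (WittVector p k) N} (hM : M.IsLattice K(p, k)) (hM0 : M ≠ ⊥) :
    ∃ (o : ℕ → ℤ) (lam : ℝ), (∀ n : ℕ, Isoc.IsOrd M F n (o n)) ∧
      Tendsto (fun n : ℕ => (o n : ℝ) / n) atTop (𝓝 lam) ∧ Isoc.IsFirstSlope F lam := by
  choose o ho using fun n => exists_isOrd c F hF.injective hM hM0 n
  obtain ⟨lam, hlam⟩ := exists_tendsto_of_isOrd c F hF.surjective hM hM0 o (fun n _ => ho n)
  exact ⟨o, lam, ho, hlam, M, hM, o, fun n _ => ho n, hlam⟩

/-- The first slope, once it exists, is computed by every lattice and every order function. -/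
theorem tendsto_of_isFirstSlope (c : Compat τ) (F : N →ₛₗ[τ] N) {lam : ℝ}
    (hlam : Isoc.IsFirstSlope F lam) (hF : Function.Bijective F)
    {M : Submodule (WittVector p k) N} (hM : M.IsLattice K(p, k))
    (o : ℕ → ℤ) (ho : ∀ n : ℕ, 1 ≤ n → Isoc.IsOrd M F n (o n)) :
    Tendsto (fun n : ℕ => (o n : ℝ) / n) atTop (𝓝 lam) := by
  obtain ⟨M', hM', o', ho', hlim'⟩ := hlam
  have hM0 : M ≠ ⊥ := isOrd_ne_bot c (ho 1 le_rfl)
  obtain ⟨lam₂, h₂⟩ := exists_tendsto_of_isOrd c F hF.surjective hM hM0 o ho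
  have := tendsto_unique_of_isOrd c F hM' hM o' o ho' ho lam lam₂ hlim' h₂
  rw [this]; exact h₂

theorem isFirstSlope_unique (c : Compat τ) (F : N →ₛₗ[τ] N) {lam lam' : ℝ}
    (hlam : Isoc.IsFirstSlope F lam) (hlam' : Isoc.IsFirstSlope F lam') : lam = lam' := by
  obtain ⟨M, hM, o, ho, hlim⟩ := hlam
  obtain ⟨M', hM', o', ho', hlim'⟩ := hlam'
  exact tendsto_unique_of_isOrd c F hM hM' o o' ho ho' lam lam' hlim hlim'

/-- If `F^s M ⊆ p^r M` for a lattice `M` then the first slope is at least `r/s`. -/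
theorem div_le_of_latImg_le (c : Compat τ) (F : N →ₛₗ[τ] N) (hF : Function.Bijective F)
    {lam : ℝ} (hlam : Isoc.IsFirstSlope F lam)
    {M : Submodule (WittVector p k) N} (hM : M.IsLattice K(p, k)) {s : ℕ} (hs : 0 < s) {r : ℤ}
    (hle : Isoc.latImg F s M ≤ Isoc.pPow r M) : (r : ℝ) / s ≤ lam := by
  have hM0 : M ≠ ⊥ := by
    obtain ⟨M', hM', o', ho', -⟩ := hlam
    have h0 : M' ≠ ⊥ := isOrd_ne_bot c (ho' 1 le_rfl)
    rintro rfl
    apply h0
    obtain ⟨c₀, hc₀⟩ := exists_le_pPow_neg hM.span_eq_top hM'.fg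
    rw [pPow_bot] at hc₀
    exact eq_bot_iff.mpr hc₀
  choose o ho using fun n => exists_isOrd c F hF.injective hM hM0 n
  have hlim := tendsto_of_isFirstSlope c F hlam hF hM o (fun n _ => ho n)
  have hmul : Tendsto (fun j : ℕ => j * s) atTop atTop :=
    tendsto_atTop_mono (fun j => Nat.le_mul_of_pos_right j hs) tendsto_id
  have h1 := hlim.comp hmul
  refine ge_of_tendsto h1 ?_
  filter_upwards [eventually_ge_atTop 1] with j hj
  have h2 := (isOrd_le_iff (ho (j * s))).mp (latImg_mul_le c F M hle j)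
  have h3 : ((j * r : ℤ) : ℝ) ≤ (o (j * s) : ℝ) := by exact_mod_cast h2
  simp only [Function.comp_apply]
  have hj' : (0 : ℝ) < j := by exact_mod_cast hj
  have hs' : (0 : ℝ) < s := by exact_mod_cast hs
  push_cast at h3 ⊢
  rw [div_le_div_iff₀ hs' (mul_pos hj' hs')]
  nlinarith

/-- If `F^s M = p^r M` for a non-zero lattice `M` then the first slope is `r/s`. -/
theorem isFirstSlope_of_latImg_eq (c : Compat τ) (F : N →ₛₗ[τ] N) (hF : Function.Bijective F)
    {M : Submodule (WittVector p k) N} (hM : M.IsLattice K(p, k)) (hM0 : M ≠ ⊥) {s : ℕ}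
    (hs : 0 < s) {r : ℤ} (heq : Isoc.latImg F s M = Isoc.pPow r M) :
    Isoc.IsFirstSlope F ((r : ℝ) / s) := by
  obtain ⟨o, lam, ho, hlim, hfs⟩ := exists_isFirstSlope c F hF hM hM0
  have hmul : Tendsto (fun j : ℕ => j * s) atTop atTop :=
    tendsto_atTop_mono (fun j => Nat.le_mul_of_pos_right j hs) tendsto_id
  have h1 := hlim.comp hmul
  have h2 : Tendsto ((fun n : ℕ => (o n : ℝ) / n) ∘ fun j : ℕ => j * s) atTop
      (𝓝 ((r : ℝ) / s)) := by
    refine tendsto_const_nhds.congr' ?_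
    filter_upwards [eventually_ge_atTop 1] with j hj
    have h3 : o (j * s) = j * r :=
      isOrd_unique (ho (j * s)) (isOrd_of_latImg_eq hM.fg hM0 (latImg_mul_eq c F M heq j))
    simp only [Function.comp_apply]
    rw [h3]
    have hj' : (j : ℝ) ≠ 0 := by exact_mod_cast (by omega : j ≠ 0)
    have hs' : (s : ℝ) ≠ 0 := by exact_mod_cast hs.ne'
    push_cast
    field_simp
  rw [← tendsto_nhds_unique h1 h2]
  exact hfs

end Groth.Agent.Helper25.IsocLib

end
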