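import Groth.Agent.Lib.Helper25.IsocDecomp
import Groth.Agent.Lib.Helper25.IsocStd
import Mathlib.Algebra.DirectSum.LinearMap
import Mathlib.Algebra.BigOperators.Finprod
import Mathlib.LinearAlgebra.Matrix.Block

/-!
# Helper library for isocrystal statements (helper25): the end point of the Newton polygon
-/

set_option autoImplicit false
set_option linter.unusedSectionVars false

noncomputable section

open scoped Pointwise Isocrystal
open Filter Topology

universe u v w

namespace Groth.Agent.Helper25.IsocLib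

variable {p : ℕ} [Fact p.Prime] {k : Type u} [Field k] [CharP k p] [PerfectRing k p]
variable {τ : K(p, k) →+* K(p, k)}
variable {N : Type v} [AddCommGroup N] [Module (WittVector p k) N] [Module K(p, k) N]
  [IsScalarTower (WittVector p k) K(p, k) N]

theorem isOrdP_prod {ι : Type*} (s : Finset ι) (c : ι → K(p, k)) (r : ι → ℤ)
    (h : ∀ i ∈ s, Isoc.IsOrdP (c i) (r i)) : Isoc.IsOrdP (∏ i ∈ s, c i) (∑ i ∈ s, r i) := by
  classical
  induction s using Finset.induction_on with
  | empty => simpa using isOrdP_one (p := p) (k := k)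
  | insert a s ha ih =>
    rw [Finset.prod_insert ha, Finset.sum_insert ha]
    exact isOrdP_mul (h a (Finset.mem_insert_self _ _))
      (ih fun i hi => h i (Finset.mem_insert_of_mem hi))

theorem det_blockDiagonal'_aux {ι : Type*} [Fintype ι] [DecidableEq ι] [LinearOrder ι]
    {m' : ι → Type*} [∀ i, Fintype (m' i)] [∀ i, DecidableEq (m' i)] {R : Type*} [CommRing R]
    (d : ∀ i, Matrix (m' i) (m' i) R) : (Matrix.blockDiagonal' d).det = ∏ i, (d i).det := by
  rw [(Matrix.blockTriangular_blockDiagonal' d).det_fintype]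
  refine Finset.prod_congr rfl fun k _ => ?_
  have : (Matrix.blockDiagonal' d).toSquareBlock Sigma.fst k =
      (d k).submatrix (Equiv.sigmaSubtype k) (Equiv.sigmaSubtype k) := by
    ext ⟨⟨a, i'⟩, hi⟩ ⟨⟨a', j'⟩, hj⟩
    dsimp only at hi hj
    subst hi
    subst hj
    simp [Matrix.toSquareBlock_def]
  rw [this, Matrix.det_submatrix_equiv_self]

/-- The determinant coefficient in a basis collected from an `F`-stable decomposition. -/
theorem detCoeff_collected {ι : Type*} [Fintype ι] [DecidableEq ι] [LinearOrder ι]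
    (A : ι → Submodule K(p, k) N) (hint : DirectSum.IsInternal A) (F : N →ₛₗ[τ] N)
    (hA : ∀ i, ∀ x ∈ A i, F x ∈ A i) (m : ι → ℕ)
    (v : ∀ i, Module.Basis (Fin (m i)) K(p, k) (A i)) {h : ℕ}
    (e : (Σ i, Fin (m i)) ≃ Fin h) :
    Isoc.detCoeff ((hint.collectedBasis v).reindex e) F =
      ∏ i, Isoc.detCoeff (v i) (F.restrict (hA i)) := by
  have h1 : (Matrix.of fun a b => ((hint.collectedBasis v).reindex e).repr
        (F (((hint.collectedBasis v).reindex e) b)) a) =
      (Matrix.blockDiagonal' fun i => Matrix.of fun a b =>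
        (v i).repr (F.restrict (hA i) (v i b)) a).submatrix e.symm e.symm := by
    ext a b
    rw [Matrix.submatrix_apply, Matrix.of_apply, Module.Basis.repr_reindex_apply,
      Module.Basis.reindex_apply]
    generalize e.symm a = a'
    generalize e.symm b = b'
    obtain ⟨i, a''⟩ := a'
    obtain ⟨j, b''⟩ := b'
    rw [hint.collectedBasis_coe]
    have hmem : F ((v j b'' : A j) : N) ∈ A j := hA j _ (v j b'').2
    by_cases hij : i = j
    · subst hij
      rw [Matrix.blockDiagonal'_apply_eq, Matrix.of_apply]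
      exact hint.collectedBasis_repr_of_mem v hmem
    · rw [Matrix.blockDiagonal'_apply_ne _ _ _ hij]
      exact hint.collectedBasis_repr_of_mem_ne v (Ne.symm hij) hmem
  unfold Isoc.detCoeff
  rw [h1, Matrix.det_submatrix_equiv_self, det_blockDiagonal'_aux]

/-- `orddet` of an isocrystal with an isoclinic decomposition. -/
theorem orddet_eq_sum_of_isInternal {ι : Type*} [Fintype ι] [DecidableEq ι] [LinearOrder ι]
    (c : Compat τ)
    (F : N →ₛₗ[τ] N) (hF : Function.Injective F) [Module.Finite K(p, k) N]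
    (A : ι → Submodule K(p, k) N) (hint : DirectSum.IsInternal A)
    (hA : ∀ i, ∀ x ∈ A i, F x ∈ A i) (μ : ι → ℚ)
    (hiso : ∀ i, Isoc.IsIsoclinic (F.restrict (hA i)) (μ i)) {h : ℕ}
    (b : Module.Basis (Fin h) K(p, k) N) {d : ℤ} (hd : Isoc.IsOrdP (Isoc.detCoeff b F) d) :
    (d : ℚ) = ∑ i, μ i * (Module.finrank K(p, k) (A i) : ℚ) := by
  let v : ∀ i, Module.Basis (Fin (Module.finrank K(p, k) (A i))) K(p, k) (A i) :=
    fun i => Module.finBasis K(p, k) (A i)
  have hblock : ∀ i, ∃ di : ℤ, Isoc.IsOrdP (Isoc.detCoeff (v i) (F.restrict (hA i))) di ∧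
      (di : ℚ) = μ i * (Module.finrank K(p, k) (A i) : ℚ) := by
    intro i
    have hinj : Function.Injective (F.restrict (hA i)) := by
      intro x y hxy
      apply Subtype.ext
      apply hF
      exact congrArg Subtype.val hxy
    obtain ⟨di, hdi⟩ := exists_isOrdP (detCoeff_ne_zero c (F.restrict (hA i)) hinj (v i))
    refine ⟨di, hdi, ?_⟩
    obtain ⟨M, hM, r, s, hs, hrs, heq⟩ := hiso i
    have h1 := mul_eq_of_latImg_eq c (F.restrict (hA i)) (v i) hdi hM heq
    have hs' : (s : ℚ) ≠ 0 := by exact_mod_cast hs.ne'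
    have h2 : (r : ℚ) * (Module.finrank K(p, k) (A i) : ℚ) = (s : ℚ) * (di : ℚ) := by
      exact_mod_cast h1
    rw [← hrs]
    field_simp
    linarith
  choose dd hdd hddeq using hblock
  have hcard : Fintype.card (Σ i, Fin (Module.finrank K(p, k) (A i))) = h := by
    rw [← Module.finrank_eq_card_basis (hint.collectedBasis v), Module.finrank_eq_card_basis b,
      Fintype.card_fin]
  let e := Fintype.equivFinOfCardEq hcard
  have h1 := detCoeff_collected A hint F hA _ v e
  have h2 : Isoc.IsOrdP (Isoc.detCoeff ((hint.collectedBasis v).reindex e) F) (∑ i, dd i) := by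
    rw [h1]
    exact isOrdP_prod _ _ _ (fun i _ => hdd i)
  have h3 := isOrdP_detCoeff_of_basis c b ((hint.collectedBasis v).reindex e) F hd
  have h4 : d = ∑ i, dd i := isOrdP_unique h3 h2
  rw [h4]
  push_cast
  exact Finset.sum_congr rfl fun i _ => hddeq i

/-- The Newton polygon ends at `(h, orddet F)`. -/
theorem finsum_mul_newtonMult (c : Compat τ) (F : N →ₛₗ[τ] N) (hF : Function.Bijective F)
    [Module.Finite K(p, k) N] {h : ℕ} (b : Module.Basis (Fin h) K(p, k) N) {d : ℤ}
    (hd : Isoc.IsOrdP (Isoc.detCoeff b F) d) :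
    ∑ᶠ μ : ℚ, μ * (Isoc.newtonMult F μ : ℚ) = d := by
  classical
  have hint := isInternal_slopePart c F hF
  have hind := iSupIndep_slopePart c F hF.injective
  have hfin : {μ : ℚ | Isoc.slopePart F μ ≠ ⊥}.Finite :=
    WellFoundedGT.finite_ne_bot_of_iSupIndep hind
  have hTmem : ∀ μ, μ ∈ hfin.toFinset ↔ Isoc.slopePart F μ ≠ ⊥ := by
    intro μ
    rw [Set.Finite.mem_toFinset]
    rfl
  have hsum : ∑ᶠ μ : ℚ, μ * (Isoc.newtonMult F μ : ℚ) =
      ∑ μ ∈ hfin.toFinset, μ * (Isoc.newtonMult F μ : ℚ) := by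
    apply finsum_eq_sum_of_support_subset
    intro μ hμ
    rw [Function.mem_support] at hμ
    rw [Finset.mem_coe, hTmem]
    intro hbot
    apply hμ
    have : Isoc.newtonMult F μ = 0 := by
      unfold Isoc.newtonMult
      rw [hbot]
      exact finrank_bot _ _
    rw [this]
    simp
  rw [hsum]
  have hintA : DirectSum.IsInternal
      (fun μ : hfin.toFinset => Isoc.slopePart F (μ : ℚ)) := by
    rw [DirectSum.isInternal_submodule_iff_iSupIndep_and_iSup_eq_top]
    refine ⟨hind.comp Subtype.val_injective, ?_⟩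
    rw [eq_top_iff, ← hint.submodule_iSup_eq_top]
    refine iSup_le fun μ => ?_
    by_cases hμ : Isoc.slopePart F μ = ⊥
    · rw [hμ]; exact bot_le
    · exact le_iSup (fun μ : hfin.toFinset => Isoc.slopePart F (μ : ℚ)) ⟨μ, (hTmem μ).mpr hμ⟩
  have hmain := orddet_eq_sum_of_isInternal c F hF.injective
    (fun μ : hfin.toFinset => Isoc.slopePart F (μ : ℚ)) hintA
    (fun μ => slopePart_stable F (μ : ℚ)) (fun μ => (μ : ℚ))
    (fun μ => (slopePart_isIsoclinic c F (μ : ℚ)).2) b hd
  rw [hmain, ← Finset.sum_coe_sort hfin.toFinset (fun μ => μ * (Isoc.newtonMult F μ : ℚ))]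
  rfl

end Groth.Agent.Helper25.IsocLib

end
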