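import Groth.Agent.Lib.Helper25.IsocIsoclinic

/-!
# Helper library for isocrystal statements (helper25): isoclinic subspaces (internal form)
-/

set_option autoImplicit false
set_option linter.unusedSectionVars false

noncomputable section

open scoped Pointwise Isocrystal
open Filter Topology

universe u v w

namespace Groth.Agent.Helper25.IsocLib

variable {p : ℕ} [Fact p.Prime] {k : Type u} [Field k] [CharP k p] [PerfectRing k p]
variable {τ : K(p, k) →+* K(p, k)}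

theorem Compat.bijective (c : Compat τ) : Function.Bijective τ := by
  refine ⟨τ.injective, fun l => ?_⟩
  obtain ⟨a, b, hb, rfl⟩ := IsFractionRing.div_surjective (A := WittVector p k) l
  refine ⟨algebraMap (WittVector p k) K(p, k) (c.σ.symm a) /
    algebraMap (WittVector p k) K(p, k) (c.σ.symm b), ?_⟩
  rw [map_div₀, c.map_alg, c.map_alg]
  simp

/-- An injective semilinear endomorphism (w.r.t. a bijective twist) of a finite-dimensional
space is surjective. -/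
theorem semilinear_surjective_of_injective {K : Type*} {V : Type*} [Field K] [AddCommGroup V]
    [Module K V] [FiniteDimensional K V] {τ : K →+* K} (hτ : Function.Bijective τ)
    (F : V →ₛₗ[τ] V) (hF : Function.Injective F) : Function.Surjective F := by
  classical
  let b := Module.finBasis K V
  obtain ⟨τinv, hl, hr⟩ := Function.bijective_iff_has_inverse.mp hτ
  have hli : LinearIndependent K (fun i => F (b i)) := by
    rw [Fintype.linearIndependent_iff]
    intro g hg i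
    have h1 : F (∑ i, τinv (g i) • b i) = 0 := by
      rw [map_sum, ← hg]
      refine Finset.sum_congr rfl fun i _ => ?_
      rw [map_smulₛₗ, hr (g i)]
    have h0 := hF (h1.trans (map_zero F).symm)
    have h2 := Fintype.linearIndependent_iff.mp b.linearIndependent _ h0 i
    have h3 := congrArg τ h2
    rwa [hr, map_zero] at h3
  have hsp : Submodule.span K (Set.range fun i => F (b i)) = ⊤ :=
    hli.span_eq_top_of_card_eq_finrank' (by simp)
  intro y
  have hy : y ∈ Submodule.span K (Set.range fun i => F (b i)) := hsp ▸ Submodule.mem_top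
  induction hy using Submodule.span_induction with
  | mem z hz => obtain ⟨i, rfl⟩ := hz; exact ⟨b i, rfl⟩
  | zero => exact ⟨0, map_zero F⟩
  | add a b' _ _ ha hb =>
    obtain ⟨x, rfl⟩ := ha
    obtain ⟨x', rfl⟩ := hb
    exact ⟨x + x', map_add F _ _⟩
  | smul c a _ ha =>
    obtain ⟨x, rfl⟩ := ha
    exact ⟨τinv c • x, by rw [map_smulₛₗ, hr]⟩

section One

variable {N : Type v} [AddCommGroup N] [Module (WittVector p k) N] [Module K(p, k) N]
  [IsScalarTower (WittVector p k) K(p, k) N]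

theorem exists_natPow_smul_mem' {M : Submodule (WittVector p k) N} {x : N}
    (hx : x ∈ Submodule.span K(p, k) (M : Set N)) :
    ∃ c : ℕ, (((p : ℕ) : K(p, k)) ^ (c : ℤ)) • x ∈ M := by
  induction hx using Submodule.span_induction with
  | mem y hy => exact ⟨0, by simpa using hy⟩
  | zero => exact ⟨0, by simp⟩
  | add x y _ _ hx hy =>
    obtain ⟨c₁, h₁⟩ := hx
    obtain ⟨c₂, h₂⟩ := hy
    refine ⟨c₁ + c₂, ?_⟩
    rw [smul_add]
    refine M.add_mem ?_ ?_
    · have : (((p : ℕ) : K(p, k)) ^ ((c₁ + c₂ : ℕ) : ℤ)) • x =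
          (((p : ℕ) : K(p, k)) ^ (c₂ : ℤ)) • (((p : ℕ) : K(p, k)) ^ (c₁ : ℤ)) • x := by
        rw [smul_smul, ← zpow_add₀ pL_ne_zero]; push_cast; rw [add_comm]
      rw [this]; exact natPow_smul_mem c₂ h₁
    · have : (((p : ℕ) : K(p, k)) ^ ((c₁ + c₂ : ℕ) : ℤ)) • y =
          (((p : ℕ) : K(p, k)) ^ (c₁ : ℤ)) • (((p : ℕ) : K(p, k)) ^ (c₂ : ℤ)) • y := by
        rw [smul_smul, ← zpow_add₀ pL_ne_zero]; push_cast; rfl
      rw [this]; exact natPow_smul_mem c₁ h₂
  | smul l x _ hx =>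
    obtain ⟨c, hc⟩ := hx
    obtain ⟨m, w, hw⟩ := exists_pow_mul_eq_algebraMap l
    refine ⟨m + c, ?_⟩
    have : (((p : ℕ) : K(p, k)) ^ ((m + c : ℕ) : ℤ)) • (l • x) =
        w • ((((p : ℕ) : K(p, k)) ^ (c : ℤ)) • x) := by
      rw [← algebraMap_smul K(p, k) w, ← hw, smul_smul, smul_smul]
      congr 1
      push_cast
      rw [zpow_add₀ pL_ne_zero, zpow_natCast, zpow_natCast]
      ring
    rw [this]; exact M.smul_mem w hc

theorem exists_le_pPow_neg' {M M' : Submodule (WittVector p k) N} (hM' : M'.FG)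
    (hle : ∀ x ∈ M', x ∈ Submodule.span K(p, k) (M : Set N)) :
    ∃ c : ℕ, M' ≤ Isoc.pPow (-(c : ℤ)) M := by
  revert hle
  refine Submodule.fg_induction
    (motive := fun M' _ => (∀ x ∈ M', x ∈ Submodule.span K(p, k) (M : Set N)) →
      ∃ c : ℕ, M' ≤ Isoc.pPow (-(c : ℤ)) M) ?_ ?_ M' hM'
  · intro x hx
    obtain ⟨c, hc⟩ := exists_natPow_smul_mem' (hx x (Submodule.mem_span_singleton_self x))
    refine ⟨c, ?_⟩
    rw [Submodule.span_singleton_le_iff_mem, mem_pPow_iff, neg_neg]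
    exact hc
  · rintro M₁ M₂ _ _ h₁ h₂ hle
    obtain ⟨c₁, h₁⟩ := h₁ fun x hx => hle x (Submodule.mem_sup_left hx)
    obtain ⟨c₂, h₂⟩ := h₂ fun x hx => hle x (Submodule.mem_sup_right hx)
    refine ⟨max c₁ c₂, sup_le (h₁.trans (pPow_anti ?_ M)) (h₂.trans (pPow_anti ?_ M))⟩
    · exact neg_le_neg (by exact_mod_cast le_max_left _ _)
    · exact neg_le_neg (by exact_mod_cast le_max_right _ _)

theorem mem_span_of_natPow_smul_mem {M : Submodule (WittVector p k) N} {x : N} {c : ℤ}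
    (h : (((p : ℕ) : K(p, k)) ^ c) • x ∈ M) : x ∈ Submodule.span K(p, k) (M : Set N) := by
  have : x = (((p : ℕ) : K(p, k)) ^ (-c)) • ((((p : ℕ) : K(p, k)) ^ c) • x) := by
    rw [smul_smul, zpow_neg, inv_mul_cancel₀ (zpow_pL_ne_zero c), one_smul]
  rw [this]
  exact Submodule.smul_mem _ _ (Submodule.subset_span h)

/-- internal form of isoclinicity of a subspace -/
def IsIsoclinicOn (F : N →ₛₗ[τ] N) (P : Submodule K(p, k) N) (μ : ℚ) : Prop :=
  ∃ M : Submodule (WittVector p k) N, M.FG ∧ Submodule.span K(p, k) (M : Set N) = P ∧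
    ∃ (r : ℤ) (s : ℕ), 0 < s ∧ (r : ℚ) / s = μ ∧ Isoc.latImg F s M = Isoc.pPow r M

theorem isIsoclinic_iff_on_top (F : N →ₛₗ[τ] N) (μ : ℚ) :
    Isoc.IsIsoclinic F μ ↔ IsIsoclinicOn F ⊤ μ := by
  constructor
  · rintro ⟨M, hM, r, s, hs, hμ, h⟩
    exact ⟨M, hM.fg, hM.span_eq_top, r, s, hs, hμ, h⟩
  · rintro ⟨M, hfg, hsp, r, s, hs, hμ, h⟩
    exact ⟨M, ⟨hfg, hsp⟩, r, s, hs, hμ, h⟩

theorem isIsoclinicOn_bot (c : Compat τ) (F : N →ₛₗ[τ] N) (μ : ℚ) : IsIsoclinicOn F ⊥ μ := by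
  refine ⟨⊥, Submodule.fg_bot, by simp, μ.num, μ.den, μ.den_pos, ?_, ?_⟩
  · exact_mod_cast Rat.num_div_den μ
  · rw [latImg_bot c, pPow_bot]

theorem span_sup_eq (M₁ M₂ : Submodule (WittVector p k) N) :
    Submodule.span K(p, k) ((M₁ ⊔ M₂ : Submodule (WittVector p k) N) : Set N) =
      Submodule.span K(p, k) (M₁ : Set N) ⊔ Submodule.span K(p, k) (M₂ : Set N) := by
  have h : (M₁ ⊔ M₂ : Submodule (WittVector p k) N) =
      Submodule.span (WittVector p k) ((M₁ : Set N) ∪ (M₂ : Set N)) := by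
    rw [Submodule.span_union, Submodule.span_eq, Submodule.span_eq]
  rw [h, Submodule.span_span_of_tower, Submodule.span_union]

theorem isIsoclinicOn_sup (c : Compat τ) (F : N →ₛₗ[τ] N) {P₁ P₂ : Submodule K(p, k) N} {μ : ℚ}
    (h₁ : IsIsoclinicOn F P₁ μ) (h₂ : IsIsoclinicOn F P₂ μ) : IsIsoclinicOn F (P₁ ⊔ P₂) μ := by
  obtain ⟨M₁, hfg₁, hsp₁, r₁, s₁, hs₁, hμ₁, he₁⟩ := h₁
  obtain ⟨M₂, hfg₂, hsp₂, r₂, s₂, hs₂, hμ₂, he₂⟩ := h₂
  have hs₁' : (s₁ : ℚ) ≠ 0 := by exact_mod_cast hs₁.ne'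
  have hs₂' : (s₂ : ℚ) ≠ 0 := by exact_mod_cast hs₂.ne'
  have hrr : (s₂ : ℤ) * r₁ = (s₁ : ℤ) * r₂ := by
    have : (r₁ : ℚ) / s₁ = (r₂ : ℚ) / s₂ := hμ₁.trans hμ₂.symm
    rw [div_eq_div_iff hs₁' hs₂'] at this
    have h2 : ((s₂ : ℤ) * r₁ : ℚ) = ((s₁ : ℤ) * r₂ : ℚ) := by push_cast; linarith
    exact_mod_cast h2
  refine ⟨M₁ ⊔ M₂, hfg₁.sup hfg₂, by rw [span_sup_eq, hsp₁, hsp₂], (s₂ : ℤ) * r₁, s₂ * s₁,
    Nat.mul_pos hs₂ hs₁, ?_, ?_⟩
  · rw [← hμ₁]
    push_cast
    field_simp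
  · rw [latImg_sup c, latImg_mul_eq c F M₁ he₁ s₂, pPow_sup]
    congr 1
    rw [mul_comm s₂ s₁, latImg_mul_eq c F M₂ he₂ s₁, hrr]

theorem isIsoclinicOn_finset_sup (c : Compat τ) (F : N →ₛₗ[τ] N) {μ : ℚ}
    (t : Finset (Submodule K(p, k) N)) (ht : ∀ P ∈ t, IsIsoclinicOn F P μ) :
    IsIsoclinicOn F (t.sup id) μ :=
  Finset.sup_induction (p := fun P => IsIsoclinicOn F P μ) (isIsoclinicOn_bot c F μ)
    (fun _ h₁ _ h₂ => isIsoclinicOn_sup c F h₁ h₂) ht

/-- uniqueness of the slope of a non-zero isoclinic subspace -/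
theorem isIsoclinicOn_unique (c : Compat τ) (F : N →ₛₗ[τ] N) {P : Submodule K(p, k) N}
    (hP0 : P ≠ ⊥) {μ μ' : ℚ} (h : IsIsoclinicOn F P μ) (h' : IsIsoclinicOn F P μ') : μ = μ' := by
  -- it suffices to prove an inequality, by symmetry
  have key : ∀ {μ μ' : ℚ}, IsIsoclinicOn F P μ → IsIsoclinicOn F P μ' → μ' ≤ μ := by
    intro μ μ' h h'
    obtain ⟨M, hfg, hsp, r, s, hs, hμ, he⟩ := h
    obtain ⟨M', hfg', hsp', r', s', hs', hμ', he'⟩ := h'
    have hM0 : M ≠ ⊥ := by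
      rintro rfl
      apply hP0
      rw [← hsp]; simp
    obtain ⟨c₁, hc₁⟩ := exists_le_pPow_neg' (M := M) hfg' (fun x hx => by
      have h0 : x ∈ Submodule.span K(p, k) (M' : Set N) := Submodule.subset_span hx
      rwa [hsp', ← hsp] at h0)
    obtain ⟨c₂, hc₂⟩ := exists_le_pPow_neg' (M := M') hfg (fun x hx => by
      have h0 : x ∈ Submodule.span K(p, k) (M : Set N) := Submodule.subset_span hx
      rwa [hsp, ← hsp'] at h0)
    -- `p^{n s' r} M = F^{n s' s} M ⊆ p^{-c₂} F^{n s s'} M' = p^{n s r' - c₂} M' ⊆ p^{n s r' - c₂ - c₁} M`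
    have hineq : ∀ n : ℕ, (n : ℤ) * (s * r') - c₂ - c₁ ≤ (n : ℤ) * (s' * r) := by
      intro n
      have e1 : Isoc.latImg F (n * (s' * s)) M = Isoc.pPow ((n : ℤ) * (s' * r)) M := by
        exact latImg_mul_eq c F M (latImg_mul_eq c F M he s') n
      have e2 : Isoc.latImg F (n * (s' * s)) M' = Isoc.pPow ((n : ℤ) * (s * r')) M' := by
        have := latImg_mul_eq c F M' (latImg_mul_eq c F M' he' s) n
        rw [show n * (s' * s) = n * (s * s') by ring, this]
      have h1 : Isoc.pPow ((n : ℤ) * (s' * r)) M ≤ Isoc.pPow ((n : ℤ) * (s * r') - c₂ - c₁) M := by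
        rw [← e1]
        calc Isoc.latImg F (n * (s' * s)) M
            ≤ Isoc.latImg F (n * (s' * s)) (Isoc.pPow (-(c₂ : ℤ)) M') := latImg_mono F _ hc₂
          _ = Isoc.pPow (-(c₂ : ℤ)) (Isoc.pPow ((n : ℤ) * (s * r')) M') := by
              rw [latImg_pPow c, e2]
          _ ≤ Isoc.pPow (-(c₂ : ℤ)) (Isoc.pPow ((n : ℤ) * (s * r'))
                (Isoc.pPow (-(c₁ : ℤ)) M)) := pPow_mono (pPow_mono hc₁)
          _ = Isoc.pPow ((n : ℤ) * (s * r') - c₂ - c₁) M := by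
              rw [← pPow_add, ← pPow_add]; congr 1; ring
      exact (pPow_le_pPow_iff_le hfg hM0).mp h1
    -- hence `s r' ≤ s' r`
    have hle : (s : ℤ) * r' ≤ (s' : ℤ) * r := by
      by_contra hlt
      push Not at hlt
      have := hineq (c₂ + c₁ + 1)
      push_cast at this
      nlinarith
    rw [← hμ, ← hμ']
    have hs0 : (0 : ℚ) < s := by exact_mod_cast hs
    have hs0' : (0 : ℚ) < s' := by exact_mod_cast hs'
    rw [div_le_div_iff₀ hs0' hs0]
    have : ((s : ℤ) * r' : ℚ) ≤ ((s' : ℤ) * r : ℚ) := by exact_mod_cast hle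
    push_cast at this
    linarith
  exact le_antisymm (key h' h) (key h h')

/-- `F`-stability of a subspace in the reverse direction. -/
theorem mem_of_iterate_mem (c : Compat τ) (F : N →ₛₗ[τ] N) (hF : Function.Injective F)
    [Module.Finite K(p, k) N] {P : Submodule K(p, k) N} (hP : ∀ x ∈ P, F x ∈ P) (s : ℕ) {x : N}
    (hx : (⇑F)^[s] x ∈ P) : x ∈ P := by
  have hinj : Function.Injective (F.restrict hP) := by
    intro a b hab
    apply Subtype.ext
    apply hF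
    exact congrArg Subtype.val hab
  have hsurj := semilinear_surjective_of_injective c.bijective (F.restrict hP) hinj
  induction s generalizing x with
  | zero => exact hx
  | succ s ih =>
    rw [Function.iterate_succ_apply] at hx
    have h1 := ih hx
    obtain ⟨y, hy⟩ := hsurj ⟨F x, h1⟩
    have h2 : F (y : N) = F x := congrArg Subtype.val hy
    rw [← hF h2]
    exact y.2

theorem iterate_mem_of_mem (F : N →ₛₗ[τ] N) {P : Submodule K(p, k) N} (hP : ∀ x ∈ P, F x ∈ P)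
    (s : ℕ) {x : N} (hx : x ∈ P) : (⇑F)^[s] x ∈ P := by
  induction s generalizing x with
  | zero => exact hx
  | succ s ih =>
    rw [Function.iterate_succ_apply]
    exact ih (hP x hx)

/-- A stable subspace of an isoclinic isocrystal is isoclinic of the same slope. -/
theorem isIsoclinicOn_of_top (c : Compat τ) (F : N →ₛₗ[τ] N) (hF : Function.Injective F)
    [Module.Finite K(p, k) N] {P : Submodule K(p, k) N} (hP : ∀ x ∈ P, F x ∈ P) {μ : ℚ}
    (h : IsIsoclinicOn F ⊤ μ) : IsIsoclinicOn F P μ := by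
  obtain ⟨M, hfg, hsp, r, s, hs, hμ, he⟩ := h
  refine ⟨M ⊓ P.restrictScalars (WittVector p k), Submodule.FG.of_le hfg inf_le_left, ?_, r, s, hs,
    hμ, ?_⟩
  · apply le_antisymm
    · exact Submodule.span_le.mpr fun x hx => hx.2
    · intro x hx
      obtain ⟨c₀, hc₀⟩ := exists_natPow_smul_mem hsp x
      exact mem_span_of_natPow_smul_mem (M := M ⊓ P.restrictScalars (WittVector p k))
        ⟨hc₀, P.smul_mem _ hx⟩
  · ext x
    rw [mem_latImg c, mem_pPow_iff]
    constructor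
    · rintro ⟨y, ⟨hyM, hyP⟩, rfl⟩
      have h1 : (⇑F)^[s] y ∈ Isoc.pPow r M := he ▸ iterate_mem_latImg F s hyM
      exact ⟨mem_pPow_iff.mp h1, P.smul_mem _ (iterate_mem_of_mem F hP s hyP)⟩
    · rintro ⟨hxM, hxP⟩
      have h1 : x ∈ Isoc.latImg F s M := he ▸ mem_pPow_iff.mpr hxM
      obtain ⟨y, hyM, rfl⟩ := (mem_latImg c F s M).mp h1
      have h2 : (⇑F)^[s] y ∈ P := by
        have := P.smul_mem (((p : ℕ) : K(p, k)) ^ r) hxP
        rwa [smul_smul, ← zpow_add₀ pL_ne_zero, add_neg_cancel, zpow_zero, one_smul] at this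
      exact ⟨y, ⟨hyM, mem_of_iterate_mem c F hF hP s h2⟩, rfl⟩

end One

section Two

variable {N₁ : Type v} {N₂ : Type w} [AddCommGroup N₁] [Module (WittVector p k) N₁]
  [Module K(p, k) N₁] [IsScalarTower (WittVector p k) K(p, k) N₁]
  [AddCommGroup N₂] [Module (WittVector p k) N₂]
  [Module K(p, k) N₂] [IsScalarTower (WittVector p k) K(p, k) N₂]

theorem map_pPow_eq (f : N₁ →ₗ[K(p, k)] N₂) (r : ℤ) (M : Submodule (WittVector p k) N₁) :
    (Isoc.pPow r M).map (f.restrictScalars (WittVector p k)) =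
      Isoc.pPow r (M.map (f.restrictScalars (WittVector p k))) := by
  ext y
  constructor
  · rintro ⟨x, hx, rfl⟩
    obtain ⟨z, hz, rfl⟩ := mem_pPow.mp hx
    exact mem_pPow.mpr ⟨f z, ⟨z, hz, rfl⟩, (map_smul f _ z).symm⟩
  · intro hy
    obtain ⟨_, ⟨z, hz, rfl⟩, rfl⟩ := mem_pPow.mp hy
    exact ⟨_, smul_mem_pPow hz, map_smul f _ z⟩

theorem iterate_comm {F₁ : N₁ →ₛₗ[τ] N₁} {F₂ : N₂ →ₛₗ[τ] N₂} (f : N₁ →ₗ[K(p, k)] N₂)
    (hcomm : ∀ x, f (F₁ x) = F₂ (f x)) (s : ℕ) (x : N₁) :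
    f ((⇑F₁)^[s] x) = (⇑F₂)^[s] (f x) := by
  induction s generalizing x with
  | zero => rfl
  | succ s ih => rw [Function.iterate_succ_apply, Function.iterate_succ_apply, ih, hcomm]

theorem map_latImg_eq (c : Compat τ) (F₁ : N₁ →ₛₗ[τ] N₁) (F₂ : N₂ →ₛₗ[τ] N₂)
    (f : N₁ →ₗ[K(p, k)] N₂) (hcomm : ∀ x, f (F₁ x) = F₂ (f x)) (s : ℕ)
    (M : Submodule (WittVector p k) N₁) :
    (Isoc.latImg F₁ s M).map (f.restrictScalars (WittVector p k)) =
      Isoc.latImg F₂ s (M.map (f.restrictScalars (WittVector p k))) := by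
  ext y
  constructor
  · rintro ⟨x, hx, rfl⟩
    obtain ⟨z, hz, rfl⟩ := (mem_latImg c F₁ s M).mp hx
    exact (mem_latImg c F₂ s _).mpr ⟨f z, ⟨z, hz, rfl⟩, (iterate_comm f hcomm s z).symm⟩
  · intro hy
    obtain ⟨_, ⟨z, hz, rfl⟩, rfl⟩ := (mem_latImg c F₂ s _).mp hy
    exact ⟨_, iterate_mem_latImg F₁ s hz, iterate_comm f hcomm s z⟩

theorem span_map_eq (f : N₁ →ₗ[K(p, k)] N₂) (M : Submodule (WittVector p k) N₁) :
    Submodule.span K(p, k) ((M.map (f.restrictScalars (WittVector p k)) :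
      Submodule (WittVector p k) N₂) : Set N₂) =
      (Submodule.span K(p, k) (M : Set N₁)).map f := by
  rw [Submodule.map_span]
  rfl

/-- The image of an isoclinic subspace under an equivariant map is isoclinic. -/
theorem isIsoclinicOn_map (c : Compat τ) (F₁ : N₁ →ₛₗ[τ] N₁) (F₂ : N₂ →ₛₗ[τ] N₂)
    (f : N₁ →ₗ[K(p, k)] N₂) (hcomm : ∀ x, f (F₁ x) = F₂ (f x)) {P : Submodule K(p, k) N₁} {μ : ℚ}
    (h : IsIsoclinicOn F₁ P μ) : IsIsoclinicOn F₂ (P.map f) μ := by
  obtain ⟨M, hfg, hsp, r, s, hs, hμ, he⟩ := h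
  refine ⟨M.map (f.restrictScalars (WittVector p k)), hfg.map _, by rw [span_map_eq, hsp], r, s,
    hs, hμ, ?_⟩
  rw [← map_latImg_eq c F₁ F₂ f hcomm, he, map_pPow_eq]

/-- Pulling back along an injective equivariant map. -/
theorem isIsoclinicOn_comap (c : Compat τ) (F₁ : N₁ →ₛₗ[τ] N₁) (F₂ : N₂ →ₛₗ[τ] N₂)
    (f : N₁ →ₗ[K(p, k)] N₂) (hf : Function.Injective f) (hcomm : ∀ x, f (F₁ x) = F₂ (f x))
    {μ : ℚ} (h : IsIsoclinicOn F₂ (LinearMap.range f) μ) : IsIsoclinicOn F₁ ⊤ μ := by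
  obtain ⟨M, hfg, hsp, r, s, hs, hμ, he⟩ := h
  have hMle : M ≤ LinearMap.range (f.restrictScalars (WittVector p k)) := by
    intro x hx
    have : x ∈ LinearMap.range f := hsp ▸ Submodule.subset_span hx
    exact this
  have hmc : (M.comap (f.restrictScalars (WittVector p k))).map
      (f.restrictScalars (WittVector p k)) = M := by
    rw [Submodule.map_comap_eq, inf_eq_right.mpr hMle]
  have hinj : Function.Injective (f.restrictScalars (WittVector p k)) := hf
  refine ⟨M.comap (f.restrictScalars (WittVector p k)),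
    Submodule.fg_of_fg_map_injective _ hinj (hmc.symm ▸ hfg), ?_, r, s, hs, hμ, ?_⟩
  · apply Submodule.map_injective_of_injective hf
    rw [← span_map_eq, hmc, hsp, Submodule.map_top]
  · apply Submodule.map_injective_of_injective hinj
    rw [map_latImg_eq c F₁ F₂ f hcomm, map_pPow_eq, hmc, he]

end Two

end Groth.Agent.Helper25.IsocLib

end
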