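import Groth.Agent.Lib.Helper25.IsocOn

/-!
# Helper library for isocrystal statements (helper25): sub/quotient/hom/slope part
-/

set_option autoImplicit false
set_option linter.unusedSectionVars false

noncomputable section

open scoped Pointwise Isocrystal
open Filter Topology

universe u v w

namespace Groth.Agent.Helper25.IsocLib

variable {p : ℕ} [Fact p.Prime] {k : Type u} [Field k] [CharP k p] [PerfectRing k p]
variable {τ : K(p, k) →+* K(p, k)}
variable {N : Type v} [AddCommGroup N] [Module (WittVector p k) N] [Module K(p, k) N]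
  [IsScalarTower (WittVector p k) K(p, k) N]

theorem isIsoclinicOn_of_restrict (c : Compat τ) (F : N →ₛₗ[τ] N) {P : Submodule K(p, k) N}
    (hP : ∀ x ∈ P, F x ∈ P) {μ : ℚ} (h : Isoc.IsIsoclinic (F.restrict hP) μ) :
    IsIsoclinicOn F P μ := by
  have := isIsoclinicOn_map c (F.restrict hP) F P.subtype (fun x => rfl)
    ((isIsoclinic_iff_on_top _ μ).mp h)
  rwa [Submodule.map_top, Submodule.range_subtype] at this

theorem isIsoclinic_restrict_of_on (c : Compat τ) (F : N →ₛₗ[τ] N) {P : Submodule K(p, k) N}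
    (hP : ∀ x ∈ P, F x ∈ P) {μ : ℚ} (h : IsIsoclinicOn F P μ) :
    Isoc.IsIsoclinic (F.restrict hP) μ := by
  apply (isIsoclinic_iff_on_top _ μ).mpr
  apply isIsoclinicOn_comap c (F.restrict hP) F P.subtype (Submodule.injective_subtype _)
    (fun x => rfl)
  rwa [Submodule.range_subtype]

theorem isIsoclinic_restrict (c : Compat τ) (F : N →ₛₗ[τ] N) (hF : Function.Injective F)
    [Module.Finite K(p, k) N] {P : Submodule K(p, k) N} (hP : ∀ x ∈ P, F x ∈ P) {μ : ℚ}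
    (h : Isoc.IsIsoclinic F μ) : Isoc.IsIsoclinic (F.restrict hP) μ :=
  isIsoclinic_restrict_of_on c F hP
    (isIsoclinicOn_of_top c F hF hP ((isIsoclinic_iff_on_top F μ).mp h))

theorem isIsoclinic_mapQ (c : Compat τ) (F : N →ₛₗ[τ] N) {P : Submodule K(p, k) N}
    (hP : P ≤ P.comap F) {μ : ℚ} (h : Isoc.IsIsoclinic F μ) :
    Isoc.IsIsoclinic (P.mapQ P F hP) μ := by
  apply (isIsoclinic_iff_on_top _ μ).mpr
  have := isIsoclinicOn_map c F (P.mapQ P F hP) P.mkQ (fun x => rfl)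
    ((isIsoclinic_iff_on_top F μ).mp h)
  rwa [Submodule.map_top, Submodule.range_mkQ] at this

theorem hom_eq_zero_of_ne (c : Compat τ) {N₂ : Type w} [AddCommGroup N₂]
    [Module (WittVector p k) N₂] [Module K(p, k) N₂] [IsScalarTower (WittVector p k) K(p, k) N₂]
    (F₁ : N →ₛₗ[τ] N) (F₂ : N₂ →ₛₗ[τ] N₂) (hF₂ : Function.Injective F₂)
    [Module.Finite K(p, k) N₂] {μ₁ μ₂ : ℚ} (hμ₁ : Isoc.IsIsoclinic F₁ μ₁)
    (hμ₂ : Isoc.IsIsoclinic F₂ μ₂) (hne : μ₁ ≠ μ₂) (f : N →ₗ[K(p, k)] N₂)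
    (hf : ∀ x : N, f (F₁ x) = F₂ (f x)) : f = 0 := by
  by_contra hf0
  have hI0 : LinearMap.range f ≠ ⊥ := by rwa [Ne, LinearMap.range_eq_bot]
  have hstab : ∀ y ∈ LinearMap.range f, F₂ y ∈ LinearMap.range f := by
    rintro _ ⟨x, rfl⟩
    exact ⟨F₁ x, hf x⟩
  have e1 : IsIsoclinicOn F₂ (LinearMap.range f) μ₁ := by
    have := isIsoclinicOn_map c F₁ F₂ f hf ((isIsoclinic_iff_on_top F₁ μ₁).mp hμ₁)
    rwa [Submodule.map_top] at this
  have e2 : IsIsoclinicOn F₂ (LinearMap.range f) μ₂ :=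
    isIsoclinicOn_of_top c F₂ hF₂ hstab ((isIsoclinic_iff_on_top F₂ μ₂).mp hμ₂)
  exact hne (isIsoclinicOn_unique c F₂ hI0 e1 e2)

theorem slopePart_stable (F : N →ₛₗ[τ] N) (μ : ℚ) :
    ∀ x ∈ Isoc.slopePart F μ, F x ∈ Isoc.slopePart F μ := by
  have : Isoc.slopePart F μ ≤ (Isoc.slopePart F μ).comap F := by
    unfold Isoc.slopePart
    refine sSup_le ?_
    rintro P hPS x hx
    obtain ⟨hP, -⟩ := id hPS
    exact (le_sSup hPS) (hP x hx)
  exact fun x hx => this hx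

theorem slopePart_isIsoclinicOn (c : Compat τ) (F : N →ₛₗ[τ] N) [Module.Finite K(p, k) N]
    (μ : ℚ) : IsIsoclinicOn F (Isoc.slopePart F μ) μ := by
  obtain ⟨t, ht, hsup⟩ := (CompleteLattice.WellFoundedGT.isSupFiniteCompact
    (α := Submodule K(p, k) N))
    {P : Submodule K(p, k) N | ∃ hP : ∀ x ∈ P, F x ∈ P, Isoc.IsIsoclinic (F.restrict hP) μ}
  unfold Isoc.slopePart
  rw [hsup]
  apply isIsoclinicOn_finset_sup c F t
  intro P hPt
  obtain ⟨hP, hiso⟩ := ht hPt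
  exact isIsoclinicOn_of_restrict c F hP hiso

theorem le_slopePart (c : Compat τ) (F : N →ₛₗ[τ] N) {P : Submodule K(p, k) N}
    (hP : ∀ x ∈ P, F x ∈ P) {μ : ℚ} (h : IsIsoclinicOn F P μ) : P ≤ Isoc.slopePart F μ :=
  le_sSup ⟨hP, isIsoclinic_restrict_of_on c F hP h⟩

theorem slopePart_isIsoclinic (c : Compat τ) (F : N →ₛₗ[τ] N) [Module.Finite K(p, k) N]
    (μ : ℚ) : ∃ hP : ∀ x ∈ Isoc.slopePart F μ, F x ∈ Isoc.slopePart F μ,
      Isoc.IsIsoclinic (F.restrict hP) μ :=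
  ⟨slopePart_stable F μ,
    isIsoclinic_restrict_of_on c F (slopePart_stable F μ) (slopePart_isIsoclinicOn c F μ)⟩

end Groth.Agent.Helper25.IsocLib

end
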