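import Groth.Agent.Lib.Helper25.IsocLattice

/-!
# Helper library for isocrystal statements (helper25): orders of iterates, first slope
-/

set_option autoImplicit false
set_option linter.unusedSectionVars false

noncomputable section

open scoped Pointwise Isocrystal
open Filter Topology

universe u v w

namespace Groth.Agent.Helper25.IsocLib

variable {p : ℕ} [Fact p.Prime] {k : Type u} [Field k] [CharP k p] [PerfectRing k p]
variable {N : Type v} [AddCommGroup N] [Module (WittVector p k) N] [Module K(p, k) N]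
  [IsScalarTower (WittVector p k) K(p, k) N]
variable {τ : K(p, k) →+* K(p, k)}

theorem isOrd_le_iff {M : Submodule (WittVector p k) N} {F : N →ₛₗ[τ] N} {s : ℕ} {r : ℤ}
    (h : Isoc.IsOrd M F s r) {r' : ℤ} : Isoc.latImg F s M ≤ Isoc.pPow r' M ↔ r' ≤ r := by
  refine ⟨fun h' => ?_, fun h' => h.1.trans (pPow_anti h' M)⟩
  by_contra hlt
  exact h.2 (h'.trans (pPow_anti (by omega) M))

theorem isOrd_unique {M : Submodule (WittVector p k) N} {F : N →ₛₗ[τ] N} {s : ℕ} {r r' : ℤ}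
    (h : Isoc.IsOrd M F s r) (h' : Isoc.IsOrd M F s r') : r = r' :=
  le_antisymm ((isOrd_le_iff h').mp h.1) ((isOrd_le_iff h).mp h'.1)

theorem isOrd_ne_bot (c : Compat τ) {M : Submodule (WittVector p k) N} {F : N →ₛₗ[τ] N} {s : ℕ}
    {r : ℤ} (h : Isoc.IsOrd M F s r) : M ≠ ⊥ := by
  rintro rfl
  apply h.2
  rw [latImg_bot c]
  exact bot_le

theorem iterate_injective_ne_zero (F : N →ₛₗ[τ] N) (hF : Function.Injective F) (s : ℕ) {x : N}
    (hx : x ≠ 0) : (⇑F)^[s] x ≠ 0 := by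
  intro h
  apply hx
  apply hF.iterate s
  rw [h, ← Isoc.iter_apply, map_zero]

theorem exists_isOrd (c : Compat τ) (F : N →ₛₗ[τ] N) (hF : Function.Injective F)
    {M : Submodule (WittVector p k) N} (hM : M.IsLattice K(p, k)) (hM0 : M ≠ ⊥) (s : ℕ) :
    ∃ r, Isoc.IsOrd M F s r := by
  have hfg := hM.fg
  have hspan := hM.span_eq_top
  obtain ⟨c₀, hc₀⟩ := exists_le_pPow_neg hspan (latImg_fg c F s hfg)
  obtain ⟨x, hxM, hx0⟩ := Submodule.exists_mem_ne_zero_of_ne_bot hM0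
  have hFx : (⇑F)^[s] x ≠ 0 := iterate_injective_ne_zero F hF s hx0
  have hbdd : ∃ r₀ : ℤ, ¬ Isoc.latImg F s M ≤ Isoc.pPow r₀ M := by
    by_contra hall
    push Not at hall
    exact hFx (eq_zero_of_forall_mem_pPow hfg fun n => hall n (iterate_mem_latImg F s hxM))
  obtain ⟨r₀, hr₀⟩ := hbdd
  have hb : ∀ z : ℤ, Isoc.latImg F s M ≤ Isoc.pPow z M → z ≤ r₀ := by
    intro z hz
    by_contra hlt
    exact hr₀ (hz.trans (pPow_anti (le_of_lt (not_le.mp hlt)) M))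
  obtain ⟨ub, hub, hmax⟩ := Int.exists_greatest_of_bdd
    (P := fun r => Isoc.latImg F s M ≤ Isoc.pPow r M) ⟨r₀, hb⟩ ⟨-c₀, hc₀⟩
  exact ⟨ub, hub, fun h => by have := hmax _ h; omega⟩

theorem latImg_add_le (c : Compat τ) (F : N →ₛₗ[τ] N) (M : Submodule (WittVector p k) N)
    {s t : ℕ} {r r' : ℤ} (hs : Isoc.latImg F s M ≤ Isoc.pPow r M)
    (ht : Isoc.latImg F t M ≤ Isoc.pPow r' M) :
    Isoc.latImg F (s + t) M ≤ Isoc.pPow (r + r') M := by
  rw [latImg_add c]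
  calc Isoc.latImg F s (Isoc.latImg F t M) ≤ Isoc.latImg F s (Isoc.pPow r' M) := latImg_mono F s ht
    _ = Isoc.pPow r' (Isoc.latImg F s M) := latImg_pPow c F s r' M
    _ ≤ Isoc.pPow r' (Isoc.pPow r M) := pPow_mono hs
    _ = Isoc.pPow (r + r') M := by rw [← pPow_add, add_comm]

theorem latImg_mul_le (c : Compat τ) (F : N →ₛₗ[τ] N) (M : Submodule (WittVector p k) N)
    {s : ℕ} {r : ℤ} (hs : Isoc.latImg F s M ≤ Isoc.pPow r M) (n : ℕ) :
    Isoc.latImg F (n * s) M ≤ Isoc.pPow (n * r) M := by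
  induction n with
  | zero => simp [latImg_zero]
  | succ n ih =>
    have := latImg_add_le c F M ih hs
    rw [show (n + 1) * s = n * s + s by ring]
    rw [show ((n + 1 : ℕ) : ℤ) * r = n * r + r by push_cast; ring]
    exact this

theorem latImg_mul_eq (c : Compat τ) (F : N →ₛₗ[τ] N) (M : Submodule (WittVector p k) N)
    {s : ℕ} {r : ℤ} (hs : Isoc.latImg F s M = Isoc.pPow r M) (n : ℕ) :
    Isoc.latImg F (n * s) M = Isoc.pPow (n * r) M := by
  induction n with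
  | zero => simp [latImg_zero]
  | succ n ih =>
    rw [show (n + 1) * s = n * s + s by ring, latImg_add c, hs, latImg_pPow c, ih, ← pPow_add]
    congr 1; push_cast; ring

theorem exists_pPow_le_latImg_one (c : Compat τ) (F : N →ₛₗ[τ] N) (hF : Function.Surjective F)
    {M : Submodule (WittVector p k) N} (hM : M.IsLattice K(p, k)) :
    ∃ c₀ : ℕ, Isoc.pPow (c₀ : ℤ) M ≤ Isoc.latImg F 1 M := by
  obtain ⟨S, hS⟩ := hM.fg
  have hspan := hM.span_eq_top
  let g := Function.surjInv hF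
  let M'' : Submodule (WittVector p k) N := Submodule.span (WittVector p k) (g '' (S : Set N))
  have hfg'' : M''.FG := Submodule.fg_span ((Finset.finite_toSet S).image g)
  have himg : Isoc.latImg F 1 M'' = M := by
    rw [latImg_one_eq_map c, Submodule.map_span, ← Set.image_comp, ← hS]
    have : (⇑(c.toW F) ∘ g) = id := funext fun x => Function.surjInv_eq hF x
    rw [this, Set.image_id]
  obtain ⟨c₀, hc₀⟩ := exists_le_pPow_neg hspan hfg''
  refine ⟨c₀, ?_⟩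
  rw [pPow_le_iff]
  calc M = Isoc.latImg F 1 M'' := himg.symm
    _ ≤ Isoc.latImg F 1 (Isoc.pPow (-(c₀ : ℤ)) M) := latImg_mono F 1 hc₀
    _ = Isoc.pPow (-(c₀ : ℤ)) (Isoc.latImg F 1 M) := latImg_pPow c F 1 _ M

theorem pPow_mul_le_latImg (c : Compat τ) (F : N →ₛₗ[τ] N) {M : Submodule (WittVector p k) N}
    {c₀ : ℤ} (h : Isoc.pPow c₀ M ≤ Isoc.latImg F 1 M) (n : ℕ) :
    Isoc.pPow (n * c₀) M ≤ Isoc.latImg F n M := by
  induction n with
  | zero => simp [latImg_zero]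
  | succ n ih =>
    rw [add_comm n 1, latImg_add c]
    calc Isoc.pPow (((1 + n : ℕ) : ℤ) * c₀) M = Isoc.pPow (n * c₀) (Isoc.pPow c₀ M) := by
          rw [← pPow_add]; congr 1; push_cast; ring
      _ ≤ Isoc.pPow (n * c₀) (Isoc.latImg F 1 M) := pPow_mono h
      _ = Isoc.latImg F 1 (Isoc.pPow (n * c₀) M) := (latImg_pPow c F 1 _ M).symm
      _ ≤ Isoc.latImg F 1 (Isoc.latImg F n M) := latImg_mono F 1 ih

/-- Linear upper bound for the orders of the iterates of a surjective `F`. -/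
theorem exists_forall_isOrd_le (c : Compat τ) (F : N →ₛₗ[τ] N) (hF : Function.Surjective F)
    {M : Submodule (WittVector p k) N} (hM : M.IsLattice K(p, k)) (hM0 : M ≠ ⊥) :
    ∃ c₀ : ℕ, ∀ (n : ℕ) (r : ℤ), Isoc.latImg F n M ≤ Isoc.pPow r M → r ≤ n * c₀ := by
  obtain ⟨c₀, hc₀⟩ := exists_pPow_le_latImg_one c F hF hM
  refine ⟨c₀, fun n r hr => ?_⟩
  have := (pPow_mul_le_latImg c F hc₀ n).trans hr
  exact (pPow_le_pPow_iff_le hM.fg hM0).mp this

/-- Fekete: the limit of `ord_M(F^n)/n` exists. -/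
theorem exists_tendsto_of_isOrd (c : Compat τ) (F : N →ₛₗ[τ] N) (hF : Function.Surjective F)
    {M : Submodule (WittVector p k) N} (hM : M.IsLattice K(p, k)) (hM0 : M ≠ ⊥)
    (o : ℕ → ℤ) (ho : ∀ n : ℕ, 1 ≤ n → Isoc.IsOrd M F n (o n)) :
    ∃ lam : ℝ, Tendsto (fun n : ℕ => (o n : ℝ) / n) atTop (𝓝 lam) := by
  obtain ⟨c₀, hc₀⟩ := exists_forall_isOrd_le c F hF hM hM0
  let u : ℕ → ℝ := fun n => if n = 0 then 0 else -(o n : ℝ)
  have hu : Subadditive u := by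
    intro m n
    by_cases hm : m = 0
    · simp [u, hm]
    by_cases hn : n = 0
    · simp [u, hn]
    have hmn : m + n ≠ 0 := by omega
    simp only [u, hm, hn, hmn, if_false]
    have h1 := latImg_add_le c F M (ho m (by omega)).1 (ho n (by omega)).1
    have h2 := (isOrd_le_iff (ho (m + n) (by omega))).mp h1
    have : ((o m + o n : ℤ) : ℝ) ≤ (o (m + n) : ℝ) := by exact_mod_cast h2
    push_cast at this
    linarith
  have hbdd : BddBelow (Set.range fun n => u n / n) := by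
    refine ⟨-(c₀ : ℝ), ?_⟩
    rintro _ ⟨n, rfl⟩
    by_cases hn : n = 0
    · simp [u, hn]
    simp only [u, hn, if_false]
    have h1 := hc₀ n (o n) (ho n (by omega)).1
    have h2 : (o n : ℝ) ≤ (n : ℝ) * c₀ := by exact_mod_cast h1
    have hn' : (0 : ℝ) < n := by exact_mod_cast Nat.pos_of_ne_zero hn
    rw [le_div_iff₀ hn']
    linarith
  refine ⟨-hu.lim, ?_⟩
  have := (hu.tendsto_lim hbdd).neg
  refine this.congr' ?_
  filter_upwards [eventually_ge_atTop 1] with n hn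
  have hn0 : n ≠ 0 := by omega
  simp only [u, hn0, if_false]
  ring

/-- The limit of `ord_M(F^n)/n` does not depend on the lattice. -/
theorem tendsto_unique_of_isOrd (c : Compat τ) (F : N →ₛₗ[τ] N)
    {M₁ M₂ : Submodule (WittVector p k) N} (hM₁ : M₁.IsLattice K(p, k))
    (hM₂ : M₂.IsLattice K(p, k))
    (o₁ o₂ : ℕ → ℤ) (ho₁ : ∀ n : ℕ, 1 ≤ n → Isoc.IsOrd M₁ F n (o₁ n))
    (ho₂ : ∀ n : ℕ, 1 ≤ n → Isoc.IsOrd M₂ F n (o₂ n)) (lam₁ lam₂ : ℝ)
    (h₁ : Tendsto (fun n : ℕ => (o₁ n : ℝ) / n) atTop (𝓝 lam₁))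
    (h₂ : Tendsto (fun n : ℕ => (o₂ n : ℝ) / n) atTop (𝓝 lam₂)) : lam₁ = lam₂ := by
  obtain ⟨c₁, hc₁⟩ := exists_le_pPow_neg hM₁.span_eq_top hM₂.fg
  obtain ⟨c₂, hc₂⟩ := exists_le_pPow_neg hM₂.span_eq_top hM₁.fg
  -- hc₁ : M₂ ≤ p^{-c₁} M₁, hc₂ : M₁ ≤ p^{-c₂} M₂
  have key : ∀ {M M' : Submodule (WittVector p k) N} {a b : ℕ} {n : ℕ} {r : ℤ},
      M' ≤ Isoc.pPow (-(a : ℤ)) M → M ≤ Isoc.pPow (-(b : ℤ)) M' →
      Isoc.latImg F n M ≤ Isoc.pPow r M →
      Isoc.latImg F n M' ≤ Isoc.pPow (r - a - b) M' := by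
    intro M M' a b n r h h' hr
    calc Isoc.latImg F n M' ≤ Isoc.latImg F n (Isoc.pPow (-(a : ℤ)) M) := latImg_mono F n h
      _ = Isoc.pPow (-(a : ℤ)) (Isoc.latImg F n M) := latImg_pPow c F n _ M
      _ ≤ Isoc.pPow (-(a : ℤ)) (Isoc.pPow r M) := pPow_mono hr
      _ ≤ Isoc.pPow (-(a : ℤ)) (Isoc.pPow r (Isoc.pPow (-(b : ℤ)) M')) :=
          pPow_mono (pPow_mono h')
      _ = Isoc.pPow (r - a - b) M' := by
          rw [← pPow_add, ← pPow_add]; congr 1; ring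
  have hdiff : ∀ n : ℕ, 1 ≤ n → |(o₁ n : ℝ) - o₂ n| ≤ (c₁ + c₂ : ℕ) := by
    intro n hn
    have e1 := (isOrd_le_iff (ho₂ n hn)).mp (key hc₁ hc₂ (ho₁ n hn).1)
    have e2 := (isOrd_le_iff (ho₁ n hn)).mp (key hc₂ hc₁ (ho₂ n hn).1)
    rw [abs_le]
    constructor
    · have : ((o₂ n - c₂ - c₁ : ℤ) : ℝ) ≤ (o₁ n : ℝ) := by exact_mod_cast e2
      push_cast at this ⊢
      linarith
    · have : ((o₁ n - c₁ - c₂ : ℤ) : ℝ) ≤ (o₂ n : ℝ) := by exact_mod_cast e1
      push_cast at this ⊢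
      linarith
  have hlim0 : Tendsto (fun n : ℕ => (o₁ n : ℝ) / n - (o₂ n : ℝ) / n) atTop (𝓝 0) := by
    apply squeeze_zero_norm' (a := fun n : ℕ => ((c₁ + c₂ : ℕ) : ℝ) / n)
    · filter_upwards [eventually_ge_atTop 1] with n hn
      have hn' : (0 : ℝ) < n := by exact_mod_cast hn
      rw [Real.norm_eq_abs, ← sub_div, abs_div, abs_of_pos hn']
      exact div_le_div_of_nonneg_right (hdiff n hn) hn'.le
    · exact tendsto_const_div_atTop_nhds_zero_nat _
  have := tendsto_nhds_unique (h₁.sub h₂) hlim0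
  linarith

end Groth.Agent.Helper25.IsocLib

end
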