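import Groth.Agent.Lib.Helper25.IsocEff

/-!
# Helper library for isocrystal statements (helper25): rationality of the first slope
-/

set_option autoImplicit false
set_option linter.unusedSectionVars false

noncomputable section

open scoped Pointwise Isocrystal
open Filter Topology

universe u v w

namespace Groth.Agent.Helper25.IsocLib

variable {p : ℕ} [Fact p.Prime] {k : Type u} [Field k] [CharP k p] [PerfectRing k p]
variable {N : Type v} [AddCommGroup N] [Module (WittVector p k) N] [Module K(p, k) N]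
  [IsScalarTower (WittVector p k) K(p, k) N]
variable {τ : K(p, k) →+* K(p, k)}

theorem bijective_zpow_smul_iter (F : N →ₛₗ[τ] N) (hF : Function.Bijective F) (m : ℤ) (n : ℕ) :
    Function.Bijective ((((p : ℕ) : K(p, k)) ^ m) • Isoc.iter F n) := by
  have h1 : Function.Bijective (⇑F)^[n] := hF.iterate n
  have h2 : Function.Bijective (fun x : N => (((p : ℕ) : K(p, k)) ^ m) • x) :=
    (MulAction.bijective₀ (zpow_pL_ne_zero m))
  exact h2.comp h1

/-- positive first slope implies effective -/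
theorem isEffective_of_pos (c : Compat τ) (G : N →ₛₗ[τ] N) {lam : ℝ}
    (hlam : Isoc.IsFirstSlope G lam) (hpos : 0 < lam) : Isoc.IsEffective G := by
  obtain ⟨M₀, hM₀, o, ho, hlim⟩ := hlam
  have hev : ∀ᶠ n : ℕ in atTop, (0 : ℝ) < (o n : ℝ) / n := hlim.eventually (lt_mem_nhds hpos)
  obtain ⟨n, hn, hn1⟩ := (hev.and (eventually_ge_atTop 1)).exists
  have hon : 0 ≤ o n := by
    have hn' : (0 : ℝ) < n := by exact_mod_cast hn1
    have := (div_pos_iff_of_pos_right hn').mp hn
    exact_mod_cast this.le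
  have hGn : Isoc.latImg G n M₀ ≤ M₀ := (ho n hn1).1.trans (by
    have := pPow_anti hon M₀
    rwa [pPow_zero] at this)
  have hle : M₀ ≤ ⨆ j : Fin n, Isoc.latImg G j M₀ := by
    have := le_iSup (fun j : Fin n => Isoc.latImg G j M₀) ⟨0, hn1⟩
    simpa [latImg_zero] using this
  refine ⟨⨆ j : Fin n, Isoc.latImg G j M₀, ?_, ?_⟩
  · have := hM₀
    exact Submodule.IsLattice.of_le_of_isLattice_of_fg K(p, k) hle
      (Submodule.fg_iSup _ fun j => latImg_fg c G j hM₀.fg)
  · rw [latImg_eq_map c, Submodule.map_iSup]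
    refine iSup_le fun j => ?_
    rw [← latImg_eq_map c, ← latImg_add c]
    by_cases hj : 1 + (j : ℕ) < n
    · exact le_iSup (fun j : Fin n => Isoc.latImg G j M₀) ⟨1 + j, hj⟩
    · have : 1 + (j : ℕ) = n := by have := j.2; omega
      rw [this]
      exact hGn.trans hle

/-- first slope `≥ -1/(h+1)` implies effective -/
theorem isEffective_of_ge (c : Compat τ) (G : N →ₛₗ[τ] N) [Module.Finite K(p, k) N] {lam : ℝ}
    (hlam : Isoc.IsFirstSlope G lam) {h : ℕ} (hh : Module.finrank K(p, k) N = h)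
    (hnn : -(1 : ℝ) / (h + 1) < lam) : Isoc.IsEffective G := by
  have h1 := isFirstSlope_zpow_smul_iter c G hlam 1 (h + 1)
  have hpos : (0 : ℝ) < ((h + 1 : ℕ) : ℝ) * lam + ((1 : ℤ) : ℝ) := by
    have hh' : (0 : ℝ) < (h : ℝ) + 1 := by positivity
    rw [div_lt_iff₀ hh'] at hnn
    push_cast
    linarith
  obtain ⟨M₂, hM₂, hle⟩ := isEffective_of_pos (c.pow (h + 1)) _ h1 hpos
  have h2 : Isoc.latImg G (h + 1) M₂ ≤ Isoc.pPow (-1) M₂ := by
    have := (latImg_zpow_smul_iter_le_iff c G 1 (h + 1) 1 M₂ M₂ 0).mp (by rwa [pPow_zero])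
    simpa using this
  exact isEffective_of_latImg_succ_le c G hh hM₂ h2

theorem isEffective_of_nonneg (c : Compat τ) (G : N →ₛₗ[τ] N) [Module.Finite K(p, k) N]
    {lam : ℝ} (hlam : Isoc.IsFirstSlope G lam) (hnn : 0 ≤ lam) : Isoc.IsEffective G := by
  refine isEffective_of_ge c G hlam rfl (lt_of_lt_of_le ?_ hnn)
  have : (0 : ℝ) < (Module.finrank K(p, k) N : ℝ) + 1 := by positivity
  rw [div_lt_iff₀ this]
  linarith

/-- `r/s ≤ λ₁` implies `F^s M ⊆ p^r M` for some lattice `M`. -/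
theorem exists_latImg_le_of_div_le (c : Compat τ) (F : N →ₛₗ[τ] N) [Module.Finite K(p, k) N]
    {lam : ℝ} (hlam : Isoc.IsFirstSlope F lam) {r : ℤ} {s : ℕ} (hs : 0 < s)
    (hrs : (r : ℝ) / s ≤ lam) :
    ∃ M : Submodule (WittVector p k) N, M.IsLattice K(p, k) ∧
      Isoc.latImg F s M ≤ Isoc.pPow r M := by
  have h1 := isFirstSlope_zpow_smul_iter c F hlam (-r) s
  have hnn : (0 : ℝ) ≤ (s : ℝ) * lam + ((-r : ℤ) : ℝ) := by
    have hs' : (0 : ℝ) < s := by exact_mod_cast hs
    rw [div_le_iff₀ hs'] at hrs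
    push_cast
    linarith
  obtain ⟨M, hM, hle⟩ := isEffective_of_nonneg (c.pow s) _ h1 hnn
  refine ⟨M, hM, ?_⟩
  have := (latImg_zpow_smul_iter_le_iff c F (-r) s 1 M M 0).mp (by rwa [pPow_zero])
  simpa using this

theorem latImg_le_self_of_le (c : Compat τ) (G : N →ₛₗ[τ] N) {M : Submodule (WittVector p k) N}
    (hG : Isoc.latImg G 1 M ≤ M) (t : ℕ) : Isoc.latImg G t M ≤ M := by
  induction t with
  | zero => rw [latImg_zero]
  | succ t ih =>
    rw [latImg_add c]
    exact (latImg_mono G t hG).trans ih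

theorem latImg_anti_of_le (c : Compat τ) (G : N →ₛₗ[τ] N) {M : Submodule (WittVector p k) N}
    (hG : Isoc.latImg G 1 M ≤ M) {a b : ℕ} (hab : a ≤ b) :
    Isoc.latImg G b M ≤ Isoc.latImg G a M := by
  obtain ⟨t, rfl⟩ := Nat.exists_eq_add_of_le hab
  rw [latImg_add c]
  exact latImg_mono G a (latImg_le_self_of_le c G hG t)

/-- nilpotent modulo `p` implies `G^h ≡ 0` modulo `p` -/
theorem latImg_le_pPow_one_of_exists (c : Compat τ) (G : N →ₛₗ[τ] N) [Module.Finite K(p, k) N]
    {h : ℕ} (hh : Module.finrank K(p, k) N = h) {M : Submodule (WittVector p k) N}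
    (hG : Isoc.latImg G 1 M ≤ M) {n : ℕ}
    (hn : Isoc.latImg G n M ≤ Isoc.pPow 1 M) : Isoc.latImg G h M ≤ Isoc.pPow 1 M := by
  let Lc : ℕ → Submodule (WittVector p k) N := fun i => Isoc.latImg G i M ⊔ Isoc.pPow 1 M
  have hanti : Antitone Lc := fun a b hab =>
    sup_le_sup_right (latImg_anti_of_le c G hG hab) _
  have h0 : Lc 0 ≤ M := by
    simp only [Lc, latImg_zero]
    exact sup_le le_rfl (pPow_natCast_le 1 M)
  have hp : Isoc.pPow 1 M ≤ Lc (h + 1) := le_sup_right
  obtain ⟨i, hi, hle⟩ := exists_le_succ_of_antitone_chain Lc hanti h0 h hh hp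
  have hi' : Isoc.latImg G i M ≤ Isoc.latImg G (i + 1) M ⊔ Isoc.pPow 1 M :=
    le_sup_left.trans hle
  have claim : ∀ j : ℕ, Isoc.latImg G i M ≤ Isoc.latImg G (i + j) M ⊔ Isoc.pPow 1 M := by
    intro j
    induction j with
    | zero => exact le_sup_left
    | succ j ih =>
      refine ih.trans (sup_le ?_ le_sup_right)
      calc Isoc.latImg G (i + j) M = Isoc.latImg G j (Isoc.latImg G i M) := by
            rw [add_comm, latImg_add c]
        _ ≤ Isoc.latImg G j (Isoc.latImg G (i + 1) M ⊔ Isoc.pPow 1 M) := latImg_mono G j hi'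
        _ = Isoc.latImg G (j + (i + 1)) M ⊔ Isoc.pPow 1 (Isoc.latImg G j M) := by
            rw [latImg_sup c, latImg_pPow c, ← latImg_add c]
        _ ≤ Isoc.latImg G (i + (j + 1)) M ⊔ Isoc.pPow 1 M := by
            rw [show j + (i + 1) = i + (j + 1) by ring]
            exact sup_le_sup_left (pPow_mono (latImg_le_self_of_le c G hG j)) _
  have h1 : Isoc.latImg G i M ≤ Isoc.pPow 1 M :=
    (claim n).trans (sup_le ((latImg_anti_of_le c G hG (Nat.le_add_left n i)).trans hn) le_rfl)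
  exact (latImg_anti_of_le c G hG hi).trans h1

/-- For an effective lattice: either all orders are zero or the first slope is `≥ 1/h`. -/
theorem forall_isOrd_zero_or_le (c : Compat τ) (G : N →ₛₗ[τ] N) (hGb : Function.Bijective G)
    [Module.Finite K(p, k) N] {h : ℕ} (hh : Module.finrank K(p, k) N = h) (hpos : 0 < h)
    {lam : ℝ} (hlam : Isoc.IsFirstSlope G lam) {M : Submodule (WittVector p k) N}
    (hM : M.IsLattice K(p, k)) (hG : Isoc.latImg G 1 M ≤ M) :
    (∀ n, Isoc.IsOrd M G n 0) ∨ (1 : ℝ) / h ≤ lam := by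
  by_cases hex : ∃ n, Isoc.latImg G n M ≤ Isoc.pPow 1 M
  · right
    obtain ⟨n, hn⟩ := hex
    have := div_le_of_latImg_le c G hGb hlam hM hpos
      (latImg_le_pPow_one_of_exists c G hh hG hn)
    simpa using this
  · left
    push Not at hex
    intro n
    refine ⟨?_, ?_⟩
    · rw [pPow_zero]; exact latImg_le_self_of_le c G hG n
    · simpa using hex n

/-- Rationality of the first slope (strong form). -/
theorem exists_rat_slope_strong (c : Compat τ) (F : N →ₛₗ[τ] N) (hF : Function.Bijective F)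
    [Module.Finite K(p, k) N] {h : ℕ} (hh : Module.finrank K(p, k) N = h) {lam : ℝ}
    (hlam : Isoc.IsFirstSlope F lam) :
    ∃ (r : ℤ) (s : ℕ) (M : Submodule (WittVector p k) N), 0 < s ∧ s ≤ h ∧ lam = (r : ℝ) / s ∧
      M.IsLattice K(p, k) ∧
      ∀ n, Isoc.IsOrd M ((((p : ℕ) : K(p, k)) ^ (-r)) • Isoc.iter F s) n 0 := by
  have hpos : 0 < h := by
    obtain ⟨M₀, hM₀, o, ho, -⟩ := id hlam
    have hM0 : M₀ ≠ ⊥ := isOrd_ne_bot c (ho 1 le_rfl)
    obtain ⟨x, -, hx0⟩ := Submodule.exists_mem_ne_zero_of_ne_bot hM0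
    have : Nontrivial N := nontrivial_of_ne x 0 hx0
    rw [← hh]
    exact Module.finrank_pos
  obtain ⟨j, k', hk0, hkh, habs⟩ := Real.exists_int_int_abs_mul_sub_le lam hpos
  obtain ⟨s, rfl⟩ : ∃ s : ℕ, k' = s := ⟨k'.toNat, by omega⟩
  have hs : 0 < s := by exact_mod_cast hk0
  have hsh : s ≤ h := by exact_mod_cast hkh
  have hG1 := isFirstSlope_zpow_smul_iter c F hlam (-j) s
  have hGb := bijective_zpow_smul_iter F hF (-j) s
  set G := (((p : ℕ) : K(p, k)) ^ (-j)) • Isoc.iter F s with hGdef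
  set lam' : ℝ := (s : ℝ) * lam + ((-j : ℤ) : ℝ) with hlam'
  have hlam'eq : lam' = (s : ℝ) * lam - j := by rw [hlam']; push_cast; ring
  have habs' : |lam'| ≤ 1 / ((h : ℝ) + 1) := by
    rw [hlam'eq]; exact_mod_cast habs
  have hh1 : (0 : ℝ) < (h : ℝ) + 1 := by positivity
  have hh0 : (0 : ℝ) < (h : ℝ) := by exact_mod_cast hpos
  have hlt : (1 : ℝ) / ((h : ℝ) + 1) < 1 / h := by
    apply one_div_lt_one_div_of_lt hh0; linarith
  have hge : -(1 : ℝ) / (h + 1) < lam' ∨ lam' = -(1 : ℝ) / (h + 1) := by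
    have := (abs_le.mp habs').1
    rw [neg_div] 
    rcases lt_or_eq_of_le this with h1 | h1
    · exact Or.inl h1
    · exact Or.inr h1.symm
  -- effective
  have heff : Isoc.IsEffective G := by
    rcases hge with h1 | h1
    · exact isEffective_of_ge (c.pow s) G hG1 hh h1
    · -- boundary case: use `p • G^(h+1)` of slope `0`
      have h2 := isFirstSlope_zpow_smul_iter (c.pow s) G hG1 1 (h + 1)
      have hz : (0 : ℝ) ≤ ((h + 1 : ℕ) : ℝ) * lam' + ((1 : ℤ) : ℝ) := by
        rw [h1]; push_cast; field_simp; linarith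
      obtain ⟨M₂, hM₂, hle⟩ := isEffective_of_nonneg ((c.pow s).pow (h + 1)) _ h2 hz
      have h3 : Isoc.latImg G (h + 1) M₂ ≤ Isoc.pPow (-1) M₂ := by
        have := (latImg_zpow_smul_iter_le_iff (c.pow s) G 1 (h + 1) 1 M₂ M₂ 0).mp
          (by rwa [pPow_zero])
        simpa using this
      exact isEffective_of_latImg_succ_le (c.pow s) G hh hM₂ h3
  obtain ⟨M, hM, hGM⟩ := heff
  rcases forall_isOrd_zero_or_le (c.pow s) G hGb hh hpos hG1 hM hGM with hall | hbig
  · have hlim := tendsto_of_isFirstSlope (c.pow s) G hG1 hGb hM (fun _ => 0) (fun n _ => hall n)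
    have h0 : lam' = 0 := by
      have : Tendsto (fun n : ℕ => ((0 : ℤ) : ℝ) / n) atTop (𝓝 0) := by simp
      exact tendsto_nhds_unique hlim this
    refine ⟨j, s, M, hs, hsh, ?_, hM, hall⟩
    have hs' : (s : ℝ) ≠ 0 := by exact_mod_cast hs.ne'
    rw [hlam'eq] at h0
    field_simp
    linarith
  · exfalso
    have := (abs_le.mp habs').2
    linarith

/-- Rationality of the first slope. -/
theorem exists_rat_slope (c : Compat τ) (F : N →ₛₗ[τ] N) (hF : Function.Bijective F)
    [Module.Finite K(p, k) N] {h : ℕ} (hh : Module.finrank K(p, k) N = h) {lam : ℝ}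
    (hlam : Isoc.IsFirstSlope F lam) :
    ∃ (r : ℤ) (s : ℕ) (M : Submodule (WittVector p k) N), 0 < s ∧ s ≤ h ∧ lam = (r : ℝ) / s ∧
      M.IsLattice K(p, k) ∧ Isoc.IsOrd M F s r := by
  obtain ⟨r, s, M, hs, hsh, hlamrs, hM, hall⟩ := exists_rat_slope_strong c F hF hh hlam
  refine ⟨r, s, M, hs, hsh, hlamrs, hM, ?_⟩
  have := (isOrd_zpow_smul_iter_iff c F (-r) s 1 M 0).mp (hall 1)
  simpa using this

end Groth.Agent.Helper25.IsocLib

end
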