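import Groth.Agent.Lib.Helper25.IsocOrd

/-!
# Helper library for isocrystal statements (helper25): twisted iterates, first slope
-/

set_option autoImplicit false
set_option linter.unusedSectionVars false

noncomputable section

open scoped Pointwise Isocrystal
open Filter Topology

universe u v w

namespace Groth.Agent.Helper25.IsocLib

variable {p : ℕ} [Fact p.Prime] {k : Type u} [Field k] [CharP k p] [PerfectRing k p]
variable {N : Type v} [AddCommGroup N] [Module (WittVector p k) N] [Module K(p, k) N]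
  [IsScalarTower (WittVector p k) K(p, k) N]
variable {τ : K(p, k) →+* K(p, k)}

theorem iterate_zpow_smul_iter (F : N →ₛₗ[τ] N) (m : ℤ) (n j : ℕ) (x : N) :
    (⇑((((p : ℕ) : K(p, k)) ^ m) • Isoc.iter F n))^[j] x =
      (((p : ℕ) : K(p, k)) ^ (m * j)) • (⇑F)^[n * j] x := by
  induction j with
  | zero => simp
  | succ j ih =>
    rw [Function.iterate_succ_apply', ih, LinearMap.smul_apply, Isoc.iter_apply,
      iterate_zpow_smul, smul_smul, ← zpow_add₀ pL_ne_zero, ← Function.iterate_add_apply]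
    congr 2
    · push_cast; ring
    · ring

theorem latImg_zpow_smul_iter (c : Compat τ) (F : N →ₛₗ[τ] N) (m : ℤ) (n j : ℕ)
    (M : Submodule (WittVector p k) N) :
    Isoc.latImg ((((p : ℕ) : K(p, k)) ^ m) • Isoc.iter F n) j M =
      Isoc.pPow (m * j) (Isoc.latImg F (n * j) M) := by
  ext x
  rw [mem_latImg (c.pow n), mem_pPow]
  constructor
  · rintro ⟨y, hy, rfl⟩
    exact ⟨_, iterate_mem_latImg F (n * j) hy, (iterate_zpow_smul_iter F m n j y).symm⟩
  · rintro ⟨z, hz, rfl⟩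
    obtain ⟨y, hy, rfl⟩ := (mem_latImg c F (n * j) M).mp hz
    exact ⟨y, hy, iterate_zpow_smul_iter F m n j y⟩

theorem latImg_zpow_smul_iter_le_iff (c : Compat τ) (F : N →ₛₗ[τ] N) (m : ℤ) (n j : ℕ)
    (M M' : Submodule (WittVector p k) N) (r : ℤ) :
    Isoc.latImg ((((p : ℕ) : K(p, k)) ^ m) • Isoc.iter F n) j M ≤ Isoc.pPow r M' ↔
      Isoc.latImg F (n * j) M ≤ Isoc.pPow (r - m * j) M' := by
  rw [latImg_zpow_smul_iter c, pPow_le_iff, ← pPow_add]
  have e1 : -(m * j) + r = r - m * j := by ring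
  rw [e1]

theorem isOrd_zpow_smul_iter_iff (c : Compat τ) (F : N →ₛₗ[τ] N) (m : ℤ) (n j : ℕ)
    (M : Submodule (WittVector p k) N) (r : ℤ) :
    Isoc.IsOrd M ((((p : ℕ) : K(p, k)) ^ m) • Isoc.iter F n) j r ↔
      Isoc.IsOrd M F (n * j) (r - m * j) := by
  unfold Isoc.IsOrd
  rw [latImg_zpow_smul_iter_le_iff c, latImg_zpow_smul_iter_le_iff c]
  have e2 : r + 1 - m * j = r - m * j + 1 := by ring
  rw [e2]

theorem isOrd_zero (F : N →ₛₗ[τ] N) {M : Submodule (WittVector p k) N} (hM : M.FG)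
    (hM0 : M ≠ ⊥) : Isoc.IsOrd M F 0 0 := by
  refine ⟨by rw [latImg_zero, pPow_zero], ?_⟩
  rw [latImg_zero]
  have := not_pPow_le_pPow hM hM0 (r := 0) (r' := 0 + 1) (by omega)
  rwa [pPow_zero] at this

theorem isFirstSlope_zpow_smul_iter (c : Compat τ) (F : N →ₛₗ[τ] N) {lam : ℝ}
    (hlam : Isoc.IsFirstSlope F lam) (m : ℤ) (n : ℕ) :
    Isoc.IsFirstSlope ((((p : ℕ) : K(p, k)) ^ m) • Isoc.iter F n) (n * lam + m) := by
  obtain ⟨M, hM, o, ho, hlim⟩ := hlam
  have hM0 : M ≠ ⊥ := isOrd_ne_bot c (ho 1 le_rfl)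
  refine ⟨M, hM, ?_⟩
  rcases Nat.eq_zero_or_pos n with rfl | hn
  · refine ⟨fun j => m * j, fun j _ => ?_, ?_⟩
    · rw [isOrd_zpow_smul_iter_iff c, zero_mul, sub_self]
      exact isOrd_zero F hM.fg hM0
    · have : Tendsto (fun _ : ℕ => (m : ℝ)) atTop (𝓝 ((0 : ℕ) * lam + m)) := by
        simp
      refine this.congr' ?_
      filter_upwards [eventually_ge_atTop 1] with j hj
      have hj' : (j : ℝ) ≠ 0 := by exact_mod_cast (by omega : j ≠ 0)
      push_cast
      field_simp
  · refine ⟨fun j => o (n * j) + m * j, fun j hj => ?_, ?_⟩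
    · rw [isOrd_zpow_smul_iter_iff c, add_sub_cancel_right]
      exact ho (n * j) (Nat.mul_pos hn hj)
    · have hmul : Tendsto (fun j : ℕ => n * j) atTop atTop :=
        tendsto_atTop_mono (fun j => Nat.le_mul_of_pos_left j hn) tendsto_id
      have h1 := (hlim.comp hmul).const_mul (n : ℝ)
      have h2 := h1.add_const (m : ℝ)
      refine h2.congr' ?_
      filter_upwards [eventually_ge_atTop 1] with j hj
      have hj' : (j : ℝ) ≠ 0 := by exact_mod_cast (by omega : j ≠ 0)
      have hn' : (n : ℝ) ≠ 0 := by exact_mod_cast hn.ne'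
      simp only [Function.comp_apply]
      push_cast
      field_simp

end Groth.Agent.Helper25.IsocLib

end
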