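import Mathlib
import Groth.Prelude.Def_StabCat

/-!
# Polynomial bookkeeping for quotients by a submodule with the same reduced polynomial

Mathlib + `Def_StabCat` only.  Written for (JC) `quot_semistable` of mini-project JH (S15202).
-/

set_option autoImplicit false

open Polynomial StabCat

namespace Groth.Agent.Helper25.JHPoly

theorem alpha_add (d : ℕ) (p q : ℚ[X]) : alpha d (p + q) = alpha d p + alpha d q := by
  unfold alpha; rw [coeff_add]; ring

theorem alpha_sub (d : ℕ) (p q : ℚ[X]) : alpha d (p - q) = alpha d p - alpha d q := by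
  unfold alpha; rw [coeff_sub]; ring

/-- pointwise form of `RedEq` -/
theorem redEq_eval (d : ℕ) (p q : ℚ[X]) (h : RedEq d p q) (x : ℚ) :
    alpha d q * p.eval x = alpha d p * q.eval x := by
  have := congrArg (fun P : ℚ[X] => P.eval x) h
  simpa [eval_smul, smul_eq_mul] using this

/-- if `pF` and `pE` have the same reduced polynomial, so do `pE - pF` and `pE` -/
theorem redEq_sub (d : ℕ) (pF pE : ℚ[X]) (h : RedEq d pF pE) : RedEq d (pE - pF) pE := by
  unfold RedEq at h ⊢
  rw [alpha_sub, smul_sub, sub_smul, h]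

/-- multiplicities: `alpha pF < alpha pE` when the quotient polynomial `pE - pF` is nonzero with
nonnegative multiplicity -/
theorem alpha_lt_of_redEq (d : ℕ) (pF pE : ℚ[X]) (h : RedEq d pF pE) (hF : 0 < alpha d pF)
    (hQ : 0 ≤ alpha d (pE - pF)) (hne : pE - pF ≠ 0) : alpha d pF < alpha d pE := by
  rw [alpha_sub] at hQ
  rcases (sub_nonneg.1 hQ).eq_or_lt with heq | hlt
  · exfalso
    apply hne
    unfold RedEq at h
    rw [← heq] at h
    have hinj := smul_right_injective ℚ[X] hF.ne' h
    rw [hinj, sub_self]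
  · exact hlt

/-- the semistability inequality for a submodule `G'` of the quotient, from the one for its
preimage `F'` (with `pF' = pF + pG`) -/
theorem redLE_quot (d : ℕ) (pF pE pG : ℚ[X]) (h : RedEq d pF pE) (hE : 0 < alpha d pE)
    (hQ : 0 < alpha d (pE - pF)) (hle : RedLE d (pF + pG) pE) : RedLE d pG (pE - pF) := by
  obtain ⟨N, hN⟩ := hle
  refine ⟨N, fun m hm => ?_⟩
  have h1 := hN m hm
  have h2 := redEq_eval d pF pE h (m : ℚ)
  rw [eval_smul, eval_smul, smul_eq_mul, smul_eq_mul, alpha_add, eval_add] at h1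
  rw [eval_smul, eval_smul, smul_eq_mul, smul_eq_mul, eval_sub]
  rw [alpha_sub] at hQ ⊢
  have key : alpha d pE * pG.eval (m : ℚ) ≤ alpha d pG * pE.eval (m : ℚ) := by linarith
  have k2 := mul_le_mul_of_nonneg_left key hQ.le
  have goal' : alpha d pE * ((alpha d pE - alpha d pF) * pG.eval (m : ℚ)) ≤
      alpha d pE * (alpha d pG * (pE.eval (m : ℚ) - pF.eval (m : ℚ))) := by
    have e : alpha d pE * (alpha d pG * (pE.eval (m : ℚ) - pF.eval (m : ℚ))) =
        alpha d pG * ((alpha d pE - alpha d pF) * pE.eval (m : ℚ)) := by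
      have : alpha d pE * pF.eval (m : ℚ) = alpha d pF * pE.eval (m : ℚ) := h2
      linear_combination (-(alpha d pG)) * this
    rw [e]
    linarith
  exact le_of_mul_le_mul_left goal' hE

/-- strict version of `redLE_quot` -/
theorem redLT_quot (d : ℕ) (pF pE pG : ℚ[X]) (h : RedEq d pF pE) (hE : 0 < alpha d pE)
    (hQ : 0 < alpha d (pE - pF)) (hlt : RedLT d (pF + pG) pE) : RedLT d pG (pE - pF) := by
  obtain ⟨N, hN⟩ := hlt
  refine ⟨N, fun m hm => ?_⟩
  have h1 := hN m hm
  have h2 := redEq_eval d pF pE h (m : ℚ)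
  rw [eval_smul, eval_smul, smul_eq_mul, smul_eq_mul, alpha_add, eval_add] at h1
  rw [eval_smul, eval_smul, smul_eq_mul, smul_eq_mul, eval_sub]
  rw [alpha_sub] at hQ ⊢
  have key : alpha d pE * pG.eval (m : ℚ) < alpha d pG * pE.eval (m : ℚ) := by linarith
  have k2 := mul_lt_mul_of_pos_left key hQ
  have goal' : alpha d pE * ((alpha d pE - alpha d pF) * pG.eval (m : ℚ)) <
      alpha d pE * (alpha d pG * (pE.eval (m : ℚ) - pF.eval (m : ℚ))) := by
    have e : alpha d pE * (alpha d pG * (pE.eval (m : ℚ) - pF.eval (m : ℚ))) =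
        alpha d pG * ((alpha d pE - alpha d pF) * pE.eval (m : ℚ)) := by
      have : alpha d pE * pF.eval (m : ℚ) = alpha d pF * pE.eval (m : ℚ) := h2
      linear_combination (-(alpha d pG)) * this
    rw [e]
    linarith
  exact lt_of_mul_lt_mul_left goal' hE.le

end Groth.Agent.Helper25.JHPoly
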