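import Mathlib

/-!
# Jacobian ideal of `x_0^2 + Σ x_i x_i'` in characteristic two
-/

namespace Groth.Agent.Helper25.JacIdeal2

open MvPowerSeries

open scoped Classical

universe u

variable {k : Type u} [Field k]

section General

variable {σ : Type*} [Fintype σ] [LinearOrder σ]

/-- the part of `h` made of monomials whose first variable is `X i` -/
noncomputable def part (i : σ) (h : MvPowerSeries (σ) k) : MvPowerSeries (σ) k :=
  fun m => if (∀ j, j < i → m j = 0) ∧ m i ≠ 0 then coeff m h else 0

theorem coeff_part (i : σ) (h : MvPowerSeries (σ) k) (m : σ →₀ ℕ) :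
    coeff m (part i h) = if (∀ j, j < i → m j = 0) ∧ m i ≠ 0 then coeff m h else 0 := rfl

theorem decomp (h : MvPowerSeries (σ) k) :
    h = C (constantCoeff h) + ∑ i, part i h := by
  ext m
  rw [map_add, map_sum, coeff_C]
  by_cases hm : m = 0
  · have hs : ∑ i, coeff m (part i h) = 0 := by
      apply Finset.sum_eq_zero
      intro i _
      rw [coeff_part, if_neg]
      rintro ⟨-, h2⟩
      exact h2 (by rw [hm]; rfl)
    rw [if_pos hm, hs, add_zero, hm, coeff_zero_eq_constantCoeff_apply]
  · rw [if_neg hm, zero_add]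
    have hne : (Finset.univ.filter (fun i : σ => m i ≠ 0)).Nonempty := by
      by_contra hcon
      rw [Finset.not_nonempty_iff_eq_empty] at hcon
      apply hm
      ext i
      by_contra hi
      have h1 : i ∈ Finset.univ.filter (fun i : σ => m i ≠ 0) :=
        Finset.mem_filter.mpr ⟨Finset.mem_univ _, hi⟩
      rw [hcon] at h1
      exact absurd h1 (Finset.notMem_empty _)
    obtain ⟨i0, hi0⟩ : ∃ i0, i0 = (Finset.univ.filter (fun i : σ => m i ≠ 0)).min' hne :=
      ⟨_, rfl⟩
    have hi0mem : m i0 ≠ 0 := by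
      rw [hi0]
      exact (Finset.mem_filter.mp (Finset.min'_mem _ hne)).2
    have hi0min : ∀ j, m j ≠ 0 → i0 ≤ j := by
      intro j hj
      rw [hi0]
      exact Finset.min'_le _ j (Finset.mem_filter.mpr ⟨Finset.mem_univ _, hj⟩)
    rw [Finset.sum_eq_single i0]
    · rw [coeff_part, if_pos]
      refine ⟨fun j hj => ?_, hi0mem⟩
      by_contra hj0
      exact absurd (hi0min j hj0) (not_le.mpr hj)
    · intro i _ hi
      rw [coeff_part, if_neg]
      rintro ⟨h1, h2⟩
      have hle := hi0min i h2
      have hlt : i0 < i := lt_of_le_of_ne hle (Ne.symm hi)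
      exact hi0mem (h1 i0 hlt)
    · intro h'
      exact absurd (Finset.mem_univ _) h'

theorem mem_pow (t : ℕ) : ∀ h : MvPowerSeries (σ) k,
    (∀ m : σ →₀ ℕ, m.degree < t → coeff m h = 0) →
    h ∈ (Ideal.span (Set.range (X : σ → MvPowerSeries (σ) k))) ^ t := by
  induction t with
  | zero =>
    intro h _
    rw [pow_zero, Ideal.one_eq_top]
    exact Submodule.mem_top
  | succ t ih =>
    intro h hh
    have h0 : constantCoeff h = 0 := by
      rw [← coeff_zero_eq_constantCoeff_apply]
      exact hh 0 (by rw [map_zero]; exact Nat.succ_pos t)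
    rw [decomp h, h0, map_zero, zero_add]
    refine Ideal.sum_mem _ fun i _ => ?_
    have hdvd : X i ∣ part i h := by
      rw [X_dvd_iff]
      intro m hm
      rw [coeff_part, if_neg]
      rintro ⟨-, h2⟩
      exact h2 hm
    obtain ⟨q, hq⟩ := hdvd
    have hq' : q ∈ (Ideal.span (Set.range (X : σ → MvPowerSeries (σ) k))) ^ t := by
      apply ih
      intro n hn
      have h1 : coeff (Finsupp.single i 1 + n) (part i h) = coeff n q := by
        rw [hq, X_def, coeff_add_monomial_mul, one_mul]
      rw [← h1, coeff_part]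
      split_ifs with hc
      · apply hh
        rw [map_add, Finsupp.degree_single]
        omega
      · rfl
    rw [hq, pow_succ']
    exact Ideal.mul_mem_mul (Ideal.subset_span ⟨i, rfl⟩) hq'

end General

theorem degree_one {σ : Type*} (m : σ →₀ ℕ) (hm : m.degree = 1) : ∃ j, m = Finsupp.single j 1 := by
  have hne : m ≠ 0 := by
    rintro rfl
    rw [map_zero] at hm
    exact absurd hm (by norm_num)
  obtain ⟨j, hj⟩ : ∃ j, m j ≠ 0 := by
    by_contra hcon
    push Not at hcon
    exact hne (Finsupp.ext hcon)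
  refine ⟨j, ?_⟩
  have hle : Finsupp.single j 1 ≤ m :=
    Finsupp.single_le_iff.mpr (Nat.one_le_iff_ne_zero.mpr hj)
  have h1 : m = Finsupp.single j 1 + (m - Finsupp.single j 1) :=
    (add_tsub_cancel_of_le hle).symm
  have h2 : (m - Finsupp.single j 1).degree = 0 := by
    have h3 := congrArg Finsupp.degree h1
    rw [map_add, Finsupp.degree_single, hm] at h3
    omega
  rw [(Finsupp.degree_eq_zero_iff _).mp h2, add_zero] at h1
  exact h1



theorem mem_pow' {σ : Type*} [Fintype σ] (t : ℕ) (h : MvPowerSeries σ k)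
    (hh : ∀ m : σ →₀ ℕ, m.degree < t → coeff m h = 0) :
    h ∈ (Ideal.span (Set.range (X : σ → MvPowerSeries σ k))) ^ t := by
  letI : LinearOrder σ := LinearOrder.lift' (Fintype.equivFin σ) (Fintype.equivFin σ).injective
  exact mem_pow t h hh

section Main

variable (k) (m : ℕ)

/-- index type -/
abbrev S (m : ℕ) := Option (Fin m ⊕ Fin m)

/-- target ideal -/
noncomputable def II : Ideal (MvPowerSeries (S m) k) :=
  Ideal.span ({X none ^ 2} ∪
    Set.range fun j : Fin m ⊕ Fin m => (X (some j) : MvPowerSeries (S m) k))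

/-- maximal ideal generators -/
noncomputable def MM : Ideal (MvPowerSeries (S m) k) :=
  Ideal.span (Set.range (X : S m → MvPowerSeries (S m) k))

/-- the ideal of the non-`x_0` variables -/
noncomputable def NN : Ideal (MvPowerSeries (S m) k) :=
  Ideal.span (Set.range fun j : Fin m ⊕ Fin m => (X (some j) : MvPowerSeries (S m) k))

/-- the quadratic form -/
noncomputable def QQ : MvPowerSeries (S m) k :=
  X none ^ 2 + ∑ i : Fin m, X (some (Sum.inl i)) * X (some (Sum.inr i))

theorem NN_le_II : NN k m ≤ II k m := Ideal.span_mono Set.subset_union_right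

theorem x0sq_mem_II : (X none ^ 2 : MvPowerSeries (S m) k) ∈ II k m :=
  Ideal.subset_span (Set.mem_union_left _ (Set.mem_singleton _))

theorem xs_mem_II (j : Fin m ⊕ Fin m) : (X (some j) : MvPowerSeries (S m) k) ∈ II k m :=
  Ideal.subset_span (Set.mem_union_right _ ⟨j, rfl⟩)

theorem claimA : MM k m ^ 2 ≤ Ideal.span {(X none ^ 2 : MvPowerSeries (S m) k)} ⊔
    MM k m * NN k m := by
  rw [pow_two, MM, Ideal.span_mul_span', Ideal.span_le]
  rintro _ ⟨_, ⟨a, rfl⟩, _, ⟨b, rfl⟩, rfl⟩
  rcases b with _ | j
  · rcases a with _ | j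
    · exact Ideal.mem_sup_left (Ideal.subset_span (Set.mem_singleton_iff.mpr (pow_two _).symm))
    · refine Ideal.mem_sup_right ?_
      show (X (some j) * X none : MvPowerSeries (S m) k) ∈ Ideal.span (Set.range X) * NN k m
      rw [mul_comm (X (some j)) (X none)]
      exact Ideal.mul_mem_mul (Ideal.subset_span ⟨none, rfl⟩) (Ideal.subset_span ⟨j, rfl⟩)
  · exact Ideal.mem_sup_right
      (Ideal.mul_mem_mul (Ideal.subset_span ⟨a, rfl⟩) (Ideal.subset_span ⟨j, rfl⟩))

theorem MMsq_le_II : MM k m ^ 2 ≤ II k m :=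
  (claimA k m).trans (sup_le ((Ideal.span_singleton_le_iff_mem _).mpr (x0sq_mem_II k m))
    (Ideal.mul_le_right.trans (NN_le_II k m)))

theorem MMcube_le : MM k m ^ 3 ≤ MM k m * II k m := by
  rw [pow_succ']
  exact Ideal.mul_mono_right (MMsq_le_II k m)

theorem MM_le_max : MM k m ≤ IsLocalRing.maximalIdeal (MvPowerSeries (S m) k) := by
  rw [MM, Ideal.span_le]
  rintro _ ⟨a, rfl⟩
  rw [SetLike.mem_coe, IsLocalRing.mem_maximalIdeal, mem_nonunits_iff, isUnit_iff_constantCoeff,
    constantCoeff_X]
  exact not_isUnit_zero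

variable [CharP k 2]

theorem two_eq_zero' : ((2 : ℕ) : MvPowerSeries (S m) k) = 0 := by
  rw [← map_natCast (C (σ := S m) (R := k)), CharP.cast_eq_zero, map_zero]

theorem pderiv_QQ_none : pderiv k none (QQ k m) = 0 := by
  rw [QQ, map_add, pderiv_pow, two_eq_zero', zero_mul, zero_mul, zero_add, map_sum]
  refine Finset.sum_eq_zero fun i _ => ?_
  rw [Derivation.leibniz, pderiv_X_of_ne (j := some (Sum.inr i)) (by simp),
    pderiv_X_of_ne (j := some (Sum.inl i)) (by simp), smul_zero, smul_zero, add_zero]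

omit [CharP k 2] in
theorem pderiv_QQ_inl (i : Fin m) :
    pderiv k (some (Sum.inl i)) (QQ k m) = X (some (Sum.inr i)) := by
  rw [QQ, map_add, pderiv_pow, pderiv_X_of_ne (j := none) (by simp), mul_zero, zero_add, map_sum]
  rw [Finset.sum_eq_single i]
  · rw [Derivation.leibniz, pderiv_X_of_ne (j := some (Sum.inr i)) (by simp), pderiv_X_self,
      smul_zero, zero_add, smul_eq_mul, mul_one]
  · intro i' _ hi'
    rw [Derivation.leibniz, pderiv_X_of_ne (j := some (Sum.inr i')) (by simp),
      pderiv_X_of_ne (j := some (Sum.inl i')) (by simpa using hi'), smul_zero, smul_zero,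
      add_zero]
  · intro h; exact absurd (Finset.mem_univ _) h

omit [CharP k 2] in
theorem pderiv_QQ_inr (i : Fin m) :
    pderiv k (some (Sum.inr i)) (QQ k m) = X (some (Sum.inl i)) := by
  rw [QQ, map_add, pderiv_pow, pderiv_X_of_ne (j := none) (by simp), mul_zero, zero_add, map_sum]
  rw [Finset.sum_eq_single i]
  · rw [Derivation.leibniz, pderiv_X_self, pderiv_X_of_ne (j := some (Sum.inl i)) (by simp),
      smul_zero, add_zero, smul_eq_mul, mul_one]
  · intro i' _ hi'
    rw [Derivation.leibniz, pderiv_X_of_ne (j := some (Sum.inr i')) (by simpa using hi'),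
      pderiv_X_of_ne (j := some (Sum.inl i')) (by simp), smul_zero, smul_zero,
      add_zero]
  · intro h; exact absurd (Finset.mem_univ _) h

omit [CharP k 2] in
theorem pderiv_g3_mem (g : MvPowerSeries (S m) k)
    (hg : ∀ d : S m →₀ ℕ, d.degree < 3 → coeff d g = 0) (a : S m) :
    pderiv k a g ∈ MM k m ^ 2 := by
  apply mem_pow' 2
  intro n hn
  rw [coeff_pderiv, hg, zero_mul]
  rw [map_add, Finsupp.degree_single]; omega

/-- the Jacobian-type ideal -/
noncomputable def JJ (f : MvPowerSeries (S m) k) : Ideal (MvPowerSeries (S m) k) :=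
  Ideal.span ({f} ∪ Set.range fun a : S m => pderiv k a f)

theorem ideal_eq (f : MvPowerSeries (S m) k)
    (hf : ∀ d : S m →₀ ℕ, d.degree < 3 → coeff d f = coeff d (QQ k m)) :
    JJ k m f = II k m := by
  have hg3 : ∀ d : S m →₀ ℕ, d.degree < 3 → coeff d (f - QQ k m) = 0 := fun d hd => by
    rw [map_sub, sub_eq_zero]; exact hf d hd
  have hg3mem : f - QQ k m ∈ MM k m ^ 3 := mem_pow' 3 _ hg3
  have hfQ : f = QQ k m + (f - QQ k m) := by ring
  have hpd : ∀ a, pderiv k a f = pderiv k a (QQ k m) + pderiv k a (f - QQ k m) := fun a => by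
    rw [← map_add]; congr 1
  have hQI : QQ k m ∈ II k m := by
    rw [QQ]
    exact add_mem (x0sq_mem_II k m)
      (sum_mem fun i _ => Ideal.mul_mem_left _ _ (xs_mem_II k m _))
  have hpQI : ∀ a, pderiv k a (QQ k m) ∈ II k m := by
    intro a
    rcases a with _ | (i | i)
    · rw [pderiv_QQ_none]; exact zero_mem _
    · rw [pderiv_QQ_inl]; exact xs_mem_II k m _
    · rw [pderiv_QQ_inr]; exact xs_mem_II k m _
  apply le_antisymm
  · rw [JJ, Ideal.span_le]
    rintro x (hx | ⟨a, rfl⟩)
    · rw [Set.mem_singleton_iff.mp hx, SetLike.mem_coe, hfQ]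
      exact add_mem hQI (MMsq_le_II k m (Ideal.pow_le_pow_right (by norm_num) hg3mem))
    · show pderiv k a f ∈ II k m
      rw [hpd a]
      exact add_mem (hpQI a) (MMsq_le_II k m (pderiv_g3_mem k m _ hg3 a))
  · have hfg : (II k m).FG :=
      Submodule.fg_span ((Set.finite_singleton _).union (Set.finite_range _))
    apply Submodule.le_of_le_smul_of_le_jacobson_bot hfg
      (IsLocalRing.jacobson_eq_maximalIdeal ⊥ bot_ne_top).ge
    have hT : JJ k m f ⊔ MM k m * II k m ≤
        JJ k m f ⊔ IsLocalRing.maximalIdeal (MvPowerSeries (S m) k) • II k m :=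
      sup_le_sup_left (by rw [smul_eq_mul]; exact Ideal.mul_mono_left (MM_le_max k m)) _
    refine le_trans ?_ hT
    have hfJ : f ∈ JJ k m f := Ideal.subset_span (Set.mem_union_left _ (Set.mem_singleton _))
    have hpJ : ∀ a, pderiv k a f ∈ JJ k m f := fun a =>
      Ideal.subset_span (Set.mem_union_right _ ⟨a, rfl⟩)
    have hx0 : (X none ^ 2 : MvPowerSeries (S m) k) ∈ JJ k m f ⊔ MM k m * II k m := by
      have e : (X none ^ 2 : MvPowerSeries (S m) k) = f -
          (∑ i : Fin m, X (some (Sum.inl i)) * X (some (Sum.inr i)) + (f - QQ k m)) := by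
        rw [QQ]; ring
      rw [e]
      refine Submodule.sub_mem _ (Ideal.mem_sup_left hfJ) (Ideal.mem_sup_right (add_mem
        (sum_mem fun i _ => Ideal.mul_mem_mul (Ideal.subset_span ⟨_, rfl⟩) (xs_mem_II k m _))
        (MMcube_le k m hg3mem)))
    have hM2 : MM k m ^ 2 ≤ JJ k m f ⊔ MM k m * II k m :=
      (claimA k m).trans (sup_le ((Ideal.span_singleton_le_iff_mem _).mpr hx0)
        (le_sup_of_le_right (Ideal.mul_mono_right (NN_le_II k m))))
    conv_lhs => rw [II]
    rw [Ideal.span_le]
    rintro x (hx | ⟨j, rfl⟩)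
    · rw [Set.mem_singleton_iff.mp hx]; exact hx0
    · rcases j with i | i
      · have e : (X (some (Sum.inl i)) : MvPowerSeries (S m) k) =
            pderiv k (some (Sum.inr i)) f - pderiv k (some (Sum.inr i)) (f - QQ k m) := by
          rw [hpd (some (Sum.inr i)), pderiv_QQ_inr]; ring
        show (X (some (Sum.inl i)) : MvPowerSeries (S m) k) ∈ JJ k m f ⊔ MM k m * II k m
        rw [e]
        exact Submodule.sub_mem _ (Ideal.mem_sup_left (hpJ _))
          (hM2 (pderiv_g3_mem k m _ hg3 _))
      · have e : (X (some (Sum.inr i)) : MvPowerSeries (S m) k) =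
            pderiv k (some (Sum.inl i)) f - pderiv k (some (Sum.inl i)) (f - QQ k m) := by
          rw [hpd (some (Sum.inl i)), pderiv_QQ_inl]; ring
        show (X (some (Sum.inr i)) : MvPowerSeries (S m) k) ∈ JJ k m f ⊔ MM k m * II k m
        rw [e]
        exact Submodule.sub_mem _ (Ideal.mem_sup_left (hpJ _))
          (hM2 (pderiv_g3_mem k m _ hg3 _))

omit [CharP k 2]

/-- the two coefficients -/
noncomputable def phi : MvPowerSeries (S m) k →ₗ[k] k × k :=
  (coeff (0 : S m →₀ ℕ)).prod (coeff (Finsupp.single none 1))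

theorem phi_apply (g : MvPowerSeries (S m) k) :
    phi k m g = (coeff 0 g, coeff (Finsupp.single none 1) g) := rfl

theorem coeff_e0 (g : MvPowerSeries (S m) k) :
    coeff (Finsupp.single (none : S m) 1) g = constantCoeff (pderiv k none g) := by
  rw [← coeff_zero_eq_constantCoeff_apply, coeff_pderiv, zero_add]
  simp

theorem mem_II_imp (g : MvPowerSeries (S m) k) (hg : g ∈ II k m) :
    constantCoeff g = 0 ∧ constantCoeff (pderiv k none g) = 0 := by
  refine Submodule.span_induction
    (p := fun g _ => constantCoeff g = 0 ∧ constantCoeff (pderiv k none g) = 0)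
    ?_ ?_ ?_ ?_ hg
  · intro x hx
    rcases hx with hx | ⟨j, rfl⟩
    · rw [Set.mem_singleton_iff.mp hx]
      constructor
      · simp
      · rw [pderiv_pow, pderiv_X_self]; simp
    · constructor
      · simp
      · rw [pderiv_X_of_ne (j := some j) (by simp)]; simp
  · simp
  · intro x y _ _ hx hy
    simp [hx.1, hx.2, hy.1, hy.2]
  · intro r x _ hx
    rw [smul_eq_mul, map_mul, Derivation.leibniz, map_add, smul_eq_mul, smul_eq_mul, map_mul,
      map_mul, hx.1, hx.2]
    simp

theorem ker_phi : (II k m).restrictScalars k = LinearMap.ker (phi k m) := by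
  ext g
  rw [Submodule.restrictScalars_mem, LinearMap.mem_ker, phi_apply, Prod.mk_eq_zero]
  constructor
  · intro hg
    obtain ⟨h1, h2⟩ := mem_II_imp k m g hg
    exact ⟨by rw [coeff_zero_eq_constantCoeff_apply]; exact h1, by rw [coeff_e0]; exact h2⟩
  · rintro ⟨h1, h2⟩
    have hg' : g - ∑ j : Fin m ⊕ Fin m, C (coeff (Finsupp.single (some j) 1) g) * X (some j)
        ∈ MM k m ^ 2 := by
      apply mem_pow' 2
      intro n hn
      rw [map_sub, map_sum, sub_eq_zero]
      have hdeg : n.degree = 0 ∨ n.degree = 1 := by omega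
      rcases hdeg with h0 | h1'
      · have : n = 0 := (Finsupp.degree_eq_zero_iff n).mp h0
        subst this
        rw [h1]; symm
        apply Finset.sum_eq_zero
        intro j _
        rw [← smul_eq_C_mul, map_smul, coeff_zero_X, smul_zero]
      · obtain ⟨a, rfl⟩ := degree_one n h1'
        rcases a with _ | j0
        · rw [h2]; symm
          apply Finset.sum_eq_zero
          intro j _
          rw [← smul_eq_C_mul, map_smul, coeff_index_single_X, if_neg (by simp), smul_zero]
        · rw [Finset.sum_eq_single j0]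
          · rw [← smul_eq_C_mul, map_smul, coeff_index_single_self_X, smul_eq_mul, mul_one]
          · intro j _ hj
            rw [← smul_eq_C_mul, map_smul, coeff_index_single_X,
              if_neg (by simpa using hj.symm), smul_zero]
          · intro h; exact absurd (Finset.mem_univ _) h
    have e : g = (g - ∑ j : Fin m ⊕ Fin m, C (coeff (Finsupp.single (some j) 1) g) * X (some j))
        + ∑ j : Fin m ⊕ Fin m, C (coeff (Finsupp.single (some j) 1) g) * X (some j) := by ring
    rw [e]
    exact add_mem (MMsq_le_II k m hg')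
      (sum_mem fun j _ => Ideal.mul_mem_left _ _ (xs_mem_II k m j))

theorem finrank_quot : Module.finrank k (MvPowerSeries (S m) k ⧸ II k m) = 2 := by
  have hsurj : Function.Surjective (phi k m) := by
    rintro ⟨a, b⟩
    refine ⟨C a + C b * X none, ?_⟩
    rw [phi_apply]
    apply Prod.ext
    · simp [coeff_zero_eq_constantCoeff_apply]
    · show coeff (Finsupp.single none 1) (C a + C b * X none) = b
      rw [map_add, coeff_C, if_neg (by simp), zero_add, ← smul_eq_C_mul, map_smul,
        coeff_index_single_self_X, smul_eq_mul, mul_one]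
  let e : (MvPowerSeries (S m) k ⧸ II k m) ≃ₗ[k] (k × k) :=
    ((Submodule.Quotient.restrictScalarsEquiv k (II k m)).symm.trans
      (Submodule.quotEquivOfEq _ _ (ker_phi k m))).trans
      ((phi k m).quotKerEquivOfSurjective hsurj)
  rw [e.finrank_eq, Module.finrank_prod, Module.finrank_self]

theorem main [CharP k 2] (f : MvPowerSeries (Option (Fin m ⊕ Fin m)) k)
    (hf : ∀ d : Option (Fin m ⊕ Fin m) →₀ ℕ, d.degree < 3 →
      MvPowerSeries.coeff d f = MvPowerSeries.coeff d
        (MvPowerSeries.X none ^ 2 +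
          ∑ i : Fin m, MvPowerSeries.X (some (Sum.inl i)) * MvPowerSeries.X (some (Sum.inr i)))) :
    Ideal.span ({f} ∪ Set.range fun i : Option (Fin m ⊕ Fin m) => MvPowerSeries.pderiv k i f) =
      Ideal.span ({MvPowerSeries.X none ^ 2} ∪
        Set.range fun j : Fin m ⊕ Fin m =>
          (MvPowerSeries.X (some j) : MvPowerSeries (Option (Fin m ⊕ Fin m)) k)) ∧
    Module.finrank k (MvPowerSeries (Option (Fin m ⊕ Fin m)) k ⧸
      Ideal.span ({MvPowerSeries.X none ^ 2} ∪
        Set.range fun j : Fin m ⊕ Fin m =>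
          (MvPowerSeries.X (some j) : MvPowerSeries (Option (Fin m ⊕ Fin m)) k))) = 2 :=
  ⟨ideal_eq k m f hf, finrank_quot k m⟩

end Main

end Groth.Agent.Helper25.JacIdeal2
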