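import Mathlib
import Groth.Prelude.Def_SGA3b
import Groth.Agent.Lib.Helper25.KerMT3

/-!
# Helper25: the kernel of a homomorphism between groups of multiplicative type (main part)

Refinement of a cover by idempotents so that a bialgebra map between diagonalisable Hopf algebras
comes from a homomorphism of groups; proof of S6062.
-/

set_option autoImplicit false

namespace Groth.Agent.Helper25.KerMT4

open TensorProduct SGA3b
open Groth.Agent.Helper25.Desc Groth.Agent.Helper25.PIDescent Groth.Agent.Helper25.PIDescentU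
  Groth.Agent.Helper25.NilLift Groth.Agent.Helper25.NilLift2 Groth.Agent.Helper25.KerMT1
  Groth.Agent.Helper25.KerMT2 Groth.Agent.Helper25.KerMT3

universe u

section Refine

variable {R : Type u} [CommRing R] {A : Type u} [CommRing A] [HopfAlgebra R A]
  {C : Type u} [CommRing C] [HopfAlgebra R C] (φ : C →ₐc[R] A)
  (J : Ideal A) [J.IsHopfIdeal R]
  (hJ : J = Ideal.map φ (RingHom.ker (Bialgebra.counitAlgHom R C)))

theorem phiW_map {T W : Type u} [CommRing T] [Algebra R T] [CommRing W] [Algebra R W]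
    (j : T →ₐ[R] W) (z : T ⊗[R] C) :
    phiW φ W (Algebra.TensorProduct.map j (AlgHom.id R C) z) =
      Algebra.TensorProduct.map j (AlgHom.id R A) (phiW φ T z) := by
  induction z using TensorProduct.induction_on with
  | zero => rw [map_zero, map_zero, map_zero, map_zero]
  | tmul t c => rfl
  | add x y hx hy => rw [map_add, map_add, map_add, map_add, hx, hy]

theorem map_smul_semi {T W : Type u} [CommRing T] [Algebra R T] [CommRing W] [Algebra R W]
    (j : T →ₐ[R] W) (t : T) (x : T ⊗[R] A) :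
    Algebra.TensorProduct.map j (AlgHom.id R A) (t • x) =
      j t • Algebra.TensorProduct.map j (AlgHom.id R A) x := by
  induction x using TensorProduct.induction_on with
  | zero => rw [smul_zero, map_zero, smul_zero]
  | tmul t' a =>
    rw [TensorProduct.smul_tmul', Algebra.TensorProduct.map_tmul, Algebra.TensorProduct.map_tmul,
      TensorProduct.smul_tmul', smul_eq_mul, smul_eq_mul, map_mul]
  | add x y hx hy => rw [smul_add, map_add, map_add, smul_add, hx, hy]

include hJ in
theorem exists_idem_cover (hCft : Algebra.FiniteType R C) (T : Type u) [CommRing T]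
    [Algebra R T] (hA : IsDiag T (T ⊗[R] A)) (hC : IsDiag T (T ⊗[R] C)) :
    ∃ (κ : Type u) (_ : Fintype κ) (_ : DecidableEq κ) (E : κ → T), ∑ k, E k = 1 ∧
      ∀ k, IsDiag (Localization.Away (E k)) (Localization.Away (E k) ⊗[R] (A ⧸ J)) := by
  classical
  obtain ⟨M, iM, βA, hβA, hA1, hAmul⟩ := hasGLG_of_isDiag hA
  obtain ⟨N, iN, βC, hβC, hC1, hCmul⟩ := hasGLG_of_isDiag hC
  rcases subsingleton_or_nontrivial T with hT | hT
  · refine ⟨PUnit, inferInstance, inferInstance, fun _ => 1, ?_, fun k => ?_⟩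
    · rw [Finset.univ_unique, Finset.sum_singleton]
    · have : Subsingleton (Localization.Away (1 : T)) := Module.subsingleton T _
      exact isDiag_of_glgw (Q := PUnit) glgw_of_subsingleton
  · -- `N` is finitely generated
    obtain ⟨FC, hFC⟩ := equiv_of_glgw βC hβC hC1 hCmul
    have hft : Algebra.FiniteType T (T ⊗[R] C) := inferInstance
    have hft' : Algebra.FiniteType T (MonoidAlgebra T N) :=
      Algebra.FiniteType.equiv hft FC.symm.toAlgEquiv
    have hfg : Group.FG N := MonoidAlgebra.finiteType_iff_group_fg.mp hft'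
    obtain ⟨Sg, hSg⟩ := Group.fg_def.mp hfg
    have hg : ∀ n, IsGroupLikeElem T (phiW φ T (βC n)) := fun n => (hβC n).map (phiW φ T)
    obtain ⟨c, hc⟩ : ∃ c : N → M →₀ T, ∀ n, c n = βA.repr (phiW φ T (βC n)) :=
      ⟨_, fun _ => rfl⟩
    have hcmul : ∀ n m m', c n m * c n m' = if m = m' then c n m else 0 := by
      intro n m m'
      rw [hc]
      exact repr_mul_repr βA hβA (hg n) m m'
    have hcsum : ∀ n, (c n).sum (fun _ x => x) = 1 := by
      intro n
      rw [hc, ← counit_eq_sum βA hβA, (hg n).counit_eq_one]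
    obtain ⟨E, hE⟩ : ∃ E : ((n : ↥Sg) → ↥((c n.1).support)) → T,
        ∀ μ, E μ = ∏ n : ↥Sg, c n.1 (μ n).1 := ⟨_, fun _ => rfl⟩
    have hEsum : ∑ μ, E μ = 1 := by
      simp_rw [hE]
      rw [← Fintype.prod_sum (fun (n : ↥Sg) (j : ↥((c n.1).support)) => c n.1 j.1)]
      apply Finset.prod_eq_one
      intro n _
      rw [Finset.sum_coe_sort (c n.1).support (fun m => c n.1 m)]
      exact hcsum n.1
    refine ⟨(n : ↥Sg) → ↥((c n.1).support), inferInstance, inferInstance, E, hEsum, fun μ => ?_⟩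
    obtain ⟨e₀, he₀⟩ : ∃ e₀ : T, e₀ = E μ := ⟨_, rfl⟩
    rw [← he₀]
    obtain ⟨j, hj⟩ : ∃ j : T →ₐ[R] Localization.Away e₀,
        ∀ t, j t = algebraMap T (Localization.Away e₀) t :=
      ⟨IsScalarTower.toAlgHom R T (Localization.Away e₀), fun _ => rfl⟩
    obtain ⟨bA, hbA⟩ := basis_via j βA
    obtain ⟨bC, hbC⟩ := basis_via j βC
    have hunit : IsUnit (j e₀) := by
      rw [hj]
      exact IsLocalization.Away.algebraMap_isUnit e₀
    refine diag_quot_of_gen φ J (Localization.Away e₀) hJ bA ?_ ?_ ?_ bC ?_ ?_ ?_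
      (Sg : Set N) hSg ?_
    · intro m
      rw [hbA]
      exact isGroupLikeElem_map_via j (hβA m)
    · rw [hbA, hA1, map_one]
    · intro m m'
      rw [hbA, hbA, hbA, hAmul, map_mul]
    · intro n
      rw [hbC]
      exact isGroupLikeElem_map_via j (hβC n)
    · rw [hbC, hC1, map_one]
    · intro n n'
      rw [hbC, hbC, hbC, hCmul, map_mul]
    · intro n hn
      obtain ⟨m₀, hm₀⟩ : ∃ m₀ : M, m₀ = (μ ⟨n, hn⟩).1 := ⟨_, rfl⟩
      refine ⟨m₀, ?_⟩
      have hu : IsUnit (j (c n m₀)) := by
        have h1 : e₀ = c n m₀ * ∏ x ∈ (Finset.univ : Finset ↥Sg).erase ⟨n, hn⟩,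
            c x.1 (μ x).1 := by
          rw [he₀, hE, hm₀]
          exact (Finset.mul_prod_erase Finset.univ (fun x : ↥Sg => c x.1 (μ x).1)
            (Finset.mem_univ (⟨n, hn⟩ : ↥Sg))).symm
        have h3 : j e₀ = j (c n m₀) * j (∏ x ∈ (Finset.univ : Finset ↥Sg).erase ⟨n, hn⟩,
            c x.1 (μ x).1) := by
          rw [← map_mul]
          exact congrArg j h1
        rw [h3] at hunit
        exact isUnit_of_mul_isUnit_left hunit
      have hj1 : j (c n m₀) = 1 := by
        have h2 : j (c n m₀) * j (c n m₀) = j (c n m₀) * 1 := by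
          rw [← map_mul, hcmul, if_pos rfl, mul_one]
        exact (hu.mul_right_inj).mp h2
      have hj0 : ∀ m, m ≠ m₀ → j (c n m) = 0 := by
        intro m hm
        have h2 : j (c n m) * j (c n m₀) = 0 := by
          rw [← map_mul, hcmul, if_neg hm, map_zero]
        rwa [hj1, mul_one] at h2
      have hexp : phiW φ T (βC n) = ∑ m ∈ (c n).support, c n m • βA m := by
        conv_lhs => rw [← βA.linearCombination_repr (phiW φ T (βC n)),
          Finsupp.linearCombination_apply, Finsupp.sum, ← hc]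
      rw [hbC, phiW_map, hexp, map_sum]
      have hm₀mem : m₀ ∈ (c n).support := by
        rw [hm₀]
        exact (μ ⟨n, hn⟩).2
      rw [Finset.sum_eq_single m₀]
      · rw [map_smul_semi, hj1, one_smul, hbA]
      · intro m _ hm
        rw [map_smul_semi, hj0 m hm, zero_smul]
      · intro hnot
        exact absurd hm₀mem hnot

end Refine

section Main

/-- S6062 -/
theorem main6062 (R : Type u) [CommRing R] (A : Type u) [CommRing A] [HopfAlgebra R A]
    (hA : IsMultType R A) (C : Type u) [CommRing C] [HopfAlgebra R C] (hC : IsMultType R C)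
    (hCft : Algebra.FiniteType R C) (φ : C →ₐc[R] A) (J : Ideal A) [J.IsHopfIdeal R]
    (hJ : J = Ideal.map φ (RingHom.ker (Bialgebra.counitAlgHom R C))) :
    IsMultType R (A ⧸ J) := by
  classical
  obtain ⟨ι, _, _, T, _, _, hffT, hdT⟩ := exists_cover_diag hA
  obtain ⟨ι', _, _, T', _, _, hffT', hdT'⟩ := exists_cover_diag hC
  have hff2 : Module.FaithfullyFlat R (Π p : ι × ι', T p.1 ⊗[R] T' p.2) := ff_prod T T'
  have hdA : ∀ p : ι × ι', IsDiag (T p.1 ⊗[R] T' p.2) ((T p.1 ⊗[R] T' p.2) ⊗[R] A) :=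
    fun p => diag_via (Algebra.TensorProduct.includeLeft : T p.1 →ₐ[R] T p.1 ⊗[R] T' p.2)
      (hdT p.1)
  have hdC : ∀ p : ι × ι', IsDiag (T p.1 ⊗[R] T' p.2) ((T p.1 ⊗[R] T' p.2) ⊗[R] C) :=
    fun p => diag_via (Algebra.TensorProduct.includeRight : T' p.2 →ₐ[R] T p.1 ⊗[R] T' p.2)
      (hdT' p.2)
  choose κ iF iD E hE hD using fun p : ι × ι' =>
    exists_idem_cover φ J hJ hCft (T p.1 ⊗[R] T' p.2) (hdA p) (hdC p)
  have hff3 : Module.FaithfullyFlat R
      (Π x : (Σ p : ι × ι', κ p), Localization.Away (E x.1 x.2)) :=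
    ff_sigma_away (fun p : ι × ι' => T p.1 ⊗[R] T' p.2) κ E hE
  exact isMultType_of_cover (fun x : (Σ p : ι × ι', κ p) => Localization.Away (E x.1 x.2))
    (fun x => hD x.1 x.2)

end Main

end Groth.Agent.Helper25.KerMT4
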