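import Mathlib
import Groth.Prelude.Def_SGA3b
import Groth.Agent.Lib.Helper25.Dens3
import Groth.Agent.Lib.Helper25.NilLift2
import Groth.Agent.Lib.Helper22.MultType1

/-! Rigidity of homomorphisms from a group of multiplicative type over a local base. -/

set_option autoImplicit false
universe u

namespace Groth.Agent.Helper25.Rig1

open TensorProduct SGA3b
open Groth.Agent.Helper25.Dens1 Groth.Agent.Helper22.MultType

section LocalCover

theorem exists_local_diag (R : Type u) [CommRing R] [IsLocalRing R] (A : Type u) [CommRing A]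
    [HopfAlgebra R A] (h : IsMultType R A) :
    ∃ (W : Type u) (_ : CommRing W) (_ : IsLocalRing W) (_ : Algebra R W),
      Module.FaithfullyFlat R W ∧
      Ideal.map (algebraMap R W) (IsLocalRing.maximalIdeal R) ≤ IsLocalRing.maximalIdeal W ∧
      IsDiag W (W ⊗[R] A) := by
  classical
  obtain ⟨ι, _, _, T, _, _, hff, hd⟩ := Groth.Agent.Helper25.KerMT3.exists_cover_diag h
  have := hff
  obtain ⟨i, hi⟩ := Groth.Agent.Helper25.KerMT1.exists_of_pi_ff T (IsLocalRing.maximalIdeal R)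
    (IsLocalRing.maximalIdeal.isMaximal R)
  have hflat : Module.Flat R (T i) := Groth.Agent.Helper25.KerMT1.flat_of_pi_ff T i
  have hne := Groth.Agent.Helper25.KerMT3.map_ne_top_of_smul_ne_top _ hi
  obtain ⟨q, hq, hle⟩ := Ideal.exists_le_maximal _ hne
  have := hq
  have hqp : q.IsPrime := hq.isPrime
  have hmap : Ideal.map (algebraMap R (Localization.AtPrime q)) (IsLocalRing.maximalIdeal R) ≤
      IsLocalRing.maximalIdeal (Localization.AtPrime q) := by
    rw [IsScalarTower.algebraMap_eq R (T i) (Localization.AtPrime q), ← Ideal.map_map,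
      ← IsLocalization.AtPrime.map_eq_maximalIdeal q (Localization.AtPrime q)]
    exact Ideal.map_mono hle
  refine ⟨Localization.AtPrime q, inferInstance, inferInstance, inferInstance, ?_, hmap, ?_⟩
  · have h1 : Module.Flat (T i) (Localization.AtPrime q) :=
      IsLocalization.flat _ q.primeCompl
    have h2 : Module.Flat R (Localization.AtPrime q) :=
      Module.Flat.trans R (T i) (Localization.AtPrime q)
    have hloc : IsLocalHom (algebraMap R (Localization.AtPrime q)) :=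
      ((IsLocalRing.local_hom_TFAE _).out 0 2).mpr hmap
    exact Module.FaithfullyFlat.of_flat_of_isLocalHom
  · exact Groth.Agent.Helper25.NilLift2.diag_via
      (IsScalarTower.toAlgHom R (T i) (Localization.AtPrime q)) (hd i)

end LocalCover

section coeffIdeal

variable {W : Type u} [CommRing W] {M : Type u} [CommGroup M]

/-- elements of `W[M]` all of whose coefficients lie in `𝔞`. -/
noncomputable def coeffIdeal (𝔞 : Ideal W) : Ideal (MonoidAlgebra W M) :=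
  RingHom.ker (MonoidAlgebra.mapRingHom M (Ideal.Quotient.mk 𝔞))

theorem mem_coeffIdeal (𝔞 : Ideal W) (v : MonoidAlgebra W M) :
    v ∈ coeffIdeal 𝔞 ↔ ∀ m, v.coeff m ∈ 𝔞 := by
  unfold coeffIdeal
  rw [RingHom.mem_ker, mapRingHom_eq_zero_iff]
  exact forall_congr' fun m => Ideal.Quotient.eq_zero_iff_mem

theorem smul_mem_coeffIdeal (𝔞 : Ideal W) (w : W) {v : MonoidAlgebra W M}
    (hv : v ∈ coeffIdeal 𝔞) : w • v ∈ coeffIdeal 𝔞 := by
  rw [Algebra.smul_def]
  exact Ideal.mul_mem_left _ _ hv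

end coeffIdeal

section theta

variable {R : Type u} [CommRing R] {A : Type u} [CommRing A] [Algebra R A]
  {W : Type u} [CommRing W] [Algebra R W] {M : Type u} [CommGroup M]
  (E : W ⊗[R] A ≃ₐ[W] MonoidAlgebra W M)

/-- `a ↦ E (1 ⊗ a)`. -/
noncomputable def thetaHom : A →ₐ[R] MonoidAlgebra W M :=
  ((E : W ⊗[R] A →ₐ[W] MonoidAlgebra W M).restrictScalars R).comp
    Algebra.TensorProduct.includeRight

theorem thetaHom_apply (a : A) : thetaHom E a = E ((1 : W) ⊗ₜ[R] a) := rfl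

theorem thetaHom_mem (I : Ideal R) {x : A} (hx : x ∈ Ideal.map (algebraMap R A) I) :
    thetaHom E x ∈ coeffIdeal (M := M) (Ideal.map (algebraMap R W) I) := by
  classical
  have hle : Ideal.map (algebraMap R A) I ≤
      Ideal.comap (thetaHom E) (coeffIdeal (Ideal.map (algebraMap R W) I)) := by
    rw [Ideal.map_le_iff_le_comap]
    intro r hr
    rw [Ideal.mem_comap, Ideal.mem_comap, AlgHom.commutes, mem_coeffIdeal]
    intro m'
    show (MonoidAlgebra.single (1 : M) (algebraMap R W r)).coeff m' ∈ _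
    rw [MonoidAlgebra.coeff_single, Finsupp.single_apply]
    split_ifs
    · exact Ideal.mem_map_of_mem _ hr
    · exact Ideal.zero_mem _
  exact Ideal.mem_comap.1 (hle hx)

end theta

section G

variable {W : Type u} [CommRing W] {C' : Type u} [CommRing C'] [Bialgebra W C']
  {M : Type u} [CommGroup M]

theorem valIn_pow_of_cube (D : WithConv (C' →ₗ[W] W)) (hD : D ^ 3 = D) (𝔞 : Ideal W)
    (hv : ValIn 𝔞 D) (k : ℕ) : ValIn (𝔞 ^ k) D := by
  induction k with
  | zero =>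
    intro c
    rw [pow_zero, Ideal.one_eq_top]
    trivial
  | succ k ih =>
    have h1 : ValIn (𝔞 ^ k * 𝔞 * 𝔞) (D * D * D) := valIn_mul (valIn_mul ih hv) hv
    have h2 : D * D * D = D := by
      rw [← pow_two, ← pow_succ]
      exact hD
    rw [h2] at h1
    refine valIn_mono ?_ h1
    rw [pow_succ]
    exact (Ideal.mul_le_left : 𝔞 ^ k * 𝔞 * 𝔞 ≤ 𝔞 ^ k * 𝔞)

theorem cube_sub_zero (a : WithConv (C' →ₗ[W] W)) (ha : a * a = a) : (a - 0) ^ 3 = a - 0 := by
  rw [sub_zero, pow_succ, pow_two, ha, ha]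

theorem cube_sub_one (a : WithConv (C' →ₗ[W] W)) (ha : a * a = a) : (a - 1) ^ 3 = a - 1 := by
  have h1 : (a - 1) * (a - 1) = 1 - a := by
    rw [sub_mul, mul_sub, mul_sub, mul_one, one_mul, mul_one, ha]
    abel
  have h2 : (1 - a) * (a - 1) = a - 1 := by
    rw [sub_mul, mul_sub, mul_sub, mul_one, one_mul, mul_one, ha]
    abel
  rw [pow_succ, pow_two, h1, h2]

theorem coef_triv [DecidableEq M] (m : M) :
    coef ((1 : WithConv (C' →ₐc[W] MonoidAlgebra W M)).ofConv.toCoalgHom) m =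
      if m = 1 then 1 else 0 := by
  apply WithConv.ofConv_injective
  ext c
  have h1 : (coef ((1 : WithConv (C' →ₐc[W] MonoidAlgebra W M)).ofConv.toCoalgHom) m) c =
      (MonoidAlgebra.single (1 : M) (Coalgebra.counit (R := W) c)).coeff m := rfl
  show (coef ((1 : WithConv (C' →ₐc[W] MonoidAlgebra W M)).ofConv.toCoalgHom) m) c = _
  rw [h1, MonoidAlgebra.coeff_single, Finsupp.single_apply]
  by_cases hm : m = 1
  · rw [if_pos hm, if_pos hm.symm]
    rfl
  · rw [if_neg hm, if_neg (Ne.symm hm)]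
    rfl

theorem cube_triv (ψ₁ : C' →ₐc[W] MonoidAlgebra W M) (m : M) :
    (coef ψ₁.toCoalgHom m -
      coef ((1 : WithConv (C' →ₐc[W] MonoidAlgebra W M)).ofConv.toCoalgHom) m) ^ 3 =
    coef ψ₁.toCoalgHom m -
      coef ((1 : WithConv (C' →ₐc[W] MonoidAlgebra W M)).ofConv.toCoalgHom) m := by
  classical
  have ha : coef ψ₁.toCoalgHom m * coef ψ₁.toCoalgHom m = coef ψ₁.toCoalgHom m := by
    rw [coef_mul_coef, if_pos rfl]
  rw [coef_triv]
  by_cases hm : m = 1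
  · rw [if_pos hm]
    exact cube_sub_one _ ha
  · rw [if_neg hm]
    exact cube_sub_zero _ ha

theorem cube_cocomm [Coalgebra.IsCocomm W C'] (ψ₁ ψ₂ : C' →ₐc[W] MonoidAlgebra W M) (m : M) :
    (coef ψ₁.toCoalgHom m - coef ψ₂.toCoalgHom m) ^ 3 =
      coef ψ₁.toCoalgHom m - coef ψ₂.toCoalgHom m := by
  classical
  have ha : coef ψ₁.toCoalgHom m * coef ψ₁.toCoalgHom m = coef ψ₁.toCoalgHom m := by
    rw [coef_mul_coef, if_pos rfl]
  have hb : coef ψ₂.toCoalgHom m * coef ψ₂.toCoalgHom m = coef ψ₂.toCoalgHom m := by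
    rw [coef_mul_coef, if_pos rfl]
  have ha' : coef ψ₁.toCoalgHom m ^ 2 - coef ψ₁.toCoalgHom m = 0 := by
    rw [pow_two, ha, sub_self]
  have hb' : coef ψ₂.toCoalgHom m ^ 2 - coef ψ₂.toCoalgHom m = 0 := by
    rw [pow_two, hb, sub_self]
  linear_combination (1 + coef ψ₁.toCoalgHom m - 3 * coef ψ₂.toCoalgHom m) * ha' +
    (3 * coef ψ₁.toCoalgHom m - 1 - coef ψ₂.toCoalgHom m) * hb'

theorem rigid_local [IsLocalRing W] (hft : Algebra.FiniteType W C')
    (ψ₁ ψ₂ : C' →ₐc[W] MonoidAlgebra W M)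
    (h3 : ∀ m, (coef ψ₁.toCoalgHom m - coef ψ₂.toCoalgHom m) ^ 3 =
      coef ψ₁.toCoalgHom m - coef ψ₂.toCoalgHom m)
    (hm : ∀ c, ψ₁ c - ψ₂ c ∈ coeffIdeal (M := M) (IsLocalRing.maximalIdeal W)) :
    ∀ c, ψ₁ c = ψ₂ c := by
  classical
  obtain ⟨D, hD⟩ : ∃ D : M → WithConv (C' →ₗ[W] W),
      ∀ m, D m = coef ψ₁.toCoalgHom m - coef ψ₂.toCoalgHom m := ⟨_, fun _ => rfl⟩
  have hDapp : ∀ m c, (D m) c = (ψ₁ c).coeff m - (ψ₂ c).coeff m := by
    intro m c
    rw [hD]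
    rfl
  have h3' : ∀ m, D m ^ 3 = D m := by
    intro m
    rw [hD]
    exact h3 m
  obtain ⟨𝔟, h𝔟⟩ : ∃ 𝔟 : Ideal W,
      𝔟 = Ideal.span (Set.range fun p : C' × M => (D p.2) p.1) := ⟨_, rfl⟩
  have hval : ∀ m, ValIn 𝔟 (D m) := by
    intro m c
    rw [h𝔟]
    exact Ideal.subset_span ⟨(c, m), rfl⟩
  have hsq : 𝔟 ≤ 𝔟 * 𝔟 := by
    have h1 : Ideal.span (Set.range fun p : C' × M => (D p.2) p.1) ≤ 𝔟 * 𝔟 := by
      apply Ideal.span_le.2
      rintro _ ⟨⟨c, m⟩, rfl⟩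
      have h2 := valIn_pow (hval m) 3 (by norm_num) c
      rw [h3' m] at h2
      have h4 : 𝔟 ^ 3 ≤ 𝔟 * 𝔟 := by
        rw [← pow_two]
        exact Ideal.pow_le_pow_right (by norm_num)
      exact h4 h2
    exact h𝔟.le.trans h1
  obtain ⟨s, hs⟩ := hft.out
  obtain ⟨S₀, hS₀⟩ : ∃ S₀ : Finset W, S₀ = s.biUnion (fun c =>
      ((ψ₁ c).coeff.support ∪ (ψ₂ c).coeff.support).image (fun m => (D m) c)) := ⟨_, rfl⟩
  obtain ⟨𝔟₀, h𝔟₀⟩ : ∃ 𝔟₀ : Ideal W, 𝔟₀ = Ideal.span (S₀ : Set W) := ⟨_, rfl⟩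
  have hgen : ∀ c ∈ s, ∀ m, (D m) c ∈ 𝔟₀ := by
    intro c hc m
    by_cases hm' : m ∈ (ψ₁ c).coeff.support ∪ (ψ₂ c).coeff.support
    · rw [h𝔟₀]
      apply Ideal.subset_span
      rw [hS₀, Finset.mem_coe, Finset.mem_biUnion]
      exact ⟨c, hc, Finset.mem_image.2 ⟨m, hm', rfl⟩⟩
    · rw [Finset.mem_union, not_or, Finsupp.mem_support_iff, Finsupp.mem_support_iff,
        not_not, not_not] at hm'
      rw [hDapp, hm'.1, hm'.2, sub_zero]
      exact 𝔟₀.zero_mem
  obtain ⟨Q, hQ⟩ : ∃ Q : MonoidAlgebra W M →+* MonoidAlgebra (W ⧸ 𝔟₀) M,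
      Q = MonoidAlgebra.mapRingHom M (Ideal.Quotient.mk 𝔟₀) := ⟨_, rfl⟩
  have hQ0 : ∀ v : MonoidAlgebra W M, Q v = 0 ↔ ∀ m, v.coeff m ∈ 𝔟₀ := by
    intro v
    rw [hQ, mapRingHom_eq_zero_iff]
    exact forall_congr' fun m => Ideal.Quotient.eq_zero_iff_mem
  have hall : ∀ c : C', Q (ψ₁ c) = Q (ψ₂ c) := by
    intro c
    have hc : c ∈ Algebra.adjoin W (s : Set C') := by
      rw [hs]
      trivial
    induction hc using Algebra.adjoin_induction with
    | mem x hx =>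
      rw [← sub_eq_zero, ← map_sub, hQ0]
      intro m
      rw [MonoidAlgebra.coeff_sub, Finsupp.sub_apply, ← hDapp]
      exact hgen x (Finset.mem_coe.1 hx) m
    | algebraMap r => rw [AlgHomClass.commutes ψ₁ r, AlgHomClass.commutes ψ₂ r]
    | add x y _ _ hx hy => rw [map_add, map_add, map_add, map_add, hx, hy]
    | mul x y _ _ hx hy => rw [map_mul, map_mul, map_mul, map_mul, hx, hy]
  have hD₀ : ∀ m c, (D m) c ∈ 𝔟₀ := by
    intro m c
    have h1 : Q (ψ₁ c - ψ₂ c) = 0 := by rw [map_sub, hall c, sub_self]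
    have h2 := (hQ0 _).1 h1 m
    rw [MonoidAlgebra.coeff_sub, Finsupp.sub_apply] at h2
    rw [hDapp]
    exact h2
  have hle : 𝔟 ≤ 𝔟₀ := by
    rw [h𝔟]
    apply Ideal.span_le.2
    rintro _ ⟨⟨c, m⟩, rfl⟩
    exact hD₀ m c
  have hle' : 𝔟₀ ≤ 𝔟 := by
    rw [h𝔟₀]
    apply Ideal.span_le.2
    intro w hw
    rw [hS₀, Finset.mem_coe, Finset.mem_biUnion] at hw
    obtain ⟨c, _, hw⟩ := hw
    obtain ⟨m, _, rfl⟩ := Finset.mem_image.1 hw
    exact hval m c
  have hfg : (𝔟₀ : Submodule W W).FG := by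
    rw [h𝔟₀]
    exact Submodule.fg_span (Finset.finite_toSet S₀)
  have hmax : 𝔟 ≤ IsLocalRing.maximalIdeal W := by
    rw [h𝔟]
    apply Ideal.span_le.2
    rintro _ ⟨⟨c, m⟩, rfl⟩
    show (D m) c ∈ IsLocalRing.maximalIdeal W
    rw [hDapp, ← Finsupp.sub_apply, ← MonoidAlgebra.coeff_sub]
    exact (mem_coeffIdeal _ _).1 (hm c) m
  have hbot : 𝔟₀ = ⊥ := by
    apply Submodule.eq_bot_of_le_smul_of_le_jacobson_bot 𝔟₀ 𝔟₀ hfg
    · rw [Ideal.smul_eq_mul]
      exact hle'.trans (hsq.trans (Ideal.mul_mono hle hle))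
    · rw [IsLocalRing.jacobson_eq_maximalIdeal ⊥ bot_ne_top]
      exact hle'.trans hmax
  intro c
  apply MonoidAlgebra.ext
  ext m
  have h1 := hD₀ m c
  rw [hbot, Ideal.mem_bot, hDapp, sub_eq_zero] at h1
  exact h1

end G

end Groth.Agent.Helper25.Rig1
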