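import Mathlib
import Groth.Prelude.Def_SGA3b
import Groth.Agent.Lib.Helper25.KerMT4
import Groth.Agent.Lib.Helper25.Rig1

/-!
# Helper25: kernels of homomorphisms from a diagonalisable group to an affine group of finite type

Local analysis: isotypic components, compatibility with antipodes, and the description of the
image of the coordinate ring over a local base (by rigidity).
-/

set_option autoImplicit false
universe u

namespace Groth.Agent.Helper25.KerFP1

open TensorProduct SGA3b
open Groth.Agent.Helper22.MultType Groth.Agent.Helper25.Rig1 Groth.Agent.Helper25.Dens1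
  Groth.Agent.Helper25.KerMT3 Groth.Agent.Helper25.KerMT4

section Pure

variable {W : Type u} [CommRing W] {C' : Type u} [CommRing C'] [Bialgebra W C']
  {M : Type u} [CommGroup M]

/-- `x ⊗ y ↦ (coefficient of y at m) • x`. -/
noncomputable def Lam' (m : M) :
    MonoidAlgebra W M ⊗[W] MonoidAlgebra W M →ₗ[W] MonoidAlgebra W M :=
  (TensorProduct.rid W (MonoidAlgebra W M)).toLinearMap ∘ₗ
    (LinearMap.lTensor (MonoidAlgebra W M) (Groth.Agent.Helper22.MultType.pi m))

theorem Lam'_tmul (m : M) (x y : MonoidAlgebra W M) :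
    Lam' m (x ⊗ₜ[W] y) = (y.coeff m) • x := by
  unfold Lam'
  rw [LinearMap.comp_apply, LinearMap.lTensor_tmul, LinearEquiv.coe_coe, TensorProduct.rid_tmul,
    pi_apply]

theorem Lam'_comul [DecidableEq M] (m : M) (x : MonoidAlgebra W M) :
    Lam' m (Coalgebra.comul (R := W) x) = MonoidAlgebra.single m (x.coeff m) := by
  induction x using MonoidAlgebra.induction_linear with
  | zero => simp
  | add x y hx hy =>
    rw [map_add, map_add, hx, hy, MonoidAlgebra.coeff_add, Finsupp.add_apply,
      MonoidAlgebra.single_add]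
  | single y a =>
    rw [MonoidAlgebra.comul_single, CommSemiring.comul_apply, TensorProduct.map_tmul,
      MonoidAlgebra.lsingle_apply, MonoidAlgebra.lsingle_apply, Lam'_tmul,
      MonoidAlgebra.coeff_single, Finsupp.single_apply]
    by_cases h : y = m
    · subst h
      simp
    · simp [h]

/-- isotypic components: every coefficient of `ψ c` is the value of a pure element. -/
theorem exists_pure (ψ : C' →ₗc[W] MonoidAlgebra W M) (m : M) (c : C') :
    ∃ z : C', ψ z = MonoidAlgebra.single m ((ψ c).coeff m) := by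
  classical
  obtain ⟨f, hf⟩ : ∃ f : C' →ₗ[W] W, ∀ c, f c = (ψ c).coeff m :=
    ⟨(Groth.Agent.Helper22.MultType.pi m) ∘ₗ (ψ : C' →ₗ[W] MonoidAlgebra W M), fun c => rfl⟩
  refine ⟨TensorProduct.rid W C' ((LinearMap.lTensor C' f) (Coalgebra.comul (R := W) c)), ?_⟩
  have key : ∀ t : C' ⊗[W] C', ψ (TensorProduct.rid W C' ((LinearMap.lTensor C' f) t)) =
      Lam' m (TensorProduct.map (ψ : C' →ₗ[W] MonoidAlgebra W M)
        (ψ : C' →ₗ[W] MonoidAlgebra W M) t) := by
    intro t
    induction t using TensorProduct.induction_on with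
    | zero => simp
    | tmul a b =>
      rw [LinearMap.lTensor_tmul, TensorProduct.rid_tmul, map_smul, hf, TensorProduct.map_tmul,
        Lam'_tmul]
      rfl
    | add x y hx hy => simp only [map_add, hx, hy]
  have hcomul : TensorProduct.map (ψ : C' →ₗ[W] MonoidAlgebra W M)
      (ψ : C' →ₗ[W] MonoidAlgebra W M) (Coalgebra.comul (R := W) c) =
      Coalgebra.comul (R := W) (ψ c) := CoalgHomClass.map_comp_comul_apply ψ c
  rw [key, hcomul, Lam'_comul]

end Pure

section Antipode

variable {W : Type u} [CommRing W] {C' D : Type u} [CommRing C'] [CommRing D]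
  [HopfAlgebra W C'] [HopfAlgebra W D]

theorem mul'_map_left {ψ : C' →ₗ[W] D} (hψ : ∀ a b, ψ (a * b) = ψ a * ψ b) (f : C' →ₗ[W] C')
    (t : C' ⊗[W] C') :
    LinearMap.mul' W D (TensorProduct.map ψ (ψ ∘ₗ f) t) =
      ψ (LinearMap.mul' W C' (LinearMap.lTensor C' f t)) := by
  induction t using TensorProduct.induction_on with
  | zero => simp
  | tmul a b =>
    rw [TensorProduct.map_tmul, LinearMap.mul'_apply, LinearMap.lTensor_tmul, LinearMap.mul'_apply,
      hψ, LinearMap.comp_apply]
  | add x y hx hy => simp only [map_add, hx, hy]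

theorem mul'_map_right (ψ : C' →ₗ[W] D) (g : D →ₗ[W] D) (t : C' ⊗[W] C') :
    LinearMap.mul' W D (TensorProduct.map (g ∘ₗ ψ) ψ t) =
      LinearMap.mul' W D (LinearMap.rTensor D g (TensorProduct.map ψ ψ t)) := by
  induction t using TensorProduct.induction_on with
  | zero => simp
  | tmul a b =>
    rw [TensorProduct.map_tmul, TensorProduct.map_tmul, LinearMap.rTensor_tmul,
      LinearMap.comp_apply]
  | add x y hx hy => simp only [map_add, hx, hy]

/-- a homomorphism of Hopf algebras commutes with the antipodes. -/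
theorem map_antipode (ψ : C' →ₐc[W] D) (c : C') :
    ψ (HopfAlgebra.antipode W c) = HopfAlgebra.antipode W (ψ c) := by
  have hmul : ∀ a b, (ψ : C' →ₗ[W] D) (a * b) = (ψ : C' →ₗ[W] D) a * (ψ : C' →ₗ[W] D) b :=
    fun a b => map_mul ψ a b
  have h1 : WithConv.toConv (ψ : C' →ₗ[W] D) *
      WithConv.toConv ((ψ : C' →ₗ[W] D) ∘ₗ HopfAlgebra.antipode W) = 1 := by
    apply WithConv.ofConv_injective
    ext x
    show LinearMap.mul' W D (TensorProduct.map (ψ : C' →ₗ[W] D)
      ((ψ : C' →ₗ[W] D) ∘ₗ HopfAlgebra.antipode W) (Coalgebra.comul (R := W) x)) =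
      algebraMap W D (Coalgebra.counit (R := W) x)
    rw [mul'_map_left hmul, HopfAlgebra.mul_antipode_lTensor_comul_apply]
    exact AlgHomClass.commutes ψ (Coalgebra.counit (R := W) x)
  have h2 : WithConv.toConv (HopfAlgebra.antipode W ∘ₗ (ψ : C' →ₗ[W] D)) *
      WithConv.toConv (ψ : C' →ₗ[W] D) = 1 := by
    apply WithConv.ofConv_injective
    ext x
    show LinearMap.mul' W D (TensorProduct.map (HopfAlgebra.antipode W ∘ₗ (ψ : C' →ₗ[W] D))
      (ψ : C' →ₗ[W] D) (Coalgebra.comul (R := W) x)) =
      algebraMap W D (Coalgebra.counit (R := W) x)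
    have hcomul : TensorProduct.map (ψ : C' →ₗ[W] D) (ψ : C' →ₗ[W] D)
        (Coalgebra.comul (R := W) x) = Coalgebra.comul (R := W) (ψ x) :=
      CoalgHomClass.map_comp_comul_apply ψ x
    rw [mul'_map_right, hcomul, HopfAlgebra.mul_antipode_rTensor_comul_apply,
      CoalgHomClass.counit_comp_apply]
  have h3 := left_inv_eq_right_inv h2 h1
  have h4 := congrArg (fun f => f.ofConv c) h3
  exact h4.symm

end Antipode

section Local

variable {L : Type u} [CommRing L] [IsLocalRing L] {C' : Type u} [CommRing C'] [HopfAlgebra L C']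
  {M : Type u} [CommGroup M]

/-- Over a local ring, the image of a homomorphism `C' → L[M]` from a Hopf algebra of finite type
is the group algebra of a subgroup `N` of `M`. -/
theorem local_lemma (hft : Algebra.FiniteType L C') (ψ : C' →ₐc[L] MonoidAlgebra L M) :
    ∃ N : Subgroup M, (∀ (z : C') (m : M), m ∉ N → (ψ z).coeff m = 0) ∧
      (∀ m ∈ N, ∃ z : C', ψ z = MonoidAlgebra.single m 1) := by
  classical
  let N : Subgroup M :=
    { carrier := {m | ∃ (z : C') (x : L), IsUnit x ∧ ψ z = MonoidAlgebra.single m x}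
      one_mem' := ⟨1, 1, isUnit_one, by rw [map_one, MonoidAlgebra.one_def]⟩
      mul_mem' := by
        rintro m m' ⟨z, x, hx, hz⟩ ⟨z', x', hx', hz'⟩
        exact ⟨z * z', x * x', hx.mul hx', by
          rw [map_mul, hz, hz', MonoidAlgebra.single_mul_single]⟩
      inv_mem' := by
        rintro m ⟨z, x, hx, hz⟩
        refine ⟨HopfAlgebra.antipode L z, x, hx, ?_⟩
        rw [map_antipode, hz, MonoidAlgebra.antipode_single]
        rfl }
  have hcoefm : ∀ (z : C') (m : M), m ∉ N → (ψ z).coeff m ∈ IsLocalRing.maximalIdeal L := by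
    intro z m hm
    by_contra hnot
    have hu : IsUnit ((ψ z).coeff m) := by
      by_contra h2
      exact hnot ((IsLocalRing.mem_maximalIdeal _).2 h2)
    obtain ⟨z', hz'⟩ := exists_pure ψ.toCoalgHom m z
    exact hm ⟨z', _, hu, hz'⟩
  obtain ⟨g₂, hg₂⟩ : ∃ g₂ : MonoidAlgebra L M →ₐc[L] MonoidAlgebra L (M ⧸ N),
      g₂ = MonoidAlgebra.mapDomainBialgHom L (QuotientGroup.mk' N) := ⟨_, rfl⟩
  have hg₂s : ∀ (m : M) (a : L), g₂ (MonoidAlgebra.single m a) =
      MonoidAlgebra.single (QuotientGroup.mk' N m) a := by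
    intro m a
    rw [hg₂, MonoidAlgebra.mapDomainBialgHom_single]
  have hmk : ∀ m : M, QuotientGroup.mk' N m = 1 ↔ m ∈ N := by
    intro m
    rw [QuotientGroup.mk'_apply, QuotientGroup.eq_one_iff]
  have hcl : ∀ c : C', (g₂.comp ψ) c -
      (1 : WithConv (C' →ₐc[L] MonoidAlgebra L (M ⧸ N))).ofConv c ∈
      coeffIdeal (M := M ⧸ N) (IsLocalRing.maximalIdeal L) := by
    intro c
    obtain ⟨v, hv⟩ : ∃ v : MonoidAlgebra L M, v = ψ c := ⟨_, rfl⟩
    have h1 : (1 : WithConv (C' →ₐc[L] MonoidAlgebra L (M ⧸ N))).ofConv c =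
        MonoidAlgebra.single 1 (Coalgebra.counit (R := L) v) := by
      have h0 : (1 : WithConv (C' →ₐc[L] MonoidAlgebra L (M ⧸ N))).ofConv c =
        algebraMap L (MonoidAlgebra L (M ⧸ N)) (Coalgebra.counit (R := L) c) := rfl
      rw [h0, hv, CoalgHomClass.counit_comp_apply ψ c]
      rfl
    have h2 : v = ∑ m ∈ v.coeff.support, MonoidAlgebra.single m (v.coeff m) := eq_sum_single v
    have h3 : Coalgebra.counit (R := L) v = ∑ m ∈ v.coeff.support, v.coeff m := by
      calc Coalgebra.counit (R := L) v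
          = Coalgebra.counit (R := L) (∑ m ∈ v.coeff.support,
              MonoidAlgebra.single m (v.coeff m)) := congrArg _ h2
        _ = ∑ m ∈ v.coeff.support, v.coeff m := by
            rw [map_sum]
            exact Finset.sum_congr rfl (fun m _ => MonoidAlgebra.counit_single _ _)
    have h4 : (g₂.comp ψ) c = ∑ m ∈ v.coeff.support,
        MonoidAlgebra.single (QuotientGroup.mk' N m) (v.coeff m) := by
      calc (g₂.comp ψ) c = g₂ v := by rw [hv]; rfl
        _ = g₂ (∑ m ∈ v.coeff.support, MonoidAlgebra.single m (v.coeff m)) := congrArg _ h2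
        _ = _ := by
            rw [map_sum]
            exact Finset.sum_congr rfl (fun m _ => hg₂s m _)
    have h5 : MonoidAlgebra.single (1 : M ⧸ N) (∑ m ∈ v.coeff.support, v.coeff m) =
        ∑ m ∈ v.coeff.support, MonoidAlgebra.single (1 : M ⧸ N) (v.coeff m) :=
      map_sum (MonoidAlgebra.lsingle (R := L) (1 : M ⧸ N)) _ _
    rw [h1, h4, h3, h5, ← Finset.sum_sub_distrib]
    refine Ideal.sum_mem _ (fun m _ => ?_)
    by_cases hm : m ∈ N
    · rw [(hmk m).2 hm, sub_self]
      exact Ideal.zero_mem _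
    · have hmem : ∀ q : M ⧸ N, MonoidAlgebra.single q (v.coeff m) ∈
          coeffIdeal (M := M ⧸ N) (IsLocalRing.maximalIdeal L) := by
        intro q
        rw [mem_coeffIdeal]
        intro q'
        rw [MonoidAlgebra.coeff_single, Finsupp.single_apply]
        split_ifs
        · rw [hv]
          exact hcoefm c m hm
        · exact Ideal.zero_mem _
      exact Ideal.sub_mem _ (hmem _) (hmem _)
  have key := rigid_local hft (g₂.comp ψ)
    (1 : WithConv (C' →ₐc[L] MonoidAlgebra L (M ⧸ N))).ofConv (fun q => cube_triv _ q) hcl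
  refine ⟨N, ?_, ?_⟩
  · intro z m hm
    obtain ⟨z', hz'⟩ := exists_pure ψ.toCoalgHom m z
    have hz'' : ψ z' = MonoidAlgebra.single m ((ψ z).coeff m) := hz'
    have h1 := key z'
    have h2 : (g₂.comp ψ) z' =
        MonoidAlgebra.single (QuotientGroup.mk' N m) ((ψ z).coeff m) := by
      show g₂ (ψ z') = _
      rw [hz'', hg₂s]
    have h3 : (1 : WithConv (C' →ₐc[L] MonoidAlgebra L (M ⧸ N))).ofConv z' =
        MonoidAlgebra.single 1 (Coalgebra.counit (R := L) z') := rfl
    rw [h2, h3] at h1
    have h4 := congrArg (fun v => v.coeff (QuotientGroup.mk' N m)) h1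
    simp only [MonoidAlgebra.coeff_single, Finsupp.single_apply] at h4
    have hne : ¬ ((1 : M ⧸ N) = QuotientGroup.mk' N m) := by
      intro h
      exact hm ((hmk m).1 h.symm)
    rw [if_neg hne] at h4
    simpa using h4
  · rintro m ⟨z, x, hx, hz⟩
    obtain ⟨u, rfl⟩ := hx
    refine ⟨(↑u⁻¹ : L) • z, ?_⟩
    rw [map_smul, hz, MonoidAlgebra.smul_single', Units.inv_mul]

end Local

section BaseChange

variable {R : Type u} [CommRing R] {A : Type u} [CommRing A] [HopfAlgebra R A]
  {M : Type u} [CommGroup M]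

/-- transport of a basis of group-like elements along a base change. -/
theorem glg_via {T W : Type u} [CommRing T] [Algebra R T] [CommRing W] [Algebra R W]
    (j : T →ₐ[R] W) (β : Module.Basis M T (T ⊗[R] A))
    (hβ : ∀ m, IsGroupLikeElem T (β m)) (h1 : β 1 = 1)
    (hmul : ∀ m m', β (m * m') = β m * β m') :
    ∃ b : Module.Basis M W (W ⊗[R] A),
      (∀ q, b q = Algebra.TensorProduct.map j (AlgHom.id R A) (β q)) ∧
      (∀ q, IsGroupLikeElem W (b q)) ∧ b 1 = 1 ∧ (∀ q q', b (q * q') = b q * b q') ∧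
      ∃ F : MonoidAlgebra W M ≃ₐc[W] W ⊗[R] A, ∀ q, F (MonoidAlgebra.single q 1) = b q := by
  obtain ⟨b, hb⟩ := Groth.Agent.Helper25.KerMT1.basis_via j β
  have hg : ∀ q, IsGroupLikeElem W (b q) := fun q => by
    rw [hb]
    exact Groth.Agent.Helper25.PIDescentU.isGroupLikeElem_map_via j (hβ q)
  have hb1 : b 1 = 1 := by rw [hb, h1, map_one]
  have hbm : ∀ q q', b (q * q') = b q * b q' := fun q q' => by
    rw [hb, hb, hb, hmul, map_mul]
  obtain ⟨F, hF⟩ := Groth.Agent.Helper25.KerMT1.equiv_of_glgw b hg hb1 hbm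
  exact ⟨b, hb, hg, hb1, hbm, F, hF⟩

/-- coordinates with respect to a basis of group-like elements and the associated isomorphism. -/
theorem repr_F {W : Type u} [CommRing W] {D : Type u} [CommRing D] [Bialgebra W D]
    (b : Module.Basis M W D) (F : MonoidAlgebra W M ≃ₐc[W] D)
    (hF : ∀ q, F (MonoidAlgebra.single q 1) = b q) (x : MonoidAlgebra W M) (m : M) :
    b.repr (F x) m = x.coeff m := by
  classical
  induction x using MonoidAlgebra.induction_linear with
  | zero => simp
  | add x y hx hy =>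
    rw [map_add, map_add, Finsupp.add_apply, hx, hy, MonoidAlgebra.coeff_add, Finsupp.add_apply]
  | single q a =>
    have h0 : MonoidAlgebra.single q a = a • MonoidAlgebra.single q (1 : W) := by
      rw [MonoidAlgebra.smul_single', mul_one]
    rw [h0, map_smul, hF, map_smul, b.repr_self, Finsupp.smul_apply, Finsupp.single_apply,
      ← h0, MonoidAlgebra.coeff_single, Finsupp.single_apply, smul_eq_mul]
    split_ifs <;> simp

theorem repr_map {T W : Type u} [CommRing T] [Algebra R T] [CommRing W] [Algebra R W]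
    (j : T →ₐ[R] W) (β : Module.Basis M T (T ⊗[R] A)) (b : Module.Basis M W (W ⊗[R] A))
    (hb : ∀ q, b q = Algebra.TensorProduct.map j (AlgHom.id R A) (β q)) (x : T ⊗[R] A) (m : M) :
    b.repr (Algebra.TensorProduct.map j (AlgHom.id R A) x) m = j (β.repr x m) := by
  classical
  have hexp : x = ∑ q ∈ (β.repr x).support, β.repr x q • β q := by
    conv_lhs => rw [← β.linearCombination_repr x, Finsupp.linearCombination_apply, Finsupp.sum]
  have h1 : Algebra.TensorProduct.map j (AlgHom.id R A) x =
      ∑ q ∈ (β.repr x).support, j (β.repr x q) • b q := by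
    calc Algebra.TensorProduct.map j (AlgHom.id R A) x
        = Algebra.TensorProduct.map j (AlgHom.id R A)
            (∑ q ∈ (β.repr x).support, β.repr x q • β q) := congrArg _ hexp
      _ = _ := by
          rw [map_sum]
          refine Finset.sum_congr rfl (fun q _ => ?_)
          rw [map_smul_semi j, hb]
  have h2 : ∀ q, (b.repr (j (β.repr x q) • b q)) m = if q = m then j (β.repr x q) else 0 := by
    intro q
    rw [map_smul, b.repr_self, Finsupp.smul_apply, Finsupp.single_apply, smul_eq_mul]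
    split_ifs <;> simp
  rw [h1, map_sum, Finsupp.finsetSum_apply]
  simp_rw [h2]
  rw [Finset.sum_ite_eq']
  split_ifs with hm
  · rfl
  · rw [Finsupp.notMem_support_iff.1 hm, map_zero]

/-- clearing denominators in a base change to a localization. -/
theorem exists_denom {C : Type u} [CommRing C] [HopfAlgebra R C] {T : Type u} [CommRing T]
    [Algebra R T] (S : Submonoid T) (L : Type u) [CommRing L] [Algebra T L] [Algebra R L]
    [IsScalarTower R T L] [IsLocalization S L] (j : T →ₐ[R] L)
    (hj : ∀ t, j t = algebraMap T L t) (z : L ⊗[R] C) :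
    ∃ (s : T) (_ : s ∈ S) (y : T ⊗[R] C),
      j s • z = Algebra.TensorProduct.map j (AlgHom.id R C) y := by
  induction z using TensorProduct.induction_on with
  | zero => exact ⟨1, S.one_mem, 0, by rw [smul_zero, map_zero]⟩
  | tmul l c =>
    obtain ⟨⟨t, s⟩, hts⟩ := IsLocalization.surj S l
    refine ⟨s.1, s.2, t ⊗ₜ[R] c, ?_⟩
    rw [TensorProduct.smul_tmul', smul_eq_mul, Algebra.TensorProduct.map_tmul, AlgHom.id_apply,
      hj, hj, mul_comm]
    exact congrArg (fun w => w ⊗ₜ[R] c) hts
  | add x y hx hy =>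
    obtain ⟨s₁, hs₁, y₁, h₁⟩ := hx
    obtain ⟨s₂, hs₂, y₂, h₂⟩ := hy
    refine ⟨s₁ * s₂, S.mul_mem hs₁ hs₂, s₂ • y₁ + s₁ • y₂, ?_⟩
    rw [smul_add, map_add, map_smul_semi j, map_smul_semi j, ← h₁, ← h₂, map_mul, mul_smul,
      mul_smul, smul_comm (j s₁) (j s₂) x]

end BaseChange

end Groth.Agent.Helper25.KerFP1
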