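import Mathlib
import Groth.Prelude.Def_SGA3b
import Groth.Agent.Lib.Helper25.KerFP1

/-!
# Helper25: the kernel of a homomorphism from a group of multiplicative type to an affine group
of finite type is of multiplicative type (S2982)
-/

set_option autoImplicit false
universe u

namespace Groth.Agent.Helper25.KerFP2

open TensorProduct SGA3b
open Groth.Agent.Helper25.NilLift Groth.Agent.Helper25.NilLift2 Groth.Agent.Helper25.KerMT1
  Groth.Agent.Helper25.KerMT2 Groth.Agent.Helper25.KerMT3 Groth.Agent.Helper25.KerMT4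
  Groth.Agent.Helper25.TorsKer Groth.Agent.Helper25.KerFP1

section Q

variable {R : Type u} [CommRing R] {A : Type u} [CommRing A] [HopfAlgebra R A]
  {C : Type u} [CommRing C] [HopfAlgebra R C] (φ : C →ₐc[R] A)
  (J : Ideal A) [J.IsHopfIdeal R]
  (W : Type u) [CommRing W] [Algebra R W]
  (hJ : J = Ideal.map φ (RingHom.ker (Bialgebra.counitAlgHom R C)))

include hJ in
/-- the quotient by the kernel is diagonalisable when the homomorphism is trivial on `D(M/N)` and
the kernel is contained in `D(M/N)`. -/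
theorem diag_quot_of_triv {M : Type u} [CommGroup M] (N : Subgroup M)
    (F : MonoidAlgebra W M ≃ₐc[W] W ⊗[R] A)
    (H1 : ∀ z : W ⊗[R] C,
      MonoidAlgebra.mapDomainBialgHom W (QuotientGroup.mk' N) (F.symm (phiW φ W z)) =
        algebraMap W (MonoidAlgebra W (M ⧸ N)) (Coalgebra.counit (R := W) z))
    (H2 : ∀ n ∈ N, piW J W (F (MonoidAlgebra.single n 1)) = 1) :
    IsDiag W (W ⊗[R] (A ⧸ J)) := by
  classical
  obtain ⟨g₂, hg₂⟩ : ∃ g₂ : MonoidAlgebra W M →ₐc[W] MonoidAlgebra W (M ⧸ N),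
      g₂ = MonoidAlgebra.mapDomainBialgHom W (QuotientGroup.mk' N) := ⟨_, rfl⟩
  obtain ⟨G, hG⟩ : ∃ G : W ⊗[R] A →ₐ[W] MonoidAlgebra W (M ⧸ N),
      ∀ y, G y = g₂ (F.symm y) :=
    ⟨(g₂ : MonoidAlgebra W M →ₐ[W] MonoidAlgebra W (M ⧸ N)).comp
      (F.symm.toAlgEquiv : W ⊗[R] A →ₐ[W] MonoidAlgebra W M), fun y => rfl⟩
  have hGphi : ∀ z : W ⊗[R] C, G (phiW φ W z) =
      algebraMap W (MonoidAlgebra W (M ⧸ N)) (Coalgebra.counit (R := W) z) := by
    intro z
    rw [hG, hg₂]
    exact H1 z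
  have hGker : ∀ y : W ⊗[R] A, piW J W y = 0 → G y = 0 := by
    intro y hy
    apply eq_zero_of_lTensor_eq_zero W (Ideal.Quotient.mkₐ R J).toLinearMap
      (Ideal.Quotient.mkₐ_surjective R J) G.toLinearMap ?_ y ?_
    · intro a ha
      have ha' : a ∈ J := Ideal.Quotient.eq_zero_iff_mem.mp ha
      rw [hJ, Ideal.map] at ha'
      show G ((1 : W) ⊗ₜ[R] a) = 0
      clear ha
      induction ha' using Submodule.span_induction with
      | mem x hx =>
        obtain ⟨c, hc, rfl⟩ := hx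
        have h1 : (1 : W) ⊗ₜ[R] φ c = phiW φ W ((1 : W) ⊗ₜ[R] c) := rfl
        have h2 : Coalgebra.counit (R := R) c = 0 := by
          have := RingHom.mem_ker.mp hc
          rwa [Bialgebra.counitAlgHom_apply] at this
        rw [h1, hGphi, TensorProduct.counit_tmul, h2, zero_smul, map_zero]
      | zero => rw [TensorProduct.tmul_zero, map_zero]
      | add x y _ _ hx hy => rw [TensorProduct.tmul_add, map_add, hx, hy, add_zero]
      | smul a' x _ hx =>
        have h1 : (1 : W) ⊗ₜ[R] (a' • x) = ((1 : W) ⊗ₜ[R] a') * ((1 : W) ⊗ₜ[R] x) := by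
          rw [Algebra.TensorProduct.tmul_mul_tmul, one_mul, smul_eq_mul]
        rw [h1, map_mul, hx, mul_zero]
    · have h1 : ∀ y : W ⊗[R] A, ((Ideal.Quotient.mkₐ R J).toLinearMap.lTensor W) y =
          piW J W y := by
        intro y
        induction y using TensorProduct.induction_on with
        | zero => rw [map_zero, map_zero]
        | tmul w a => rfl
        | add x y hx hy => rw [map_add, map_add, hx, hy]
      rw [h1, hy]
  have hker2 : ∀ x : MonoidAlgebra W M, g₂ x = 0 → piW J W (F x) = 0 := by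
    intro x hx
    rw [hg₂] at hx
    have hmem := mem_span_of_mapDomain_eq_zero N x hx
    clear hx
    induction hmem using Submodule.span_induction with
    | mem y hy =>
      obtain ⟨h, hh, rfl⟩ := hy
      rw [map_sub, map_sub, H2 h hh, map_one, map_one, sub_self]
    | zero => rw [map_zero, map_zero]
    | add x y _ _ hx hy => rw [map_add, map_add, hx, hy, add_zero]
    | smul a' x _ hx => rw [smul_eq_mul, map_mul, map_mul, hx, mul_zero]
  have hsurj₁ : Function.Surjective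
      ((piW J W).comp (F : MonoidAlgebra W M →ₐc[W] W ⊗[R] A)) := by
    intro y
    obtain ⟨y', rfl⟩ := piW_surjective J W y
    exact ⟨F.symm y', by
      show piW J W (F (F.symm y')) = _
      rw [BialgEquiv.apply_symm_apply]⟩
  have hsurj₂ : Function.Surjective g₂ := by
    rw [hg₂]
    exact mapDomain_mk'_surjective N
  have hk : ∀ x, ((piW J W).comp (F : MonoidAlgebra W M →ₐc[W] W ⊗[R] A)) x = 0 ↔
      g₂ x = 0 := by
    intro x
    constructor
    · intro hx
      have h1 : piW J W (F x) = 0 := hx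
      have h2 := hGker (F x) h1
      rw [hG, BialgEquiv.symm_apply_apply] at h2
      exact h2
    · intro hx
      exact hker2 x hx
  exact ⟨M ⧸ N, inferInstance, nonempty_bialgEquiv_of_surj _ g₂ hsurj₁ hsurj₂ hk⟩

end Q

section PL

variable {R : Type u} [CommRing R] {A : Type u} [CommRing A] [HopfAlgebra R A]
  {C : Type u} [CommRing C] [HopfAlgebra R C] (φ : C →ₐc[R] A)

theorem prime_lemma_aux (hC : Algebra.FiniteType R C) {T : Type u} [CommRing T] [Algebra R T]
    {M : Type u} [CommGroup M] (β : Module.Basis M T (T ⊗[R] A))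
    (hβ : ∀ m, IsGroupLikeElem T (β m)) (h1 : β 1 = 1)
    (hmul : ∀ m m', β (m * m') = β m * β m')
    (𝔭 : Ideal T) [𝔭.IsPrime] (L : Type u) [CommRing L] [IsLocalRing L] [Algebra T L]
    [Algebra R L] [IsScalarTower R T L] [IsLocalization.AtPrime L 𝔭] :
    ∃ N : Subgroup M,
      (∀ (y : T ⊗[R] C) (m : M), m ∉ N → ∃ s : T, s ∉ 𝔭 ∧ s * β.repr (phiW φ T y) m = 0) ∧
      (∀ m ∈ N, ∃ (y : T ⊗[R] C) (x : T), x ∉ 𝔭 ∧ phiW φ T y = x • β m) := by
  classical
  obtain ⟨j, hj⟩ : ∃ j : T →ₐ[R] L, ∀ t, j t = algebraMap T L t :=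
    ⟨IsScalarTower.toAlgHom R T L, fun _ => rfl⟩
  obtain ⟨b, hb, hbg, hb1, hbmul, F, hF⟩ := glg_via j β hβ h1 hmul
  have hft : Algebra.FiniteType L (L ⊗[R] C) := by
    have := hC
    exact inferInstance
  obtain ⟨ψ, hψ⟩ : ∃ ψ : L ⊗[R] C →ₐc[L] MonoidAlgebra L M,
      ∀ z, ψ z = F.symm (phiW φ L z) :=
    ⟨(F.symm : L ⊗[R] A →ₐc[L] MonoidAlgebra L M).comp (phiW φ L), fun _ => rfl⟩
  obtain ⟨N, hN1, hN2⟩ := local_lemma hft ψ
  have hcoef : ∀ (z : L ⊗[R] C) (m : M), (ψ z).coeff m = b.repr (phiW φ L z) m := by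
    intro z m
    rw [hψ, ← repr_F b F hF (F.symm (phiW φ L z)) m, BialgEquiv.apply_symm_apply]
  have hcompat : ∀ (y : T ⊗[R] C) (m : M),
      b.repr (phiW φ L (Algebra.TensorProduct.map j (AlgHom.id R C) y)) m =
        algebraMap T L (β.repr (phiW φ T y) m) := by
    intro y m
    rw [phiW_map φ j y, repr_map j β b hb, hj]
  refine ⟨N, ?_, ?_⟩
  · intro y m hm
    have h0 := hN1 (Algebra.TensorProduct.map j (AlgHom.id R C) y) m hm
    rw [hcoef, hcompat] at h0
    obtain ⟨s, hs⟩ := (IsLocalization.map_eq_zero_iff 𝔭.primeCompl L _).1 h0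
    exact ⟨s.1, s.2, hs⟩
  · intro m hm
    obtain ⟨z, hz⟩ := hN2 m hm
    have hz' : phiW φ L z = b m := by
      have h2 := congrArg F hz
      rw [hψ, BialgEquiv.apply_symm_apply, hF] at h2
      exact h2
    obtain ⟨s, hs, y, hy⟩ := exists_denom 𝔭.primeCompl L j hj z
    obtain ⟨x, hx⟩ : ∃ x : T, x = β.repr (phiW φ T y) m := ⟨_, rfl⟩
    have hjx : algebraMap T L x = algebraMap T L s := by
      rw [hx, ← hcompat, ← hy, map_smul, hz', map_smul, b.repr_self, Finsupp.smul_apply,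
        Finsupp.single_eq_same, smul_eq_mul, mul_one, hj]
    have hxp : x ∉ 𝔭 := by
      intro hmem
      have hu : IsUnit (algebraMap T L s) :=
        IsLocalization.map_units L (⟨s, hs⟩ : 𝔭.primeCompl)
      rw [← hjx] at hu
      exact ((IsLocalization.AtPrime.isUnit_to_map_iff L 𝔭 x).1 hu) hmem
    obtain ⟨FT, hFT⟩ := equiv_of_glgw β hβ h1 hmul
    obtain ⟨ψT, hψT⟩ : ∃ ψT : T ⊗[R] C →ₐc[T] MonoidAlgebra T M,
        ∀ z, ψT z = FT.symm (phiW φ T z) :=
      ⟨(FT.symm : T ⊗[R] A →ₐc[T] MonoidAlgebra T M).comp (phiW φ T), fun _ => rfl⟩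
    obtain ⟨y', hy''⟩ := exists_pure ψT.toCoalgHom m y
    have hy3 : ψT y' = MonoidAlgebra.single m ((ψT y).coeff m) := hy''
    refine ⟨y', x, hxp, ?_⟩
    have h5 : (ψT y).coeff m = x := by
      rw [hx, hψT, ← repr_F β FT hFT (FT.symm (phiW φ T y)) m, BialgEquiv.apply_symm_apply]
    have h6 := congrArg FT hy3
    rw [hψT, BialgEquiv.apply_symm_apply, h5] at h6
    rw [h6]
    have h7 : MonoidAlgebra.single m x = x • MonoidAlgebra.single m (1 : T) := by
      rw [MonoidAlgebra.smul_single', mul_one]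
    rw [h7, map_smul, hFT]

theorem prime_lemma (hC : Algebra.FiniteType R C) {T : Type u} [CommRing T] [Algebra R T]
    {M : Type u} [CommGroup M] (β : Module.Basis M T (T ⊗[R] A))
    (hβ : ∀ m, IsGroupLikeElem T (β m)) (h1 : β 1 = 1)
    (hmul : ∀ m m', β (m * m') = β m * β m')
    (𝔭 : Ideal T) [𝔭.IsPrime] :
    ∃ N : Subgroup M,
      (∀ (y : T ⊗[R] C) (m : M), m ∉ N → ∃ s : T, s ∉ 𝔭 ∧ s * β.repr (phiW φ T y) m = 0) ∧
      (∀ m ∈ N, ∃ (y : T ⊗[R] C) (x : T), x ∉ 𝔭 ∧ phiW φ T y = x • β m) :=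
  prime_lemma_aux φ hC β hβ h1 hmul 𝔭 (Localization.AtPrime 𝔭)

end PL

section Spread

variable {R : Type u} [CommRing R] {A : Type u} [CommRing A] [HopfAlgebra R A]
  {C : Type u} [CommRing C] [HopfAlgebra R C] (φ : C →ₐc[R] A)
  (J : Ideal A) [J.IsHopfIdeal R]
  (hJ : J = Ideal.map φ (RingHom.ker (Bialgebra.counitAlgHom R C)))

include hJ in
theorem diag_of_data (G : Set C) (hG : Algebra.adjoin R G = ⊤)
    {T W : Type u} [CommRing T] [Algebra R T] [CommRing W] [Algebra R W] (j : T →ₐ[R] W)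
    {M : Type u} [CommGroup M] (β : Module.Basis M T (T ⊗[R] A))
    (hβ : ∀ m, IsGroupLikeElem T (β m)) (h1 : β 1 = 1)
    (hmul : ∀ m m', β (m * m') = β m * β m')
    (N : Subgroup M) (X : Set M) (hX : Subgroup.closure X = N)
    (ha : ∀ c ∈ G, ∀ m, m ∉ N → j (β.repr (phiW φ T ((1 : T) ⊗ₜ[R] c)) m) = 0)
    (hb : ∀ n ∈ X, ∃ (y : T ⊗[R] C) (x : T), IsUnit (j x) ∧ phiW φ T y = x • β n) :
    IsDiag W (W ⊗[R] (A ⧸ J)) := by
  classical
  obtain ⟨b, hb', hbg, hb1, hbmul, F, hF⟩ := glg_via j β hβ h1 hmul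
  have hFs : ∀ m, F.symm (b m) = MonoidAlgebra.single m 1 := fun m => by
    rw [← hF m, BialgEquiv.symm_apply_apply]
  obtain ⟨g₂, hg₂⟩ : ∃ g₂ : MonoidAlgebra W M →ₐc[W] MonoidAlgebra W (M ⧸ N),
      g₂ = MonoidAlgebra.mapDomainBialgHom W (QuotientGroup.mk' N) := ⟨_, rfl⟩
  have hg₂s : ∀ m, g₂ (MonoidAlgebra.single m 1) =
      MonoidAlgebra.single (QuotientGroup.mk' N m) 1 := by
    intro m
    rw [hg₂, MonoidAlgebra.mapDomainBialgHom_single]
  apply diag_quot_of_triv φ J W hJ N F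
  · -- the homomorphism is trivial on `D(M/N)`
    obtain ⟨f₁, hf₁⟩ : ∃ f₁ : W ⊗[R] C →ₐ[W] MonoidAlgebra W (M ⧸ N),
        ∀ z, f₁ z = g₂ (F.symm (phiW φ W z)) :=
      ⟨((g₂ : MonoidAlgebra W M →ₐ[W] MonoidAlgebra W (M ⧸ N)).comp
        (F.symm.toAlgEquiv : W ⊗[R] A →ₐ[W] MonoidAlgebra W M)).comp
        (phiW φ W : W ⊗[R] C →ₐ[W] W ⊗[R] A), fun z => rfl⟩
    obtain ⟨f₂, hf₂⟩ : ∃ f₂ : W ⊗[R] C →ₐ[W] MonoidAlgebra W (M ⧸ N),
        ∀ z, f₂ z = algebraMap W (MonoidAlgebra W (M ⧸ N)) (Coalgebra.counit (R := W) z) :=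
      ⟨(Algebra.ofId W (MonoidAlgebra W (M ⧸ N))).comp (Bialgebra.counitAlgHom W (W ⊗[R] C)),
        fun z => rfl⟩
    have hgen : ∀ c ∈ G, f₁ ((1 : W) ⊗ₜ[R] c) = f₂ ((1 : W) ⊗ₜ[R] c) := by
      intro c hc
      rw [hf₁, hf₂]
      obtain ⟨a, ha'⟩ : ∃ a : M →₀ T, a = β.repr (phiW φ T ((1 : T) ⊗ₜ[R] c)) := ⟨_, rfl⟩
      have hexp : phiW φ T ((1 : T) ⊗ₜ[R] c) = ∑ m ∈ a.support, a m • β m := by
        rw [ha']
        conv_lhs => rw [← β.linearCombination_repr (phiW φ T ((1 : T) ⊗ₜ[R] c)),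
          Finsupp.linearCombination_apply, Finsupp.sum]
      have h11 : (1 : W) ⊗ₜ[R] c =
          Algebra.TensorProduct.map j (AlgHom.id R C) ((1 : T) ⊗ₜ[R] c) := by
        rw [Algebra.TensorProduct.map_tmul, map_one, AlgHom.id_apply]
      have hexpW : phiW φ W ((1 : W) ⊗ₜ[R] c) = ∑ m ∈ a.support, j (a m) • b m := by
        rw [h11, phiW_map φ j, hexp, map_sum]
        refine Finset.sum_congr rfl (fun m _ => ?_)
        rw [map_smul_semi j, hb']
      have hterm : ∀ m ∈ a.support, g₂ (F.symm (j (a m) • b m)) =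
          j (a m) • (1 : MonoidAlgebra W (M ⧸ N)) := by
        intro m _
        rw [map_smul, map_smul, hFs, hg₂s]
        by_cases hm : m ∈ N
        · have h0 : QuotientGroup.mk' N m = 1 := by
            rw [QuotientGroup.mk'_apply, QuotientGroup.eq_one_iff]
            exact hm
          rw [h0, MonoidAlgebra.one_def]
        · have h0 : j (a m) = 0 := by
            rw [ha']
            exact ha c hc m hm
          rw [h0, zero_smul, zero_smul]
      have hcounit : Coalgebra.counit (R := W) ((1 : W) ⊗ₜ[R] c) = ∑ m ∈ a.support, j (a m) := by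
        rw [← CoalgHomClass.counit_comp_apply (phiW φ W) ((1 : W) ⊗ₜ[R] c), hexpW, map_sum]
        refine Finset.sum_congr rfl (fun m _ => ?_)
        rw [map_smul, (hbg m).counit_eq_one, smul_eq_mul, mul_one]
      rw [hexpW, map_sum, map_sum, Finset.sum_congr rfl hterm, hcounit, ← Finset.sum_smul,
        Algebra.algebraMap_eq_smul_one]
    have hone : ∀ c : C, f₁ ((1 : W) ⊗ₜ[R] c) = f₂ ((1 : W) ⊗ₜ[R] c) := by
      intro c
      have hc : c ∈ Algebra.adjoin R G := by
        rw [hG]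
        trivial
      induction hc using Algebra.adjoin_induction with
      | mem c hc => exact hgen c hc
      | algebraMap r =>
        have h0 : (1 : W) ⊗ₜ[R] algebraMap R C r =
            algebraMap W (W ⊗[R] C) (algebraMap R W r) := by
          rw [Algebra.TensorProduct.algebraMap_apply, Algebra.algebraMap_self_apply,
            Algebra.algebraMap_eq_smul_one r, TensorProduct.tmul_smul,
            TensorProduct.smul_tmul', ← Algebra.algebraMap_eq_smul_one]
        rw [h0, AlgHom.commutes, AlgHom.commutes]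
      | add c c' _ _ h h' => rw [TensorProduct.tmul_add, map_add, map_add, h, h']
      | mul c c' _ _ h h' =>
        have h0 : (1 : W) ⊗ₜ[R] (c * c') = ((1 : W) ⊗ₜ[R] c) * ((1 : W) ⊗ₜ[R] c') := by
          rw [Algebra.TensorProduct.tmul_mul_tmul, one_mul]
        rw [h0, map_mul, map_mul, h, h']
    have hall : ∀ z, f₁ z = f₂ z := by
      intro z
      induction z using TensorProduct.induction_on with
      | zero => rw [map_zero, map_zero]
      | tmul w c =>
        have hw : w ⊗ₜ[R] c = w • ((1 : W) ⊗ₜ[R] c) := by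
          rw [TensorProduct.smul_tmul', smul_eq_mul, mul_one]
        rw [hw, map_smul, map_smul, hone c]
      | add x y hx hy => rw [map_add, map_add, hx, hy]
    intro z
    rw [← hg₂, ← hf₁, ← hf₂]
    exact hall z
  · -- the kernel is contained in `D(M/N)`
    intro n hn
    rw [hF]
    rw [← hX] at hn
    induction hn using Subgroup.closure_induction with
    | mem x hx =>
      obtain ⟨y, x', hux, hy⟩ := hb x hx
      have h2 : phiW φ W (Algebra.TensorProduct.map j (AlgHom.id R C) y) = j x' • b x := by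
        rw [phiW_map φ j, hy, map_smul_semi j, hb']
      have h3 := piW_phiW φ J W hJ (Algebra.TensorProduct.map j (AlgHom.id R C) y)
      have h4 : Coalgebra.counit (R := W) (Algebra.TensorProduct.map j (AlgHom.id R C) y) =
          j x' := by
        rw [← CoalgHomClass.counit_comp_apply (phiW φ W), h2, map_smul, (hbg x).counit_eq_one,
          smul_eq_mul, mul_one]
      rw [h2, map_smul, h4, Algebra.algebraMap_eq_smul_one] at h3
      exact hux.smul_left_cancel.1 h3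
    | one => rw [hb1, map_one]
    | mul x y _ _ hx hy => rw [hbmul, map_mul, hx, hy, one_mul]
    | inv x _ hx =>
      have h2 : piW J W (b x⁻¹) * piW J W (b x) = 1 := by
        rw [← map_mul, ← hbmul, inv_mul_cancel, hb1, map_one]
      rw [hx, mul_one] at h2
      exact h2

include hJ in
theorem spread_lemma (hC : Algebra.FiniteType R C) {T : Type u} [CommRing T] [Algebra R T]
    {M : Type u} [CommGroup M] (β : Module.Basis M T (T ⊗[R] A))
    (hβ : ∀ m, IsGroupLikeElem T (β m)) (h1 : β 1 = 1)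
    (hmul : ∀ m m', β (m * m') = β m * β m')
    (𝔭 : Ideal T) [𝔭.IsPrime] :
    ∃ s : T, s ∉ 𝔭 ∧ IsDiag (Localization.Away s) (Localization.Away s ⊗[R] (A ⧸ J)) := by
  classical
  obtain ⟨N, hN1, hN2⟩ := prime_lemma φ hC β hβ h1 hmul 𝔭
  obtain ⟨G, hG⟩ := hC.out
  obtain ⟨a, ha⟩ : ∃ a : C → M →₀ T, ∀ c, a c = β.repr (phiW φ T ((1 : T) ⊗ₜ[R] c)) :=
    ⟨_, fun _ => rfl⟩
  obtain ⟨S, hS⟩ : ∃ S : Finset M, S = G.biUnion (fun c => (a c).support) := ⟨_, rfl⟩
  have hii : ∀ m : M, m ∈ N → ∃ (y : T ⊗[R] C) (x : T), x ∉ 𝔭 ∧ phiW φ T y = x • β m := hN2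
  choose! yf xf hxf using hii
  have hi : ∀ (c : C) (m : M), m ∉ N → ∃ s : T, s ∉ 𝔭 ∧ s * a c m = 0 := by
    intro c m hm
    rw [ha]
    exact hN1 _ m hm
  choose! sf hsf using hi
  obtain ⟨S₁, hS₁⟩ : ∃ S₁ : Finset M, S₁ = S.filter (fun m => m ∈ N) := ⟨_, rfl⟩
  obtain ⟨S₀, hS₀⟩ : ∃ S₀ : Finset M, S₀ = S.filter (fun m => m ∉ N) := ⟨_, rfl⟩
  obtain ⟨s, hs⟩ : ∃ s : T, s = (∏ n ∈ S₁, xf n) * ∏ c ∈ G, ∏ m ∈ S₀, sf c m := ⟨_, rfl⟩
  have hsp : s ∈ 𝔭.primeCompl := by
    rw [hs]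
    refine 𝔭.primeCompl.mul_mem (Submonoid.prod_mem _ fun n hn => ?_)
      (Submonoid.prod_mem _ fun c _ => Submonoid.prod_mem _ fun m hm => ?_)
    · rw [hS₁] at hn
      exact (hxf n (Finset.mem_filter.1 hn).2).1
    · rw [hS₀] at hm
      exact (hsf c m (Finset.mem_filter.1 hm).2).1
  refine ⟨s, hsp, ?_⟩
  obtain ⟨j, hj⟩ : ∃ j : T →ₐ[R] Localization.Away s,
      ∀ t, j t = algebraMap T (Localization.Away s) t :=
    ⟨IsScalarTower.toAlgHom R T (Localization.Away s), fun _ => rfl⟩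
  have hunit : IsUnit (j s) := by
    rw [hj]
    exact IsLocalization.Away.algebraMap_isUnit s
  have hdvd1 : ∀ n ∈ S₁, IsUnit (j (xf n)) := by
    intro n hn
    have hd : xf n ∣ s := by
      rw [hs]
      exact dvd_mul_of_dvd_left (Finset.dvd_prod_of_mem _ hn) _
    exact isUnit_of_dvd_unit (map_dvd j hd) hunit
  have hdvd0 : ∀ c ∈ G, ∀ m ∈ S₀, IsUnit (j (sf c m)) := by
    intro c hc m hm
    have hd : sf c m ∣ s := by
      rw [hs]
      exact dvd_mul_of_dvd_right ((Finset.dvd_prod_of_mem (fun m => sf c m) hm).trans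
        (Finset.dvd_prod_of_mem (fun c => ∏ m ∈ S₀, sf c m) hc)) _
    exact isUnit_of_dvd_unit (map_dvd j hd) hunit
  refine diag_of_data φ J hJ (G : Set C) hG j β hβ h1 hmul (Subgroup.closure (S₁ : Set M))
    (S₁ : Set M) rfl ?_ ?_
  · intro c hc m hm
    rw [← ha]
    by_cases hsupp : m ∈ (a c).support
    · have hmS : m ∈ S := by
        rw [hS]
        exact Finset.mem_biUnion.2 ⟨c, hc, hsupp⟩
      have hmN : m ∉ N := by
        intro hmN
        apply hm
        apply Subgroup.subset_closure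
        rw [hS₁]
        exact Finset.mem_coe.2 (Finset.mem_filter.2 ⟨hmS, hmN⟩)
      have hm0 : m ∈ S₀ := by
        rw [hS₀]
        exact Finset.mem_filter.2 ⟨hmS, hmN⟩
      have h2 : j (sf c m) * j (a c m) = 0 := by
        rw [← map_mul, (hsf c m hmN).2, map_zero]
      exact (hdvd0 c hc m hm0).mul_right_eq_zero.1 h2
    · rw [Finsupp.notMem_support_iff.1 hsupp, map_zero]
  · intro n hn
    have hn' : n ∈ S₁ := Finset.mem_coe.1 hn
    have hnN : n ∈ N := by
      rw [hS₁] at hn'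
      exact (Finset.mem_filter.1 hn').2
    exact ⟨yf n, xf n, hdvd1 n hn', (hxf n hnN).2⟩

include hJ in
theorem exists_loc_cover (hC : Algebra.FiniteType R C) (T : Type u) [CommRing T] [Algebra R T]
    (hA : IsDiag T (T ⊗[R] A)) :
    ∃ (κ : Type u) (_ : Fintype κ) (_ : DecidableEq κ) (E : κ → T), ∑ k, E k = 1 ∧
      ∀ k, IsDiag (Localization.Away (E k)) (Localization.Away (E k) ⊗[R] (A ⧸ J)) := by
  classical
  obtain ⟨M, iM, β, hβ, h1, hmul⟩ := hasGLG_of_isDiag hA
  obtain ⟨𝒮, h𝒮⟩ : ∃ 𝒮 : Set T, 𝒮 =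
      {s | IsDiag (Localization.Away s) (Localization.Away s ⊗[R] (A ⧸ J))} := ⟨_, rfl⟩
  have htop : Ideal.span 𝒮 = ⊤ := by
    by_contra hne
    obtain ⟨𝔪, h𝔪, hle⟩ := Ideal.exists_le_maximal _ hne
    have hp : 𝔪.IsPrime := h𝔪.isPrime
    obtain ⟨s, hs, hd⟩ := spread_lemma φ J hJ hC β hβ h1 hmul 𝔪
    apply hs
    apply hle
    apply Ideal.subset_span
    rw [h𝒮]
    exact hd
  obtain ⟨s', hs's, hs'⟩ := (Ideal.span_eq_top_iff_finite 𝒮).mp htop
  have h1mem : (1 : T) ∈ Submodule.span T (s' : Set T) := by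
    have h0 : (1 : T) ∈ Ideal.span (s' : Set T) := by
      rw [hs']
      trivial
    exact h0
  obtain ⟨f, hf⟩ := Submodule.mem_span_finset'.1 h1mem
  refine ⟨↥s', inferInstance, inferInstance, fun k => f k * k.1, hf, fun k => ?_⟩
  have hk : IsDiag (Localization.Away k.1) (Localization.Away k.1 ⊗[R] (A ⧸ J)) := by
    have h0 := hs's (Finset.mem_coe.2 k.2)
    rw [h𝒮] at h0
    exact h0
  obtain ⟨e₀, he₀⟩ : ∃ e₀ : T, e₀ = f k * k.1 := ⟨_, rfl⟩
  show IsDiag (Localization.Away (f k * k.1)) (Localization.Away (f k * k.1) ⊗[R] (A ⧸ J))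
  rw [← he₀]
  have hu : ∀ y : Submonoid.powers k.1,
      IsUnit ((IsScalarTower.toAlgHom R T (Localization.Away e₀)) y.1) := by
    rintro ⟨y, n, rfl⟩
    have h0 : IsUnit (algebraMap T (Localization.Away e₀) e₀) :=
      IsLocalization.Away.algebraMap_isUnit e₀
    have h00 : algebraMap T (Localization.Away e₀) e₀ =
        algebraMap T (Localization.Away e₀) (f k) * algebraMap T (Localization.Away e₀) k.1 := by
      rw [← map_mul, ← he₀]
    rw [h00] at h0
    have h2 : IsUnit (algebraMap T (Localization.Away e₀) k.1) := isUnit_of_mul_isUnit_right h0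
    show IsUnit (algebraMap T (Localization.Away e₀) (k.1 ^ n))
    rw [map_pow]
    exact h2.pow n
  exact diag_via (IsLocalization.liftAlgHom (M := Submonoid.powers k.1)
    (S := Localization.Away k.1) hu) hk

end Spread

section Main

/-- S2982 -/
theorem main2982 (R : Type u) [CommRing R] (A : Type u) [CommRing A] [HopfAlgebra R A]
    (h : IsMultType R A) (C : Type u) [CommRing C] [HopfAlgebra R C]
    (hC : Algebra.FiniteType R C) (φ : C →ₐc[R] A) (J : Ideal A) [J.IsHopfIdeal R]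
    (hJ : J = Ideal.map φ (RingHom.ker (Bialgebra.counitAlgHom R C))) :
    IsMultType R (A ⧸ J) := by
  classical
  obtain ⟨ι, _, _, T, _, _, hffT, hdT⟩ := exists_cover_diag h
  choose κ iF iD E hE hD using fun i : ι => exists_loc_cover φ J hJ hC (T i) (hdT i)
  have hff3 : Module.FaithfullyFlat R
      (Π x : (Σ i : ι, κ i), Localization.Away (E x.1 x.2)) :=
    ff_sigma_away T κ E hE
  exact isMultType_of_cover (fun x : (Σ i : ι, κ i) => Localization.Away (E x.1 x.2))
    (fun x => hD x.1 x.2)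

end Main

end Groth.Agent.Helper25.KerFP2
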