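import Mathlib.Tactic
import Mathlib.Algebra.Polynomial.AlgebraMap

set_option autoImplicit false

namespace Groth.Agent.Helper25.Kronecker

open Polynomial

theorem two_pow_add_inj {a b c d : ℕ} (hab : a ≤ b) (hcd : c ≤ d)
    (h : 2 ^ a + 2 ^ b = 2 ^ c + 2 ^ d) : a = c ∧ b = d := by
  have key : ∀ {a b c d : ℕ}, a ≤ b → b < d → 2 ^ a + 2 ^ b = 2 ^ c + 2 ^ d → False := by
    intro a b c d hab hbd h
    have h1 : 2 ^ a ≤ 2 ^ b := Nat.pow_le_pow_right (by norm_num) hab
    have h2 : 2 ^ (b + 1) ≤ 2 ^ d := Nat.pow_le_pow_right (by norm_num) hbd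
    have h3 : 2 ^ (b + 1) = 2 * 2 ^ b := by rw [pow_succ]; ring
    have h4 : 0 < 2 ^ c := by positivity
    omega
  have hbd : b = d := by
    rcases lt_trichotomy b d with h' | h' | h'
    · exact (key hab h' h).elim
    · exact h'
    · exact (key hcd h' h.symm).elim
  subst hbd
  refine ⟨?_, rfl⟩
  have : 2 ^ a = 2 ^ c := by omega
  exact Nat.pow_right_injective (le_refl 2) this

theorem two_pow_add_eq_iff {j j' a b : ℕ} :
    2 ^ j + 2 ^ j' = 2 ^ a + 2 ^ b ↔ (j = a ∧ j' = b) ∨ (j = b ∧ j' = a) := by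
  constructor
  · intro h
    rcases le_total j j' with h1 | h1 <;> rcases le_total a b with h2 | h2
    · exact Or.inl (two_pow_add_inj h1 h2 h)
    · have := two_pow_add_inj h1 h2 (by rw [h]; exact add_comm _ _)
      exact Or.inr this
    · have := two_pow_add_inj h1 h2 (by rw [add_comm, h])
      exact Or.inr ⟨this.2, this.1⟩
    · have := two_pow_add_inj h1 h2 (by rw [add_comm, h, add_comm])
      exact Or.inl ⟨this.2, this.1⟩
  · rintro (⟨rfl, rfl⟩ | ⟨rfl, rfl⟩)
    · rfl
    · exact add_comm _ _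

variable {R : Type*} [CommRing R] {n : ℕ}

/-- the Kronecker polynomial of a coefficient table -/
noncomputable def kron (c : Fin n → Fin n → R) : R[X] :=
  ∑ j : Fin n, ∑ j' : Fin n, C (c j j') * X ^ (2 ^ (j : ℕ) + 2 ^ (j' : ℕ))

theorem coeff_kron (c : Fin n → Fin n → R) (a b : Fin n) :
    (kron c).coeff (2 ^ (a : ℕ) + 2 ^ (b : ℕ)) = if a = b then c a a else c a b + c b a := by
  classical
  unfold kron
  simp only [finsetSum_coeff, coeff_C_mul_X_pow]
  rw [← Finset.sum_product' (s := Finset.univ) (t := Finset.univ)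
    (f := fun (j j' : Fin n) =>
      if 2 ^ (a : ℕ) + 2 ^ (b : ℕ) = 2 ^ (j : ℕ) + 2 ^ (j' : ℕ) then c j j' else 0)]
  by_cases hab : a = b
  · subst hab
    rw [if_pos rfl, Finset.sum_eq_single (a, a)]
    · simp
    · rintro ⟨j, j'⟩ _ hne
      rw [if_neg]
      intro h
      rcases two_pow_add_eq_iff.1 h.symm with ⟨h1, h2⟩ | ⟨h1, h2⟩ <;>
        exact hne (Prod.ext (Fin.ext h1) (Fin.ext h2))
    · simp
  · rw [if_neg hab]
    have hne : (a, b) ≠ (b, a) := fun h => hab (Prod.ext_iff.1 h).1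
    rw [← Finset.sum_subset (show ({(a, b), (b, a)} : Finset (Fin n × Fin n)) ⊆
      Finset.univ ×ˢ Finset.univ from fun p _ => by simp)]
    · rw [Finset.sum_pair hne]
      simp [add_comm]
    · rintro ⟨j, j'⟩ _ hnot
      rw [if_neg]
      intro h
      apply hnot
      rcases two_pow_add_eq_iff.1 h.symm with ⟨h1, h2⟩ | ⟨h1, h2⟩
      · have e1 : j = a := Fin.ext h1
        have e2 : j' = b := Fin.ext h2
        subst e1 e2; simp
      · have e1 : j = b := Fin.ext h1
        have e2 : j' = a := Fin.ext h2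
        subst e1 e2; simp

theorem kron_eq_zero (c : Fin n → Fin n → R) (h : kron c = 0) :
    (∀ j, c j j = 0) ∧ (∀ j j', j ≠ j' → c j j' + c j' j = 0) := by
  constructor
  · intro j
    have := coeff_kron c j j
    rw [h, if_pos rfl, coeff_zero] at this
    exact this.symm
  · intro j j' hjj'
    have := coeff_kron c j j'
    rw [h, if_neg hjj', coeff_zero] at this
    exact this.symm

/-- evaluation version: a quadratic form whose Kronecker polynomial vanishes is zero. -/
theorem sum_eq_zero_of_kron (c : Fin n → Fin n → R) (h : kron c = 0) (v : Fin n → R) :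
    ∑ j : Fin n, ∑ j' : Fin n, c j j' * v j * v j' = 0 := by
  classical
  obtain ⟨h1, h2⟩ := kron_eq_zero c h
  rw [← Finset.sum_product' (s := Finset.univ) (t := Finset.univ)
    (f := fun (j j' : Fin n) => c j j' * v j * v j')]
  refine Finset.sum_involution (fun p _ => (p.2, p.1)) ?_ ?_ ?_ ?_
  · rintro ⟨j, j'⟩ _
    by_cases hjj' : j = j'
    · subst hjj'
      simp [h1]
    · have := h2 j j' hjj'
      show c j j' * v j * v j' + c j' j * v j' * v j = 0
      linear_combination (v j * v j') * this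
  · rintro ⟨j, j'⟩ _ hne heq
    have hjj' : j' = j := (Prod.ext_iff.1 heq).1
    subst hjj'
    exact hne (by simp [h1])
  · intros; exact Finset.mem_univ _
  · rintro ⟨j, j'⟩ _; rfl


theorem smul_kron (a : R) (c : Fin n → Fin n → R) :
    a • kron c = kron (fun j j' => a * c j j') := by
  unfold kron
  rw [Finset.smul_sum]
  refine Finset.sum_congr rfl fun j _ => ?_
  rw [Finset.smul_sum]
  refine Finset.sum_congr rfl fun j' _ => ?_
  rw [smul_eq_C_mul, ← mul_assoc, ← C_mul]

/-- the linear Kronecker polynomial `Σ p_j X^(2^j)` -/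
noncomputable def lin (p : Fin n → R) : R[X] := ∑ j : Fin n, C (p j) * X ^ (2 ^ (j : ℕ))

theorem lin_mul_sub (p p' G : Fin n → R) (i : Fin n) :
    lin p * lin G - lin p' * X ^ (2 ^ (i : ℕ)) =
      kron (fun j j' => p j * G j' - if j' = i then p' j else 0) := by
  classical
  unfold lin kron
  rw [Finset.sum_mul_sum, Finset.sum_mul, ← Finset.sum_sub_distrib]
  refine Finset.sum_congr rfl fun j _ => ?_
  have : C (p' j) * X ^ (2 ^ (j : ℕ)) * X ^ (2 ^ (i : ℕ)) =
      ∑ j' : Fin n, C (if j' = i then p' j else 0) * X ^ (2 ^ (j : ℕ) + 2 ^ (j' : ℕ)) := by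
    rw [Finset.sum_eq_single i]
    · rw [if_pos rfl, pow_add, mul_assoc]
    · intro j' _ hj'
      rw [if_neg hj']; simp
    · simp
  rw [this, ← Finset.sum_sub_distrib]
  refine Finset.sum_congr rfl fun j' _ => ?_
  rw [C_sub, C_mul, pow_add]
  ring

theorem eval_of_lin_mul_sub (p p' G : Fin n → R) (i : Fin n)
    (h : lin p * lin G - lin p' * X ^ (2 ^ (i : ℕ)) = 0) (v : Fin n → R) :
    (∑ j, p j * v j) * (∑ j', G j' * v j') = (∑ j, p' j * v j) * v i := by
  classical
  rw [lin_mul_sub] at h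
  have := sum_eq_zero_of_kron _ h v
  rw [← sub_eq_zero, ← this, Finset.sum_mul_sum, Finset.sum_mul, ← Finset.sum_sub_distrib]
  refine Finset.sum_congr rfl fun j _ => ?_
  have e : p' j * v j * v i = ∑ j' : Fin n, (if j' = i then p' j else 0) * v j * v j' := by
    rw [Finset.sum_eq_single i]
    · rw [if_pos rfl]
    · intro j' _ hj'
      rw [if_neg hj']; simp
    · simp
  rw [e, ← Finset.sum_sub_distrib]
  refine Finset.sum_congr rfl fun j' _ => ?_
  ring


theorem map_kron {A : Type*} [CommRing A] (φ : R[X] →+* A) (c : Fin n → Fin n → R) :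
    φ (kron c) = ∑ j : Fin n, ∑ j' : Fin n,
      φ (C (c j j')) * (φ (X ^ (2 ^ (j : ℕ))) * φ (X ^ (2 ^ (j' : ℕ)))) := by
  unfold kron
  rw [map_sum]
  refine Finset.sum_congr rfl fun j _ => ?_
  rw [map_sum]
  refine Finset.sum_congr rfl fun j' _ => ?_
  rw [map_mul, pow_add, map_mul]

theorem map_lin {A : Type*} [CommRing A] (φ : R[X] →+* A) (p : Fin n → R) :
    φ (lin p) = ∑ j : Fin n, φ (C (p j)) * φ (X ^ (2 ^ (j : ℕ))) := by
  unfold lin
  rw [map_sum]
  refine Finset.sum_congr rfl fun j _ => ?_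
  rw [map_mul]

end Groth.Agent.Helper25.Kronecker
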