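import Mathlib
import Groth.Prelude.Def_ComodSub
import Groth.Agent.Lib.Helper25.DualTensorFlat

/-!
# The left dual of a finitely presented right comodule over a flat coalgebra (helper25)
-/

set_option autoImplicit false
set_option linter.unusedSectionVars false

namespace Groth.Agent.Helper25.LDualExists

open TensorProduct Coalgebra ComodSub

universe u v w

variable {k : Type u} [CommRing k] {A : Type v} [AddCommGroup A] [Module k A] [Coalgebra k A]
  {M : Type w} [AddCommGroup M] [Module k M]

variable (k A M) in
/-- `a ⊗ φ ↦ (m ↦ φ(m) a)`. -/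
noncomputable def Φ' : A ⊗[k] Module.Dual k M →ₗ[k] (M →ₗ[k] A) :=
  dualTensorHom k M A ∘ₗ (TensorProduct.comm k A (Module.Dual k M)).toLinearMap

@[simp] theorem Φ'_tmul (a : A) (φ : Module.Dual k M) (m : M) : Φ' k A M (a ⊗ₜ[k] φ) m = φ m • a := by
  simp [Φ']

variable (k A M) in
/-- `a ⊗ (a' ⊗ φ) ↦ (m ↦ φ(m) (a ⊗ a'))`. -/
noncomputable def Ψ₂ : A ⊗[k] (A ⊗[k] Module.Dual k M) →ₗ[k] (M →ₗ[k] A ⊗[k] A) :=
  dualTensorHom k M (A ⊗[k] A) ∘ₗ (TensorProduct.comm k (A ⊗[k] A) (Module.Dual k M)).toLinearMap ∘ₗ
    (TensorProduct.assoc k A A (Module.Dual k M)).symm.toLinearMap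

@[simp] theorem Ψ₂_tmul (a a' : A) (φ : Module.Dual k M) (m : M) :
    Ψ₂ k A M (a ⊗ₜ[k] (a' ⊗ₜ[k] φ)) m = φ m • (a ⊗ₜ[k] a') := by
  simp [Ψ₂]

theorem Φ'_bijective [Module.Flat k A] [Module.FinitePresentation k M] :
    Function.Bijective (Φ' k A M) :=
  (DualTensorFlat.dualTensorHom_bijective_of_fp_flat k M A).comp
    (TensorProduct.comm k A (Module.Dual k M)).bijective

theorem Ψ₂_injective [Module.Flat k A] [Module.FinitePresentation k M] :
    Function.Injective (Ψ₂ k A M) :=
  (DualTensorFlat.dualTensorHom_bijective_of_fp_flat k M (A ⊗[k] A)).1.comp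
    ((TensorProduct.comm k (A ⊗[k] A) (Module.Dual k M)).injective.comp
      (TensorProduct.assoc k A A (Module.Dual k M)).symm.injective)

theorem K5 (a : A) (Y : A ⊗[k] Module.Dual k M) (m : M) :
    Ψ₂ k A M (a ⊗ₜ[k] Y) m = a ⊗ₜ[k] Φ' k A M Y m := by
  induction Y using TensorProduct.induction_on with
  | zero => simp
  | add Y Y' h h' => simp only [tmul_add, map_add, LinearMap.add_apply, h, h']
  | tmul a' φ => simp [TensorProduct.tmul_smul]

theorem K_i (X : A ⊗[k] Module.Dual k M) (m : M) :
    Ψ₂ k A M (TensorProduct.assoc k A A (Module.Dual k M)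
      ((Coalgebra.comul (R := k) (A := A)).rTensor (Module.Dual k M) X)) m =
    Coalgebra.comul (R := k) (Φ' k A M X m) := by
  induction X using TensorProduct.induction_on with
  | zero => simp
  | add X X' h h' => simp only [map_add, LinearMap.add_apply, h, h']
  | tmul a φ =>
    rw [LinearMap.rTensor_tmul, Φ'_tmul, map_smul]
    generalize Coalgebra.comul (R := k) a = z
    induction z using TensorProduct.induction_on with
    | zero => simp
    | add z z' h h' => simp only [add_tmul, map_add, LinearMap.add_apply, smul_add, h, h']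
    | tmul p q => simp

variable (c : HopfRep.Comod k A M)

theorem K7 (lam : Module.Dual k M →ₗ[k] A ⊗[k] Module.Dual k M)
    (hl : ∀ φ, Φ' k A M (lam φ) = ldualFun c φ) (X : A ⊗[k] Module.Dual k M) (m : M) :
    Ψ₂ k A M (lam.lTensor A X) m = (Φ' k A M X).rTensor A (c.coact m) := by
  induction X using TensorProduct.induction_on with
  | zero => simp
  | add X X' h h' => simp only [map_add, LinearMap.add_apply, h, h', LinearMap.rTensor_add]
  | tmul a φ =>
    rw [LinearMap.lTensor_tmul, K5, hl φ, ldualFun_apply]
    generalize c.coact m = y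
    induction y using TensorProduct.induction_on with
    | zero => simp
    | add y y' h h' => simp only [map_add, tmul_add, h, h']
    | tmul m' b => simp [TensorProduct.tmul_smul, TensorProduct.smul_tmul']

theorem K_iv (g : Module.Dual k M) (m : M) :
    (ldualFun c g).rTensor A (c.coact m) =
      Coalgebra.comul (R := k) (TensorProduct.lid k A (g.rTensor A (c.coact m))) := by
  have hc := LinearMap.congr_fun c.coassoc m
  simp only [LinearMap.coe_comp, Function.comp_apply, LinearEquiv.coe_coe] at hc
  have e0 : c.coact.rTensor A (c.coact m) = (TensorProduct.assoc k M A A).symm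
      ((Coalgebra.comul (R := k) (A := A)).lTensor M (c.coact m)) := by
    rw [← hc, LinearEquiv.symm_apply_apply]
  have e1 : (ldualFun c g).rTensor A = ((TensorProduct.lid k A).toLinearMap).rTensor A ∘ₗ
      (g.rTensor A).rTensor A ∘ₗ c.coact.rTensor A := by
    simp only [ldualFun, LinearMap.rTensor_comp]
  rw [e1]
  simp only [LinearMap.coe_comp, Function.comp_apply]
  rw [e0]
  generalize c.coact m = y
  induction y using TensorProduct.induction_on with
  | zero => simp
  | add y y' h h' => simp only [map_add, h, h']
  | tmul m' b =>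
    rw [LinearMap.lTensor_tmul, LinearMap.rTensor_tmul, TensorProduct.lid_tmul, map_smul]
    generalize Coalgebra.comul (R := k) b = z
    induction z using TensorProduct.induction_on with
    | zero => simp
    | add z z' h h' => simp only [tmul_add, map_add, smul_add, h, h']
    | tmul p q => simp [TensorProduct.smul_tmul']

theorem K8 (X : A ⊗[k] Module.Dual k M) (m : M) :
    TensorProduct.lid k (Module.Dual k M)
      ((Coalgebra.counit (R := k) (A := A)).rTensor (Module.Dual k M) X) m =
    Coalgebra.counit (R := k) (Φ' k A M X m) := by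
  induction X using TensorProduct.induction_on with
  | zero => simp
  | add X X' h h' => simp only [map_add, LinearMap.add_apply, h, h']
  | tmul a φ => simp [mul_comm]

theorem K9 (g : Module.Dual k M) (m : M) :
    Coalgebra.counit (R := k) (ldualFun c g m) = g m := by
  have hu := LinearMap.congr_fun c.counit_comp m
  simp only [LinearMap.coe_comp, Function.comp_apply, LinearMap.flip_apply,
    TensorProduct.mk_apply] at hu
  have key : ∀ y : M ⊗[k] A, Coalgebra.counit (R := k)
      (TensorProduct.lid k A (g.rTensor A y)) =
      g (TensorProduct.rid k M ((Coalgebra.counit (R := k) (A := A)).lTensor M y)) := by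
    intro y
    induction y using TensorProduct.induction_on with
    | zero => simp
    | add y y' h h' => simp only [map_add, h, h']
    | tmul m' b => simp [mul_comm]
  rw [ldualFun_apply, key, hu]
  simp

/-- `g ↦ ldualFun c g`, as a linear map. -/
noncomputable def ldualFunₗ : Module.Dual k M →ₗ[k] (M →ₗ[k] A) where
  toFun g := ldualFun c g
  map_add' g g' := by
    apply LinearMap.ext
    intro m
    simp [ldualFun_apply, LinearMap.rTensor_add]
  map_smul' r g := by
    apply LinearMap.ext
    intro m
    simp [ldualFun_apply, LinearMap.rTensor_smul]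

variable [Module.Flat k A] [Module.FinitePresentation k M]

/-- the coaction of the left dual. -/
noncomputable def lam : Module.Dual k M →ₗ[k] A ⊗[k] Module.Dual k M :=
  (LinearEquiv.ofBijective (Φ' k A M) Φ'_bijective).symm.toLinearMap ∘ₗ ldualFunₗ c

theorem Φ'_lam (g : Module.Dual k M) : Φ' k A M (lam c g) = ldualFun c g := by
  change Φ' k A M ((LinearEquiv.ofBijective (Φ' k A M) Φ'_bijective).symm (ldualFun c g)) = _
  exact (LinearEquiv.ofBijective (Φ' k A M) Φ'_bijective).apply_symm_apply (ldualFun c g)

/-- the left dual comodule. -/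
@[reducible] noncomputable def ldual : LComod k A (Module.Dual k M) where
  coact := lam c
  coassoc := by
    apply LinearMap.ext
    intro g
    simp only [LinearMap.coe_comp, Function.comp_apply, LinearEquiv.coe_coe]
    apply Ψ₂_injective (k := k) (A := A) (M := M)
    apply LinearMap.ext
    intro m
    rw [K7 c (lam c) (Φ'_lam c), K_i, Φ'_lam, K_iv, ldualFun_apply]
  counit_comp := by
    apply LinearMap.ext
    intro g
    simp only [LinearMap.coe_comp, Function.comp_apply, TensorProduct.mk_apply]
    apply (TensorProduct.lid k (Module.Dual k M)).injective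
    apply LinearMap.ext
    intro m
    rw [K8, Φ'_lam, K9]
    simp

theorem isLDual_ldual : LComod.IsLDual c (ldual c) := fun g => Φ'_lam c g

end Groth.Agent.Helper25.LDualExists
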