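import Groth.Prelude.Def_W4c4lgringredgrpLG
import Mathlib

set_option autoImplicit false

namespace Groth.Agent.Helper25.LGCancel

open TensorProduct

universe u v

variable {R : Type u} [CommRing R]

/-- LG condition for polynomials in variables indexed by an arbitrary finite type -/
theorem lg_fintype (hR : LGRing.IsLGRing R) {σ : Type} [Fintype σ] (f : MvPolynomial σ R)
    (h : ∀ (m : Ideal R) [m.IsMaximal], ∃ s : σ → R ⧸ m, IsUnit (MvPolynomial.aeval s f)) :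
    ∃ s : σ → R, IsUnit (MvPolynomial.aeval s f) := by
  classical
  let e : σ ≃ Fin (Fintype.card σ) := Fintype.equivFin σ
  have h' : ∀ (m : Ideal R) [m.IsMaximal],
      LGRing.RepresentsUnit (MvPolynomial.rename e f) (R ⧸ m) := by
    intro m hm
    obtain ⟨s, hs⟩ := h m
    refine ⟨s ∘ e.symm, ?_⟩
    rw [MvPolynomial.aeval_rename]
    have : (s ∘ e.symm) ∘ e = s := by funext x; simp
    rw [this]; exact hs
  obtain ⟨s, hs⟩ := hR _ _ h'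
  refine ⟨s ∘ e, ?_⟩
  rw [MvPolynomial.aeval_rename] at hs
  exact hs


section Poly

variable {a b : ℕ}

/-- index type of the variables: entries of `X` (b × a) and of `Y` (a × b) -/
abbrev Idx (a b : ℕ) : Type := (Fin b × Fin a) ⊕ (Fin a × Fin b)

def T1 {S : Type*} [CommRing S] (E₁ : Matrix (Fin a) (Fin a) S) (E₂ : Matrix (Fin b) (Fin b) S)
    (X : Matrix (Fin b) (Fin a) S) (Y : Matrix (Fin a) (Fin b) S) : Matrix (Fin a) (Fin a) S :=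
  E₁ * Y * E₂ * X * E₁ + (1 - E₁)

def T2 {S : Type*} [CommRing S] (E₁ : Matrix (Fin a) (Fin a) S) (E₂ : Matrix (Fin b) (Fin b) S)
    (X : Matrix (Fin b) (Fin a) S) (Y : Matrix (Fin a) (Fin b) S) : Matrix (Fin b) (Fin b) S :=
  E₂ * X * E₁ * Y * E₂ + (1 - E₂)

theorem T1_map {S S' : Type*} [CommRing S] [CommRing S'] (φ : S →+* S')
    (E₁ : Matrix (Fin a) (Fin a) S) (E₂ : Matrix (Fin b) (Fin b) S)
    (X : Matrix (Fin b) (Fin a) S) (Y : Matrix (Fin a) (Fin b) S) :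
    (T1 E₁ E₂ X Y).map φ = T1 (E₁.map φ) (E₂.map φ) (X.map φ) (Y.map φ) := by
  simp [T1, Matrix.map_mul, Matrix.map_add, Matrix.map_sub, Matrix.map_one]

theorem T2_map {S S' : Type*} [CommRing S] [CommRing S'] (φ : S →+* S')
    (E₁ : Matrix (Fin a) (Fin a) S) (E₂ : Matrix (Fin b) (Fin b) S)
    (X : Matrix (Fin b) (Fin a) S) (Y : Matrix (Fin a) (Fin b) S) :
    (T2 E₁ E₂ X Y).map φ = T2 (E₁.map φ) (E₂.map φ) (X.map φ) (Y.map φ) := by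
  simp [T2, Matrix.map_mul, Matrix.map_add, Matrix.map_sub, Matrix.map_one]

/-- matrices read off from a point -/
def Xs {S : Type*} (s : Idx a b → S) : Matrix (Fin b) (Fin a) S := Matrix.of fun i j => s (Sum.inl (i, j))
def Ys {S : Type*} (s : Idx a b → S) : Matrix (Fin a) (Fin b) S := Matrix.of fun i j => s (Sum.inr (i, j))

variable (E₁ : Matrix (Fin a) (Fin a) R) (E₂ : Matrix (Fin b) (Fin b) R)

/-- the polynomial `det(E₁YE₂XE₁ + 1 - E₁) * det(E₂XE₁YE₂ + 1 - E₂)` -/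
noncomputable def fpoly : MvPolynomial (Idx a b) R :=
  (T1 (E₁.map MvPolynomial.C) (E₂.map MvPolynomial.C) (Xs MvPolynomial.X) (Ys MvPolynomial.X)).det *
    (T2 (E₁.map MvPolynomial.C) (E₂.map MvPolynomial.C) (Xs MvPolynomial.X) (Ys MvPolynomial.X)).det

theorem aeval_fpoly {S : Type*} [CommRing S] [Algebra R S] (s : Idx a b → S) :
    MvPolynomial.aeval s (fpoly E₁ E₂) =
      (T1 (E₁.map (algebraMap R S)) (E₂.map (algebraMap R S)) (Xs s) (Ys s)).det *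
        (T2 (E₁.map (algebraMap R S)) (E₂.map (algebraMap R S)) (Xs s) (Ys s)).det := by
  have hE₁ : (E₁.map MvPolynomial.C).map (MvPolynomial.aeval s : MvPolynomial (Idx a b) R →ₐ[R] S).toRingHom
      = E₁.map (algebraMap R S) := by
    ext i j; simp
  have hE₂ : (E₂.map MvPolynomial.C).map (MvPolynomial.aeval s : MvPolynomial (Idx a b) R →ₐ[R] S).toRingHom
      = E₂.map (algebraMap R S) := by
    ext i j; simp
  have hX : (Xs (MvPolynomial.X : Idx a b → MvPolynomial (Idx a b) R)).map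
      (MvPolynomial.aeval s : MvPolynomial (Idx a b) R →ₐ[R] S).toRingHom = Xs s := by
    ext i j; simp [Xs]
  have hY : (Ys (MvPolynomial.X : Idx a b → MvPolynomial (Idx a b) R)).map
      (MvPolynomial.aeval s : MvPolynomial (Idx a b) R →ₐ[R] S).toRingHom = Ys s := by
    ext i j; simp [Ys]
  unfold fpoly
  rw [map_mul]
  have h1 := RingHom.map_det (MvPolynomial.aeval s : MvPolynomial (Idx a b) R →ₐ[R] S).toRingHom
    (T1 (E₁.map MvPolynomial.C) (E₂.map MvPolynomial.C) (Xs MvPolynomial.X) (Ys MvPolynomial.X))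
  have h2 := RingHom.map_det (MvPolynomial.aeval s : MvPolynomial (Idx a b) R →ₐ[R] S).toRingHom
    (T2 (E₁.map MvPolynomial.C) (E₂.map MvPolynomial.C) (Xs MvPolynomial.X) (Ys MvPolynomial.X))
  rw [RingHom.mapMatrix_apply, T1_map, hE₁, hE₂, hX, hY] at h1
  rw [RingHom.mapMatrix_apply, T2_map, hE₁, hE₂, hX, hY] at h2
  rw [← h1, ← h2]
  rfl

end Poly


section FromUnit

variable {M₁ M₂ : Type v} [AddCommGroup M₁] [Module R M₁] [AddCommGroup M₂] [Module R M₂]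
  {a b : ℕ} (π₁ : (Fin a → R) →ₗ[R] M₁) (ι₁ : M₁ →ₗ[R] (Fin a → R))
  (π₂ : (Fin b → R) →ₗ[R] M₂) (ι₂ : M₂ →ₗ[R] (Fin b → R))

theorem toLin'_T1 (X : Matrix (Fin b) (Fin a) R) (Y : Matrix (Fin a) (Fin b) R) :
    Matrix.toLin' (T1 (LinearMap.toMatrix' (ι₁ ∘ₗ π₁)) (LinearMap.toMatrix' (ι₂ ∘ₗ π₂)) X Y) =
      (ι₁ ∘ₗ π₁) ∘ₗ Matrix.toLin' Y ∘ₗ (ι₂ ∘ₗ π₂) ∘ₗ Matrix.toLin' X ∘ₗ (ι₁ ∘ₗ π₁)
        + (LinearMap.id - ι₁ ∘ₗ π₁) := by
  unfold T1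
  rw [map_add, map_sub, Matrix.toLin'_mul, Matrix.toLin'_mul, Matrix.toLin'_mul, Matrix.toLin'_mul,
    Matrix.toLin'_toMatrix', Matrix.toLin'_toMatrix', Matrix.toLin'_one]
  simp only [LinearMap.comp_assoc]

theorem toLin'_T2 (X : Matrix (Fin b) (Fin a) R) (Y : Matrix (Fin a) (Fin b) R) :
    Matrix.toLin' (T2 (LinearMap.toMatrix' (ι₁ ∘ₗ π₁)) (LinearMap.toMatrix' (ι₂ ∘ₗ π₂)) X Y) =
      (ι₂ ∘ₗ π₂) ∘ₗ Matrix.toLin' X ∘ₗ (ι₁ ∘ₗ π₁) ∘ₗ Matrix.toLin' Y ∘ₗ (ι₂ ∘ₗ π₂)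
        + (LinearMap.id - ι₂ ∘ₗ π₂) := by
  unfold T2
  rw [map_add, map_sub, Matrix.toLin'_mul, Matrix.toLin'_mul, Matrix.toLin'_mul, Matrix.toLin'_mul,
    Matrix.toLin'_toMatrix', Matrix.toLin'_toMatrix', Matrix.toLin'_one]
  simp only [LinearMap.comp_assoc]

theorem equiv_of_isUnit (h₁ : π₁ ∘ₗ ι₁ = LinearMap.id) (h₂ : π₂ ∘ₗ ι₂ = LinearMap.id)
    (X : Matrix (Fin b) (Fin a) R) (Y : Matrix (Fin a) (Fin b) R)
    (hu1 : IsUnit (T1 (LinearMap.toMatrix' (ι₁ ∘ₗ π₁)) (LinearMap.toMatrix' (ι₂ ∘ₗ π₂)) X Y).det)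
    (hu2 : IsUnit (T2 (LinearMap.toMatrix' (ι₁ ∘ₗ π₁)) (LinearMap.toMatrix' (ι₂ ∘ₗ π₂)) X Y).det) :
    Nonempty (M₁ ≃ₗ[R] M₂) := by
  have e₁ : ∀ x, π₁ (ι₁ x) = x := fun x => LinearMap.congr_fun h₁ x
  have e₂ : ∀ x, π₂ (ι₂ x) = x := fun x => LinearMap.congr_fun h₂ x
  have hι₁ : Function.Injective ι₁ := LinearMap.injective_of_comp_eq_id _ _ h₁
  have hπ₂ : Function.Surjective π₂ := LinearMap.surjective_of_comp_eq_id _ _ h₂
  set φ : M₁ →ₗ[R] M₂ := π₂ ∘ₗ Matrix.toLin' X ∘ₗ ι₁ with hφ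
  set ψ : M₂ →ₗ[R] M₁ := π₁ ∘ₗ Matrix.toLin' Y ∘ₗ ι₂ with hψ
  -- injectivity from T1
  have hinj1 : Function.Injective (Matrix.toLin' (T1 (LinearMap.toMatrix' (ι₁ ∘ₗ π₁))
      (LinearMap.toMatrix' (ι₂ ∘ₗ π₂)) X Y)) := by
    intro v w hvw
    simp only [Matrix.toLin'_apply] at hvw
    exact Matrix.mulVec_injective_of_isUnit ((Matrix.isUnit_iff_isUnit_det _).2 hu1) hvw
  have hsurj2 : Function.Surjective (Matrix.toLin' (T2 (LinearMap.toMatrix' (ι₁ ∘ₗ π₁))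
      (LinearMap.toMatrix' (ι₂ ∘ₗ π₂)) X Y)) := by
    intro v
    obtain ⟨w, hw⟩ := Matrix.mulVec_surjective_iff_isUnit.2
      ((Matrix.isUnit_iff_isUnit_det _).2 hu2) v
    exact ⟨w, by simp only [Matrix.toLin'_apply]; exact hw⟩
  have hφinj : Function.Injective φ := by
    intro x y hxy
    apply hι₁
    apply hinj1
    rw [toLin'_T1]
    simp only [LinearMap.add_apply, LinearMap.sub_apply, LinearMap.comp_apply, LinearMap.id_apply,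
      e₁, sub_self, add_zero]
    have : φ x = φ y := hxy
    simp only [hφ, LinearMap.comp_apply] at this
    rw [this]
  have hφsurj : Function.Surjective φ := by
    intro y
    obtain ⟨z, hz⟩ := hsurj2 (ι₂ y)
    rw [toLin'_T2] at hz
    have hz' := congrArg π₂ hz
    simp only [LinearMap.add_apply, LinearMap.sub_apply, LinearMap.comp_apply, LinearMap.id_apply,
      map_add, map_sub, e₂, sub_self, add_zero] at hz'
    exact ⟨π₁ (Matrix.toLin' Y (ι₂ (π₂ z))), by simp only [hφ, LinearMap.comp_apply]; exact hz'⟩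
  exact ⟨LinearEquiv.ofBijective φ ⟨hφinj, hφsurj⟩⟩

end FromUnit


section OverS

variable {M₁ M₂ : Type v} [AddCommGroup M₁] [Module R M₁] [AddCommGroup M₂] [Module R M₂]
  {a b : ℕ} (π₁ : (Fin a → R) →ₗ[R] M₁) (ι₁ : M₁ →ₗ[R] (Fin a → R))
  (π₂ : (Fin b → R) →ₗ[R] M₂) (ι₂ : M₂ →ₗ[R] (Fin b → R))
  (S : Type*) [CommRing S] [Algebra R S]

theorem exists_point_of_equiv (h₁ : π₁ ∘ₗ ι₁ = LinearMap.id) (h₂ : π₂ ∘ₗ ι₂ = LinearMap.id)
    (φ : (S ⊗[R] M₁) ≃ₗ[S] (S ⊗[R] M₂)) :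
    ∃ s : Idx a b → S,
      T1 ((LinearMap.toMatrix' (ι₁ ∘ₗ π₁)).map (algebraMap R S))
        ((LinearMap.toMatrix' (ι₂ ∘ₗ π₂)).map (algebraMap R S)) (Xs s) (Ys s) = 1 ∧
      T2 ((LinearMap.toMatrix' (ι₁ ∘ₗ π₁)).map (algebraMap R S))
        ((LinearMap.toMatrix' (ι₂ ∘ₗ π₂)).map (algebraMap R S)) (Xs s) (Ys s) = 1 := by
  classical
  set Ba := Algebra.TensorProduct.basis S (Pi.basisFun R (Fin a)) with hBa
  set Bb := Algebra.TensorProduct.basis S (Pi.basisFun R (Fin b)) with hBb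
  set p₁ := π₁.baseChange S with hp₁
  set j₁ := ι₁.baseChange S with hj₁
  set p₂ := π₂.baseChange S with hp₂
  set j₂ := ι₂.baseChange S with hj₂
  have hpj₁ : p₁ ∘ₗ j₁ = LinearMap.id := by
    rw [hp₁, hj₁, ← LinearMap.baseChange_comp, h₁, LinearMap.baseChange_id]
  have hpj₂ : p₂ ∘ₗ j₂ = LinearMap.id := by
    rw [hp₂, hj₂, ← LinearMap.baseChange_comp, h₂, LinearMap.baseChange_id]
  have hE₁ : (LinearMap.toMatrix' (ι₁ ∘ₗ π₁)).map (algebraMap R S) =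
      LinearMap.toMatrix Ba Ba (j₁ ∘ₗ p₁) := by
    rw [hj₁, hp₁, ← LinearMap.baseChange_comp, hBa, LinearMap.toMatrix_baseChange,
      LinearMap.toMatrix_eq_toMatrix']
  have hE₂ : (LinearMap.toMatrix' (ι₂ ∘ₗ π₂)).map (algebraMap R S) =
      LinearMap.toMatrix Bb Bb (j₂ ∘ₗ p₂) := by
    rw [hj₂, hp₂, ← LinearMap.baseChange_comp, hBb, LinearMap.toMatrix_baseChange,
      LinearMap.toMatrix_eq_toMatrix']
  set Xb : Matrix (Fin b) (Fin a) S := LinearMap.toMatrix Ba Bb (j₂ ∘ₗ φ.toLinearMap ∘ₗ p₁) with hX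
  set Yb : Matrix (Fin a) (Fin b) S :=
    LinearMap.toMatrix Bb Ba (j₁ ∘ₗ φ.symm.toLinearMap ∘ₗ p₂) with hY
  have a₁ : ∀ y, p₁ (j₁ y) = y := fun y => LinearMap.congr_fun hpj₁ y
  have a₂ : ∀ y, p₂ (j₂ y) = y := fun y => LinearMap.congr_fun hpj₂ y
  refine ⟨Sum.elim (fun ij => Xb ij.1 ij.2) (fun ij => Yb ij.1 ij.2), ?_, ?_⟩
  · have hXs : Xs (Sum.elim (fun ij : Fin b × Fin a => Xb ij.1 ij.2)
        (fun ij : Fin a × Fin b => Yb ij.1 ij.2)) = Xb := by ext i j; rfl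
    have hYs : Ys (Sum.elim (fun ij : Fin b × Fin a => Xb ij.1 ij.2)
        (fun ij : Fin a × Fin b => Yb ij.1 ij.2)) = Yb := by ext i j; rfl
    rw [hXs, hYs, hE₁, hE₂]
    unfold T1
    rw [hX, hY, ← LinearMap.toMatrix_comp, ← LinearMap.toMatrix_comp, ← LinearMap.toMatrix_comp,
      ← LinearMap.toMatrix_comp]
    have hcomp : ((((j₁ ∘ₗ p₁) ∘ₗ (j₁ ∘ₗ φ.symm.toLinearMap ∘ₗ p₂)) ∘ₗ (j₂ ∘ₗ p₂)) ∘ₗ
        (j₂ ∘ₗ φ.toLinearMap ∘ₗ p₁)) ∘ₗ (j₁ ∘ₗ p₁) = j₁ ∘ₗ p₁ := by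
      apply LinearMap.ext
      intro x
      simp only [LinearMap.comp_apply, LinearEquiv.coe_coe, a₁, a₂, LinearEquiv.symm_apply_apply]
    rw [hcomp]
    abel
  · have hXs : Xs (Sum.elim (fun ij : Fin b × Fin a => Xb ij.1 ij.2)
        (fun ij : Fin a × Fin b => Yb ij.1 ij.2)) = Xb := by ext i j; rfl
    have hYs : Ys (Sum.elim (fun ij : Fin b × Fin a => Xb ij.1 ij.2)
        (fun ij : Fin a × Fin b => Yb ij.1 ij.2)) = Yb := by ext i j; rfl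
    rw [hXs, hYs, hE₁, hE₂]
    unfold T2
    rw [hX, hY, ← LinearMap.toMatrix_comp, ← LinearMap.toMatrix_comp, ← LinearMap.toMatrix_comp,
      ← LinearMap.toMatrix_comp]
    have hcomp : ((((j₂ ∘ₗ p₂) ∘ₗ (j₂ ∘ₗ φ.toLinearMap ∘ₗ p₁)) ∘ₗ (j₁ ∘ₗ p₁)) ∘ₗ
        (j₁ ∘ₗ φ.symm.toLinearMap ∘ₗ p₂)) ∘ₗ (j₂ ∘ₗ p₂) = j₂ ∘ₗ p₂ := by
      apply LinearMap.ext
      intro x
      simp only [LinearMap.comp_apply, LinearEquiv.coe_coe, a₁, a₂, LinearEquiv.apply_symm_apply]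
    rw [hcomp]
    abel

end OverS


/-- Over an LG-ring two finite projective modules with isomorphic residual fibres at every maximal
ideal are isomorphic. -/
theorem nonempty_equiv_of_residue (hR : LGRing.IsLGRing R)
    (M₁ M₂ : Type v) [AddCommGroup M₁] [Module R M₁] [Module.Finite R M₁] [Module.Projective R M₁]
    [AddCommGroup M₂] [Module R M₂] [Module.Finite R M₂] [Module.Projective R M₂]
    (h : ∀ (m : Ideal R) [m.IsMaximal],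
      Nonempty (((R ⧸ m) ⊗[R] M₁) ≃ₗ[R ⧸ m] ((R ⧸ m) ⊗[R] M₂))) :
    Nonempty (M₁ ≃ₗ[R] M₂) := by
  obtain ⟨a, π₁, ι₁, -, -, h₁⟩ := Module.Finite.exists_comp_eq_id_of_projective R M₁
  obtain ⟨b, π₂, ι₂, -, -, h₂⟩ := Module.Finite.exists_comp_eq_id_of_projective R M₂
  obtain ⟨s, hs⟩ := lg_fintype hR
    (fpoly (LinearMap.toMatrix' (ι₁ ∘ₗ π₁)) (LinearMap.toMatrix' (ι₂ ∘ₗ π₂))) (by
      intro m hm
      obtain ⟨φ⟩ := h m
      obtain ⟨s, hs1, hs2⟩ := exists_point_of_equiv π₁ ι₁ π₂ ι₂ (R ⧸ m) h₁ h₂ φ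
      refine ⟨s, ?_⟩
      rw [aeval_fpoly, hs1, hs2]
      simp)
  rw [aeval_fpoly] at hs
  have hid : ∀ {n : ℕ} (E : Matrix (Fin n) (Fin n) R), E.map (algebraMap R R) = E := by
    intro n E; ext i j; simp
  rw [hid, hid] at hs
  obtain ⟨hu1, hu2⟩ := IsUnit.mul_iff.1 hs
  exact equiv_of_isUnit π₁ ι₁ π₂ ι₂ h₁ h₂ (Xs s) (Ys s) hu1 hu2


section Ranks

variable (M₁ M₂ N : Type v) [AddCommGroup M₁] [Module R M₁] [Module.Finite R M₁]
  [AddCommGroup M₂] [Module R M₂] [Module.Finite R M₂]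
  [AddCommGroup N] [Module R N] [Module.Finite R N]

/-- fibres are isomorphic if `n`-fold powers are -/
theorem fibre_equiv_of_pi (m : Ideal R) [hm : m.IsMaximal] (n : ℕ) (hn : 0 < n)
    (e : (Fin n → M₁) ≃ₗ[R] (Fin n → M₂)) :
    Nonempty (((R ⧸ m) ⊗[R] M₁) ≃ₗ[R ⧸ m] ((R ⧸ m) ⊗[R] M₂)) := by
  classical
  let _ : Field (R ⧸ m) := Ideal.Quotient.field m
  have e1 : (Fin n → (R ⧸ m) ⊗[R] M₁) ≃ₗ[R ⧸ m] (Fin n → (R ⧸ m) ⊗[R] M₂) :=
    (TensorProduct.piRight R (R ⧸ m) (R ⧸ m) (fun _ : Fin n => M₁)).symm ≪≫ₗ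
      (e.baseChange R (R ⧸ m) _ _) ≪≫ₗ
      (TensorProduct.piRight R (R ⧸ m) (R ⧸ m) (fun _ : Fin n => M₂))
  have h := e1.finrank_eq
  rw [Module.finrank_pi_fintype, Module.finrank_pi_fintype] at h
  simp only [Finset.sum_const, Finset.card_univ, Fintype.card_fin, smul_eq_mul] at h
  have h' := Nat.eq_of_mul_eq_mul_left hn h
  exact ⟨LinearEquiv.ofFinrankEq _ _ h'⟩

omit [Module.Finite R M₁] [Module.Finite R M₂] in
/-- a faithful finite module has non-zero fibres -/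
theorem finrank_fibre_pos [FaithfulSMul R N] (m : Ideal R) [hm : m.IsMaximal] :
    let _ : Field (R ⧸ m) := Ideal.Quotient.field m
    0 < Module.finrank (R ⧸ m) ((R ⧸ m) ⊗[R] N) := by
  intro _
  rw [Module.finrank_pos_iff]
  by_contra hnt
  rw [not_nontrivial_iff_subsingleton] at hnt
  have hsub : Subsingleton (N ⧸ (m • (⊤ : Submodule R N))) :=
    (TensorProduct.quotTensorEquivQuotSMul N m).symm.toEquiv.subsingleton
  have htop : (⊤ : Submodule R N) ≤ m • (⊤ : Submodule R N) := by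
    rw [Submodule.Quotient.subsingleton_iff] at hsub
    rw [hsub]
  obtain ⟨r, hr1, hr2⟩ := Submodule.exists_sub_one_mem_and_smul_eq_zero_of_fg_of_le_smul m
    (⊤ : Submodule R N) Module.Finite.fg_top htop
  have hr0 : r = 0 := by
    apply FaithfulSMul.eq_of_smul_eq_smul (α := N)
    intro x
    rw [hr2 x Submodule.mem_top, zero_smul]
  rw [hr0, zero_sub] at hr1
  have : (1 : R) ∈ m := by simpa using m.neg_mem hr1
  exact hm.ne_top ((Ideal.eq_top_iff_one m).2 this)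

theorem fibre_equiv_of_tensor [FaithfulSMul R N] (m : Ideal R) [hm : m.IsMaximal]
    (e : M₁ ⊗[R] N ≃ₗ[R] M₂ ⊗[R] N) :
    Nonempty (((R ⧸ m) ⊗[R] M₁) ≃ₗ[R ⧸ m] ((R ⧸ m) ⊗[R] M₂)) := by
  classical
  let _ : Field (R ⧸ m) := Ideal.Quotient.field m
  have e1 : (((R ⧸ m) ⊗[R] M₁) ⊗[R ⧸ m] ((R ⧸ m) ⊗[R] N)) ≃ₗ[R ⧸ m]
      (((R ⧸ m) ⊗[R] M₂) ⊗[R ⧸ m] ((R ⧸ m) ⊗[R] N)) :=
    (AlgebraTensorModule.distribBaseChange R (R ⧸ m) M₁ N).symm ≪≫ₗ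
      (e.baseChange R (R ⧸ m) _ _) ≪≫ₗ
      (AlgebraTensorModule.distribBaseChange R (R ⧸ m) M₂ N)
  have h := e1.finrank_eq
  have f1 : Module.finrank (R ⧸ m) (((R ⧸ m) ⊗[R] M₁) ⊗[R ⧸ m] ((R ⧸ m) ⊗[R] N)) =
      Module.finrank (R ⧸ m) ((R ⧸ m) ⊗[R] M₁) * Module.finrank (R ⧸ m) ((R ⧸ m) ⊗[R] N) :=
    Module.finrank_tensorProduct
  have f2 : Module.finrank (R ⧸ m) (((R ⧸ m) ⊗[R] M₂) ⊗[R ⧸ m] ((R ⧸ m) ⊗[R] N)) =
      Module.finrank (R ⧸ m) ((R ⧸ m) ⊗[R] M₂) * Module.finrank (R ⧸ m) ((R ⧸ m) ⊗[R] N) :=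
    Module.finrank_tensorProduct
  rw [f1, f2] at h
  have hpos := finrank_fibre_pos N m
  have h' := Nat.eq_of_mul_eq_mul_right hpos h
  exact ⟨LinearEquiv.ofFinrankEq _ _ h'⟩

end Ranks


theorem cancel_pi (hR : LGRing.IsLGRing R)
    (M₁ M₂ : Type v) [AddCommGroup M₁] [Module R M₁] [Module.Finite R M₁] [Module.Projective R M₁]
    [AddCommGroup M₂] [Module R M₂] [Module.Finite R M₂] [Module.Projective R M₂] (n : ℕ)
    (hn : 0 < n) (e : (Fin n → M₁) ≃ₗ[R] (Fin n → M₂)) : Nonempty (M₁ ≃ₗ[R] M₂) :=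
  nonempty_equiv_of_residue hR M₁ M₂ fun m _ => fibre_equiv_of_pi M₁ M₂ m n hn e


theorem cancel_tensor (hR : LGRing.IsLGRing R)
    (M₁ M₂ N : Type v) [AddCommGroup M₁] [Module R M₁] [Module.Finite R M₁]
    [Module.Projective R M₁] [AddCommGroup M₂] [Module R M₂] [Module.Finite R M₂]
    [Module.Projective R M₂] [AddCommGroup N] [Module R N] [Module.Finite R N] [FaithfulSMul R N]
    (e : M₁ ⊗[R] N ≃ₗ[R] M₂ ⊗[R] N) : Nonempty (M₁ ≃ₗ[R] M₂) :=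
  nonempty_equiv_of_residue hR M₁ M₂ fun m _ => fibre_equiv_of_tensor M₁ M₂ N m e

end Groth.Agent.Helper25.LGCancel
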