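import Mathlib
import Groth.Prelude.Def_W4stkremschemesLRS

set_option autoImplicit false

/-!
# Factorisation of morphisms of locally ringed spaces through a closed immersion

Helper library for S9507.
-/

namespace Groth.Agent.Helper25.LRSFac

open CategoryTheory TopologicalSpace Opposite TopCat
open scoped AlgebraicGeometry

universe u

section Thin

variable {T : TopCat.{u}} (P : TopCat.Presheaf CommRingCat.{u} T)

theorem map_thin {A B : (Opens T)ᵒᵖ} (j j' : A ⟶ B) (t : P.obj A) :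
    P.map j t = P.map j' t :=
  congrArg (fun k => (P.map k) t) (Quiver.Hom.unop_inj (Subsingleton.elim _ _))

theorem map_map_thin {A B C : (Opens T)ᵒᵖ} (j₁ : A ⟶ B) (j₂ : B ⟶ C) (j₃ : A ⟶ C)
    (t : P.obj A) : P.map j₂ (P.map j₁ t) = P.map j₃ t := by
  rw [← ConcreteCategory.comp_apply, ← P.map_comp]
  exact map_thin P _ _ t

theorem map_self_thin {A : (Opens T)ᵒᵖ} (j : A ⟶ A) (t : P.obj A) : P.map j t = t := by
  have : j = 𝟙 A := Quiver.Hom.unop_inj (Subsingleton.elim _ _)
  rw [this, P.map_id]; rfl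

end Thin

section LiftDef

variable {Xt Zt Yt : TopCat.{u}}
  {OX : TopCat.Presheaf CommRingCat.{u} Xt} {OZ : TopCat.Presheaf CommRingCat.{u} Zt}

/-- local lifts of a section `t` of `OZ` over `V` -/
structure Lift (ι : Zt ⟶ Xt) (a : OX ⟶ ι _* OZ) {V : Opens Zt} (t : OZ.obj (op V)) where
  W : Opens Xt
  le : (Opens.map ι).obj W ≤ V
  s : OX.obj (op W)
  eq : a.app (op W) s = OZ.map (homOfLE le).op t

/-- the open of `Yt` attached to a lift -/
abbrev Lift.U {ι : Zt ⟶ Xt} {a : OX ⟶ ι _* OZ} {V : Opens Zt} {t : OZ.obj (op V)}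
    (p : Lift ι a t) (γ : Yt ⟶ Zt) : Opens Yt :=
  (Opens.map (γ ≫ ι)).obj p.W

theorem Lift.U_le {ι : Zt ⟶ Xt} {a : OX ⟶ ι _* OZ} {V : Opens Zt} {t : OZ.obj (op V)}
    (p : Lift ι a t) (γ : Yt ⟶ Zt) : p.U γ ≤ (Opens.map γ).obj V := fun _ hy => p.le hy

end LiftDef

section Desc

variable {Xt Zt Yt : TopCat.{u}} (ι : Zt ⟶ Xt) (γ : Yt ⟶ Zt)
  {OX : TopCat.Presheaf CommRingCat.{u} Xt} {OZ : TopCat.Presheaf CommRingCat.{u} Zt}
  (OY : TopCat.Sheaf CommRingCat.{u} Yt)
  (a : OX ⟶ ι _* OZ) (b : OX ⟶ (γ ≫ ι) _* OY.1)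

variable (hab : ∀ (W : Opens Xt) (s : OX.obj (op W)), a.app (op W) s = 0 → b.app (op W) s = 0)
variable (hC : ∀ (V : Opens Zt) (t : OZ.obj (op V)) (z : Zt), z ∈ V →
  ∃ (W : Opens Xt) (hW : (Opens.map ι).obj W ≤ V) (s : OX.obj (op W)),
    ι z ∈ W ∧ a.app (op W) s = OZ.map (homOfLE hW).op t)

include hab in
theorem b_eq_of_a_eq {W : Opens Xt} (s s' : OX.obj (op W))
    (h : a.app (op W) s = a.app (op W) s') : b.app (op W) s = b.app (op W) s' := by
  have h1 : a.app (op W) (s - s') = 0 := by rw [map_sub, h, sub_self]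
  have h2 := hab W _ h1
  rw [map_sub, sub_eq_zero] at h2
  exact h2

include hab in
theorem lift_compat {V : Opens Zt} (t : OZ.obj (op V)) :
    TopCat.Presheaf.IsCompatible OY.1 (fun p : Lift ι a t => p.U γ)
      (fun p => b.app (op p.W) p.s) := by
  intro p q
  have e : p.U γ ⊓ q.U γ ≤ (Opens.map (γ ≫ ι)).obj (p.W ⊓ q.W) := fun _ hy => hy
  have hp : OY.1.map (Opens.infLELeft (p.U γ) (q.U γ)).op (b.app (op p.W) p.s) =
      OY.1.map (homOfLE e).op (b.app (op (p.W ⊓ q.W)) (OX.map (Opens.infLELeft p.W q.W).op p.s)) := by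
    rw [NatTrans.naturality_apply]
    exact (map_map_thin OY.1 _ _ _ _).symm
  have hq : OY.1.map (Opens.infLERight (p.U γ) (q.U γ)).op (b.app (op q.W) q.s) =
      OY.1.map (homOfLE e).op (b.app (op (p.W ⊓ q.W)) (OX.map (Opens.infLERight p.W q.W).op q.s)) := by
    rw [NatTrans.naturality_apply]
    exact (map_map_thin OY.1 _ _ _ _).symm
  show OY.1.map (Opens.infLELeft (p.U γ) (q.U γ)).op (b.app (op p.W) p.s) =
    OY.1.map (Opens.infLERight (p.U γ) (q.U γ)).op (b.app (op q.W) q.s)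
  rw [hp, hq]
  congr 1
  apply b_eq_of_a_eq ι γ OY a b hab
  rw [NatTrans.naturality_apply, NatTrans.naturality_apply, p.eq, q.eq]
  have hle : (Opens.map ι).obj (p.W ⊓ q.W) ≤ V := fun _ hz => p.le hz.1
  exact (map_map_thin OZ _ _ (homOfLE hle).op t).trans (map_map_thin OZ _ _ (homOfLE hle).op t).symm

include hC in
theorem lift_cover {V : Opens Zt} (t : OZ.obj (op V)) :
    (Opens.map γ).obj V ≤ ⨆ p : Lift ι a t, p.U γ := by
  intro y hy
  obtain ⟨W, hW, s, hzW, hs⟩ := hC V t (γ y) hy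
  exact Opens.mem_iSup.mpr ⟨⟨W, hW, s, hs⟩, hzW⟩

/-- the glued section -/
noncomputable def descVal {V : Opens Zt} (t : OZ.obj (op V)) :
    OY.1.obj (op ((Opens.map γ).obj V)) :=
  (OY.existsUnique_gluing' (fun p : Lift ι a t => p.U γ) ((Opens.map γ).obj V)
    (fun p => homOfLE (p.U_le γ)) (lift_cover ι γ a hC t)
    (fun p => b.app (op p.W) p.s) (lift_compat ι γ OY a b hab t)).exists.choose

theorem descVal_spec {V : Opens Zt} (t : OZ.obj (op V)) (p : Lift ι a t) :
    OY.1.map (homOfLE (p.U_le γ)).op (descVal ι γ OY a b hab hC t) = b.app (op p.W) p.s :=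
  (OY.existsUnique_gluing' (fun p : Lift ι a t => p.U γ) ((Opens.map γ).obj V)
    (fun p => homOfLE (p.U_le γ)) (lift_cover ι γ a hC t)
    (fun p => b.app (op p.W) p.s) (lift_compat ι γ OY a b hab t)).exists.choose_spec p

include hC in
theorem eq_of_lifts {V : Opens Zt} (t : OZ.obj (op V))
    (x y : OY.1.obj (op ((Opens.map γ).obj V)))
    (h : ∀ p : Lift ι a t, OY.1.map (homOfLE (p.U_le γ)).op x =
      OY.1.map (homOfLE (p.U_le γ)).op y) : x = y :=
  OY.eq_of_locally_eq' (fun p : Lift ι a t => p.U γ) ((Opens.map γ).obj V)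
    (fun p => homOfLE (p.U_le γ)) (lift_cover ι γ a hC t) x y h

theorem descVal_res {V V' : Opens Zt} (h : V' ≤ V) (t : OZ.obj (op V)) :
    OY.1.map ((Opens.map γ).map (homOfLE h)).op (descVal ι γ OY a b hab hC t) =
      descVal ι γ OY a b hab hC (OZ.map (homOfLE h).op t) := by
  apply eq_of_lifts ι γ OY a hC (OZ.map (homOfLE h).op t)
  intro p
  rw [descVal_spec ι γ OY a b hab hC _ p]
  have := descVal_spec ι γ OY a b hab hC t
    ⟨p.W, p.le.trans h, p.s, by rw [p.eq]; exact map_map_thin OZ _ _ _ t⟩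
  rw [← this]
  exact map_map_thin OY.1 _ _ _ _

theorem descVal_of_lift {W : Opens Xt} (s : OX.obj (op W)) :
    descVal ι γ OY a b hab hC (V := (Opens.map ι).obj W) (a.app (op W) s) = b.app (op W) s := by
  have := descVal_spec ι γ OY a b hab hC (V := (Opens.map ι).obj W) (a.app (op W) s)
    ⟨W, le_rfl, s, (map_self_thin OZ _ _).symm⟩
  rw [← this]
  exact (map_self_thin OY.1 _ _).symm

include hC in
theorem eq_of_lifts_inf {W : Opens Xt} (t : OZ.obj (op ((Opens.map ι).obj W)))
    (x y : OY.1.obj (op ((Opens.map (γ ≫ ι)).obj W)))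
    (h : ∀ q : Lift ι a t,
      OY.1.map ((Opens.map (γ ≫ ι)).map (Opens.infLELeft W q.W)).op x =
      OY.1.map ((Opens.map (γ ≫ ι)).map (Opens.infLELeft W q.W)).op y) : x = y := by
  apply eq_of_lifts ι γ OY a hC t
  intro q
  have e : q.U γ ≤ (Opens.map (γ ≫ ι)).obj (W ⊓ q.W) := fun y hy => ⟨q.le hy, hy⟩
  have hx := map_map_thin OY.1 ((Opens.map (γ ≫ ι)).map (Opens.infLELeft W q.W)).op
    (homOfLE e).op (homOfLE (q.U_le γ)).op x
  have hy := map_map_thin OY.1 ((Opens.map (γ ≫ ι)).map (Opens.infLELeft W q.W)).op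
    (homOfLE e).op (homOfLE (q.U_le γ)).op y
  exact hx.symm.trans ((congrArg (fun z => OY.1.map (homOfLE e).op z) (h q)).trans hy)

theorem add_congr' {R : Type*} [Add R] {x y x' y' : R} (h1 : x = x') (h2 : y = y') :
    x + y = x' + y' := by rw [h1, h2]

theorem mul_congr' {R : Type*} [Mul R] {x y x' y' : R} (h1 : x = x') (h2 : y = y') :
    x * y = x' * y' := by rw [h1, h2]

theorem descVal_add_lift {W : Opens Xt} (s : OX.obj (op W))
    (as t : OZ.obj (op ((Opens.map ι).obj W))) (has : a.app (op W) s = as)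
    (bs : OY.1.obj (op ((Opens.map γ).obj ((Opens.map ι).obj W)))) (hbs : b.app (op W) s = bs) :
    descVal ι γ OY a b hab hC (as + t) = bs + descVal ι γ OY a b hab hC t := by
  apply eq_of_lifts_inf ι γ OY a hC t
  intro q
  have hqW : (Opens.map ι).obj (W ⊓ q.W) ≤ (Opens.map ι).obj W := fun _ hz => hz.1
  have ht : OZ.map (homOfLE hqW).op t =
      a.app (op (W ⊓ q.W)) (OX.map (Opens.infLERight W q.W).op q.s) := by
    rw [NatTrans.naturality_apply, q.eq]
    exact (map_map_thin OZ _ _ _ t).symm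
  have hs : OZ.map (homOfLE hqW).op as =
      a.app (op (W ⊓ q.W)) (OX.map (Opens.infLELeft W q.W).op s) := by
    rw [NatTrans.naturality_apply, has]
    exact map_thin OZ _ _ _
  have hsum : OZ.map (homOfLE hqW).op (as + t) = a.app (op (W ⊓ q.W))
      (OX.map (Opens.infLELeft W q.W).op s + OX.map (Opens.infLERight W q.W).op q.s) :=
    (map_add _ _ _).trans ((add_congr' hs ht).trans (map_add _ _ _).symm)
  have hL : OY.1.map ((Opens.map (γ ≫ ι)).map (Opens.infLELeft W q.W)).op
      (descVal ι γ OY a b hab hC (as + t)) =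
      b.app (op (W ⊓ q.W))
        (OX.map (Opens.infLELeft W q.W).op s + OX.map (Opens.infLERight W q.W).op q.s) := by
    have h1 := descVal_res ι γ OY a b hab hC hqW (as + t)
    rw [hsum, descVal_of_lift ι γ OY a b hab hC] at h1
    exact (map_thin OY.1 _ _ _).trans h1
  have e1 : OY.1.map ((Opens.map (γ ≫ ι)).map (Opens.infLELeft W q.W)).op bs =
      b.app (op (W ⊓ q.W)) (OX.map (Opens.infLELeft W q.W).op s) := by
    rw [← hbs]
    exact (NatTrans.naturality_apply b (Opens.infLELeft W q.W).op s).symm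
  have e2 : OY.1.map ((Opens.map (γ ≫ ι)).map (Opens.infLELeft W q.W)).op
      (descVal ι γ OY a b hab hC t) =
      b.app (op (W ⊓ q.W)) (OX.map (Opens.infLERight W q.W).op q.s) := by
    have h2 := descVal_res ι γ OY a b hab hC hqW t
    rw [ht, descVal_of_lift ι γ OY a b hab hC] at h2
    exact (map_thin OY.1 _ _ _).trans h2
  exact hL.trans ((map_add _ _ _).trans
    ((add_congr' e1.symm e2.symm).trans (map_add _ _ _).symm))

theorem descVal_mul_lift {W : Opens Xt} (s : OX.obj (op W))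
    (as t : OZ.obj (op ((Opens.map ι).obj W))) (has : a.app (op W) s = as)
    (bs : OY.1.obj (op ((Opens.map γ).obj ((Opens.map ι).obj W)))) (hbs : b.app (op W) s = bs) :
    descVal ι γ OY a b hab hC (as * t) = bs * descVal ι γ OY a b hab hC t := by
  apply eq_of_lifts_inf ι γ OY a hC t
  intro q
  have hqW : (Opens.map ι).obj (W ⊓ q.W) ≤ (Opens.map ι).obj W := fun _ hz => hz.1
  have ht : OZ.map (homOfLE hqW).op t =
      a.app (op (W ⊓ q.W)) (OX.map (Opens.infLERight W q.W).op q.s) := by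
    rw [NatTrans.naturality_apply, q.eq]
    exact (map_map_thin OZ _ _ _ t).symm
  have hs : OZ.map (homOfLE hqW).op as =
      a.app (op (W ⊓ q.W)) (OX.map (Opens.infLELeft W q.W).op s) := by
    rw [NatTrans.naturality_apply, has]
    exact map_thin OZ _ _ _
  have hsum : OZ.map (homOfLE hqW).op (as * t) = a.app (op (W ⊓ q.W))
      (OX.map (Opens.infLELeft W q.W).op s * OX.map (Opens.infLERight W q.W).op q.s) :=
    (map_mul _ _ _).trans ((mul_congr' hs ht).trans (map_mul _ _ _).symm)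
  have hL : OY.1.map ((Opens.map (γ ≫ ι)).map (Opens.infLELeft W q.W)).op
      (descVal ι γ OY a b hab hC (as * t)) =
      b.app (op (W ⊓ q.W))
        (OX.map (Opens.infLELeft W q.W).op s * OX.map (Opens.infLERight W q.W).op q.s) := by
    have h1 := descVal_res ι γ OY a b hab hC hqW (as * t)
    rw [hsum, descVal_of_lift ι γ OY a b hab hC] at h1
    exact (map_thin OY.1 _ _ _).trans h1
  have e1 : OY.1.map ((Opens.map (γ ≫ ι)).map (Opens.infLELeft W q.W)).op bs =
      b.app (op (W ⊓ q.W)) (OX.map (Opens.infLELeft W q.W).op s) := by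
    rw [← hbs]
    exact (NatTrans.naturality_apply b (Opens.infLELeft W q.W).op s).symm
  have e2 : OY.1.map ((Opens.map (γ ≫ ι)).map (Opens.infLELeft W q.W)).op
      (descVal ι γ OY a b hab hC t) =
      b.app (op (W ⊓ q.W)) (OX.map (Opens.infLERight W q.W).op q.s) := by
    have h2 := descVal_res ι γ OY a b hab hC hqW t
    rw [ht, descVal_of_lift ι γ OY a b hab hC] at h2
    exact (map_thin OY.1 _ _ _).trans h2
  exact hL.trans ((map_mul _ _ _).trans
    ((mul_congr' e1.symm e2.symm).trans (map_mul _ _ _).symm))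

theorem descVal_add {V : Opens Zt} (t t' : OZ.obj (op V)) :
    descVal ι γ OY a b hab hC (t + t') =
      descVal ι γ OY a b hab hC t + descVal ι γ OY a b hab hC t' := by
  apply eq_of_lifts ι γ OY a hC t
  intro p
  have h1 := descVal_res ι γ OY a b hab hC p.le (t + t')
  have h2 := descVal_res ι γ OY a b hab hC p.le t'
  have h3 := descVal_spec ι γ OY a b hab hC t p
  have h4 := descVal_add_lift ι γ OY a b hab hC p.s (OZ.map (homOfLE p.le).op t)
    (OZ.map (homOfLE p.le).op t') p.eq (b.app (op p.W) p.s) rfl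
  have h5 : OZ.map (homOfLE p.le).op (t + t') =
      OZ.map (homOfLE p.le).op t + OZ.map (homOfLE p.le).op t' := map_add _ _ _
  rw [h5, h4] at h1
  have e1 : OY.1.map (homOfLE (p.U_le γ)).op (descVal ι γ OY a b hab hC (t + t')) =
      OY.1.map ((Opens.map γ).map (homOfLE p.le)).op (descVal ι γ OY a b hab hC (t + t')) :=
    map_thin OY.1 _ _ _
  have e2 : OY.1.map (homOfLE (p.U_le γ)).op (descVal ι γ OY a b hab hC t') =
      OY.1.map ((Opens.map γ).map (homOfLE p.le)).op (descVal ι γ OY a b hab hC t') :=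
    map_thin OY.1 _ _ _
  exact e1.trans (h1.trans ((add_congr' h3.symm (h2.symm.trans e2.symm)).trans
    (map_add _ _ _).symm))

theorem descVal_mul {V : Opens Zt} (t t' : OZ.obj (op V)) :
    descVal ι γ OY a b hab hC (t * t') =
      descVal ι γ OY a b hab hC t * descVal ι γ OY a b hab hC t' := by
  apply eq_of_lifts ι γ OY a hC t
  intro p
  have h1 := descVal_res ι γ OY a b hab hC p.le (t * t')
  have h2 := descVal_res ι γ OY a b hab hC p.le t'
  have h3 := descVal_spec ι γ OY a b hab hC t p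
  have h4 := descVal_mul_lift ι γ OY a b hab hC p.s (OZ.map (homOfLE p.le).op t)
    (OZ.map (homOfLE p.le).op t') p.eq (b.app (op p.W) p.s) rfl
  have h5 : OZ.map (homOfLE p.le).op (t * t') =
      OZ.map (homOfLE p.le).op t * OZ.map (homOfLE p.le).op t' := map_mul _ _ _
  rw [h5, h4] at h1
  have e1 : OY.1.map (homOfLE (p.U_le γ)).op (descVal ι γ OY a b hab hC (t * t')) =
      OY.1.map ((Opens.map γ).map (homOfLE p.le)).op (descVal ι γ OY a b hab hC (t * t')) :=
    map_thin OY.1 _ _ _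
  have e2 : OY.1.map (homOfLE (p.U_le γ)).op (descVal ι γ OY a b hab hC t') =
      OY.1.map ((Opens.map γ).map (homOfLE p.le)).op (descVal ι γ OY a b hab hC t') :=
    map_thin OY.1 _ _ _
  exact e1.trans (h1.trans ((mul_congr' h3.symm (h2.symm.trans e2.symm)).trans
    (map_mul _ _ _).symm))

theorem descVal_one (V : Opens Zt) :
    descVal ι γ OY a b hab hC (1 : OZ.obj (op V)) = 1 := by
  apply eq_of_lifts ι γ OY a hC (1 : OZ.obj (op V))
  intro p
  have h1 : a.app (op p.W) p.s = a.app (op p.W) 1 :=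
    p.eq.trans ((map_one _).trans (map_one _).symm)
  refine (descVal_spec ι γ OY a b hab hC _ p).trans (Eq.trans ?_ (map_one _).symm)
  exact (b_eq_of_a_eq ι γ OY a b hab _ _ h1).trans (map_one _)

theorem descVal_zero (V : Opens Zt) :
    descVal ι γ OY a b hab hC (0 : OZ.obj (op V)) = 0 := by
  apply eq_of_lifts ι γ OY a hC (0 : OZ.obj (op V))
  intro p
  have h1 : a.app (op p.W) p.s = a.app (op p.W) 0 :=
    p.eq.trans ((map_zero _).trans (map_zero _).symm)
  refine (descVal_spec ι γ OY a b hab hC _ p).trans (Eq.trans ?_ (map_zero _).symm)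
  exact (b_eq_of_a_eq ι γ OY a b hab _ _ h1).trans (map_zero _)

/-- `descVal` as a ring homomorphism -/
noncomputable def descHom (V : Opens Zt) :
    OZ.obj (op V) →+* OY.1.obj (op ((Opens.map γ).obj V)) where
  toFun := descVal ι γ OY a b hab hC
  map_one' := descVal_one ι γ OY a b hab hC V
  map_mul' := descVal_mul ι γ OY a b hab hC
  map_zero' := descVal_zero ι γ OY a b hab hC V
  map_add' := descVal_add ι γ OY a b hab hC

/-- the glued morphism of presheaves -/
noncomputable def desc : OZ ⟶ γ _* OY.1 where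
  app V := CommRingCat.ofHom (descHom ι γ OY a b hab hC V.unop)
  naturality := by
    intro V₁ V₂ j
    refine ConcreteCategory.hom_ext _ _ (fun t => ?_)
    have h := descVal_res ι γ OY a b hab hC (leOfHom j.unop) t
    show descVal ι γ OY a b hab hC (OZ.map j t) =
      OY.1.map ((Opens.map γ).op.map j) (descVal ι γ OY a b hab hC t)
    rw [map_thin OZ j (homOfLE (leOfHom j.unop)).op t, ← h]
    exact map_thin OY.1 _ _ _

theorem desc_app_a (W : Opens Xt) (s : OX.obj (op W)) :
    (desc ι γ OY a b hab hC).app (op ((Opens.map ι).obj W)) (a.app (op W) s) = b.app (op W) s :=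
  descVal_of_lift ι γ OY a b hab hC s

include hC in
theorem desc_unique_app (c c' : OZ ⟶ γ _* OY.1)
    (h : ∀ (W : Opens Xt) (s : OX.obj (op W)),
      c.app (op ((Opens.map ι).obj W)) (a.app (op W) s) =
        c'.app (op ((Opens.map ι).obj W)) (a.app (op W) s))
    (V : Opens Zt) (t : OZ.obj (op V)) : c.app (op V) t = c'.app (op V) t := by
  have key : ∀ (d : OZ ⟶ γ _* OY.1) (p : Lift ι a t),
      OY.1.map (homOfLE (p.U_le γ)).op (d.app (op V) t) =
        d.app (op ((Opens.map ι).obj p.W)) (a.app (op p.W) p.s) := by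
    intro d p
    rw [p.eq, NatTrans.naturality_apply]
    exact map_thin OY.1 _ _ _
  exact eq_of_lifts ι γ OY a hC t _ _ (fun p => by rw [key c p, key c' p, h])

include hC in
theorem desc_unique (c c' : OZ ⟶ γ _* OY.1)
    (h : ∀ (W : Opens Xt) (s : OX.obj (op W)),
      c.app (op ((Opens.map ι).obj W)) (a.app (op W) s) =
        c'.app (op ((Opens.map ι).obj W)) (a.app (op W) s)) : c = c' :=
  NatTrans.ext (funext fun V => ConcreteCategory.hom_ext _ _ fun t =>
    desc_unique_app ι γ OY a hC c c' h V.unop t)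

end Desc

section LRS

open AlgebraicGeometry

variable {Z X Y : LocallyRingedSpace.{u}}

/-- the complement of the image of `i` -/
def compOpen (i : Z ⟶ X) (hi : LRSImm.IsClosedImmersion i) : Opens X.toTopCat :=
  ⟨(Set.range i.base)ᶜ, hi.1.isClosed_range.isOpen_compl⟩

/-- the largest open of `X` whose preimage is `V` -/
def bigOpen (i : Z ⟶ X) (hi : LRSImm.IsClosedImmersion i) (V : Opens Z.toTopCat) :
    Opens X.toTopCat :=
  ⟨(i.base '' ((V : Set Z.toTopCat)ᶜ))ᶜ, (hi.1.isClosedMap _ V.2.isClosed_compl).isOpen_compl⟩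

theorem hC_of (i : Z ⟶ X) (hi : LRSImm.IsClosedImmersion i)
    (V : Opens Z.toTopCat) (t : Z.presheaf.obj (op V)) (z : Z.toTopCat) (hz : z ∈ V) :
    ∃ (W : Opens X.toTopCat) (hW : (Opens.map i.base).obj W ≤ V) (s : X.presheaf.obj (op W)),
      i.base z ∈ W ∧ i.c.app (op W) s = Z.presheaf.map (homOfLE hW).op t := by
  have hB : (Opens.map i.base).obj (bigOpen i hi V) ≤ V := by
    intro w hw
    have hw' : i.base w ∉ i.base '' ((V : Set Z.toTopCat)ᶜ) := hw
    by_contra hwV
    exact hw' ⟨w, hwV, rfl⟩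
  have hzB : i.base z ∈ bigOpen i hi V := by
    show i.base z ∉ i.base '' ((V : Set Z.toTopCat)ᶜ)
    rintro ⟨w, hw, e⟩
    have := hi.1.injective e
    subst this
    exact hw hz
  obtain ⟨W, hWB, ⟨s, hs⟩, hzW⟩ :=
    (TopCat.Presheaf.isLocallySurjective_iff i.c).mp hi.2.1 (bigOpen i hi V)
      (Z.presheaf.map (homOfLE hB).op t) (i.base z) hzB
  have hW : (Opens.map i.base).obj W ≤ V := fun w hw => hB (hWB hw)
  refine ⟨W, hW, s, hzW, hs.trans ?_⟩
  exact map_map_thin Z.presheaf (homOfLE hB).op ((Opens.map i.base).map (homOfLE hWB)).op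
    (homOfLE hW).op t

theorem range_subset (i : Z ⟶ X) (hi : LRSImm.IsClosedImmersion i) (f : Y ⟶ X)
    (hab : ∀ (U : Opens X.toTopCat) (s : X.presheaf.obj (op U)),
      i.c.app (op U) s = 0 → f.c.app (op U) s = 0) (y : Y.toTopCat) :
    ∃ z : Z.toTopCat, i.base z = f.base y := by
  by_contra hy
  have hU : (Opens.map i.base).obj (compOpen i hi) = ⊥ := by
    refine eq_bot_iff.mpr (fun z hz => ?_)
    have hz' : i.base z ∉ Set.range i.base := hz
    exact (hz' ⟨z, rfl⟩).elim
  have hsub : Subsingleton (Z.presheaf.obj (op ((Opens.map i.base).obj (compOpen i hi)))) :=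
    CommRingCat.subsingleton_of_isTerminal (Z.sheaf.isTerminalOfEqEmpty hU)
  have h1 : f.c.app (op (compOpen i hi)) 1 = 0 :=
    hab (compOpen i hi) 1 (@Subsingleton.elim _ hsub _ _)
  have hyU : y ∈ (Opens.map f.base).obj (compOpen i hi) := hy
  have h2 : (1 : Y.presheaf.obj (op ((Opens.map f.base).obj (compOpen i hi)))) = 0 :=
    (map_one (f.c.app (op (compOpen i hi))).hom).symm.trans h1
  have h3 : (1 : Y.presheaf.stalk y) = 0 := by
    have := congrArg (Y.presheaf.germ ((Opens.map f.base).obj (compOpen i hi)) y hyU).hom h2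
    rwa [map_one, map_zero] at this
  exact one_ne_zero h3

theorem exists_base (i : Z ⟶ X) (hi : LRSImm.IsClosedImmersion i) (f : Y ⟶ X)
    (hab : ∀ (U : Opens X.toTopCat) (s : X.presheaf.obj (op U)),
      i.c.app (op U) s = 0 → f.c.app (op U) s = 0) :
    ∃ gbase : Y.toTopCat ⟶ Z.toTopCat, gbase ≫ i.base = f.base := by
  choose g0 hg0 using range_subset i hi f hab
  have hcont' : Continuous (fun y => i.base (g0 y)) := by
    rw [show (fun y => i.base (g0 y)) = (fun y => f.base y) from funext hg0]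
    exact f.base.hom.continuous
  have hcont : Continuous g0 := hi.1.isInducing.continuous_iff.mpr hcont'
  exact ⟨(ConcreteCategory.ofHom (C := TopCat) (ContinuousMap.mk g0 hcont) :
    Y.toTopCat ⟶ Z.toTopCat), ConcreteCategory.hom_ext _ _ fun y => hg0 y⟩

theorem isLocalHom_of_factor (i : Z ⟶ X)
    (hC : ∀ (V : Opens Z.toTopCat) (t : Z.presheaf.obj (op V)) (z : Z.toTopCat), z ∈ V →
      ∃ (W : Opens X.toTopCat) (hW : (Opens.map i.base).obj W ≤ V) (s : X.presheaf.obj (op W)),
        i.base z ∈ W ∧ i.c.app (op W) s = Z.presheaf.map (homOfLE hW).op t)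
    (gH : Y.toPresheafedSpace ⟶ Z.toPresheafedSpace)
    (hf : ∀ y : Y.toTopCat, IsLocalHom ((gH ≫ i.toHom).stalkMap y).hom) (y : Y.toTopCat) :
    IsLocalHom (gH.stalkMap y).hom := by
  constructor
  intro α hα
  obtain ⟨V, hzV, t, rfl⟩ := Z.presheaf.exists_germ_eq α
  obtain ⟨W, hW, s, hz, hs⟩ := hC V t (gH.base y) hzV
  have h6 : (i.toHom.stalkMap (gH.base y)).hom (X.presheaf.germ W (i.base (gH.base y)) hz s) =
      Z.presheaf.germ ((Opens.map i.base).obj W) (gH.base y) hz (i.c.app (op W) s) :=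
    PresheafedSpace.stalkMap_germ_apply i.toHom W (gH.base y) hz s
  have h7 : Z.presheaf.germ ((Opens.map i.base).obj W) (gH.base y) hz (i.c.app (op W) s) =
      Z.presheaf.germ V (gH.base y) hzV t := by
    rw [hs]
    exact Z.presheaf.germ_res_apply (homOfLE hW) (gH.base y) hz t
  have h8 : (i.toHom.stalkMap (gH.base y)).hom (X.presheaf.germ W (i.base (gH.base y)) hz s) =
      Z.presheaf.germ V (gH.base y) hzV t := h6.trans h7
  have hcomp : (gH ≫ i.toHom).stalkMap y = i.toHom.stalkMap (gH.base y) ≫ gH.stalkMap y :=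
    PresheafedSpace.stalkMap.comp gH i.toHom y
  have hα' : IsUnit ((gH.stalkMap y).hom (Z.presheaf.germ V (gH.base y) hzV t)) := hα
  have e : ((gH ≫ i.toHom).stalkMap y).hom (X.presheaf.germ W (i.base (gH.base y)) hz s) =
      (gH.stalkMap y).hom (Z.presheaf.germ V (gH.base y) hzV t) := by
    rw [hcomp]
    exact congrArg (gH.stalkMap y).hom h8
  have hu : IsUnit (((gH ≫ i.toHom).stalkMap y).hom
      (X.presheaf.germ W (i.base (gH.base y)) hz s)) := by
    rw [e]; exact hα'
  have h5 : IsUnit (X.presheaf.germ W (i.base (gH.base y)) hz s) :=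
    (hf y).map_nonunit _ hu
  have h9 : IsUnit (Z.presheaf.germ V (gH.base y) hzV t) := by
    rw [← h8]
    exact h5.map (i.toHom.stalkMap (gH.base y)).hom
  exact h9

theorem core (i : Z ⟶ X) (hi : LRSImm.IsClosedImmersion i)
    (gbase : Y.toTopCat ⟶ Z.toTopCat) (fc : X.presheaf ⟶ (gbase ≫ i.base) _* Y.presheaf)
    (fprop : ∀ y : Y.toTopCat, IsLocalHom
      ((PresheafedSpace.Hom.mk (X := Y.toPresheafedSpace) (Y := X.toPresheafedSpace)
        (gbase ≫ i.base) fc).stalkMap y).hom)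
    (hab : ∀ (U : Opens X.toTopCat) (s : X.presheaf.obj (op U)),
      i.c.app (op U) s = 0 → fc.app (op U) s = 0) :
    ∃ g : Y ⟶ Z, g ≫ i = LocallyRingedSpace.Hom.mk
      (PresheafedSpace.Hom.mk (X := Y.toPresheafedSpace) (Y := X.toPresheafedSpace)
        (gbase ≫ i.base) fc) fprop := by
  have hC := hC_of i hi
  have hc : (i.c ≫ (TopCat.Presheaf.pushforward _ i.base).map
      (desc i.base gbase Y.sheaf i.c fc hab hC) :
      X.presheaf ⟶ (gbase ≫ i.base) _* Y.presheaf) = fc :=
    NatTrans.ext (funext fun W => ConcreteCategory.hom_ext _ _ fun s =>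
      desc_app_a i.base gbase Y.sheaf i.c fc hab hC W.unop s)
  have hfac : @CategoryStruct.comp (PresheafedSpace CommRingCat.{u}) _ Y.toPresheafedSpace
      Z.toPresheafedSpace X.toPresheafedSpace
      (PresheafedSpace.Hom.mk gbase (desc i.base gbase Y.sheaf i.c fc hab hC)) i.toHom =
      PresheafedSpace.Hom.mk (gbase ≫ i.base) fc :=
    congrArg (PresheafedSpace.Hom.mk (X := Y.toPresheafedSpace) (Y := X.toPresheafedSpace)
      (gbase ≫ i.base)) hc
  have hloc : ∀ y : Y.toTopCat, IsLocalHom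
      ((PresheafedSpace.Hom.mk (X := Y.toPresheafedSpace) (Y := Z.toPresheafedSpace)
        gbase (desc i.base gbase Y.sheaf i.c fc hab hC)).stalkMap y).hom := by
    intro y
    refine isLocalHom_of_factor i hC (PresheafedSpace.Hom.mk (X := Y.toPresheafedSpace)
      (Y := Z.toPresheafedSpace) gbase (desc i.base gbase Y.sheaf i.c fc hab hC)) ?_ y
    intro y'
    exact (congrArg (fun φ : Y.toPresheafedSpace ⟶ X.toPresheafedSpace =>
      IsLocalHom (φ.stalkMap y').hom) hfac).mpr (fprop y')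
  exact ⟨LocallyRingedSpace.Hom.mk (PresheafedSpace.Hom.mk gbase
    (desc i.base gbase Y.sheaf i.c fc hab hC)) hloc, LocallyRingedSpace.Hom.ext' hfac⟩

theorem unique_of_eq (i : Z ⟶ X) (hi : LRSImm.IsClosedImmersion i) (g g' : Y ⟶ Z)
    (h : g ≫ i = g' ≫ i) : g = g' := by
  have hb : g.base = g'.base := by
    refine ConcreteCategory.hom_ext _ _ fun y => hi.1.injective ?_
    exact congrArg (fun k : Y ⟶ X => k.base y) h
  obtain ⟨⟨gb, gc⟩, gp⟩ := g
  obtain ⟨⟨gb', gc'⟩, gp'⟩ := g'
  change gb = gb' at hb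
  subst hb
  have h' : (PresheafedSpace.Hom.mk (X := Y.toPresheafedSpace) (Y := X.toPresheafedSpace)
      (gb ≫ i.base) (i.c ≫ (TopCat.Presheaf.pushforward _ i.base).map gc)) =
      PresheafedSpace.Hom.mk (X := Y.toPresheafedSpace) (Y := X.toPresheafedSpace)
      (gb ≫ i.base) (i.c ≫ (TopCat.Presheaf.pushforward _ i.base).map gc') :=
    congrArg LocallyRingedSpace.Hom.toHom h
  have hc : (i.c ≫ (TopCat.Presheaf.pushforward _ i.base).map gc :
      X.presheaf ⟶ (gb ≫ i.base) _* Y.presheaf) =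
      i.c ≫ (TopCat.Presheaf.pushforward _ i.base).map gc' := by
    injection h'
  have hcc : gc = gc' := by
    apply desc_unique i.base gb Y.sheaf i.c (hC_of i hi) gc gc'
    intro W s
    exact congrArg (fun k : X.presheaf ⟶ (gb ≫ i.base) _* Y.presheaf => k.app (op W) s) hc
  subst hcc
  rfl

theorem main (i : Z ⟶ X) (hi : LRSImm.IsClosedImmersion i) (f : Y ⟶ X) :
    ((∃ g : Y ⟶ Z, g ≫ i = f) ↔
      ∀ (U : Opens X.toTopCat) (s : X.presheaf.obj (op U)),
        i.c.app (op U) s = 0 → f.c.app (op U) s = 0) ∧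
    ∀ g g' : Y ⟶ Z, g ≫ i = f → g' ≫ i = f → g = g' := by
  refine ⟨⟨?_, ?_⟩, ?_⟩
  · rintro ⟨g, rfl⟩ U s hs
    show g.c.app (op ((Opens.map i.base).obj U)) (i.c.app (op U) s) = 0
    rw [hs]
    exact map_zero (g.c.app (op ((Opens.map i.base).obj U))).hom
  · intro hab
    obtain ⟨gbase, hg⟩ := exists_base i hi f hab
    obtain ⟨⟨fbase, fc⟩, fprop⟩ := f
    change gbase ≫ i.base = fbase at hg
    subst hg
    exact core i hi gbase fc fprop hab
  · intro g g' h1 h2
    exact unique_of_eq i hi g g' (h1.trans h2.symm)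

end LRS

end Groth.Agent.Helper25.LRSFac
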