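import Mathlib
import Groth.Agent.Lib.Helper25.LTCore

namespace Groth.Agent.Helper25.LTStmts

open MvPowerSeries Groth.Agent.Helper25.LTCore

variable {R : Type*} [CommRing R] (π : R) (q : ℕ)

lemma isLT_of_comm (g : PowerSeries R) (hg0 : PowerSeries.constantCoeff g = 0)
    (hgf : PowerSeries.subst g (π • PowerSeries.X + PowerSeries.X ^ q : PowerSeries R)
      = PowerSeries.subst (π • PowerSeries.X + PowerSeries.X ^ q : PowerSeries R) g) :
    IsLT π q (σ := Unit) g := by
  rw [isLT_iff_statement π q g hg0, hgf, PowerSeries.subst_def]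
  congr 1
  funext i
  exact (PowerSeries.X_subst _).symm

lemma comm_of_isLT (g : PowerSeries R) (hg0 : PowerSeries.constantCoeff g = 0)
    (h : IsLT π q (σ := Unit) g) :
    PowerSeries.subst g (π • PowerSeries.X + PowerSeries.X ^ q : PowerSeries R)
      = PowerSeries.subst (π • PowerSeries.X + PowerSeries.X ^ q : PowerSeries R) g := by
  rw [isLT_iff_statement π q g hg0] at h
  rw [h, PowerSeries.subst_def]
  congr 1
  funext i
  exact (PowerSeries.X_subst _)

lemma reg_of_irreducible {O : Type*} [CommRing O] [IsDomain O] {π : O} (hπ : Irreducible π) :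
    Reg π := by
  intro r hr c hc
  have h1 : π ^ (r + 1) - π = π * (π ^ r - 1) := by ring
  rw [h1] at hc
  have hπ0 : π ≠ 0 := hπ.ne_zero
  have h2 : π ^ r - 1 ≠ 0 := by
    intro h
    have h3 : π ^ r = 1 := sub_eq_zero.mp h
    have h4 : IsUnit π := IsUnit.of_pow_eq_one h3 (by omega)
    exact hπ.not_isUnit h4
  rcases mul_eq_zero.mp hc with h | h
  · exact absurd h (mul_ne_zero hπ0 h2)
  · exact h

lemma two_le_card (k : Type*) [Field k] [Finite k] : 2 ≤ Nat.card k := Finite.one_lt_card

/-- linear coefficient of `g(Z)` for a one-variable `g` -/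
lemma coeff_single_subst_unit {σ : Type*} (g : PowerSeries R)
    (hg0 : PowerSeries.constantCoeff g = 0) (Z : MvPowerSeries σ R) (hZ : constantCoeff Z = 0)
    (i : σ) :
    coeff (Finsupp.single i 1) (subst (fun _ : Unit => Z) g)
      = PowerSeries.coeff 1 g * coeff (Finsupp.single i 1) Z := by
  rw [coeff_single_subst (fun _ : Unit => Z) (fun _ => hZ) g hg0 i]
  simp [PowerSeries.coeff]

theorem s15051 {O : Type*} [CommRing O] [IsDomain O] [IsDiscreteValuationRing O]
    [Finite (IsLocalRing.ResidueField O)] (π : O) (hπ : Irreducible π) (f : PowerSeries O)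
    (hf : f = π • PowerSeries.X + PowerSeries.X ^ Nat.card (IsLocalRing.ResidueField O))
    (F : FormalGroup O)
    (hF : PowerSeries.subst F.toPowerSeries f =
        MvPowerSeries.subst (fun i : Fin 2 =>
          PowerSeries.subst (MvPowerSeries.X i : MvPowerSeries (Fin 2) O) f) F.toPowerSeries)
    (g : PowerSeries O) (hg0 : g.constantCoeff = 0)
    (hgf : PowerSeries.subst g f = PowerSeries.subst f g) :
    PowerSeries.subst F.toPowerSeries g =
      MvPowerSeries.subst (fun i : Fin 2 =>
        PowerSeries.subst (MvPowerSeries.X i : MvPowerSeries (Fin 2) O) g) F.toPowerSeries := by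
  classical
  obtain ⟨q, hqdef⟩ : ∃ q, q = Nat.card (IsLocalRing.ResidueField O) := ⟨_, rfl⟩
  rw [← hqdef] at hf
  have hq : 2 ≤ q := by rw [hqdef]; exact two_le_card _
  have hq1 : 1 ≤ q := by omega
  subst hf
  have hreg := reg_of_irreducible hπ
  have hFLT : IsLT π q F.toPowerSeries :=
    (isLT_iff_statement π q _ F.zero_constantCoeff).mpr hF
  have hgLT : IsLT π q (σ := Unit) g := isLT_of_comm π q g hg0 hgf
  have ha0 : ∀ t : Fin 2, constantCoeff (subst (fun _ : Unit => (X t : MvPowerSeries (Fin 2) O)) g)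
      = 0 := fun t => constantCoeff_subst_zero _ (fun _ => constantCoeff_X t) g hg0
  have haLT : ∀ t : Fin 2, IsLT π q (subst (fun _ : Unit => (X t : MvPowerSeries (Fin 2) O)) g) :=
    fun t => isLT_subst π q hq1 hgLT (fun _ => constantCoeff_X t) (fun _ => isLT_X π q hq1 t)
  rw [PowerSeries.subst_def]
  have hfun : (fun i : Fin 2 =>
      PowerSeries.subst (MvPowerSeries.X i : MvPowerSeries (Fin 2) O) g)
      = fun i : Fin 2 => subst (fun _ : Unit => (X i : MvPowerSeries (Fin 2) O)) g := rfl
  rw [hfun]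
  apply unique_of_isLT π q hq hreg
  · exact constantCoeff_subst_zero _ (fun _ => F.zero_constantCoeff) g hg0
  · exact constantCoeff_subst_zero _ ha0 _ F.zero_constantCoeff
  · intro i
    rw [coeff_single_subst_unit g hg0 _ F.zero_constantCoeff,
      coeff_single_subst _ ha0 _ F.zero_constantCoeff, Fin.sum_univ_two]
    rw [coeff_single_subst_unit g hg0 _ (constantCoeff_X 0),
      coeff_single_subst_unit g hg0 _ (constantCoeff_X 1), F.lin_coeff_X, F.lin_coeff_Y]
    fin_cases i
    · simp [F.lin_coeff_X, coeff_index_single_X]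
    · simp [F.lin_coeff_Y, coeff_index_single_X]
  · exact isLT_subst π q hq1 hgLT (fun _ => F.zero_constantCoeff) (fun _ => hFLT)
  · exact isLT_subst π q hq1 hFLT ha0 haLT

theorem s15060 {O : Type*} [CommRing O] [IsDomain O] [IsDiscreteValuationRing O]
    [Finite (IsLocalRing.ResidueField O)] (π : O) (hπ : Irreducible π) (f : PowerSeries O)
    (hf : f = π • PowerSeries.X + PowerSeries.X ^ Nat.card (IsLocalRing.ResidueField O))
    (F : FormalGroup O)
    (hF : PowerSeries.subst F.toPowerSeries f =
        MvPowerSeries.subst (fun i : Fin 2 =>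
          PowerSeries.subst (MvPowerSeries.X i : MvPowerSeries (Fin 2) O) f)
          F.toPowerSeries)
    (α β : O) (gα gβ gαβ gs : PowerSeries O)
    (hα0 : gα.constantCoeff = 0) (hα1 : gα.coeff 1 = α)
    (hαf : PowerSeries.subst gα f = PowerSeries.subst f gα)
    (hβ0 : gβ.constantCoeff = 0) (hβ1 : gβ.coeff 1 = β)
    (hβf : PowerSeries.subst gβ f = PowerSeries.subst f gβ)
    (hαβ0 : gαβ.constantCoeff = 0) (hαβ1 : gαβ.coeff 1 = α * β)
    (hαβf : PowerSeries.subst gαβ f = PowerSeries.subst f gαβ)
    (hs0 : gs.constantCoeff = 0) (hs1 : gs.coeff 1 = α + β)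
    (hsf : PowerSeries.subst gs f = PowerSeries.subst f gs) :
    PowerSeries.subst gβ gα = gαβ ∧ F.toPowerSeries.subst ![gα, gβ] = gs := by
  classical
  obtain ⟨q, hqdef⟩ : ∃ q, q = Nat.card (IsLocalRing.ResidueField O) := ⟨_, rfl⟩
  rw [← hqdef] at hf
  have hq : 2 ≤ q := by rw [hqdef]; exact two_le_card _
  have hq1 : 1 ≤ q := by omega
  subst hf
  have hreg := reg_of_irreducible hπ
  have hFLT : IsLT π q F.toPowerSeries :=
    (isLT_iff_statement π q _ F.zero_constantCoeff).mpr hF
  have hαLT : IsLT π q (σ := Unit) gα := isLT_of_comm π q gα hα0 hαf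
  have hβLT : IsLT π q (σ := Unit) gβ := isLT_of_comm π q gβ hβ0 hβf
  have hαβLT : IsLT π q (σ := Unit) gαβ := isLT_of_comm π q gαβ hαβ0 hαβf
  have hsLT : IsLT π q (σ := Unit) gs := isLT_of_comm π q gs hs0 hsf
  constructor
  · rw [PowerSeries.subst_def]
    apply unique_of_isLT π q hq hreg (σ := Unit)
    · exact constantCoeff_subst_zero _ (fun _ => hβ0) gα hα0
    · exact hαβ0
    · intro i
      rw [coeff_single_subst_unit gα hα0 gβ hβ0, hα1]
      have h1 : coeff (Finsupp.single i 1) gβ = β := hβ1
      have h2 : coeff (Finsupp.single i 1) gαβ = α * β := hαβ1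
      rw [h1, h2]
    · exact isLT_subst π q hq1 hαLT (fun _ => hβ0) (fun _ => hβLT)
    · exact hαβLT
  · have ha0 : ∀ t : Fin 2, constantCoeff ((![gα, gβ] : Fin 2 → PowerSeries O) t) = 0 := by
      intro t; fin_cases t
      · exact hα0
      · exact hβ0
    have haLT : ∀ t : Fin 2, IsLT π q (σ := Unit) ((![gα, gβ] : Fin 2 → PowerSeries O) t) := by
      intro t; fin_cases t
      · exact hαLT
      · exact hβLT
    apply unique_of_isLT π q hq hreg (σ := Unit)
    · exact constantCoeff_subst_zero _ ha0 _ F.zero_constantCoeff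
    · exact hs0
    · intro i
      rw [coeff_single_subst _ ha0 _ F.zero_constantCoeff, Fin.sum_univ_two, F.lin_coeff_X,
        F.lin_coeff_Y]
      have h1 : coeff (Finsupp.single i 1) gα = α := hα1
      have h2 : coeff (Finsupp.single i 1) gβ = β := hβ1
      have h3 : coeff (Finsupp.single i 1) gs = α + β := hs1
      simp only [Matrix.cons_val_zero, Matrix.cons_val_one, one_mul]
      rw [h3]
      show coeff (Finsupp.single i 1) gα + coeff (Finsupp.single i 1) gβ = α + β
      rw [h1, h2]
    · exact isLT_subst π q hq1 hFLT ha0 haLT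
    · exact hsLT

end Groth.Agent.Helper25.LTStmts
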