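import Mathlib
import Groth.Agent.Lib.Helper25.LTCore
import Groth.Agent.Lib.Helper25.LTExist
import Groth.Agent.Lib.Helper25.LTStmts

namespace Groth.Agent.Helper25.LTLog

open MvPowerSeries Groth.Agent.Helper25.LTCore Groth.Agent.Helper25.LTExist
  Groth.Agent.Helper25.LTStmts

variable {R : Type*} [CommRing R] {σ τ : Type*} (π : R) (q : ℕ)

/-- `Φ ∘ f = π Φ` -/
def IsLog (Φ : MvPowerSeries σ R) : Prop := subst (th π q σ) Φ = C π * Φ

lemma isLog_subst [Finite τ] [Finite σ] (hq : 1 ≤ q) {G : MvPowerSeries τ R} (hG : IsLog π q G)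
    {a : τ → MvPowerSeries σ R} (ha0 : ∀ t, constantCoeff (a t) = 0)
    (ha : ∀ t, IsLT π q (a t)) : IsLog π q (subst a G) := by
  have hsa : HasSubst a := hasSubst_of_constantCoeff_zero ha0
  have hsσ : HasSubst (th π q σ) := hasSubst_th π q hq
  have hsτ : HasSubst (th π q τ) := hasSubst_th π q hq
  unfold IsLog
  rw [subst_comp_subst_apply hsa hsσ]
  have h1 : (fun t => subst (th π q σ) (a t)) = fun t => subst a (th π q τ t) := by
    funext t
    rw [ha t]
    unfold th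
    rw [subst_add hsa, subst_mul hsa, subst_C, subst_pow hsa, subst_X hsa]
  rw [h1, ← subst_comp_subst_apply hsτ hsa, hG, subst_mul hsa, subst_C]

lemma isLT_map {S : Type*} [CommRing S] [Finite σ] (hq : 1 ≤ q) (h : R →+* S)
    {Φ : MvPowerSeries σ R} (hΦ : IsLT π q Φ) : IsLT (h π) q (map h Φ) := by
  unfold IsLT at hΦ ⊢
  have h2 := congrArg (map h) hΦ
  rw [map_subst (hasSubst_th π q hq), map_add, map_mul, map_pow, map_C] at h2
  have h3 : (fun i => map h (th π q σ i)) = th (h π) q σ := by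
    funext i; unfold th; rw [map_add, map_mul, map_pow, map_C, map_X]
  rw [h3] at h2
  exact h2

/-- the linearisation defect -/
noncomputable def Λ (Φ : MvPowerSeries σ R) : MvPowerSeries σ R :=
  subst (th π q σ) Φ - C π * Φ

lemma Λ_add [Finite σ] (hq : 1 ≤ q) (Φ E : MvPowerSeries σ R) :
    Λ π q (Φ + E) = Λ π q Φ + Λ π q E := by
  unfold Λ
  rw [subst_add (hasSubst_th π q hq)]
  ring

lemma Λ_sub [Finite σ] (hq : 1 ≤ q) (Φ E : MvPowerSeries σ R) :
    Λ π q (Φ - E) = Λ π q Φ - Λ π q E := by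
  unfold Λ
  rw [subst_sub (hasSubst_th π q hq)]
  ring

lemma coeff_Λ [Finite σ] (hq : 2 ≤ q) {r : ℕ} {E : MvPowerSeries σ R}
    (hE : E ∈ J σ R r) (m : σ →₀ ℕ) (hm : m.degree ≤ r + 1) :
    coeff m (Λ π q E) = (π ^ m.degree - π) * coeff m E := by
  unfold Λ
  rw [map_sub, coeff_subst_th π q hq hE m hm, coeff_C_mul]
  ring

/-- the approximating sequence for the logarithm -/
noncomputable def Ls [Fintype σ] (a : σ → R) : ℕ → MvPowerSeries σ R
  | 0 => ∑ i, C (a i) * X i
  | (n + 1) => Ls a n + C (-(Ring.inverse (π ^ (n + 2) - π))) * hcomp (n + 2) (Λ π q (Ls a n))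

theorem exists_isLog [Fintype σ] (hq : 2 ≤ q)
    (hunit : ∀ r : ℕ, 1 ≤ r → IsUnit (π ^ (r + 1) - π)) (a : σ → R) :
    ∃ Φ : MvPowerSeries σ R, constantCoeff Φ = 0 ∧
      (∀ i, coeff (Finsupp.single i 1) Φ = a i) ∧ IsLog π q Φ := by
  classical
  have hq1 : 1 ≤ q := by omega
  have hE : ∀ n, C (-(Ring.inverse (π ^ (n + 2) - π))) * hcomp (n + 2) (Λ π q (Ls π q a n))
      ∈ J σ R (n + 1) := by
    intro n
    apply Ideal.mul_mem_left
    intro m hm
    rw [coeff_hcomp, if_neg (by omega)]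
  have hQ0 : ∀ n, constantCoeff (Ls π q a n) = 0 := by
    intro n
    induction n with
    | zero => simp [Ls]
    | succ n ih =>
      show constantCoeff (Ls π q a n + _) = 0
      rw [map_add, ih, constantCoeff_of_mem_J (hE n), add_zero]
  have hΛ : ∀ n, Λ π q (Ls π q a n) ∈ J σ R (n + 1) := by
    intro n
    induction n with
    | zero =>
      have hL : Ls π q a 0 ∈ J σ R 0 := mem_J_zero.mpr (hQ0 0)
      intro m hm
      rw [coeff_Λ π q hq hL m hm]
      rcases Nat.eq_zero_or_pos m.degree with h | h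
      · rw [hL m (by omega), mul_zero]
      · have h1 : m.degree = 1 := by omega
        rw [h1, pow_one, sub_self, zero_mul]
    | succ n ih =>
      intro m hm
      show coeff m (Λ π q (Ls π q a n + _)) = 0
      rw [Λ_add π q hq1, map_add, coeff_Λ π q hq (hE n) m hm, coeff_C_mul, coeff_hcomp]
      by_cases hdeg : m.degree = n + 2
      · rw [if_pos hdeg, hdeg]
        have hu := Ring.mul_inverse_cancel _ (hunit (n + 1) (by omega))
        linear_combination (-coeff m (Λ π q (Ls π q a n))) * hu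
      · rw [if_neg hdeg, mul_zero, mul_zero, add_zero]
        exact ih m (by omega)
  have hcongr : ∀ (N : ℕ) (Φ Ψ : MvPowerSeries σ R), constantCoeff Ψ = 0 → Φ - Ψ ∈ J σ R N →
      Λ π q Φ - Λ π q Ψ ∈ J σ R N := by
    intro N Φ Ψ _ h
    rw [← Λ_sub π q hq1]
    unfold Λ
    exact Ideal.sub_mem _ (subst_th_mem_J π q hq h) (Ideal.mul_mem_left _ _ h)
  obtain ⟨Φ, hΦ, hΦΛ⟩ := exists_limit (Λ π q) hcongr
    (Ls π q a) hQ0 (fun n => by
      show Ls π q a n + _ - Ls π q a n ∈ _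
      rw [add_sub_cancel_left]; exact hE n) hΛ
  refine ⟨Φ, ?_, ?_, ?_⟩
  · have := hΦ 0 0 (by simp)
    rw [map_sub, sub_eq_zero, coeff_zero_eq_constantCoeff_apply,
      coeff_zero_eq_constantCoeff_apply, hQ0 0] at this
    exact this
  · intro i
    have := hΦ 0 (Finsupp.single i 1) (by rw [Finsupp.degree_single])
    rw [map_sub, sub_eq_zero] at this
    rw [this]
    show coeff (Finsupp.single i 1) (∑ j, C (a j) * X j) = a i
    rw [map_sum]
    simp only [coeff_C_mul, coeff_index_single_X]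
    simp
  · unfold IsLog
    unfold Λ at hΦΛ
    exact sub_eq_zero.mp hΦΛ

theorem isLog_unique [Finite σ] (hq : 2 ≤ q) (hreg : Reg π) {Φ Ψ : MvPowerSeries σ R}
    (hΦ0 : constantCoeff Φ = 0) (hΨ0 : constantCoeff Ψ = 0)
    (hlin : ∀ i, coeff (Finsupp.single i 1) Φ = coeff (Finsupp.single i 1) Ψ)
    (hΦ : IsLog π q Φ) (hΨ : IsLog π q Ψ) : Φ = Ψ := by
  have hE1 : Φ - Ψ ∈ J σ R 1 := by
    apply mem_J_one_of
    · rw [map_sub, hΦ0, hΨ0, sub_zero]
    · intro i; rw [map_sub, hlin i, sub_self]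
  have h : subst (th π q σ) (Φ - Ψ) = C π * (Φ - Ψ) := by
    unfold IsLog at hΦ hΨ
    rw [subst_sub (hasSubst_th π q (by omega)), hΦ, hΨ]; ring
  exact sub_eq_zero.mp (eq_zero_of_subst_th π q hq hreg hE1 h)

end Groth.Agent.Helper25.LTLog
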