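import Mathlib
import Groth.Agent.Lib.Helper25.LTCore
import Groth.Agent.Lib.Helper25.LTExist
import Groth.Agent.Lib.Helper25.LTStmts

namespace Groth.Agent.Helper25.LTStmts2

open MvPowerSeries Groth.Agent.Helper25.LTCore Groth.Agent.Helper25.LTExist
  Groth.Agent.Helper25.LTStmts

theorem s15050 {O : Type*} [CommRing O] [IsDomain O] [IsDiscreteValuationRing O]
    [Finite (IsLocalRing.ResidueField O)] (π : O) (hπ : Irreducible π) (f : PowerSeries O)
    (hf : f = π • PowerSeries.X + PowerSeries.X ^ Nat.card (IsLocalRing.ResidueField O)) (α : O) :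
    ∃! g : PowerSeries O, g.constantCoeff = 0 ∧ g.coeff 1 = α ∧
      PowerSeries.subst g f = PowerSeries.subst f g := by
  classical
  obtain ⟨Φ, hΦ0, hΦ1, hΦLT⟩ := exists_isLT_dvr (σ := Unit) π hπ (fun _ => α)
  obtain ⟨q, hqdef⟩ : ∃ q, q = Nat.card (IsLocalRing.ResidueField O) := ⟨_, rfl⟩
  rw [← hqdef] at hf hΦLT
  have hq : 2 ≤ q := by rw [hqdef]; exact two_le_card _
  subst hf
  have hreg := reg_of_irreducible hπ
  refine ⟨Φ, ⟨hΦ0, hΦ1 (), comm_of_isLT π q Φ hΦ0 hΦLT⟩, ?_⟩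
  rintro g ⟨hg0, hg1, hgf⟩
  apply unique_of_isLT π q hq hreg (σ := Unit) hg0 hΦ0 _ (isLT_of_comm π q g hg0 hgf) hΦLT
  intro i
  rw [hΦ1 i]
  exact hg1

theorem s15049 {O : Type*} [CommRing O] [IsDomain O] [IsDiscreteValuationRing O]
    [Finite (IsLocalRing.ResidueField O)] (π : O) (hπ : Irreducible π) (f : PowerSeries O)
    (hf : f = π • PowerSeries.X + PowerSeries.X ^ Nat.card (IsLocalRing.ResidueField O)) :
    ∃ F : FormalGroup O, F.IsComm ∧
      PowerSeries.subst F.toPowerSeries f =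
        MvPowerSeries.subst (fun i : Fin 2 =>
          PowerSeries.subst (MvPowerSeries.X i : MvPowerSeries (Fin 2) O) f) F.toPowerSeries ∧
      ∀ G : MvPowerSeries (Fin 2) O, G.constantCoeff = 0 → G.coeff (Finsupp.single 0 1) = 1 →
        G.coeff (Finsupp.single 1 1) = 1 →
        PowerSeries.subst G f =
        MvPowerSeries.subst (fun i : Fin 2 =>
          PowerSeries.subst (MvPowerSeries.X i : MvPowerSeries (Fin 2) O) f) G →
        G = F.toPowerSeries := by
  classical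
  obtain ⟨Φ, hΦ0, hΦ1, hΦLT⟩ := exists_isLT_dvr (σ := Fin 2) π hπ (fun _ => 1)
  obtain ⟨q, hqdef⟩ : ∃ q, q = Nat.card (IsLocalRing.ResidueField O) := ⟨_, rfl⟩
  rw [← hqdef] at hf hΦLT
  have hq : 2 ≤ q := by rw [hqdef]; exact two_le_card _
  have hq1 : 1 ≤ q := by omega
  subst hf
  have hreg := reg_of_irreducible hπ
  -- generic facts about Φ(a, b)
  have hsub0 : ∀ {τ : Type} [Fintype τ] (a : Fin 2 → MvPowerSeries τ O),
      (∀ t, constantCoeff (a t) = 0) → constantCoeff (subst a Φ) = 0 :=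
    fun a ha => constantCoeff_subst_zero a ha Φ hΦ0
  have hsubLT : ∀ {τ : Type} [Fintype τ] (a : Fin 2 → MvPowerSeries τ O),
      (∀ t, constantCoeff (a t) = 0) → (∀ t, IsLT π q (a t)) → IsLT π q (subst a Φ) :=
    fun a ha ha' => isLT_subst π q hq1 hΦLT ha ha'
  have hsublin : ∀ {τ : Type} [Fintype τ] (a : Fin 2 → MvPowerSeries τ O),
      (∀ t, constantCoeff (a t) = 0) → ∀ i : τ, coeff (Finsupp.single i 1) (subst a Φ)
        = coeff (Finsupp.single i 1) (a 0) + coeff (Finsupp.single i 1) (a 1) := by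
    intro τ _ a ha i
    rw [coeff_single_subst a ha Φ hΦ0 i, Fin.sum_univ_two, hΦ1 0, hΦ1 1, one_mul, one_mul]
  -- Φ(X0, X1) in three variables etc.
  have c01 : ∀ t : Fin 2, constantCoeff ((![X 0, X 1] : Fin 2 → MvPowerSeries (Fin 3) O) t) = 0 := by
    intro t; fin_cases t <;> simp
  have c12 : ∀ t : Fin 2, constantCoeff ((![X 1, X 2] : Fin 2 → MvPowerSeries (Fin 3) O) t) = 0 := by
    intro t; fin_cases t <;> simp
  have l01 : ∀ t : Fin 2, IsLT π q ((![X 0, X 1] : Fin 2 → MvPowerSeries (Fin 3) O) t) := by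
    intro t; fin_cases t
    · exact isLT_X π q hq1 0
    · exact isLT_X π q hq1 1
  have l12 : ∀ t : Fin 2, IsLT π q ((![X 1, X 2] : Fin 2 → MvPowerSeries (Fin 3) O) t) := by
    intro t; fin_cases t
    · exact isLT_X π q hq1 1
    · exact isLT_X π q hq1 2
  have ca1 : ∀ t : Fin 2, constantCoeff ((![subst ![X 0, X 1] Φ, X 2] :
      Fin 2 → MvPowerSeries (Fin 3) O) t) = 0 := by
    intro t; fin_cases t
    · exact hsub0 _ c01
    · exact constantCoeff_X 2
  have ca2 : ∀ t : Fin 2, constantCoeff ((![X 0, subst ![X 1, X 2] Φ] :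
      Fin 2 → MvPowerSeries (Fin 3) O) t) = 0 := by
    intro t; fin_cases t
    · exact constantCoeff_X 0
    · exact hsub0 _ c12
  have la1 : ∀ t : Fin 2, IsLT π q ((![subst ![X 0, X 1] Φ, X 2] :
      Fin 2 → MvPowerSeries (Fin 3) O) t) := by
    intro t; fin_cases t
    · exact hsubLT _ c01 l01
    · exact isLT_X π q hq1 2
  have la2 : ∀ t : Fin 2, IsLT π q ((![X 0, subst ![X 1, X 2] Φ] :
      Fin 2 → MvPowerSeries (Fin 3) O) t) := by
    intro t; fin_cases t
    · exact isLT_X π q hq1 0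
    · exact hsubLT _ c12 l12
  have hassoc : subst ![subst ![X 0, X 1] Φ, X 2] Φ
      = (subst ![X 0, subst ![X 1, X 2] Φ] Φ : MvPowerSeries (Fin 3) O) := by
    apply unique_of_isLT π q hq hreg (hsub0 _ ca1) (hsub0 _ ca2) _ (hsubLT _ ca1 la1)
      (hsubLT _ ca2 la2)
    intro i
    rw [hsublin _ ca1, hsublin _ ca2]
    simp only [Matrix.cons_val_zero, Matrix.cons_val_one]
    rw [hsublin _ c01, hsublin _ c12]
    simp only [Matrix.cons_val_zero, Matrix.cons_val_one]
    fin_cases i <;> simp [coeff_index_single_X]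
  have cs : ∀ t : Fin 2, constantCoeff ((![X 1, X 0] : Fin 2 → MvPowerSeries (Fin 2) O) t) = 0 := by
    intro t; fin_cases t <;> simp
  have ls : ∀ t : Fin 2, IsLT π q ((![X 1, X 0] : Fin 2 → MvPowerSeries (Fin 2) O) t) := by
    intro t; fin_cases t
    · exact isLT_X π q hq1 1
    · exact isLT_X π q hq1 0
  have hcomm : Φ = subst ![X 1, X 0] Φ := by
    apply unique_of_isLT π q hq hreg hΦ0 (hsub0 _ cs) _ hΦLT (hsubLT _ cs ls)
    intro i
    rw [hsublin _ cs, hΦ1 i]
    fin_cases i <;> simp [coeff_index_single_X]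
  let F : FormalGroup O :=
    { toPowerSeries := Φ
      zero_constantCoeff := hΦ0
      lin_coeff_X := hΦ1 0
      lin_coeff_Y := hΦ1 1
      assoc := hassoc }
  refine ⟨F, ⟨hcomm⟩, (isLT_iff_statement π q Φ hΦ0).mp hΦLT, ?_⟩
  intro G hG0 hG1 hG2 hGf
  apply unique_of_isLT π q hq hreg hG0 hΦ0 _ ((isLT_iff_statement π q G hG0).mpr hGf) hΦLT
  intro i
  rw [hΦ1 i]
  fin_cases i
  · exact hG1
  · exact hG2

end Groth.Agent.Helper25.LTStmts2
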