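import Mathlib
import Groth.Agent.Lib.Helper25.LTCore
import Groth.Agent.Lib.Helper25.LTExist
import Groth.Agent.Lib.Helper25.LTStmts
import Groth.Agent.Lib.Helper25.LTLog

namespace Groth.Agent.Helper25.LTStmts3

open MvPowerSeries Groth.Agent.Helper25.LTCore Groth.Agent.Helper25.LTExist
  Groth.Agent.Helper25.LTStmts Groth.Agent.Helper25.LTLog

lemma isLog_iff_comm {R : Type*} [CommRing R] (π : R) (q : ℕ) (ℓ : PowerSeries R) :
    IsLog π q (σ := Unit) ℓ ↔
      PowerSeries.subst (π • PowerSeries.X + PowerSeries.X ^ q : PowerSeries R) ℓ = π • ℓ := by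
  unfold IsLog
  have : th π q Unit = fun _ => (π • PowerSeries.X + PowerSeries.X ^ q : PowerSeries R) := by
    funext i
    unfold th
    rw [← smul_eq_C_mul]
    rfl
  rw [this, PowerSeries.subst_def, ← smul_eq_C_mul]

theorem s15052 {O : Type*} [CommRing O] [IsDomain O] [IsDiscreteValuationRing O]
    [Finite (IsLocalRing.ResidueField O)] {K : Type*} [Field K] [Algebra O K] [IsFractionRing O K]
    (π : O) (hπ : Irreducible π) (f : PowerSeries O)
    (hf : f = π • PowerSeries.X + PowerSeries.X ^ Nat.card (IsLocalRing.ResidueField O))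
    (F : FormalGroup O)
    (hF : PowerSeries.subst F.toPowerSeries f =
        MvPowerSeries.subst (fun i : Fin 2 =>
          PowerSeries.subst (MvPowerSeries.X i : MvPowerSeries (Fin 2) O) f) F.toPowerSeries) :
    ∃ ℓ : PowerSeries K, (ℓ.constantCoeff = 0 ∧ ℓ.coeff 1 = 1 ∧
      PowerSeries.subst (PowerSeries.map (algebraMap O K) f) ℓ = algebraMap O K π • ℓ) ∧
      (∀ ℓ' : PowerSeries K, ℓ'.constantCoeff = 0 → ℓ'.coeff 1 = 1 →
        PowerSeries.subst (PowerSeries.map (algebraMap O K) f) ℓ' = algebraMap O K π • ℓ' →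
          ℓ' = ℓ) ∧
      PowerSeries.subst ((F.toPowerSeries).map (algebraMap O K)) ℓ =
        PowerSeries.subst (MvPowerSeries.X (0 : Fin 2) : MvPowerSeries (Fin 2) K) ℓ +
          PowerSeries.subst (MvPowerSeries.X (1 : Fin 2) : MvPowerSeries (Fin 2) K) ℓ ∧
      (∀ (α : O) (g : PowerSeries O), g.constantCoeff = 0 → g.coeff 1 = α →
        PowerSeries.subst g f = PowerSeries.subst f g →
        PowerSeries.subst (PowerSeries.map (algebraMap O K) g) ℓ = algebraMap O K α • ℓ) := by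
  classical
  obtain ⟨q, hqdef⟩ : ∃ q, q = Nat.card (IsLocalRing.ResidueField O) := ⟨_, rfl⟩
  rw [← hqdef] at hf
  have hq : 2 ≤ q := by rw [hqdef]; exact two_le_card _
  have hq1 : 1 ≤ q := by omega
  subst hf
  obtain ⟨ϖ, hϖ⟩ : ∃ ϖ : K, ϖ = algebraMap O K π := ⟨_, rfl⟩
  have hinj : Function.Injective (algebraMap O K) := IsFractionRing.injective O K
  have hϖr : ∀ r, 1 ≤ r → ϖ ^ (r + 1) - ϖ ≠ 0 := by
    intro r hr h
    have h1 : algebraMap O K (π ^ (r + 1) - π) = 0 := by rw [map_sub, map_pow, ← hϖ]; exact h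
    have h2 : π ^ (r + 1) - π = 0 := hinj (by rw [h1, map_zero])
    have := reg_of_irreducible hπ r hr 1 (by rw [h2, zero_mul])
    exact one_ne_zero this
  have hregK : Reg ϖ := fun r hr c hc => (mul_eq_zero.mp hc).resolve_left (hϖr r hr)
  have hunitK : ∀ r, 1 ≤ r → IsUnit (ϖ ^ (r + 1) - ϖ) := fun r hr => (hϖr r hr).isUnit
  have hfK : PowerSeries.map (algebraMap O K) (π • PowerSeries.X + PowerSeries.X ^ q)
      = ϖ • PowerSeries.X + PowerSeries.X ^ q := by
    rw [map_add, map_pow, PowerSeries.map_X, PowerSeries.smul_eq_C_mul, map_mul,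
      PowerSeries.map_C, PowerSeries.map_X, ← PowerSeries.smul_eq_C_mul, hϖ]
  rw [hfK, ← hϖ]
  have hFLT : IsLT π q F.toPowerSeries :=
    (isLT_iff_statement π q _ F.zero_constantCoeff).mpr hF
  obtain ⟨ℓ, hℓ0, hℓ1, hℓlog⟩ := exists_isLog (σ := Unit) ϖ q hq hunitK (fun _ => 1)
  have hℓ1' : PowerSeries.coeff 1 ℓ = 1 := hℓ1 ()
  refine ⟨ℓ, ⟨hℓ0, hℓ1', (isLog_iff_comm ϖ q ℓ).mp hℓlog⟩, ?_, ?_, ?_⟩
  · intro ℓ' h0 h1 hc
    apply isLog_unique ϖ q hq hregK (σ := Unit) h0 hℓ0 _ ((isLog_iff_comm ϖ q ℓ').mpr hc) hℓlog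
    intro i
    rw [hℓ1 i]
    exact h1
  · obtain ⟨FK, hFKdef⟩ : ∃ FK : MvPowerSeries (Fin 2) K,
      FK = (F.toPowerSeries).map (algebraMap O K) := ⟨_, rfl⟩
    rw [← hFKdef]
    have hFK0 : constantCoeff FK = 0 := by
      rw [hFKdef, constantCoeff_map, F.zero_constantCoeff, map_zero]
    have hFKLT : IsLT ϖ q FK := by
      rw [hFKdef, hϖ]; exact isLT_map π q hq1 _ hFLT
    have hFKlin : ∀ i : Fin 2, coeff (Finsupp.single i 1) FK = 1 := by
      intro i
      rw [hFKdef, coeff_map]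
      fin_cases i
      · show algebraMap O K (coeff (Finsupp.single 0 1) F.toPowerSeries) = 1
        rw [F.lin_coeff_X, map_one]
      · show algebraMap O K (coeff (Finsupp.single 1 1) F.toPowerSeries) = 1
        rw [F.lin_coeff_Y, map_one]
    rw [PowerSeries.subst_def, PowerSeries.subst_def, PowerSeries.subst_def]
    have hA : IsLog ϖ q (subst (fun _ : Unit => FK) ℓ) :=
      isLog_subst ϖ q hq1 hℓlog (fun _ => hFK0) (fun _ => hFKLT)
    have hB : ∀ j : Fin 2, IsLog ϖ q (subst (fun _ : Unit => (X j : MvPowerSeries (Fin 2) K)) ℓ) :=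
      fun j => isLog_subst ϖ q hq1 hℓlog (fun _ => constantCoeff_X j) (fun _ => isLT_X ϖ q hq1 j)
    have hBsum : IsLog ϖ q (subst (fun _ : Unit => (X 0 : MvPowerSeries (Fin 2) K)) ℓ
        + subst (fun _ : Unit => (X 1 : MvPowerSeries (Fin 2) K)) ℓ) := by
      have h0 := hB 0
      have h1 := hB 1
      unfold IsLog at h0 h1 ⊢
      rw [subst_add (hasSubst_th ϖ q hq1), h0, h1]; ring
    apply isLog_unique ϖ q hq hregK _ _ _ hA hBsum
    · exact constantCoeff_subst_zero _ (fun _ => hFK0) ℓ hℓ0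
    · rw [map_add, constantCoeff_subst_zero _ (fun _ => constantCoeff_X 0) ℓ hℓ0,
        constantCoeff_subst_zero _ (fun _ => constantCoeff_X 1) ℓ hℓ0, add_zero]
    · intro i
      rw [map_add, coeff_single_subst_unit ℓ hℓ0 FK hFK0, coeff_single_subst_unit ℓ hℓ0 _
        (constantCoeff_X 0), coeff_single_subst_unit ℓ hℓ0 _ (constantCoeff_X 1), hFKlin i, hℓ1']
      fin_cases i <;> simp [coeff_index_single_X]
  · intro α g hg0 hg1 hgf
    have hgLT : IsLT π q (σ := Unit) g := isLT_of_comm π q g hg0 hgf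
    obtain ⟨gK, hgKdef⟩ : ∃ gK : PowerSeries K, gK = PowerSeries.map (algebraMap O K) g :=
      ⟨_, rfl⟩
    rw [← hgKdef]
    have hgK' : gK = MvPowerSeries.map (algebraMap O K) g := hgKdef
    have hgK0 : constantCoeff gK = 0 := by
      rw [hgK', constantCoeff_map]
      have : constantCoeff g = 0 := hg0
      rw [this, map_zero]
    have hgKLT : IsLT ϖ q (σ := Unit) gK := by
      rw [hgK', hϖ]; exact isLT_map π q hq1 _ hgLT
    have hgK1 : coeff (Finsupp.single () 1) gK = algebraMap O K α := by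
      rw [hgK', coeff_map]
      have : coeff (Finsupp.single () 1) g = α := hg1
      rw [this]
    rw [PowerSeries.subst_def, smul_eq_C_mul]
    have hA : IsLog ϖ q (subst (fun _ : Unit => gK) ℓ) :=
      isLog_subst ϖ q hq1 hℓlog (fun _ => hgK0) (fun _ => hgKLT)
    have hB : IsLog ϖ q (σ := Unit) (C (algebraMap O K α) * ℓ) := by
      unfold IsLog at hℓlog ⊢
      rw [subst_mul (hasSubst_th ϖ q hq1), subst_C, hℓlog]; ring
    apply isLog_unique ϖ q hq hregK (σ := Unit) _ _ _ hA hB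
    · exact constantCoeff_subst_zero _ (fun _ => hgK0) ℓ hℓ0
    · rw [map_mul, hℓ0, mul_zero]
    · intro i
      rw [coeff_single_subst_unit ℓ hℓ0 gK hgK0, coeff_C_mul, hℓ1', hℓ1 i, hgK1, one_mul, mul_one]

end Groth.Agent.Helper25.LTStmts3
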