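import Groth.Prelude.Def_W4c4cptpiccptjacBI
import Mathlib.Tactic

/-!
# Helper library (helper25): the Basic Inequality on weighted multigraphs and twists
-/

set_option autoImplicit false
set_option linter.unusedSectionVars false
set_option linter.unusedSimpArgs false

universe u

namespace Groth.Agent.Helper25.LabGraphLib

open LabGraph

variable {V E : Type u} [Fintype V] [Fintype E] [DecidableEq V] [DecidableEq E]

/-- crossing indicator of an edge for a vertex set -/
def cross (ends : E → V × V) (Y : Finset V) (e : E) : ℤ :=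
  if ((ends e).1 ∈ Y ∧ (ends e).2 ∉ Y) ∨ ((ends e).1 ∉ Y ∧ (ends e).2 ∈ Y) then 1 else 0

theorem cut_eq_sum (ends : E → V × V) (Y : Finset V) :
    (cut ends Y : ℤ) = ∑ e, cross ends Y e := by
  unfold cut cross
  rw [Finset.card_filter]
  push_cast
  rfl

theorem sum_twist (ends : E → V × V) (φ : V → ℤ) (Y : Finset V) :
    ∑ v ∈ Y, twist ends φ v =
      ∑ e, ((if (ends e).1 ∈ Y then φ (ends e).2 - φ (ends e).1 else 0) +
        (if (ends e).2 ∈ Y then φ (ends e).1 - φ (ends e).2 else 0)) := by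
  unfold twist
  rw [Finset.sum_comm]
  refine Finset.sum_congr rfl fun e _ => ?_
  rw [Finset.sum_add_distrib, Finset.sum_ite_eq, Finset.sum_ite_eq]

theorem sum_endCount (ends : E → V × V) :
    ∑ v : V, (endCount ends Finset.univ v : ℤ) = 2 * (Fintype.card E : ℤ) := by
  unfold endCount
  push_cast
  rw [Finset.sum_comm]
  simp only [Finset.sum_add_distrib, Finset.sum_ite_eq, Finset.mem_univ, if_true]
  simp
  ring

theorem canDeg_univ (ends : E → V × V) (w : V → ℕ) :
    canDeg ends w Finset.univ = 2 * genus ends w - 2 := by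
  unfold canDeg genus
  rw [Finset.sum_add_distrib, Finset.sum_sub_distrib, sum_endCount, ← Finset.mul_sum]
  simp
  ring

theorem two_abs_le_iff (a b : ℤ) : 2 * |a| ≤ b ↔ (2 * a ≤ b ∧ -(2 * a) ≤ b) := by
  rw [show (2 : ℤ) * |a| = |2 * a| by rw [abs_mul, abs_two], abs_le]
  constructor <;> rintro ⟨h1, h2⟩ <;> constructor <;> linarith

theorem canDeg_union (ends : E → V × V) (w : V → ℕ) {A B : Finset V} (h : Disjoint A B) :
    canDeg ends w (A ∪ B) = canDeg ends w A + canDeg ends w B := by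
  unfold canDeg
  rw [Finset.sum_union h]

/-- Twisting by the indicator of a set where the upper extreme is attained preserves the
Basic Inequality. -/
theorem satisfiesBI_add_twist (ends : E → V × V) (w : V → ℕ) (hg : 1 ≤ genus ends w)
    (d : V → ℤ) (hBI : SatisfiesBI ends w d) (Z : Finset V)
    (hZ : 2 * (canDeg ends w Finset.univ * (∑ v ∈ Z, d v) - (∑ v : V, d v) * canDeg ends w Z) =
      (cut ends Z : ℤ) * canDeg ends w Finset.univ) :
    SatisfiesBI ends w (fun v => d v + twist ends (fun u => if u ∈ Z then 1 else 0) v) := by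
  intro Y
  set φ : V → ℤ := fun u => if u ∈ Z then 1 else 0 with hφ
  set W := canDeg ends w Finset.univ with hW
  have hWnn : 0 ≤ W := by rw [hW, canDeg_univ]; linarith
  have htot : ∑ v, (d v + twist ends φ v) = ∑ v, d v := by
    have := sum_twist ends φ Finset.univ
    rw [Finset.sum_add_distrib, this]
    simp
  set T : ℤ := ∑ e, ((if (ends e).1 ∈ Y then φ (ends e).2 - φ (ends e).1 else 0) +
        (if (ends e).2 ∈ Y then φ (ends e).1 - φ (ends e).2 else 0)) with hT
  have hY : ∑ v ∈ Y, (d v + twist ends φ v) = (∑ v ∈ Y, d v) + T := by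
    rw [Finset.sum_add_distrib, sum_twist]
  rw [htot, hY]
  -- the pieces
  have hdAB : Disjoint (Y ∩ Z) (Y \ Z) := by
    rw [Finset.disjoint_left]; intro x hx hx'
    exact (Finset.mem_sdiff.mp hx').2 (Finset.mem_inter.mp hx).2
  have hYAB : Y = (Y ∩ Z) ∪ (Y \ Z) := by
    ext x; simp only [Finset.mem_union, Finset.mem_inter, Finset.mem_sdiff]; tauto
  have hdAC : Disjoint (Y ∩ Z) (Z \ Y) := by
    rw [Finset.disjoint_left]; intro x hx hx'
    exact (Finset.mem_sdiff.mp hx').2 (Finset.mem_inter.mp hx).1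
  have hZAC : Z = (Y ∩ Z) ∪ (Z \ Y) := by
    ext x; simp only [Finset.mem_union, Finset.mem_inter, Finset.mem_sdiff]; tauto
  have hdZB : Disjoint Z (Y \ Z) := by
    rw [Finset.disjoint_left]; intro x hx hx'
    exact (Finset.mem_sdiff.mp hx').2 hx
  -- sums
  have e1 : ∑ v ∈ Y, d v = ∑ v ∈ Y ∩ Z, d v + ∑ v ∈ Y \ Z, d v := by
    conv_lhs => rw [hYAB]
    exact Finset.sum_union hdAB
  have e2 : canDeg ends w Y = canDeg ends w (Y ∩ Z) + canDeg ends w (Y \ Z) := by
    conv_lhs => rw [hYAB]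
    exact canDeg_union ends w hdAB
  have e3 : ∑ v ∈ Z, d v = ∑ v ∈ Y ∩ Z, d v + ∑ v ∈ Z \ Y, d v := by
    conv_lhs => rw [hZAC]
    exact Finset.sum_union hdAC
  have e4 : canDeg ends w Z = canDeg ends w (Y ∩ Z) + canDeg ends w (Z \ Y) := by
    conv_lhs => rw [hZAC]
    exact canDeg_union ends w hdAC
  have e5 : ∑ v ∈ Z ∪ (Y \ Z), d v = ∑ v ∈ Z, d v + ∑ v ∈ Y \ Z, d v := Finset.sum_union hdZB
  have e6 : canDeg ends w (Z ∪ (Y \ Z)) = canDeg ends w Z + canDeg ends w (Y \ Z) :=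
    canDeg_union ends w hdZB
  -- the basic inequalities
  obtain ⟨a1, a2⟩ := (two_abs_le_iff _ _).mp (hBI (Y ∩ Z))
  obtain ⟨b1, b2⟩ := (two_abs_le_iff _ _).mp (hBI (Y \ Z))
  obtain ⟨c1, c2⟩ := (two_abs_le_iff _ _).mp (hBI (Z \ Y))
  obtain ⟨u1, u2⟩ := (two_abs_le_iff _ _).mp (hBI (Z ∪ (Y \ Z)))
  rw [← hW] at a1 a2 b1 b2 c1 c2 u1 u2
  -- the edge inequalities
  have K1 : ∑ e, (cross ends (Y ∩ Z) e + cross ends (Z ∪ (Y \ Z)) e - cross ends Z e +
      2 * ((if (ends e).1 ∈ Y then φ (ends e).2 - φ (ends e).1 else 0) +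
        (if (ends e).2 ∈ Y then φ (ends e).1 - φ (ends e).2 else 0))) ≤ ∑ e, cross ends Y e := by
    refine Finset.sum_le_sum fun e _ => ?_
    simp only [cross, Finset.mem_inter, Finset.mem_sdiff, Finset.mem_union, hφ]
    by_cases h1 : (ends e).1 ∈ Y <;> by_cases h2 : (ends e).1 ∈ Z <;>
      by_cases h3 : (ends e).2 ∈ Y <;> by_cases h4 : (ends e).2 ∈ Z <;>
      simp [h1, h2, h3, h4]
  have K2 : ∑ e, (cross ends (Y \ Z) e + cross ends (Z \ Y) e - cross ends Z e -
      2 * ((if (ends e).1 ∈ Y then φ (ends e).2 - φ (ends e).1 else 0) +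
        (if (ends e).2 ∈ Y then φ (ends e).1 - φ (ends e).2 else 0))) ≤ ∑ e, cross ends Y e := by
    refine Finset.sum_le_sum fun e _ => ?_
    simp only [cross, Finset.mem_inter, Finset.mem_sdiff, Finset.mem_union, hφ]
    by_cases h1 : (ends e).1 ∈ Y <;> by_cases h2 : (ends e).1 ∈ Z <;>
      by_cases h3 : (ends e).2 ∈ Y <;> by_cases h4 : (ends e).2 ∈ Z <;>
      simp [h1, h2, h3, h4]
  simp only [Finset.sum_add_distrib, Finset.sum_sub_distrib, ← Finset.mul_sum, ← cut_eq_sum,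
    ← hT] at K1 K2
  rw [two_abs_le_iff]
  have m1 := mul_nonneg hWnn (sub_nonneg.mpr K1)
  have m2 := mul_nonneg hWnn (sub_nonneg.mpr K2)
  rw [e5, e6, e3, e4] at u1 u2
  rw [e3, e4] at hZ
  rw [e1, e2]
  constructor
  · linarith [m1, a1, u1, hZ]
  · linarith [m2, b2, c1, hZ]

end Groth.Agent.Helper25.LabGraphLib
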