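import Groth.Agent.Lib.Helper25.LabGraphBI

/-!
# Helper library (helper25): existence of a representative satisfying the Basic Inequality
-/

set_option autoImplicit false
set_option linter.unusedSectionVars false
set_option linter.unusedSimpArgs false

universe u

namespace Groth.Agent.Helper25.LabGraphLib

open LabGraph

variable {V E : Type u} [Fintype V] [Fintype E] [DecidableEq V] [DecidableEq E]

/-- divergence of an edge vector (tail minus head) -/
def divL (ends : E → V × V) : (E → ℤ) →ₗ[ℤ] (V → ℤ) where
  toFun s v := ∑ e, ((if (ends e).1 = v then s e else 0) - (if (ends e).2 = v then s e else 0))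
  map_add' s t := by
    funext v
    simp only [Pi.add_apply]
    rw [← Finset.sum_add_distrib]
    refine Finset.sum_congr rfl fun e _ => ?_
    split_ifs <;> ring
  map_smul' c s := by
    funext v
    simp only [Pi.smul_apply, smul_eq_mul, RingHom.id_apply]
    rw [Finset.mul_sum]
    refine Finset.sum_congr rfl fun e _ => ?_
    split_ifs <;> ring

theorem divL_apply (ends : E → V × V) (s : E → ℤ) (v : V) :
    divL ends s v =
      ∑ e, ((if (ends e).1 = v then s e else 0) - (if (ends e).2 = v then s e else 0)) := rfl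

/-- sum of the divergence over a vertex set -/
theorem sum_divL (ends : E → V × V) (s : E → ℤ) (Y : Finset V) :
    ∑ v ∈ Y, divL ends s v =
      ∑ e, s e * ((if (ends e).1 ∈ Y then 1 else 0) - (if (ends e).2 ∈ Y then 1 else 0)) := by
  simp only [divL_apply]
  rw [Finset.sum_comm]
  refine Finset.sum_congr rfl fun e _ => ?_
  rw [Finset.sum_sub_distrib, Finset.sum_ite_eq, Finset.sum_ite_eq]
  split_ifs <;> ring

/-- the twist is minus the divergence of the gradient -/
theorem twist_eq (ends : E → V × V) (ψ : V → ℤ) (v : V) :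
    twist ends ψ v = - divL ends (fun e => ψ (ends e).1 - ψ (ends e).2) v := by
  rw [divL_apply, twist, ← Finset.sum_neg_distrib]
  refine Finset.sum_congr rfl fun e _ => ?_
  split_ifs <;> ring

/-- indicator vector of a vertex -/
def delta (u : V) : V → ℤ := fun x => if u = x then 1 else 0

theorem delta_sub_delta_mem_range_of_adj (ends : E → V × V) {u v : V} (h : Adj ends u v) :
    (delta u - delta v : V → ℤ) ∈ LinearMap.range (divL ends) := by
  obtain ⟨e, he | he⟩ := h
  · refine ⟨fun e' => if e = e' then 1 else 0, ?_⟩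
    funext x
    rw [divL_apply, Finset.sum_eq_single e]
    · simp only [he, if_true, Pi.sub_apply, delta]
    · intro e' _ hne
      simp [Ne.symm hne]
    · intro h; exact absurd (Finset.mem_univ e) h
  · refine ⟨fun e' => if e = e' then -1 else 0, ?_⟩
    funext x
    rw [divL_apply, Finset.sum_eq_single e]
    · simp only [he, if_true, Pi.sub_apply, delta]
      split_ifs <;> ring
    · intro e' _ hne
      simp [Ne.symm hne]
    · intro h; exact absurd (Finset.mem_univ e) h

theorem delta_sub_delta_mem_range (ends : E → V × V) (hc : Connected ends) (u v : V) :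
    (delta u - delta v : V → ℤ) ∈ LinearMap.range (divL ends) := by
  have h := hc.2 u v
  induction h with
  | refl => rw [sub_self]; exact Submodule.zero_mem _
  | tail _ hbc ih =>
    have := Submodule.add_mem _ ih (delta_sub_delta_mem_range_of_adj ends hbc)
    rwa [sub_add_sub_cancel] at this

/-- On a connected graph every integer vertex vector of sum zero is a divergence. -/
theorem exists_divL_eq (ends : E → V × V) (hc : Connected ends) (X : V → ℤ) (hX : ∑ v, X v = 0) :
    ∃ s : E → ℤ, divL ends s = X := by
  obtain ⟨v₀⟩ := hc.1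
  have hX' : X = ∑ v, X v • (delta v - delta v₀ : V → ℤ) := by
    funext x
    rw [Finset.sum_apply]
    simp only [Pi.smul_apply, Pi.sub_apply, smul_eq_mul, mul_sub, Finset.sum_sub_distrib,
      delta, mul_ite, mul_one, mul_zero]
    rw [Finset.sum_ite_eq', if_pos (Finset.mem_univ x)]
    by_cases hx : v₀ = x
    · simp only [hx, if_true]
      rw [hX]; ring
    · simp [hx]
  have hmem : X ∈ LinearMap.range (divL ends) := by
    rw [hX']
    exact Submodule.sum_mem _ fun v _ =>
      Submodule.smul_mem _ _ (delta_sub_delta_mem_range ends hc v v₀)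
  exact hmem

/-- A function to `ℕ`-valued integers attains its minimum. -/
theorem exists_min_int {α : Type*} [Nonempty α] (f : α → ℤ) (hf : ∀ a, 0 ≤ f a) :
    ∃ a, ∀ b, f a ≤ f b := by
  obtain ⟨_, ⟨a, rfl⟩, hmin⟩ := WellFounded.has_min wellFounded_lt
    (Set.range fun a => (f a).toNat) (Set.range_nonempty _)
  refine ⟨a, fun b => ?_⟩
  have : ¬ (f b).toNat < (f a).toNat := hmin _ ⟨b, rfl⟩
  have h1 := hf a
  have h2 := hf b
  omega

/-- Existence of a representative of a degree class satisfying the Basic Inequality. -/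
theorem exists_twistEquiv_satisfiesBI (ends : E → V × V) (w : V → ℕ) (hc : Connected ends)
    (hg : 2 ≤ genus ends w) (d : V → ℤ) :
    ∃ d' : V → ℤ, TwistEquiv ends d' d ∧ SatisfiesBI ends w d' := by
  set W := canDeg ends w Finset.univ with hW
  have hWpos : 0 < W := by rw [hW, canDeg_univ]; linarith
  set D := ∑ v, d v with hD
  -- the vector X = W d - D w
  set X : V → ℤ := fun v => W * d v - D * (2 * (w v : ℤ) - 2 + (endCount ends Finset.univ v : ℤ))
    with hXdef
  have hXsum : ∀ Y : Finset V, ∑ v ∈ Y, X v = W * (∑ v ∈ Y, d v) - D * canDeg ends w Y := by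
    intro Y
    simp only [hXdef, Finset.sum_sub_distrib, ← Finset.mul_sum]
    rfl
  have hX0 : ∑ v, X v = 0 := by
    rw [hXsum Finset.univ, ← hW, ← hD]; ring
  obtain ⟨s, hs⟩ := exists_divL_eq ends hc X hX0
  -- minimise
  obtain ⟨ψ, hψ⟩ := exists_min_int
    (fun ψ : V → ℤ => ∑ e, (W * (ψ (ends e).1 - ψ (ends e).2) - s e) ^ 2)
    (fun ψ => Finset.sum_nonneg fun e _ => sq_nonneg _)
  refine ⟨fun v => d v + twist ends ψ v, ⟨ψ, fun v => by ring⟩, ?_⟩
  intro Y
  have htot : ∑ v, (d v + twist ends ψ v) = D := by
    have := sum_twist ends ψ Finset.univ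
    rw [Finset.sum_add_distrib, this]
    simp [hD]
  rw [htot, ← hW]
  -- the residual edge vector
  set r : E → ℤ := fun e => W * (ψ (ends e).1 - ψ (ends e).2) - s e with hr
  set c : E → ℤ := fun e => (if (ends e).1 ∈ Y then 1 else 0) - (if (ends e).2 ∈ Y then 1 else 0)
    with hc'
  have hcsq : ∀ e, c e ^ 2 = cross ends Y e := by
    intro e
    simp only [hc', cross]
    by_cases h1 : (ends e).1 ∈ Y <;> by_cases h2 : (ends e).2 ∈ Y <;> simp [h1, h2]
  -- divergence of r
  have hdivr : ∀ v, divL ends r v = -(W * twist ends ψ v) - X v := by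
    intro v
    have h1 : r = W • (fun e => ψ (ends e).1 - ψ (ends e).2) - s := by
      funext e; simp [hr]
    rw [h1, map_sub, map_smul, hs, Pi.sub_apply, Pi.smul_apply, twist_eq, smul_eq_mul]
    ring
  have hsumr : ∑ e, r e * c e =
      -(W * (∑ v ∈ Y, (d v + twist ends ψ v)) - D * canDeg ends w Y) := by
    rw [← sum_divL ends r Y]
    simp only [hdivr, Finset.sum_sub_distrib, Finset.sum_neg_distrib, ← Finset.mul_sum, hXsum,
      Finset.sum_add_distrib]
    ring
  -- variation of the potential
  have hvar : ∀ ε : ℤ, ε ^ 2 = 1 →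
      0 ≤ 2 * ε * W * (∑ e, r e * c e) + W ^ 2 * (cut ends Y : ℤ) := by
    intro ε hε
    have h1 := hψ (fun v => ψ v + ε * (if v ∈ Y then 1 else 0))
    have h2 : ∀ e, (W * ((ψ (ends e).1 + ε * (if (ends e).1 ∈ Y then 1 else 0)) -
        (ψ (ends e).2 + ε * (if (ends e).2 ∈ Y then 1 else 0))) - s e) ^ 2 =
        r e ^ 2 + (2 * ε * W * (r e * c e) + W ^ 2 * cross ends Y e) := by
      intro e
      rw [← hcsq e]
      simp only [hr, hc']
      linear_combination (W ^ 2 * ((if (ends e).1 ∈ Y then (1 : ℤ) else 0) -
        (if (ends e).2 ∈ Y then 1 else 0)) ^ 2) * hε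
    rw [Finset.sum_congr rfl fun e _ => h2 e, Finset.sum_add_distrib, Finset.sum_add_distrib,
      ← Finset.mul_sum, ← Finset.mul_sum, ← cut_eq_sum] at h1
    linarith
  have hp := hvar 1 (by norm_num)
  have hm := hvar (-1) (by norm_num)
  rw [hsumr] at hp hm
  rw [two_abs_le_iff]
  constructor
  · have : 0 ≤ W * ((cut ends Y : ℤ) * W -
        2 * (W * ∑ v ∈ Y, (d v + twist ends ψ v) - D * canDeg ends w Y)) := by nlinarith
    have := nonneg_of_mul_nonneg_right this hWpos
    linarith
  · have : 0 ≤ W * ((cut ends Y : ℤ) * W +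
        2 * (W * ∑ v ∈ Y, (d v + twist ends ψ v) - D * canDeg ends w Y)) := by nlinarith
    have := nonneg_of_mul_nonneg_right this hWpos
    linarith

end Groth.Agent.Helper25.LabGraphLib
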