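import Groth.Agent.Lib.Helper25.LabGraphBI

/-!
# Helper library (helper25): two representatives satisfying the Basic Inequality differ by a
level twist
-/

set_option autoImplicit false
set_option linter.unusedSectionVars false
set_option linter.unusedSimpArgs false

universe u

namespace Groth.Agent.Helper25.LabGraphLib

open LabGraph

variable {V E : Type u} [Fintype V] [Fintype E] [DecidableEq V] [DecidableEq E]

theorem twist_add_const (ends : E → V × V) (φ : V → ℤ) (c : ℤ) (v : V) :
    twist ends (fun u => φ u + c) v = twist ends φ v := by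
  unfold twist
  refine Finset.sum_congr rfl fun e _ => ?_
  split_ifs <;> ring

theorem sum_twist_univ (ends : E → V × V) (φ : V → ℤ) : ∑ v, twist ends φ v = 0 := by
  rw [sum_twist ends φ Finset.univ]
  simp

/-- No edge has a jump of two or more across a threshold. -/
theorem no_big_jump (ends : E → V × V) (w : V → ℕ) (hW : 0 < canDeg ends w Finset.univ)
    (d d' : V → ℤ) (hBI : SatisfiesBI ends w d) (hBI' : SatisfiesBI ends w d')
    (H : V → ℤ) (hH : ∀ v, d v - d' v = twist ends H v) (t : ℤ) (e₀ : E)
    (h₀ : (t ≤ H (ends e₀).1 ∧ H (ends e₀).2 ≤ t - 2) ∨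
      (t ≤ H (ends e₀).2 ∧ H (ends e₀).1 ≤ t - 2)) : False := by
  set W := canDeg ends w Finset.univ with hWdef
  set Z : Finset V := Finset.univ.filter (fun v => t ≤ H v) with hZ
  have hmem : ∀ v, v ∈ Z ↔ t ≤ H v := fun v => by simp [hZ]
  have hDD : ∑ v, d v = ∑ v, d' v := by
    have h1 : ∑ v, (d v - d' v) = 0 := by
      rw [Finset.sum_congr rfl fun v _ => hH v]; exact sum_twist_univ ends H
    rw [Finset.sum_sub_distrib] at h1
    linarith
  have hdiff : ∑ v ∈ Z, d v - ∑ v ∈ Z, d' v =
      ∑ e, ((if (ends e).1 ∈ Z then H (ends e).2 - H (ends e).1 else 0) +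
        (if (ends e).2 ∈ Z then H (ends e).1 - H (ends e).2 else 0)) := by
    rw [← Finset.sum_sub_distrib, Finset.sum_congr rfl fun v _ => hH v, sum_twist]
  have hedge : ∀ e, ((if (ends e).1 ∈ Z then H (ends e).2 - H (ends e).1 else 0) +
        (if (ends e).2 ∈ Z then H (ends e).1 - H (ends e).2 else 0)) + cross ends Z e ≤
      (if e = e₀ then -1 else 0) := by
    intro e
    unfold cross
    simp only [hmem]
    by_cases he : e = e₀
    · subst he
      simp only [if_true]
      split_ifs <;> omega
    · simp only [if_neg he]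
      split_ifs <;> omega
  have hsum := Finset.sum_le_sum fun e (_ : e ∈ Finset.univ) => hedge e
  rw [Finset.sum_add_distrib, ← hdiff, ← cut_eq_sum, Finset.sum_ite_eq' Finset.univ e₀,
    if_pos (Finset.mem_univ _)] at hsum
  obtain ⟨-, a2⟩ := (two_abs_le_iff _ _).mp (hBI Z)
  obtain ⟨b1, -⟩ := (two_abs_le_iff _ _).mp (hBI' Z)
  rw [← hWdef] at a2 b1
  rw [← hDD] at b1
  have h3 : 0 ≤ W * ((∑ v ∈ Z, d v - ∑ v ∈ Z, d' v) + (cut ends Z : ℤ)) := by nlinarith
  have h4 := nonneg_of_mul_nonneg_right h3 hW
  linarith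

theorem abs_sub_le_one (ends : E → V × V) (w : V → ℕ) (hW : 0 < canDeg ends w Finset.univ)
    (d d' : V → ℤ) (hBI : SatisfiesBI ends w d) (hBI' : SatisfiesBI ends w d')
    (H : V → ℤ) (hH : ∀ v, d v - d' v = twist ends H v) (e : E) :
    H (ends e).1 - H (ends e).2 ≤ 1 ∧ H (ends e).2 - H (ends e).1 ≤ 1 := by
  constructor
  · by_contra hlt
    exact no_big_jump ends w hW d d' hBI hBI' H hH (H (ends e).1) e (Or.inl ⟨le_rfl, by omega⟩)
  · by_contra hlt
    exact no_big_jump ends w hW d d' hBI hBI' H hH (H (ends e).2) e (Or.inr ⟨le_rfl, by omega⟩)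

theorem adj_abs_sub_le_one (ends : E → V × V) (w : V → ℕ) (hW : 0 < canDeg ends w Finset.univ)
    (d d' : V → ℤ) (hBI : SatisfiesBI ends w d) (hBI' : SatisfiesBI ends w d')
    (H : V → ℤ) (hH : ∀ v, d v - d' v = twist ends H v) {b c : V} (hbc : Adj ends b c) :
    H b - H c ≤ 1 ∧ H c - H b ≤ 1 := by
  obtain ⟨e, he | he⟩ := hbc
  · have := abs_sub_le_one ends w hW d d' hBI hBI' H hH e
    rw [he] at this
    exact this
  · have := abs_sub_le_one ends w hW d d' hBI hBI' H hH e
    rw [he] at this
    exact ⟨this.2, this.1⟩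

/-- Two multidegrees satisfying the Basic Inequality in the same degree class differ by the twist of
a level function. -/
theorem exists_levels (ends : E → V × V) (w : V → ℕ) (hc : Connected ends)
    (hg : 2 ≤ genus ends w) (d d' : V → ℤ)
    (hBI : SatisfiesBI ends w d) (hBI' : SatisfiesBI ends w d') (heq : TwistEquiv ends d d') :
    ∃ (q : ℕ) (h : V → ℕ), (∀ v : V, h v ≤ q) ∧ (∀ i : ℕ, i ≤ q → ∃ v : V, h v = i) ∧
      (∀ v : V, d v - d' v = twist ends (fun u => (h u : ℤ)) v) ∧
      (∀ i j : ℕ, i ≤ q → j ≤ q → i ≠ j →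
        ((∃ e : E, (h (ends e).1 = i ∧ h (ends e).2 = j) ∨ (h (ends e).1 = j ∧ h (ends e).2 = i)) ↔
          (i + 1 = j ∨ j + 1 = i))) := by
  have hW : 0 < canDeg ends w Finset.univ := by rw [canDeg_univ]; linarith
  obtain ⟨φ, hφ⟩ := heq
  obtain ⟨v₀⟩ := hc.1
  obtain ⟨vmin, -, hvmin⟩ := Finset.exists_min_image Finset.univ φ ⟨v₀, Finset.mem_univ _⟩
  obtain ⟨vmax, -, hvmax⟩ := Finset.exists_max_image Finset.univ φ ⟨v₀, Finset.mem_univ _⟩
  set H : V → ℤ := fun v => φ v - φ vmin with hHdef
  have hHnn : ∀ v, 0 ≤ H v := fun v => by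
    have := hvmin v (Finset.mem_univ _)
    simp only [hHdef]; linarith
  have hHmin : H vmin = 0 := by simp [hHdef]
  have hHmax : ∀ v, H v ≤ H vmax := fun v => by
    have := hvmax v (Finset.mem_univ _)
    simp only [hHdef]; linarith
  have hH : ∀ v, d v - d' v = twist ends H v := by
    intro v
    rw [hφ v]
    have := twist_add_const ends φ (-φ vmin) v
    rw [← this]
    rfl
  have hadj : ∀ {b c : V}, Adj ends b c → H b - H c ≤ 1 ∧ H c - H b ≤ 1 :=
    fun hbc => adj_abs_sub_le_one ends w hW d d' hBI hBI' H hH hbc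
  -- every intermediate level is attained
  have hlev : ∀ b : V, ∀ i : ℤ, 0 ≤ i → i ≤ H b → ∃ v, H v = i := by
    intro b
    have hpath := hc.2 vmin b
    induction hpath with
    | refl =>
      intro i hi0 hi
      exact ⟨vmin, by rw [hHmin] at hi ⊢; omega⟩
    | @tail b' c' _ hbc ih =>
      intro i hi0 hi
      have := hadj hbc
      by_cases hib : i ≤ H b'
      · exact ih i hi0 hib
      · exact ⟨c', by omega⟩
  -- an edge joining consecutive levels
  have hedge : ∀ b : V, ∀ i : ℤ, 0 ≤ i → i + 1 ≤ H b →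
      ∃ e : E, (H (ends e).1 = i ∧ H (ends e).2 = i + 1) ∨
        (H (ends e).1 = i + 1 ∧ H (ends e).2 = i) := by
    intro b i hi0
    have hpath := hc.2 vmin b
    induction hpath with
    | refl =>
      intro hi
      rw [hHmin] at hi
      omega
    | @tail b' c' _ hbc ih =>
      intro hi
      by_cases hib : i + 1 ≤ H b'
      · exact ih hib
      · have hj := hadj hbc
        have hb' : H b' = i := by omega
        have hc' : H c' = i + 1 := by omega
        obtain ⟨e, he | he⟩ := hbc
        · exact ⟨e, Or.inl (by rw [he]; exact ⟨hb', hc'⟩)⟩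
        · exact ⟨e, Or.inr (by rw [he]; exact ⟨hc', hb'⟩)⟩
  refine ⟨(H vmax).toNat, fun v => (H v).toNat, ?_, ?_, ?_, ?_⟩
  · intro v
    show (H v).toNat ≤ (H vmax).toNat
    have := hHmax v
    have := hHnn v
    omega
  · intro i hi
    obtain ⟨v, hv⟩ := hlev vmax (i : ℤ) (by omega) (by have := hHnn vmax; omega)
    exact ⟨v, by simp only; omega⟩
  · intro v
    rw [hH v]
    congr 1
    funext u
    have := hHnn u
    simp only
    omega
  · intro i j hi hj hij
    have hnnmax := hHnn vmax
    constructor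
    · rintro ⟨e, he | he⟩
      · have h1 := abs_sub_le_one ends w hW d d' hBI hBI' H hH e
        have := hHnn (ends e).1
        have := hHnn (ends e).2
        simp only at he
        omega
      · have h1 := abs_sub_le_one ends w hW d d' hBI hBI' H hH e
        have := hHnn (ends e).1
        have := hHnn (ends e).2
        simp only at he
        omega
    · rintro (h | h)
      · obtain ⟨e, he⟩ := hedge vmax (i : ℤ) (by omega) (by omega)
        refine ⟨e, ?_⟩
        simp only
        rcases he with he | he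
        · left; omega
        · right; omega
      · obtain ⟨e, he⟩ := hedge vmax (j : ℤ) (by omega) (by omega)
        refine ⟨e, ?_⟩
        simp only
        rcases he with he | he
        · right; omega
        · left; omega

end Groth.Agent.Helper25.LabGraphLib
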