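import Mathlib
import Groth.Agent.Lib.Helper25.LabGraphBI

set_option autoImplicit false

universe u

namespace Groth.Agent.Helper25.LabGraphStrict

open LabGraph Groth.Agent.Helper25.LabGraphLib

variable {V E : Type u} [Fintype V] [Fintype E] [DecidableEq V] [DecidableEq E]

/-- indicator -/
abbrev ind (Y : Finset V) : V → ℤ := fun u => if u ∈ Y then (1 : ℤ) else 0

theorem endCount_exc (ends : E → V × V) (w : V → ℕ) (v : V) (h : IsExceptional ends w v) :
    endCount ends Finset.univ v = 2 := by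
  obtain ⟨_, hloop, hcut⟩ := h
  rw [← hcut]
  unfold endCount cut
  rw [Finset.card_filter]
  apply Finset.sum_congr rfl
  intro e _
  have hl : ¬ ((ends e).1 = v ∧ (ends e).2 = v) := fun ⟨h1, h2⟩ => hloop e (Prod.ext h1 h2)
  simp only [Finset.mem_singleton]
  by_cases h1 : (ends e).1 = v
  · by_cases h2 : (ends e).2 = v
    · exact absurd ⟨h1, h2⟩ hl
    · simp [h1, h2]
  · by_cases h2 : (ends e).2 = v
    · simp [h1, h2]
    · simp [h1, h2]

theorem twist_summand_nonpos (ends : E → V × V) (Y : Finset V) (v : V) (hv : v ∈ Y) (e : E) :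
    ((if (ends e).1 = v then ind Y (ends e).2 - ind Y (ends e).1 else 0) +
      (if (ends e).2 = v then ind Y (ends e).1 - ind Y (ends e).2 else 0)) ≤ 0 := by
  by_cases h1 : (ends e).1 = v
  · by_cases h2 : (ends e).2 = v
    · rw [if_pos h1, if_pos h2, h1, h2]; simp
    · rw [if_pos h1, if_neg h2, add_zero]
      simp only [ind, h1, hv, if_true]
      split_ifs <;> norm_num
  · by_cases h2 : (ends e).2 = v
    · rw [if_neg h1, if_pos h2, zero_add]
      simp only [ind, h2, hv, if_true]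
      split_ifs <;> norm_num
    · rw [if_neg h1, if_neg h2]; norm_num

theorem twist_ind_nonpos (ends : E → V × V) (Y : Finset V) (v : V) (hv : v ∈ Y) :
    twist ends (ind Y) v ≤ 0 := by
  unfold twist
  exact Finset.sum_nonpos (fun e _ => twist_summand_nonpos ends Y v hv e)

theorem twist_ind_neg (ends : E → V × V) (Y : Finset V) (v : V) (hv : v ∈ Y) (e₀ : E)
    (he₀ : ((ends e₀).1 = v ∧ (ends e₀).2 ∉ Y) ∨ ((ends e₀).2 = v ∧ (ends e₀).1 ∉ Y)) :
    twist ends (ind Y) v ≤ -1 := by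
  unfold twist
  rw [← Finset.add_sum_erase _ _ (Finset.mem_univ e₀)]
  have h1 : ((if (ends e₀).1 = v then ind Y (ends e₀).2 - ind Y (ends e₀).1 else 0) +
      (if (ends e₀).2 = v then ind Y (ends e₀).1 - ind Y (ends e₀).2 else 0)) ≤ -1 := by
    rcases he₀ with ⟨ha, hb⟩ | ⟨ha, hb⟩
    · have hne : (ends e₀).2 ≠ v := fun h => hb (h ▸ hv)
      rw [if_pos ha, if_neg hne, add_zero]
      simp only [ind, ha, hv, hb, if_true, if_false]
      norm_num
    · have hne : (ends e₀).1 ≠ v := fun h => hb (h ▸ hv)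
      rw [if_neg hne, if_pos ha, zero_add]
      simp only [ind, ha, hv, hb, if_true, if_false]
      norm_num
  have h2 := Finset.sum_nonpos (s := Finset.univ.erase e₀)
    (fun e _ => twist_summand_nonpos ends Y v hv e)
  linarith

theorem twist_ind_eq_zero (ends : E → V × V) (Y : Finset V) (h : cut ends Y = 0) (v : V) :
    twist ends (ind Y) v = 0 := by
  unfold cut at h
  rw [Finset.card_eq_zero, Finset.filter_eq_empty_iff] at h
  unfold twist
  apply Finset.sum_eq_zero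
  intro e _
  have he := h (Finset.mem_univ e)
  have hiff : ind Y (ends e).1 = ind Y (ends e).2 := by
    simp only [ind]
    by_cases h1 : (ends e).1 ∈ Y <;> by_cases h2 : (ends e).2 ∈ Y
    · simp [h1, h2]
    · exact absurd (Or.inl ⟨h1, h2⟩) he
    · exact absurd (Or.inr ⟨h1, h2⟩) he
    · simp [h1, h2]
  rw [hiff]
  simp

theorem cut_eq_zero_of_min (ends : E → V × V) (w : V → ℕ)
    (hK : 0 < canDeg ends w Finset.univ)
    (d d' : V → ℤ) (hBI : SatisfiesBI ends w d)
    (hone : ∀ v, IsExceptional ends w v → d v = 1)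
    (hone' : ∀ v, IsExceptional ends w v → d' v = 1)
    (hstrict : ∀ Y : Finset V, Y.Nonempty → Y ≠ Finset.univ →
      2 * (canDeg ends w Finset.univ * (∑ v ∈ Y, d v) - (∑ v, d v) * canDeg ends w Y)
          = (cut ends Y : ℤ) * canDeg ends w Finset.univ →
      ∀ e : E, (((ends e).1 ∈ Y ∧ (ends e).2 ∉ Y) ∨ ((ends e).1 ∉ Y ∧ (ends e).2 ∈ Y)) →
        (IsExceptional ends w (ends e).1 ∨ IsExceptional ends w (ends e).2))
    (m : ℕ) (Z : Fin m → Finset V) (i₀ : Fin m) (hmin : ∀ i, Z i₀ ⊆ Z i)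
    (hext : 2 * (canDeg ends w Finset.univ * (∑ v ∈ Z i₀, d v) -
        (∑ v, d v) * canDeg ends w (Z i₀))
          = (cut ends (Z i₀) : ℤ) * canDeg ends w Finset.univ)
    (hsum : ∀ v : V, d' v = d v + ∑ i : Fin m, twist ends (ind (Z i)) v) :
    cut ends (Z i₀) = 0 := by
  by_contra hne
  have hex : ∃ e, (((ends e).1 ∈ Z i₀ ∧ (ends e).2 ∉ Z i₀) ∨
      ((ends e).1 ∉ Z i₀ ∧ (ends e).2 ∈ Z i₀)) := by
    by_contra hno
    apply hne
    unfold cut
    rw [Finset.card_eq_zero, Finset.filter_eq_empty_iff]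
    intro e _ he
    exact hno ⟨e, he⟩
  obtain ⟨e₁, he₁⟩ := hex
  have hnonempty : (Z i₀).Nonempty := by
    rcases he₁ with ⟨h, _⟩ | ⟨_, h⟩ <;> exact ⟨_, h⟩
  have hnuniv : Z i₀ ≠ Finset.univ := by
    intro h; rw [h] at he₁; simp at he₁
  have hexc := hstrict (Z i₀) hnonempty hnuniv hext
  have hinner : ∀ x ∈ Z i₀, ∀ e, (((ends e).1 = x ∧ (ends e).2 ∉ Z i₀) ∨
      ((ends e).2 = x ∧ (ends e).1 ∉ Z i₀)) → ¬ IsExceptional ends w x := by
    intro x hx e he hxe
    have h1 : d' x = d x + ∑ i, twist ends (ind (Z i)) x := hsum x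
    rw [hone x hxe, hone' x hxe] at h1
    have h2 : ∑ i, twist ends (ind (Z i)) x ≤ -1 := by
      rw [← Finset.add_sum_erase _ _ (Finset.mem_univ i₀)]
      have h3 := twist_ind_neg ends (Z i₀) x hx e he
      have h4 := Finset.sum_nonpos (s := Finset.univ.erase i₀)
        (fun i _ => twist_ind_nonpos ends (Z i) x (hmin i hx))
      linarith
    linarith
  let N : Finset V := Finset.univ.filter (fun y => y ∉ Z i₀ ∧
    ∃ e, ((ends e).1 ∈ Z i₀ ∧ (ends e).2 = y) ∨ ((ends e).2 ∈ Z i₀ ∧ (ends e).1 = y))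
  have hNmem : ∀ y, y ∈ N ↔ (y ∉ Z i₀ ∧
      ∃ e, ((ends e).1 ∈ Z i₀ ∧ (ends e).2 = y) ∨ ((ends e).2 ∈ Z i₀ ∧ (ends e).1 = y)) := by
    intro y; simp [N]
  have hN : ∀ y ∈ N, IsExceptional ends w y := by
    intro y hy
    obtain ⟨hyZ, e, he⟩ := (hNmem y).1 hy
    rcases he with ⟨h1, h2⟩ | ⟨h1, h2⟩
    · have hy2 : (ends e).2 ∉ Z i₀ := by rw [h2]; exact hyZ
      rcases hexc e (Or.inl ⟨h1, hy2⟩) with h | h
      · exact absurd h (hinner _ h1 e (Or.inl ⟨rfl, hy2⟩))
      · rw [← h2]; exact h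
    · have hy1 : (ends e).1 ∉ Z i₀ := by rw [h2]; exact hyZ
      rcases hexc e (Or.inr ⟨hy1, h1⟩) with h | h
      · rw [← h2]; exact h
      · exact absurd h (hinner _ h1 e (Or.inr ⟨rfl, hy1⟩))
  have hdisj : Disjoint (Z i₀) N := by
    rw [Finset.disjoint_left]
    intro v hv hvN
    exact ((hNmem v).1 hvN).1 hv
  have key : ∀ e, (((ends e).1 ∈ Z i₀ ∪ N ∧ (ends e).2 ∉ Z i₀ ∪ N) ∨
      ((ends e).1 ∉ Z i₀ ∪ N ∧ (ends e).2 ∈ Z i₀ ∪ N)) → (ends e).1 ∈ N ∨ (ends e).2 ∈ N := by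
    intro e he
    rcases he with ⟨h1, h2⟩ | ⟨h1, h2⟩
    · rw [Finset.mem_union] at h1
      rw [Finset.mem_union, not_or] at h2
      rcases h1 with h1 | h1
      · exact Or.inr ((hNmem _).2 ⟨h2.1, e, Or.inl ⟨h1, rfl⟩⟩)
      · exact Or.inl h1
    · rw [Finset.mem_union] at h2
      rw [Finset.mem_union, not_or] at h1
      rcases h2 with h2 | h2
      · exact Or.inl ((hNmem _).2 ⟨h1.1, e, Or.inr ⟨h2, rfl⟩⟩)
      · exact Or.inr h2
  have hcutle : cut ends (Z i₀ ∪ N) ≤ ∑ y ∈ N, endCount ends Finset.univ y := by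
    unfold cut endCount
    rw [Finset.card_filter, Finset.sum_comm]
    apply Finset.sum_le_sum
    intro e _
    rw [Finset.sum_add_distrib, Finset.sum_ite_eq, Finset.sum_ite_eq]
    by_cases hc : (((ends e).1 ∈ Z i₀ ∪ N ∧ (ends e).2 ∉ Z i₀ ∪ N) ∨
      ((ends e).1 ∉ Z i₀ ∪ N ∧ (ends e).2 ∈ Z i₀ ∪ N))
    · rw [if_pos hc]
      rcases key e hc with h | h
      · rw [if_pos h]; exact Nat.le_add_right _ _
      · rw [if_pos h]; exact Nat.le_add_left _ _
    · rw [if_neg hc]; exact Nat.zero_le _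
  have hendN : ∑ y ∈ N, endCount ends Finset.univ y = 2 * N.card := by
    rw [Finset.sum_congr rfl (fun y hy => endCount_exc ends w y (hN y hy))]
    simp [mul_comm]
  have hdN : ∑ v ∈ N, d v = (N.card : ℤ) := by
    rw [Finset.sum_congr rfl (fun y hy => hone y (hN y hy))]
    simp
  have hcN : canDeg ends w N = 0 := by
    unfold canDeg
    apply Finset.sum_eq_zero
    intro y hy
    rw [endCount_exc ends w y (hN y hy), (hN y hy).1]
    norm_num
  have hBIY := hBI (Z i₀ ∪ N)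
  rw [Finset.sum_union hdisj, canDeg_union ends w hdisj, hcN, hdN] at hBIY
  have h3 := le_trans (mul_le_mul_of_nonneg_left (le_abs_self _) (by norm_num : (0 : ℤ) ≤ 2)) hBIY
  have h4 : (cut ends (Z i₀ ∪ N) : ℤ) ≤ 2 * (N.card : ℤ) := by
    exact_mod_cast hcutle.trans hendN.le
  have h5 : (cut ends (Z i₀ ∪ N) : ℤ) * canDeg ends w Finset.univ ≤
      2 * (N.card : ℤ) * canDeg ends w Finset.univ := mul_le_mul_of_nonneg_right h4 hK.le
  have h6 : (cut ends (Z i₀) : ℤ) * canDeg ends w Finset.univ ≤ 0 := by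
    nlinarith [h3, h5, hext]
  have h7 : 0 < (cut ends (Z i₀) : ℤ) := by exact_mod_cast Nat.pos_of_ne_zero hne
  nlinarith [mul_pos h7 hK]

theorem s19033 (ends : E → V × V) (w : V → ℕ) (hg : 2 ≤ genus ends w)
    (d d' : V → ℤ) (hBI : SatisfiesBI ends w d)
    (hone : ∀ v, IsExceptional ends w v → d v = 1)
    (hone' : ∀ v, IsExceptional ends w v → d' v = 1)
    (hstrict : ∀ Y : Finset V, Y.Nonempty → Y ≠ Finset.univ →
      2 * (canDeg ends w Finset.univ * (∑ v ∈ Y, d v) - (∑ v, d v) * canDeg ends w Y)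
          = (cut ends Y : ℤ) * canDeg ends w Finset.univ →
      ∀ e : E, (((ends e).1 ∈ Y ∧ (ends e).2 ∉ Y) ∨ ((ends e).1 ∉ Y ∧ (ends e).2 ∈ Y)) →
        (IsExceptional ends w (ends e).1 ∨ IsExceptional ends w (ends e).2)) :
    ∀ (m : ℕ) (Z : Fin m → Finset V), (∀ i j : Fin m, i ≤ j → Z i ⊆ Z j) →
      (∀ i : Fin m, 2 * (canDeg ends w Finset.univ * (∑ v ∈ Z i, d v) -
        (∑ v, d v) * canDeg ends w (Z i)) = (cut ends (Z i) : ℤ) * canDeg ends w Finset.univ) →
      (∀ v : V, d' v = d v + ∑ i : Fin m, twist ends (ind (Z i)) v) → d = d' := by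
  have hK : 0 < canDeg ends w Finset.univ := by rw [canDeg_univ]; linarith
  intro m
  induction m with
  | zero =>
    intro Z _ _ hsum
    funext v
    have := hsum v
    simp at this
    exact this.symm
  | succ m ih =>
    intro Z hmono hext hsum
    have hc : cut ends (Z 0) = 0 :=
      cut_eq_zero_of_min ends w hK d d' hBI hone hone' hstrict (m + 1) Z 0
        (fun i => hmono 0 i (Fin.zero_le i)) (hext 0) hsum
    apply ih (fun i => Z i.succ) (fun i j hij => hmono _ _ (Fin.succ_le_succ_iff.2 hij))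
      (fun i => hext i.succ)
    intro v
    rw [hsum v, Fin.sum_univ_succ, twist_ind_eq_zero ends (Z 0) hc v, zero_add]

end Groth.Agent.Helper25.LabGraphStrict
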