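import Mathlib.FieldTheory.IsAlgClosed.Basic
import Mathlib.FieldTheory.Perfect
import Mathlib.LinearAlgebra.FiniteDimensional.Lemmas
import Mathlib.LinearAlgebra.Dimension.Finite
import Mathlib.LinearAlgebra.LinearIndependent.Lemmas
import Mathlib.LinearAlgebra.Basis.VectorSpace
import Mathlib.LinearAlgebra.Quotient.Basic

/-!
# Lang-type lemma for Frobenius-semilinear bijections (helper25)
-/

set_option autoImplicit false

noncomputable section

open Polynomial

namespace Groth.Agent.Helper25.Lang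

section Step1

variable {K : Type*} [Field K] {σ : K →+* K} {q : ℕ}
variable {V : Type*} [AddCommGroup V] [Module K V]

/-- the auxiliary polynomials -/
def Zpoly (q : ℕ) (a : ℕ → K) : ℕ → K[X]
  | 0 => C (a 0) * X ^ (q - 1)
  | (i + 1) => X ^ (q - 1) * ((Zpoly q a i) ^ q + C (a (i + 1)))

theorem eval_zero_Zpoly (hq : 2 ≤ q) (a : ℕ → K) (i : ℕ) : eval 0 (Zpoly q a i) = 0 := by
  have hq1 : q - 1 ≠ 0 := by omega
  cases i with
  | zero => simp [Zpoly, hq1]
  | succ i => simp [Zpoly, hq1]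

theorem Zpoly_eq_zero (hq : 2 ≤ q) (a : ℕ → K) (i : ℕ) (h : Zpoly q a i = 0) :
    ∀ j ≤ i, a j = 0 := by
  have hq0 : q ≠ 0 := by omega
  induction i with
  | zero =>
    intro j hj
    obtain rfl : j = 0 := by omega
    simp only [Zpoly, mul_eq_zero, C_eq_zero, pow_eq_zero_iff', X_ne_zero, false_and,
      or_false] at h
    exact h
  | succ i ih =>
    simp only [Zpoly, mul_eq_zero, pow_eq_zero_iff', X_ne_zero, false_and, false_or] at h
    have h0 := congrArg (eval 0) h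
    simp only [eval_add, eval_pow, eval_C, eval_zero, eval_zero_Zpoly hq a i] at h0
    rw [zero_pow hq0, zero_add] at h0
    rw [h0, C_0, add_zero] at h
    have hZ : Zpoly q a i = 0 := pow_eq_zero_iff hq0 |>.mp h
    intro j hj
    rcases Nat.lt_or_ge j (i + 1) with hlt | hge
    · exact ih hZ j (by omega)
    · obtain rfl : j = i + 1 := by omega
      exact h0

/-- Existence of a nonzero root of the additive-type polynomial. -/
theorem exists_root_Zpoly [IsAlgClosed K] (hq : 2 ≤ q) (a : ℕ → K) (r : ℕ) (ha : ∃ j ≤ r, a j ≠ 0) :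
    ∃ y : K, y ≠ 0 ∧ eval y (Zpoly q a r) = 1 := by
  have hZ : Zpoly q a r ≠ 0 := by
    intro h
    obtain ⟨j, hj, hne⟩ := ha
    exact hne (Zpoly_eq_zero hq a r h j hj)
  have hdeg : (Zpoly q a r - 1).degree ≠ 0 := by
    intro hd
    have h1 := eq_C_of_degree_eq_zero hd
    have h2 : Zpoly q a r = C ((Zpoly q a r - 1).coeff 0 + 1) := by
      rw [C_add, ← h1, C_1]; ring
    have h3 := congrArg (eval 0) h2
    rw [eval_zero_Zpoly hq, eval_C] at h3
    rw [← h3, C_0] at h2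
    exact hZ h2
  obtain ⟨y, hy⟩ := IsAlgClosed.exists_root _ hdeg
  rw [IsRoot.def, eval_sub, eval_one, sub_eq_zero] at hy
  refine ⟨y, ?_, hy⟩
  rintro rfl
  rw [eval_zero_Zpoly hq] at hy
  exact zero_ne_one hy

variable [FiniteDimensional K V]

/-- A relation of the form `Φ^r v ∈ span (Φ^i v, i < r)` exists. -/
theorem exists_rel (Φ : V →ₛₗ[σ] V) {v : V} (hv : v ≠ 0) :
    ∃ r : ℕ, ∃ v : V, v ≠ 0 ∧
      (⇑Φ)^[r] v ∈ Submodule.span K (Set.range fun i : Fin r => (⇑Φ)^[i] v) := by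
  by_contra hcon
  push Not at hcon
  have hli : ∀ r : ℕ, LinearIndependent K (fun i : Fin r => (⇑Φ)^[i] v) := by
    intro r
    induction r with
    | zero => exact linearIndependent_empty_type
    | succ r ih =>
      rw [linearIndependent_finSucc']
      exact ⟨ih, hcon r v hv⟩
  have := (hli (Module.finrank K V + 1)).fintype_card_le_finrank
  simp at this

theorem exists_fixed_ne_zero [IsAlgClosed K] (hq : 2 ≤ q) (hσ : ∀ a, σ a = a ^ q) [Nontrivial V]
    (Φ : V →ₛₗ[σ] V) (hinj : Function.Injective Φ) : ∃ w : V, w ≠ 0 ∧ Φ w = w := by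
  classical
  have hq0 : q ≠ 0 := by omega
  obtain ⟨v₀, hv₀⟩ := exists_ne (0 : V)
  have hex := exists_rel Φ hv₀
  obtain ⟨r₀, ⟨v, hv, hmem⟩, hmin⟩ : ∃ r₀, (∃ v : V, v ≠ 0 ∧
      (⇑Φ)^[r₀] v ∈ Submodule.span K (Set.range fun i : Fin r₀ => (⇑Φ)^[i] v)) ∧
      ∀ m < r₀, ¬ ∃ v : V, v ≠ 0 ∧
        (⇑Φ)^[m] v ∈ Submodule.span K (Set.range fun i : Fin m => (⇑Φ)^[i] v) :=
    ⟨Nat.find hex, Nat.find_spec hex, fun m hm => Nat.find_min hex hm⟩
  -- `r₀ ≠ 0`
  obtain ⟨r, rfl⟩ : ∃ r, r₀ = r + 1 := by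
    cases r₀ with
    | zero =>
      exfalso
      simp at hmem
      exact hv hmem
    | succ r => exact ⟨r, rfl⟩
  -- coefficients
  obtain ⟨c, hc⟩ := (Submodule.mem_span_range_iff_exists_fun K).mp hmem
  let a : ℕ → K := fun i => if h : i < r + 1 then c ⟨i, h⟩ else 0
  have hrel : (⇑Φ)^[r + 1] v = ∑ i ∈ Finset.range (r + 1), a i • (⇑Φ)^[i] v := by
    rw [← hc, ← Fin.sum_univ_eq_sum_range (fun i => a i • (⇑Φ)^[i] v) (r + 1)]
    refine Finset.sum_congr rfl fun i _ => ?_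
    simp only [a]
    rw [dif_pos i.2]
  have ha : ∃ j ≤ r, a j ≠ 0 := by
    by_contra hcon
    push Not at hcon
    have h0 : (⇑Φ)^[r + 1] v = 0 := by
      rw [hrel]
      refine Finset.sum_eq_zero fun i hi => ?_
      rw [hcon i (by have := Finset.mem_range.mp hi; omega), zero_smul]
    have hinj' := hinj.iterate (r + 1)
    exact hv (hinj' (h0.trans (Function.iterate_fixed (map_zero Φ) (r + 1)).symm))
  -- the root
  obtain ⟨y, hy0, hy⟩ := exists_root_Zpoly hq a r ha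
  let x : ℕ → K := fun i => y * eval y (Zpoly q a i)
  have hyq : y * y ^ (q - 1) = y ^ q := mul_pow_sub_one hq0 y
  have hx0 : x 0 = a 0 * y ^ q := by
    simp only [x, Zpoly, eval_mul, eval_C, eval_pow, eval_X]
    rw [← hyq]
    ring
  have hxs : ∀ i, x (i + 1) = (x i) ^ q + a (i + 1) * y ^ q := by
    intro i
    simp only [x, Zpoly, eval_mul, eval_C, eval_pow, eval_X, eval_add]
    rw [mul_pow, ← hyq]
    ring
  have hxr : x r = y := by simp only [x, hy, mul_one]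
  refine ⟨∑ i ∈ Finset.range (r + 1), x i • (⇑Φ)^[i] v, ?_, ?_⟩
  · -- nonvanishing, by minimality
    intro hw
    apply hmin r (by omega)
    refine ⟨v, hv, ?_⟩
    rw [Finset.sum_range_succ, hxr] at hw
    have h1 : (⇑Φ)^[r] v = -(y⁻¹ • ∑ i ∈ Finset.range r, x i • (⇑Φ)^[i] v) := by
      rw [eq_neg_iff_add_eq_zero, ← smul_right_injective V hy0 |>.eq_iff, smul_add, smul_zero,
        smul_inv_smul₀ hy0, add_comm]
      exact hw
    rw [h1]
    refine Submodule.neg_mem _ (Submodule.smul_mem _ _ (Submodule.sum_mem _ fun i hi => ?_))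
    exact Submodule.smul_mem _ _ (Submodule.subset_span ⟨⟨i, Finset.mem_range.mp hi⟩, rfl⟩)
  · -- fixed
    rw [map_sum]
    have h1 : ∀ i, Φ (x i • (⇑Φ)^[i] v) = (x i) ^ q • (⇑Φ)^[i + 1] v := by
      intro i
      rw [map_smulₛₗ, hσ, Function.iterate_succ_apply']
    simp_rw [h1]
    rw [Finset.sum_range_succ, hxr, hrel, Finset.smul_sum]
    rw [Finset.sum_range_succ' (fun i => y ^ q • a i • (⇑Φ)^[i] v),
      Finset.sum_range_succ' (fun i => x i • (⇑Φ)^[i] v), ← add_assoc, ← Finset.sum_add_distrib]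
    congr 1
    · refine Finset.sum_congr rfl fun i _ => ?_
      rw [hxs, add_smul, smul_smul, mul_comm]
    · rw [hx0, smul_smul, mul_comm]

end Step1

section Step2

variable {K : Type*} [Field K] [IsAlgClosed K] {σ : K →+* K} {q : ℕ}
variable {V : Type*} [AddCommGroup V] [Module K V]

/-- the span of the fixed vectors -/
def fixedSpan (Φ : V →ₛₗ[σ] V) : Submodule K V := Submodule.span K {v | Φ v = v}

theorem exists_map_eq_of_mem_fixedSpan (hq : 2 ≤ q) (hσ : ∀ a, σ a = a ^ q) (Φ : V →ₛₗ[σ] V)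
    {u : V} (hu : u ∈ fixedSpan Φ) : ∃ u' ∈ fixedSpan Φ, Φ u' = u := by
  induction hu using Submodule.closure_induction with
  | zero => exact ⟨0, zero_mem _, map_zero _⟩
  | add x y _ _ hx hy =>
    obtain ⟨x', hx', rfl⟩ := hx
    obtain ⟨y', hy', rfl⟩ := hy
    exact ⟨x' + y', add_mem hx' hy', map_add _ _ _⟩
  | smul_mem c v hv =>
    obtain ⟨z, hz⟩ := IsAlgClosed.exists_pow_nat_eq c (by omega : 0 < q)
    have hv' : Φ v = v := hv
    exact ⟨z • v, Submodule.smul_mem _ _ (Submodule.subset_span hv), by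
      rw [map_smulₛₗ, hσ, hz, hv']⟩

theorem exists_sub_eq_of_mem_fixedSpan (hq : 2 ≤ q) (hσ : ∀ a, σ a = a ^ q) (Φ : V →ₛₗ[σ] V)
    {u : V} (hu : u ∈ fixedSpan Φ) : ∃ u' ∈ fixedSpan Φ, Φ u' - u' = u := by
  induction hu using Submodule.closure_induction with
  | zero => exact ⟨0, zero_mem _, by simp⟩
  | add x y _ _ hx hy =>
    obtain ⟨x', hx', rfl⟩ := hx
    obtain ⟨y', hy', rfl⟩ := hy
    exact ⟨x' + y', add_mem hx' hy', by rw [map_add]; abel⟩
  | smul_mem c v hv =>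
    have h1 : (X ^ q - X - C c : K[X]) = X ^ q - (X + C c) := by ring
    have h2 : (X ^ q - (X + C c) : K[X]).degree = q := by
      rw [degree_sub_eq_left_of_degree_lt, degree_X_pow]
      rw [degree_X_pow, degree_X_add_C]
      exact_mod_cast hq
    have hdeg : (X ^ q - X - C c : K[X]).degree ≠ 0 := by
      rw [h1, h2]
      exact_mod_cast (by omega : q ≠ 0)
    obtain ⟨z, hz⟩ := IsAlgClosed.exists_root _ hdeg
    rw [IsRoot.def, eval_sub, eval_sub, eval_pow, eval_X, eval_C] at hz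
    have hv' : Φ v = v := hv
    refine ⟨z • v, Submodule.smul_mem _ _ (Submodule.subset_span hv), ?_⟩
    rw [map_smulₛₗ, hσ, hv', ← sub_smul]
    congr 1
    linear_combination hz

variable [FiniteDimensional K V]

theorem fixedSpan_eq_top (hq : 2 ≤ q) (hσ : ∀ a, σ a = a ^ q) (Φ : V →ₛₗ[σ] V)
    (hinj : Function.Injective Φ) : fixedSpan Φ = ⊤ := by
  by_contra hne
  have hUle : fixedSpan Φ ≤ (fixedSpan Φ).comap Φ := by
    apply Submodule.span_le.mpr
    intro v hv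
    have hv' : Φ v = v := hv
    show Φ v ∈ fixedSpan Φ
    rw [hv']
    exact Submodule.subset_span hv
  have hΦq : ∀ x, (fixedSpan Φ).mapQ (fixedSpan Φ) Φ hUle ((fixedSpan Φ).mkQ x) =
      (fixedSpan Φ).mkQ (Φ x) := fun x => rfl
  have hqinj : Function.Injective ((fixedSpan Φ).mapQ (fixedSpan Φ) Φ hUle) := by
    rw [← LinearMap.ker_eq_bot, LinearMap.ker_eq_bot']
    intro y hy
    obtain ⟨x, rfl⟩ := (fixedSpan Φ).mkQ_surjective y
    rw [hΦq] at hy
    have h1 : Φ x ∈ fixedSpan Φ := (Submodule.Quotient.mk_eq_zero _).mp hy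
    obtain ⟨u, hu, hux⟩ := exists_map_eq_of_mem_fixedSpan hq hσ Φ h1
    have : x = u := (hinj hux).symm
    rw [this]
    exact (Submodule.Quotient.mk_eq_zero _).mpr hu
  have : Nontrivial (V ⧸ fixedSpan Φ) := Submodule.Quotient.nontrivial_iff.mpr hne
  obtain ⟨wq, hwq0, hwq⟩ := exists_fixed_ne_zero hq hσ _ hqinj
  obtain ⟨w₀, rfl⟩ := (fixedSpan Φ).mkQ_surjective wq
  rw [hΦq] at hwq
  have h1 : Φ w₀ - w₀ ∈ fixedSpan Φ := by
    rw [← Submodule.Quotient.mk_eq_zero, Submodule.Quotient.mk_sub, sub_eq_zero]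
    exact hwq
  obtain ⟨u', hu', hu'eq⟩ := exists_sub_eq_of_mem_fixedSpan hq hσ Φ (Submodule.neg_mem _ h1)
  have hfix : Φ (w₀ + u') = w₀ + u' := by
    have h2 : Φ u' = u' - (Φ w₀ - w₀) := by rw [sub_eq_add_neg u', ← hu'eq]; abel
    rw [map_add, h2]
    abel
  have hmem : w₀ + u' ∈ fixedSpan Φ := Submodule.subset_span hfix
  apply hwq0
  have h3 : (fixedSpan Φ).mkQ w₀ = (fixedSpan Φ).mkQ (w₀ + u') := by
    rw [map_add, show (fixedSpan Φ).mkQ u' = 0 from (Submodule.Quotient.mk_eq_zero _).mpr hu',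
      add_zero]
  rw [h3]
  exact (Submodule.Quotient.mk_eq_zero _).mpr hmem

theorem exists_basis_fixed (hq : 2 ≤ q) (hσ : ∀ a, σ a = a ^ q) (Φ : V →ₛₗ[σ] V)
    (hinj : Function.Injective Φ) :
    ∃ (b : Set V) (B : Module.Basis b K V), ∀ i, Φ (B i) = B i := by
  obtain ⟨b, hbt, hspan, hli⟩ := exists_linearIndependent K {v : V | Φ v = v}
  have htop : ⊤ ≤ Submodule.span K (Set.range ((↑) : b → V)) := by
    rw [Subtype.range_coe, hspan]
    exact (fixedSpan_eq_top hq hσ Φ hinj).ge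
  refine ⟨b, Module.Basis.mk hli htop, fun i => ?_⟩
  rw [Module.Basis.mk_apply]
  exact hbt i.2

theorem exists_sub_eq (hq : 2 ≤ q) (hσ : ∀ a, σ a = a ^ q) (Φ : V →ₛₗ[σ] V)
    (hinj : Function.Injective Φ) (u : V) : ∃ u', Φ u' - u' = u := by
  obtain ⟨u', -, h⟩ := exists_sub_eq_of_mem_fixedSpan hq hσ Φ (u := u)
    (by rw [fixedSpan_eq_top hq hσ Φ hinj]; trivial)
  exact ⟨u', h⟩

end Step2

end Groth.Agent.Helper25.Lang

end
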