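import Mathlib

set_option autoImplicit false

namespace Groth.Agent.Helper25.LapTors

open Finset

section

variable {n : ℕ} (A : Matrix (Fin n) (Fin n) ℤ) (m : Fin n → ℤ) (ℓ : ℕ)

/-- the edge set -/
def edges : Finset (Fin n × Fin n) :=
  univ.filter fun p : Fin n × Fin n => p.1 < p.2 ∧ 0 < A p.1 p.2

/-- incidence matrix -/
def inc : Matrix (edges A) (Fin n) (ZMod ℓ) :=
  fun p i => (if p.1.1 = i then 1 else 0) - (if p.1.2 = i then 1 else 0)

lemma inc_mulVec (y : Fin n → ZMod ℓ) (p : edges A) :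
    (inc A ℓ).mulVec y p = y p.1.1 - y p.1.2 := by
  simp only [Matrix.mulVec, dotProduct, inc, sub_mul, ite_mul, one_mul, zero_mul,
    Finset.sum_sub_distrib, Finset.sum_ite_eq, Finset.mem_univ, if_true]

lemma const_of_edges (hsymm : A.IsSymm) (hA : ∀ i j, i ≠ j → 0 ≤ A i j)
    (hconn : ∀ I : Finset (Fin n), I.Nonempty → I ≠ univ → ∃ i ∈ I, ∃ j ∉ I, A i j ≠ 0)
    (y : Fin n → ZMod ℓ) (hy : ∀ p ∈ edges A, y p.1 = y p.2) (i₀ i : Fin n) : y i = y i₀ := by
  classical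
  by_contra hne
  have hI0 : (univ.filter (fun i => y i = y i₀)).Nonempty := ⟨i₀, by simp⟩
  have hIne : (univ.filter (fun i => y i = y i₀)) ≠ univ := by
    intro h
    have : i ∈ univ.filter (fun i => y i = y i₀) := by rw [h]; exact mem_univ i
    rw [mem_filter] at this
    exact hne this.2
  obtain ⟨a, ha, b, hb, hab⟩ := hconn _ hI0 hIne
  have ha' : y a = y i₀ := (mem_filter.mp ha).2
  have hb' : ¬ y b = y i₀ := fun h => hb (mem_filter.mpr ⟨mem_univ b, h⟩)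
  have hne' : a ≠ b := by rintro rfl; exact hb' ha'
  have hpos : 0 < A a b := lt_of_le_of_ne (hA a b hne') (Ne.symm hab)
  rcases lt_or_gt_of_ne hne' with h | h
  · have h1 : (a, b) ∈ edges A := by
      rw [edges, mem_filter]; exact ⟨mem_univ _, h, hpos⟩
    have h2 : y a = y b := hy (a, b) h1
    exact hb' (by rw [← h2]; exact ha')
  · have hpos' : 0 < A b a := by rw [hsymm.apply a b]; exact hpos
    have h1 : (b, a) ∈ edges A := by
      rw [edges, mem_filter]; exact ⟨mem_univ _, h, hpos'⟩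
    have h2 : y b = y a := hy (b, a) h1
    exact hb' (by rw [h2]; exact ha')

variable [Fact ℓ.Prime]

lemma finrank_ker_inc_le (hsymm : A.IsSymm) (hA : ∀ i j, i ≠ j → 0 ≤ A i j)
    (hconn : ∀ I : Finset (Fin n), I.Nonempty → I ≠ univ → ∃ i ∈ I, ∃ j ∉ I, A i j ≠ 0) :
    Module.finrank (ZMod ℓ) (LinearMap.ker (inc A ℓ).mulVecLin) ≤ 1 := by
  rcases isEmpty_or_nonempty (Fin n) with hE | ⟨⟨i₀⟩⟩
  · haveI : Subsingleton (LinearMap.ker (inc A ℓ).mulVecLin) :=
      ⟨fun a b => Subtype.ext (funext fun i => (hE.false i).elim)⟩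
    rw [Module.finrank_zero_of_subsingleton]
    exact Nat.zero_le _
  · have hle : LinearMap.ker (inc A ℓ).mulVecLin ≤
        Submodule.span (ZMod ℓ) {(fun _ => 1 : Fin n → ZMod ℓ)} := by
      intro y hy
      rw [LinearMap.mem_ker, Matrix.mulVecLin_apply] at hy
      have hy' : ∀ p ∈ edges A, y p.1 = y p.2 := by
        intro p hp
        have := congrFun hy ⟨p, hp⟩
        rw [inc_mulVec] at this
        exact sub_eq_zero.mp this
      rw [Submodule.mem_span_singleton]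
      refine ⟨y i₀, ?_⟩
      funext i
      simp only [Pi.smul_apply, smul_eq_mul, mul_one]
      exact (const_of_edges A ℓ hsymm hA hconn y hy' i₀ i).symm
    refine le_trans (Submodule.finrank_mono hle) ?_
    have hv : (fun _ => 1 : Fin n → ZMod ℓ) ≠ 0 := fun h => one_ne_zero (congrFun h i₀)
    exact (finrank_span_singleton hv).le

lemma finrank_ker_transpose_le (hsymm : A.IsSymm) (hA : ∀ i j, i ≠ j → 0 ≤ A i j)
    (hconn : ∀ I : Finset (Fin n), I.Nonempty → I ≠ univ → ∃ i ∈ I, ∃ j ∉ I, A i j ≠ 0) :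
    Module.finrank (ZMod ℓ) (LinearMap.ker (inc A ℓ).transpose.mulVecLin) ≤
      (edges A).card + 1 - n := by
  have h1 := LinearMap.finrank_range_add_finrank_ker (inc A ℓ).transpose.mulVecLin
  have h2 := LinearMap.finrank_range_add_finrank_ker (inc A ℓ).mulVecLin
  have h3 : Module.finrank (ZMod ℓ) (LinearMap.range (inc A ℓ).transpose.mulVecLin) =
      Module.finrank (ZMod ℓ) (LinearMap.range (inc A ℓ).mulVecLin) :=
    Matrix.rank_transpose (inc A ℓ)
  have h4 := finrank_ker_inc_le A ℓ hsymm hA hconn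
  rw [Module.finrank_fintype_fun_eq_card, Fintype.card_coe] at h1
  rw [Module.finrank_fintype_fun_eq_card, Fintype.card_fin] at h2
  omega

/-- antisymmetric edge function -/
def G (w : Fin n → ℤ) (a b : Fin n) : ZMod ℓ :=
  (A a b : ZMod ℓ) * ((m b : ZMod ℓ) * (w a : ZMod ℓ) - (m a : ZMod ℓ) * (w b : ZMod ℓ))

/-- the cycle attached to `w` -/
def fw (w : Fin n → ℤ) : edges A → ZMod ℓ := fun p => G A m ℓ w p.1.1 p.1.2

lemma sum_inc (H : Fin n → Fin n → ZMod ℓ)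
    (hH0 : ∀ a b, a < b → ¬ 0 < A a b → H a b = 0) (hanti : ∀ a b, H b a = - H a b)
    (hd : ∀ a, H a a = 0) (i : Fin n) :
    ∑ p : edges A, inc A ℓ p i * H p.1.1 p.1.2 = ∑ b, H i b := by
  classical
  have e0 : ∑ p : edges A, inc A ℓ p i * H p.1.1 p.1.2 =
      ∑ p : edges A, (fun q : Fin n × Fin n =>
        ((if q.1 = i then (1 : ZMod ℓ) else 0) - (if q.2 = i then 1 else 0)) * H q.1 q.2) p.1 := rfl
  rw [e0, Finset.sum_coe_sort (edges A) (fun q : Fin n × Fin n =>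
        ((if q.1 = i then (1 : ZMod ℓ) else 0) - (if q.2 = i then 1 else 0)) * H q.1 q.2)]
  rw [edges, Finset.sum_filter, Fintype.sum_prod_type]
  have key : ∀ a b : Fin n, (if (a < b ∧ 0 < A a b) then
      ((if a = i then (1 : ZMod ℓ) else 0) - (if b = i then 1 else 0)) * H a b else 0) =
      (if a = i then (if a < b then H a b else 0) else 0) -
        (if b = i then (if a < b then H a b else 0) else 0) := by
    intro a b
    by_cases hab : a < b
    · by_cases hpos : 0 < A a b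
      · simp only [hab, hpos, and_self, if_true]
        by_cases h1 : a = i <;> by_cases h2 : b = i <;> simp [h1, h2]
      · simp only [hab, hpos, and_false, if_false, if_true, hH0 a b hab hpos]
        simp
    · simp [hab]
  simp_rw [key, Finset.sum_sub_distrib]
  have e1 : ∑ a, ∑ b, (if a = i then (if a < b then H a b else 0) else 0) =
      ∑ b, (if i < b then H i b else 0) := by
    rw [Finset.sum_eq_single i]
    · simp
    · intro a _ ha; simp [ha]
    · intro h; exact absurd (mem_univ i) h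
  have e2 : ∑ a, ∑ b, (if b = i then (if a < b then H a b else 0) else 0) =
      ∑ a, (if a < i then H a i else 0) := by
    apply Finset.sum_congr rfl
    intro a _
    rw [Finset.sum_ite_eq']
    simp
  rw [e1, e2, ← Finset.sum_sub_distrib]
  apply Finset.sum_congr rfl
  intro b _
  rcases lt_trichotomy i b with h | h | h
  · simp [h, not_lt_of_gt h]
  · subst h; simp [hd]
  · simp [h, not_lt_of_gt h, hanti b i]

lemma fw_mem (hsymm : A.IsSymm) (hA : ∀ i j, i ≠ j → 0 ≤ A i j) (hAm : A.mulVec m = 0)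
    (v w : Fin n → ℤ) (hw : A.mulVec w = (ℓ : ℤ) • v) :
    (inc A ℓ).transpose.mulVec (fw A m ℓ w) = 0 := by
  funext i
  simp only [Matrix.mulVec, dotProduct, Matrix.transpose_apply, Pi.zero_apply]
  have h1 : ∑ p : edges A, inc A ℓ p i * fw A m ℓ w p = ∑ b, G A m ℓ w i b := by
    apply sum_inc A ℓ (G A m ℓ w)
    · intro a b hab hpos
      have h0 : A a b = 0 := le_antisymm (not_lt.mp hpos) (hA a b (ne_of_lt hab))
      simp [G, h0]
    · intro a b
      simp only [G, hsymm.apply a b]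
      ring
    · intro a
      simp [G]
  rw [h1]
  have h2 : ∑ b, G A m ℓ w i b =
      ((w i * (A.mulVec m) i - m i * (A.mulVec w) i : ℤ) : ZMod ℓ) := by
    simp only [G, Matrix.mulVec, dotProduct, Finset.mul_sum]
    push_cast
    rw [← Finset.sum_sub_distrib]
    apply Finset.sum_congr rfl
    intro b _
    ring
  rw [h2, hAm, hw]
  simp

lemma inj_core (hsymm : A.IsSymm) (hA : ∀ i j, i ≠ j → 0 ≤ A i j) (hAm : A.mulVec m = 0)
    (hconn : ∀ I : Finset (Fin n), I.Nonempty → I ≠ univ → ∃ i ∈ I, ∃ j ∉ I, A i j ≠ 0)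
    (hℓA : ∀ i j, A i j ≠ 0 → ¬ ((ℓ : ℤ) ∣ A i j)) (hℓm : ∀ i, ¬ ((ℓ : ℤ) ∣ m i))
    (v v' w w' : Fin n → ℤ) (hw : A.mulVec w = (ℓ : ℤ) • v) (hw' : A.mulVec w' = (ℓ : ℤ) • v')
    (hf : fw A m ℓ w = fw A m ℓ w') : ∃ u : Fin n → ℤ, A.mulVec u = v - v' := by
  have hℓ0 : (ℓ : ℤ) ≠ 0 := by exact_mod_cast (Fact.out : ℓ.Prime).ne_zero
  rcases isEmpty_or_nonempty (Fin n) with hE | ⟨⟨i₀⟩⟩
  · exact ⟨0, funext fun i => (hE.false i).elim⟩
  have hm0 : ∀ i, (m i : ZMod ℓ) ≠ 0 := fun i h =>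
    hℓm i ((ZMod.intCast_zmod_eq_zero_iff_dvd _ _).mp h)
  -- `y i = δ i / m i`
  have hy : ∀ p ∈ edges A,
      ((w p.1 - w' p.1 : ℤ) : ZMod ℓ) * (m p.1 : ZMod ℓ)⁻¹ =
        ((w p.2 - w' p.2 : ℤ) : ZMod ℓ) * (m p.2 : ZMod ℓ)⁻¹ := by
    intro p hp
    have h1 := congrFun hf ⟨p, hp⟩
    simp only [fw, G] at h1
    have hApos : 0 < A p.1 p.2 := (mem_filter.mp hp).2.2
    have hA0 : (A p.1 p.2 : ZMod ℓ) ≠ 0 := fun h =>
      hℓA p.1 p.2 (ne_of_gt hApos) ((ZMod.intCast_zmod_eq_zero_iff_dvd _ _).mp h)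
    have h2 := mul_left_cancel₀ hA0 h1
    have ha := hm0 p.1
    have hb := hm0 p.2
    push_cast
    field_simp
    linear_combination h2
  have hconst := const_of_edges A ℓ hsymm hA hconn
    (fun i => ((w i - w' i : ℤ) : ZMod ℓ) * (m i : ZMod ℓ)⁻¹) hy i₀
  obtain ⟨t, ht⟩ := ZMod.intCast_surjective
    (((w i₀ - w' i₀ : ℤ) : ZMod ℓ) * (m i₀ : ZMod ℓ)⁻¹)
  have hdvd : ∀ i, (ℓ : ℤ) ∣ (w i - w' i) - t * m i := by
    intro i
    rw [← ZMod.intCast_zmod_eq_zero_iff_dvd]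
    have h1 := hconst i
    rw [← ht] at h1
    have hmi := hm0 i
    push_cast at h1 ⊢
    have h2 : ((w i : ZMod ℓ) - (w' i : ZMod ℓ)) = (t : ZMod ℓ) * (m i : ZMod ℓ) := by
      rw [← h1, mul_assoc, inv_mul_cancel₀ hmi, mul_one]
    rw [h2, sub_self]
  choose u hu using hdvd
  refine ⟨u, ?_⟩
  have hδ : w - w' = t • m + (ℓ : ℤ) • u := by
    funext i
    simp only [Pi.sub_apply, Pi.add_apply, Pi.smul_apply, smul_eq_mul]
    linarith [hu i]
  have h3 : A.mulVec (w - w') = (ℓ : ℤ) • A.mulVec u := by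
    rw [hδ, Matrix.mulVec_add, Matrix.mulVec_smul, Matrix.mulVec_smul, hAm, smul_zero, zero_add]
  have h4 : A.mulVec (w - w') = (ℓ : ℤ) • (v - v') := by
    rw [Matrix.mulVec_sub, hw, hw', smul_sub]
  funext i
  have h5 := congrFun (h3.symm.trans h4) i
  simp only [Pi.smul_apply, smul_eq_mul] at h5
  exact mul_left_cancel₀ hℓ0 h5

end

theorem main {n : ℕ} (A : Matrix (Fin n) (Fin n) ℤ)
    (m : Fin n → ℤ) (hsymm : A.IsSymm) (hA : ∀ i j, i ≠ j → 0 ≤ A i j)
    (hAm : A.mulVec m = 0)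
    (hconn : ∀ I : Finset (Fin n), I.Nonempty → I ≠ univ → ∃ i ∈ I, ∃ j ∉ I, A i j ≠ 0)
    (ℓ : ℕ) (hℓ : ℓ.Prime) (hℓA : ∀ i j, A i j ≠ 0 → ¬ ((ℓ : ℤ) ∣ A i j))
    (hℓm : ∀ i, ¬ ((ℓ : ℤ) ∣ m i)) :
    Nat.card (Submodule.torsionBy ℤ ((Fin n → ℤ) ⧸ LinearMap.range (Matrix.mulVecLin A)) (ℓ : ℤ))
      ≤ ℓ ^ ((edges A).card + 1 - n) := by
  classical
  have : Fact ℓ.Prime := ⟨hℓ⟩
  have hex : ∀ x : Submodule.torsionBy ℤ
      ((Fin n → ℤ) ⧸ LinearMap.range (Matrix.mulVecLin A)) (ℓ : ℤ),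
      ∃ z : LinearMap.ker (inc A ℓ).transpose.mulVecLin, ∃ v w : Fin n → ℤ,
        Submodule.Quotient.mk v = x.1 ∧ A.mulVec w = (ℓ : ℤ) • v ∧ z.1 = fw A m ℓ w := by
    intro x
    obtain ⟨v, hv⟩ := Submodule.Quotient.mk_surjective _ x.1
    have hx : (ℓ : ℤ) • x.1 = 0 := (Submodule.mem_torsionBy_iff _ _).mp x.2
    rw [← hv, ← Submodule.Quotient.mk_smul, Submodule.Quotient.mk_eq_zero] at hx
    obtain ⟨w, hw⟩ := hx
    rw [Matrix.mulVecLin_apply] at hw
    refine ⟨⟨fw A m ℓ w, ?_⟩, v, w, hv, hw, rfl⟩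
    rw [LinearMap.mem_ker, Matrix.mulVecLin_apply]
    exact fw_mem A m ℓ hsymm hA hAm v w hw
  choose Φ hΦ using hex
  have hinj : Function.Injective Φ := by
    intro x x' hxx
    obtain ⟨v, w, hv, hw, hz⟩ := hΦ x
    obtain ⟨v', w', hv', hw', hz'⟩ := hΦ x'
    have hf : fw A m ℓ w = fw A m ℓ w' := by rw [← hz, ← hz', hxx]
    obtain ⟨u, hu⟩ := inj_core A m ℓ hsymm hA hAm hconn hℓA hℓm v v' w w' hw hw' hf
    apply Subtype.ext
    rw [← hv, ← hv', Submodule.Quotient.eq]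
    exact ⟨u, by rw [Matrix.mulVecLin_apply]; exact hu⟩
  calc Nat.card _ ≤ Nat.card (LinearMap.ker (inc A ℓ).transpose.mulVecLin) :=
        Nat.card_le_card_of_injective Φ hinj
    _ = ℓ ^ Module.finrank (ZMod ℓ) (LinearMap.ker (inc A ℓ).transpose.mulVecLin) := by
        rw [Module.natCard_eq_pow_finrank (K := ZMod ℓ), Nat.card_zmod]
    _ ≤ ℓ ^ ((edges A).card + 1 - n) :=
        Nat.pow_le_pow_right hℓ.pos (finrank_ker_transpose_le A ℓ hsymm hA hconn)

end Groth.Agent.Helper25.LapTors
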