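import Mathlib
import Groth.Prelude.Def_Tame
import Groth.Agent.Lib.Helper25.LatDetB

namespace Groth.Agent.Helper25.LatDet

open Submodule Groth.Agent.Helper25.LatDist

universe u v w

section Field

variable {A : Type u} [CommRing A] [IsDomain A] [IsNoetherianRing A] [Ring.KrullDimLE 1 A]
variable {K : Type v} [Field K] [Algebra A K] [IsFractionRing A K]
variable {V : Type w} [AddCommGroup V] [Module K V] [Module A V] [IsScalarTower A K V]

theorem apply_basis_of_toMatrix {n : ℕ} (b : Module.Basis (Fin n) K V) (φ : V ≃ₗ[K] V)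
    (N : Matrix (Fin n) (Fin n) K) (h : LinearMap.toMatrix b b φ.toLinearMap = N) (k : Fin n) :
    φ (b k) = ∑ l, N l k • b l := by
  have : φ.toLinearMap = Matrix.toLin b b N := by rw [← h, Matrix.toLin_toMatrix]
  have h2 : φ (b k) = φ.toLinearMap (b k) := rfl
  rw [h2, this, Matrix.toLin_self]

theorem eM_transvection {n : ℕ} (b : Module.Basis (Fin n) K V)
    (t : Matrix.TransvectionStruct (Fin n) K) (φ : V ≃ₗ[K] V)
    (h : LinearMap.toMatrix b b φ.toLinearMap = t.toMatrix) :
    eM (span A (Set.range b)) (φ.restrictScalars A) =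
      CycAlg.ordFrac A K (LinearMap.det φ.toLinearMap) := by
  classical
  have hdet : LinearMap.det φ.toLinearMap = 1 := by
    rw [← LinearMap.det_toMatrix b, h, Matrix.TransvectionStruct.det]
  rw [hdet, ordFrac_one]
  obtain ⟨i, j, hij, c⟩ := t
  have hφk : ∀ k, φ (b k) = b k + (if k = j then c • b i else 0) := by
    intro k
    rw [apply_basis_of_toMatrix b φ _ h k]
    simp only [Matrix.TransvectionStruct.toMatrix, Matrix.transvection, Matrix.add_apply,
      Matrix.one_apply, Matrix.single_apply, add_smul, Finset.sum_add_distrib]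
    congr 1
    · simp
    · by_cases hk : k = j
      · subst hk
        simp
      · have : ∀ l, (if i = l ∧ j = k then c else 0) = 0 := by
          intro l
          rw [if_neg]
          rintro ⟨_, h2⟩
          exact hk h2.symm
        simp [this, hk]
  set u : K := if c = 0 then 1 else c with hu
  set ε : A := if c = 0 then 0 else 1 with hε
  have hu0 : u ≠ 0 := by
    rw [hu]; split_ifs with hc
    · exact one_ne_zero
    · exact hc
  have hεu : algebraMap A K ε * u = c := by
    rw [hε, hu]; split_ifs with hc
    · rw [map_zero, zero_mul, hc]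
    · rw [map_one, one_mul]
  set b' : Fin n → V := fun k => if k = i then u • b i else b k with hb'
  have hb'i : b' i = u • b i := by rw [hb']; simp
  have hb'k : ∀ k, k ≠ i → b' k = b k := by intro k hk; rw [hb']; simp [hk]
  have hji : j ≠ i := Ne.symm hij
  have hψ : ∀ k, (φ.restrictScalars A) (b' k) = b' k + (if k = j then ε • b' i else 0) := by
    intro k
    show φ (b' k) = _
    by_cases hki : k = i
    · subst hki
      rw [if_neg hij, add_zero, hb'i, map_smul, hφk k, if_neg hij, add_zero]
    · rw [hb'k k hki, hφk k]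
      congr 1
      by_cases hkj : k = j
      · rw [if_pos hkj, if_pos hkj, hb'i, ← algebraMap_smul K ε, smul_smul, hεu]
      · rw [if_neg hkj, if_neg hkj]
  have hmap := map_eq_of_transvection b' i j hij ε (φ.restrictScalars A) hψ
  have hspan : span K (Set.range b') = ⊤ := by
    rw [eq_top_iff, ← b.span_eq, span_le]
    rintro _ ⟨k, rfl⟩
    by_cases hki : k = i
    · subst hki
      have : b k = u⁻¹ • b' k := by rw [hb'i, smul_smul, inv_mul_cancel₀ hu0, one_smul]
      rw [SetLike.mem_coe, this]
      exact smul_mem _ _ (subset_span ⟨k, rfl⟩)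
    · rw [SetLike.mem_coe, ← hb'k k hki]
      exact subset_span ⟨k, rfl⟩
  have hN : IsLat (span A (Set.range b')) := isLat_of_span (K := K) b' hspan
  rw [eM_indep (isLat_stdLat (A := A) b) hN, eM_of_map_eq _ hmap]

theorem eM_eq_ordFrac_det {n : ℕ} (b : Module.Basis (Fin n) K V) (φ : V ≃ₗ[K] V) :
    eM (span A (Set.range b)) (φ.restrictScalars A) =
      CycAlg.ordFrac A K (LinearMap.det φ.toLinearMap) := by
  classical
  let P : Matrix (Fin n) (Fin n) K → Prop := fun N =>
    ∀ ψ : V ≃ₗ[K] V, LinearMap.toMatrix b b ψ.toLinearMap = N →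
      eM (span A (Set.range b)) (ψ.restrictScalars A) =
        CycAlg.ordFrac A K (LinearMap.det ψ.toLinearMap)
  have key : P (LinearMap.toMatrix b b φ.toLinearMap) := by
    apply Matrix.diagonal_transvection_induction_of_det_ne_zero P
    · rw [LinearMap.det_toMatrix]; exact det_ne_zero_equiv φ
    · intro D hD ψ hψ
      have hD' : ∀ i, D i ≠ 0 := by
        rw [Matrix.det_diagonal] at hD
        exact fun i => (Finset.prod_ne_zero_iff.mp hD) i (Finset.mem_univ i)
      refine eM_genDiag b D hD' ψ (fun k => ?_)
      rw [apply_basis_of_toMatrix b ψ _ hψ k]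
      simp [Matrix.diagonal_apply]
    · intro t ψ hψ
      exact eM_transvection b t ψ hψ
    · intro M N hM hN PM PN ψ hψ
      let ψM : V ≃ₗ[K] V := LinearEquiv.ofIsUnitDet (f := Matrix.toLin b b M) (v := b) (v' := b)
        (by rw [LinearMap.toMatrix_toLin]; exact isUnit_iff_ne_zero.mpr hM)
      let ψN : V ≃ₗ[K] V := LinearEquiv.ofIsUnitDet (f := Matrix.toLin b b N) (v := b) (v' := b)
        (by rw [LinearMap.toMatrix_toLin]; exact isUnit_iff_ne_zero.mpr hN)
      have hψM : ψM.toLinearMap = Matrix.toLin b b M := LinearEquiv.coe_ofIsUnitDet _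
      have hψN : ψN.toLinearMap = Matrix.toLin b b N := LinearEquiv.coe_ofIsUnitDet _
      have hprod : ψ = ψM * ψN := by
        apply LinearEquiv.toLinearMap_injective
        have h1 : ψ.toLinearMap = Matrix.toLin b b (M * N) := by rw [← hψ, Matrix.toLin_toMatrix]
        rw [h1, Matrix.toLin_mul b b b]
        show _ = ψM.toLinearMap ∘ₗ ψN.toLinearMap
        rw [hψM, hψN]
      have e1 := PM ψM (by rw [hψM, LinearMap.toMatrix_toLin])
      have e2 := PN ψN (by rw [hψN, LinearMap.toMatrix_toLin])
      rw [hprod]
      have e3 : eM (span A (Set.range b)) ((ψM * ψN).restrictScalars A) =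
          eM (span A (Set.range b)) (ψM.restrictScalars A) +
            eM (span A (Set.range b)) (ψN.restrictScalars A) :=
        eM_mul (isLat_stdLat (A := A) b) (ψM.restrictScalars A) (ψN.restrictScalars A)
      have e4 : LinearMap.det (ψM * ψN).toLinearMap =
          LinearMap.det ψM.toLinearMap * LinearMap.det ψN.toLinearMap :=
        LinearMap.det_comp ψM.toLinearMap ψN.toLinearMap
      rw [e3, e4, ordFrac_mul A K (det_ne_zero_equiv ψM) (det_ne_zero_equiv ψN), e1, e2]
  exact key φ rfl

end Field

end Groth.Agent.Helper25.LatDet
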