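import Mathlib
import Groth.Prelude.Def_Tame
import Groth.Agent.Lib.Helper25.LatDetC

namespace Groth.Agent.Helper25.LatDet

open Submodule Groth.Agent.Helper25.LatDist

universe u v w

theorem eM_eq_ordFrac_det' {A : Type u} [CommRing A] [IsDomain A] [IsNoetherianRing A]
    [Ring.KrullDimLE 1 A] {K : Type v} [Field K] [Algebra A K] [IsFractionRing A K]
    {V : Type w} [AddCommGroup V] [Module K V] [Module A V] [IsScalarTower A K V]
    [FiniteDimensional K V] {M : Submodule A V} (hM : IsLat M) (φ : V ≃ₗ[K] V) :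
    eM M (φ.restrictScalars A) = CycAlg.ordFrac A K (LinearMap.det φ.toLinearMap) := by
  have h1 := eM_eq_ordFrac_det (A := A) (Module.finBasis K V) φ
  rw [← eM_indep hM (isLat_stdLat (A := A) (Module.finBasis K V))] at h1
  exact h1

theorem latticeDist_map_eq_ordFrac_det (A : Type u) [CommRing A] [IsDomain A]
    [IsNoetherianRing A]
    (hA : ringKrullDim A = 1) (K : Type u) [Field K] [Algebra A K]
    [IsFractionRing A K] (V : Type u) [AddCommGroup V] [Module K V] [Module A V]
    [IsScalarTower A K V] [FiniteDimensional K V]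
    (M : Submodule A V) [Submodule.IsLattice K M] (φ : V ≃ₗ[K] V) :
    Submodule.IsLattice K (M.map (φ.toLinearMap.restrictScalars A)) ∧
      Module.length A (↥M ⧸ (M ⊓ M.map (φ.toLinearMap.restrictScalars A)).submoduleOf M) < ⊤ ∧
      Module.length A (↥(M.map (φ.toLinearMap.restrictScalars A)) ⧸
          (M ⊓ M.map (φ.toLinearMap.restrictScalars A)).submoduleOf
            (M.map (φ.toLinearMap.restrictScalars A))) < ⊤ ∧
      ((Module.length A (↥M ⧸ (M ⊓ M.map (φ.toLinearMap.restrictScalars A)).submoduleOf M)).toNat : ℤ) -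
          ((Module.length A (↥(M.map (φ.toLinearMap.restrictScalars A)) ⧸
            (M ⊓ M.map (φ.toLinearMap.restrictScalars A)).submoduleOf
              (M.map (φ.toLinearMap.restrictScalars A)))).toNat : ℤ) =
        CycAlg.ordFrac A K (LinearMap.det φ.toLinearMap) := by
  haveI : Ring.KrullDimLE 1 A := Ring.krullDimLE_iff.mpr (by rw [hA]; exact le_rfl)
  have hM : IsLat M := isLat_of_isLattice (K := K) M
  have hφM : IsLat (M.map ((φ.restrictScalars A : V ≃ₗ[A] V) : V →ₗ[A] V)) := hM.map _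
  refine ⟨?_, ?_, ?_, ?_⟩
  · refine ⟨(Submodule.IsLattice.fg (A := K)).map _, ?_⟩
    have h1 : ((M.map (φ.toLinearMap.restrictScalars A) : Submodule A V) : Set V) =
        φ.toLinearMap '' (M : Set V) := rfl
    rw [h1, ← Submodule.map_span, Submodule.IsLattice.span_eq_top, Submodule.map_top,
      LinearMap.range_eq_top.mpr φ.surjective]
  · exact (qlen_ne_top' hM.1 (hM.inf_mul hφM)).lt_top
  · exact (qlen_ne_top' hφM.1 (hM.inf_mul hφM)).lt_top
  · exact eM_eq_ordFrac_det' hM φ

theorem length_quotient_span_eq_ordFrac_norm (A : Type u) [CommRing A] [IsDomain A]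
    [IsNoetherianRing A] (hA : ringKrullDim A = 1) (B : Type u) [CommRing B]
    [IsDomain B] [Algebra A B] [Module.Finite A B]
    (K L : Type u) [Field K] [Field L] [Algebra A K] [IsFractionRing A K] [Algebra B L]
    [IsFractionRing B L] [Algebra K L] [Algebra A L] [IsScalarTower A B L] [IsScalarTower A K L]
    [FiniteDimensional K L] (r : B) (hr : r ≠ 0) :
    Module.length A (B ⧸ Ideal.span {r}) < ⊤ ∧
      ((Module.length A (B ⧸ Ideal.span {r})).toNat : ℤ) =
        CycAlg.ordFrac A K (Algebra.norm K (algebraMap B L r)) := by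
  haveI : Ring.KrullDimLE 1 A := Ring.krullDimLE_iff.mpr (by rw [hA]; exact le_rfl)
  let g : B →ₗ[A] L := (IsScalarTower.toAlgHom A B L).toLinearMap
  have hg : ∀ x, g x = algebraMap B L x := fun x => rfl
  have hginj : Function.Injective g := IsFractionRing.injective B L
  set M : Submodule A L := LinearMap.range g with hMdef
  have hM : IsLat M := by
    refine ⟨?_, fun l => ?_⟩
    · rw [hMdef, LinearMap.range_eq_map]
      exact (Module.Finite.fg_top).map g
    · obtain ⟨b₁, b₂, hb₂, rfl⟩ := IsFractionRing.div_surjective B l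
      have hb₂0 : b₂ ≠ 0 := nonZeroDivisors.ne_zero hb₂
      haveI : Algebra.IsIntegral A B := Algebra.IsIntegral.of_finite A B
      obtain ⟨c, d, hd, hcd⟩ := Algebra.IsAlgebraic.exists_smul_eq_mul A b₁ hb₂0
      refine ⟨d, hd, ⟨c, ?_⟩⟩
      have hb₂L : algebraMap B L b₂ ≠ 0 := fun h =>
        hb₂0 ((IsFractionRing.injective B L) (by rw [h, map_zero]))
      symm
      calc d • (algebraMap B L b₁ / algebraMap B L b₂)
          = (d • g b₁) / algebraMap B L b₂ := by rw [hg, smul_div_assoc]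
        _ = g (b₂ * c) / algebraMap B L b₂ := by rw [← map_smul, hcd]
        _ = g c := by rw [hg, hg, map_mul]; field_simp
  have hr' : algebraMap B L r ≠ 0 := fun h =>
    hr ((IsFractionRing.injective B L) (by rw [h, map_zero]))
  let φ : L ≃ₗ[K] L := LinearEquiv.ofLinear (Algebra.lmul K L (algebraMap B L r))
    (Algebra.lmul K L (algebraMap B L r)⁻¹)
    (LinearMap.ext fun x => by simp [hr'])
    (LinearMap.ext fun x => by simp [hr'])
  have hφ : ∀ x, φ x = algebraMap B L r * x := fun x => rfl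
  have hle : M.map ((φ.restrictScalars A : L ≃ₗ[A] L) : L →ₗ[A] L) ≤ M := by
    rintro _ ⟨_, ⟨c, rfl⟩, rfl⟩
    refine ⟨r * c, ?_⟩
    show g (r * c) = φ (g c)
    rw [hφ, hg, hg, map_mul]
  have h1 := eM_of_le (φ.restrictScalars A) hle
  have h2 := eM_eq_ordFrac_det' hM φ
  have hφM : IsLat (M.map ((φ.restrictScalars A : L ≃ₗ[A] L) : L →ₗ[A] L)) := hM.map _
  have hfin : qlen M (M.map ((φ.restrictScalars A : L ≃ₗ[A] L) : L →ₗ[A] L)) ≠ ⊤ :=
    qlen_ne_top' hM.1 hφM.2
  -- identify the quotient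
  let e₀ : B ≃ₗ[A] M := LinearEquiv.ofInjective g hginj
  have he₀ : ∀ x, ((e₀ x : M) : L) = g x := fun x => rfl
  have hmap : ((Ideal.span {r}).restrictScalars A).map (e₀ : B →ₗ[A] M) =
      (M.map ((φ.restrictScalars A : L ≃ₗ[A] L) : L →ₗ[A] L)).submoduleOf M := by
    ext ⟨x, hx⟩
    constructor
    · rintro ⟨y, hy, hyx⟩
      have hy' : y ∈ Ideal.span {r} := hy
      obtain ⟨c, rfl⟩ := Ideal.mem_span_singleton'.mp hy'
      have hx' : g (c * r) = x := congrArg Subtype.val hyx
      refine ⟨g c, ⟨c, rfl⟩, ?_⟩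
      show φ (g c) = x
      rw [← hx', hφ, hg, hg, map_mul, mul_comm]
    · rintro ⟨_, ⟨c, rfl⟩, hcx⟩
      have hcx' : φ (g c) = x := hcx
      refine ⟨c * r, ?_, ?_⟩
      · show c * r ∈ Ideal.span {r}
        exact Ideal.mem_span_singleton'.mpr ⟨c, rfl⟩
      · apply Subtype.ext
        show g (c * r) = x
        rw [← hcx', hφ, hg, hg, map_mul, mul_comm]
  have hlen : Module.length A (B ⧸ Ideal.span {r}) =
      qlen M (M.map ((φ.restrictScalars A : L ≃ₗ[A] L) : L →ₗ[A] L)) := by
    unfold qlen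
    rw [← (Submodule.Quotient.restrictScalarsEquiv A (Ideal.span {r})).length_eq]
    exact (Submodule.Quotient.equiv _ _ e₀ hmap).length_eq
  refine ⟨by rw [hlen]; exact hfin.lt_top, ?_⟩
  rw [hlen, ← h1, h2]
  rfl

end Groth.Agent.Helper25.LatDet
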