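import Mathlib

namespace Groth.Agent.Helper25.LatHom

open Module

/-- The generating set. -/
def Sset (r δ : ℕ) (g : ℤ) (d : Fin r → ℤ) : Set ((Fin r → ℤ) →+ ZMod δ) :=
  {φ : (Fin r → ℤ) →+ ZMod δ | ∃ b : LinearMap.BilinForm ℤ (Fin r → ℤ), b.IsSymm ∧
      ∀ x, φ x = ((b d x + (1 - g) * b x x : ℤ) : ZMod δ)}

structure Frame (r m : ℕ) where
  π : (Fin r → ℤ) →ₗ[ℤ] ℤ
  γ : Fin m → ((Fin r → ℤ) →ₗ[ℤ] ℤ)
  v : Fin r → ℤ
  c : Fin m → (Fin r → ℤ)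
  πv : π v = 1
  πc : ∀ j, π (c j) = 0
  γv : ∀ j, γ j v = 0
  γc : ∀ i j, γ i (c j) = if i = j then 1 else 0
  decomp : ∀ x, x = π x • v + ∑ j, γ j x • c j

theorem exists_pi_v (r : ℕ) (hr : 0 < r) (d : Fin r → ℤ) :
    ∃ (π : (Fin r → ℤ) →ₗ[ℤ] ℤ) (v : Fin r → ℤ), π v = 1 ∧ d = (Finset.univ.gcd d) • v := by
  classical
  by_cases hD : Finset.univ.gcd d = 0
  · have hd : d = 0 := by
      funext i
      exact (Finset.gcd_eq_zero_iff.mp hD) i (Finset.mem_univ i)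
    refine ⟨LinearMap.proj ⟨0, hr⟩, Pi.single ⟨0, hr⟩ 1, by simp, ?_⟩
    rw [hD, zero_smul, hd]
  · obtain ⟨w, hw⟩ := Finset.gcd_eq_sum_mul Finset.univ d
    have hdvd : ∀ i, Finset.univ.gcd d ∣ d i := fun i => Finset.gcd_dvd (Finset.mem_univ i)
    obtain ⟨v, hv⟩ : ∃ v : Fin r → ℤ, ∀ i, d i = Finset.univ.gcd d * v i :=
      ⟨fun i => d i / Finset.univ.gcd d, fun i => (Int.mul_ediv_cancel' (hdvd i)).symm⟩
    generalize Finset.univ.gcd d = D at *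
    refine ⟨∑ i, w i • (LinearMap.proj i : (Fin r → ℤ) →ₗ[ℤ] ℤ), v, ?_, ?_⟩
    · have h1 : D * (∑ i, w i * v i) = D * 1 := by
        rw [mul_one, Finset.mul_sum]
        refine Eq.trans (Finset.sum_congr rfl fun i _ => ?_) hw.symm
        rw [hv i]; ring
      have h2 : (∑ i, w i • (LinearMap.proj i : (Fin r → ℤ) →ₗ[ℤ] ℤ)) v = ∑ i, w i * v i := by
        simp [LinearMap.sum_apply]
      rw [h2]; exact mul_left_cancel₀ hD h1
    · funext i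
      rw [Pi.smul_apply, smul_eq_mul]
      exact hv i

theorem exists_frame (r : ℕ) (hr : 0 < r) (d : Fin r → ℤ) :
    ∃ F : Frame r (r - 1), d = (Finset.univ.gcd d) • F.v := by
  classical
  obtain ⟨π, v, hπv, hd⟩ := exists_pi_v r hr d
  have hsurj : Function.Surjective π := fun n => ⟨n • v, by
    rw [map_smul, hπv, smul_eq_mul, mul_one]⟩
  have hfr : finrank ℤ (LinearMap.ker π) = r - 1 := by
    have h1 := Submodule.finrank_quotient_add_finrank (LinearMap.ker π)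
    have h2 : finrank ℤ ((Fin r → ℤ) ⧸ LinearMap.ker π) = 1 := by
      rw [(π.quotKerEquivOfSurjective hsurj).finrank_eq, Module.finrank_self]
    rw [h2, Module.finrank_fin_fun] at h1
    omega
  let c : Basis (Fin (r - 1)) ℤ (LinearMap.ker π) := Module.finBasisOfFinrankEq ℤ _ hfr
  let P : (Fin r → ℤ) →ₗ[ℤ] (LinearMap.ker π) :=
    LinearMap.codRestrict (LinearMap.ker π) (LinearMap.id - π.smulRight v) (fun x => by
      rw [LinearMap.mem_ker, LinearMap.sub_apply, LinearMap.id_apply, LinearMap.smulRight_apply,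
        map_sub, map_smul, hπv, smul_eq_mul, mul_one, sub_self])
  have hP : ∀ x, ((P x : LinearMap.ker π) : Fin r → ℤ) = x - π x • v := fun x => by
    simp [P]
  refine ⟨⟨π, fun j => (c.coord j).comp P, v, fun j => (c j : Fin r → ℤ), hπv, ?_, ?_, ?_, ?_⟩, hd⟩
  · intro j; exact (c j).2
  · intro j
    have : P v = 0 := by
      apply Subtype.ext; rw [hP]; simp [hπv]
    simp [this]
  · intro i j
    have hcj : π (c j : Fin r → ℤ) = 0 := (c j).2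
    have : P (c j : Fin r → ℤ) = c j := by
      apply Subtype.ext; rw [hP]
      simp [hcj]
    rw [LinearMap.comp_apply, this, Basis.coord_apply, Basis.repr_self, Finsupp.single_apply]
    by_cases h : i = j
    · subst h; simp
    · rw [if_neg (Ne.symm h), if_neg h]
  · intro x
    have h1 : (∑ j, c.repr (P x) j • (c j : Fin r → ℤ)) = ((P x : LinearMap.ker π) : Fin r → ℤ) := by
      conv_rhs => rw [← c.sum_repr (P x)]
      rw [Submodule.coe_sum]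
      simp
    simp only [LinearMap.comp_apply, Basis.coord_apply]
    rw [h1, hP]; abel

/-- The additive map `x ↦ f x * z`. -/
def homOf {r δ : ℕ} (f : (Fin r → ℤ) →ₗ[ℤ] ℤ) (z : ZMod δ) : (Fin r → ℤ) →+ ZMod δ where
  toFun x := ((f x : ℤ) : ZMod δ) * z
  map_zero' := by simp
  map_add' x y := by simp [add_mul]

@[simp] theorem homOf_apply {r δ : ℕ} (f : (Fin r → ℤ) →ₗ[ℤ] ℤ) (z : ZMod δ) (x : Fin r → ℤ) :
    homOf f z x = ((f x : ℤ) : ZMod δ) * z := rfl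

theorem Frame.hom_rec {r m δ : ℕ} (F : Frame r m) (φ : (Fin r → ℤ) →+ ZMod δ) (x : Fin r → ℤ) :
    φ x = ((F.π x : ℤ) : ZMod δ) * φ F.v + ∑ j, ((F.γ j x : ℤ) : ZMod δ) * φ (F.c j) := by
  have h := congrArg φ (F.decomp x)
  rw [map_add, map_sum] at h
  simp only [map_zsmul] at h
  simp only [zsmul_eq_mul] at h
  exact h

/-- Evaluation on the frame. -/
noncomputable def Frame.Ev {r m : ℕ} (F : Frame r m) (δ : ℕ) :
    ((Fin r → ℤ) →+ ZMod δ) ≃+ (ZMod δ × (Fin m → ZMod δ)) where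
  toFun φ := (φ F.v, fun j => φ (F.c j))
  invFun zw := homOf F.π zw.1 + ∑ j, homOf (F.γ j) (zw.2 j)
  left_inv φ := by
    refine AddMonoidHom.ext fun x => ?_
    simp only [AddMonoidHom.add_apply, AddMonoidHom.finset_sum_apply, homOf_apply]
    exact (F.hom_rec φ x).symm
  right_inv zw := by
    apply Prod.ext
    · simp [F.πv, F.γv]
    · funext i
      simp [F.πc, F.γc]
  map_add' φ ψ := by
    apply Prod.ext
    · simp
    · funext j; simp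

theorem Frame.Ev_apply {r m : ℕ} (F : Frame r m) (δ : ℕ) (φ : (Fin r → ℤ) →+ ZMod δ) :
    F.Ev δ φ = (φ F.v, fun j => φ (F.c j)) := rfl

theorem Frame.Ev_symm_apply {r m : ℕ} (F : Frame r m) (δ : ℕ) (zw : ZMod δ × (Fin m → ZMod δ)) :
    (F.Ev δ).symm zw = homOf F.π zw.1 + ∑ j, homOf (F.γ j) (zw.2 j) := rfl

section prodPi

variable {A1 A2 B1 B2 C1 C2 : Type*} [AddCommGroup A1] [AddCommGroup A2] [AddCommGroup B1]
  [AddCommGroup B2] [AddCommGroup C1] [AddCommGroup C2]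

/-- product of a map with a power of a map -/
def prodPi (m : ℕ) (f1 : A1 →+ B1) (f2 : A2 →+ B2) :
    A1 × (Fin m → A2) →+ B1 × (Fin m → B2) where
  toFun x := (f1 x.1, fun j => f2 (x.2 j))
  map_zero' := by
    apply Prod.ext
    · simp
    · funext j; simp
  map_add' x y := by
    apply Prod.ext
    · simp
    · funext j; simp

theorem prodPi_apply (m : ℕ) (f1 : A1 →+ B1) (f2 : A2 →+ B2) (x : A1 × (Fin m → A2)) :
    prodPi m f1 f2 x = (f1 x.1, fun j => f2 (x.2 j)) := rfl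

theorem prodPi_injective (m : ℕ) {f1 : A1 →+ B1} {f2 : A2 →+ B2}
    (h1 : Function.Injective f1) (h2 : Function.Injective f2) :
    Function.Injective (prodPi m f1 f2) := by
  intro x y h
  have ha : f1 x.1 = f1 y.1 := congrArg Prod.fst h
  have hb : ∀ j, f2 (x.2 j) = f2 (y.2 j) := fun j => congrFun (congrArg Prod.snd h) j
  exact Prod.ext (h1 ha) (funext fun j => h2 (hb j))

theorem prodPi_surjective (m : ℕ) {f1 : A1 →+ B1} {f2 : A2 →+ B2}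
    (h1 : Function.Surjective f1) (h2 : Function.Surjective f2) :
    Function.Surjective (prodPi m f1 f2) := by
  intro y
  obtain ⟨a, ha⟩ := h1 y.1
  choose s hs using fun j => h2 (y.2 j)
  exact ⟨(a, s), Prod.ext ha (funext hs)⟩

theorem prodPi_exact (m : ℕ) {i1 : A1 →+ B1} {i2 : A2 →+ B2} {p1 : B1 →+ C1} {p2 : B2 →+ C2}
    (e1 : ∀ z, p1 z = 0 ↔ ∃ t, i1 t = z) (e2 : ∀ z, p2 z = 0 ↔ ∃ t, i2 t = z)
    (y : B1 × (Fin m → B2)) :
    prodPi m p1 p2 y = 0 ↔ ∃ x, prodPi m i1 i2 x = y := by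
  constructor
  · intro h
    have h1 : p1 y.1 = 0 := congrArg Prod.fst h
    have h2 : ∀ j, p2 (y.2 j) = 0 := fun j => congrFun (congrArg Prod.snd h) j
    obtain ⟨t, ht⟩ := (e1 _).1 h1
    choose s hs using fun j => (e2 _).1 (h2 j)
    exact ⟨(t, s), Prod.ext ht (funext hs)⟩
  · rintro ⟨x, rfl⟩
    exact Prod.ext ((e1 _).2 ⟨x.1, rfl⟩) (funext fun j => (e2 _).2 ⟨x.2 j, rfl⟩)

end prodPi

theorem gcd_dvd_nat (δ : ℕ) (u : ℤ) : Int.gcd δ u ∣ δ :=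
  Int.natCast_dvd_natCast.mp (Int.gcd_dvd_left (δ : ℤ) u)

/-- reduction map -/
def cst (δ n : ℕ) (h : n ∣ δ) : ZMod δ →+ ZMod n := (ZMod.castHom h (ZMod n)).toAddMonoidHom

theorem cst_intCast (δ n : ℕ) (h : n ∣ δ) (a : ℤ) :
    cst δ n h ((a : ℤ) : ZMod δ) = ((a : ℤ) : ZMod n) :=
  map_intCast (ZMod.castHom h (ZMod n)) a

theorem cst_surjective (δ n : ℕ) (h : n ∣ δ) : Function.Surjective (cst δ n h) :=
  ZMod.ringHom_surjective (ZMod.castHom h (ZMod n))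

theorem cst_eq_zero_iff (δ n : ℕ) (h : n ∣ δ) (a : ℤ) :
    cst δ n h ((a : ℤ) : ZMod δ) = 0 ↔ (n : ℤ) ∣ a := by
  rw [cst_intCast]
  exact CharP.intCast_eq_zero_iff (ZMod n) n a

/-- The comparison map. -/
noncomputable def Psi {r m : ℕ} (F : Frame r m) (δ n1 n2 : ℕ) (h1 : n1 ∣ δ) (h2 : n2 ∣ δ) :
    ((Fin r → ℤ) →+ ZMod δ) →+ ZMod n1 × (Fin m → ZMod n2) :=
  (prodPi m (cst δ n1 h1) (cst δ n2 h2)).comp (F.Ev δ).toAddMonoidHom

theorem Psi_apply {r m : ℕ} (F : Frame r m) (δ n1 n2 : ℕ) (h1 : n1 ∣ δ) (h2 : n2 ∣ δ)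
    (φ : (Fin r → ℤ) →+ ZMod δ) :
    Psi F δ n1 n2 h1 h2 φ = (cst δ n1 h1 (φ F.v), fun j => cst δ n2 h2 (φ (F.c j))) := rfl

theorem Psi_surjective {r m : ℕ} (F : Frame r m) (δ n1 n2 : ℕ) (h1 : n1 ∣ δ) (h2 : n2 ∣ δ) :
    Function.Surjective (Psi F δ n1 n2 h1 h2) :=
  (prodPi_surjective m (cst_surjective δ n1 h1) (cst_surjective δ n2 h2)).comp
    (F.Ev δ).surjective

theorem bez (δ : ℕ) (u a : ℤ) (h : (Int.gcd δ u : ℤ) ∣ a) : ∃ m : ℤ, (δ : ℤ) ∣ u * m - a := by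
  obtain ⟨q, hq⟩ := h
  refine ⟨Int.gcdB δ u * q, ⟨-(Int.gcdA δ u * q), ?_⟩⟩
  have := Int.gcd_eq_gcd_ab δ u
  rw [hq]
  linear_combination (-q) * this

theorem bez2 (δ : ℕ) (u1 u2 a : ℤ) (h : (Int.gcd δ (Int.gcd u1 u2) : ℤ) ∣ a) :
    ∃ m1 m2 : ℤ, (δ : ℤ) ∣ u1 * m1 + u2 * m2 - a := by
  obtain ⟨m, hm⟩ := bez δ (Int.gcd u1 u2) a h
  refine ⟨Int.gcdA u1 u2 * m, Int.gcdB u1 u2 * m, ?_⟩
  have := Int.gcd_eq_gcd_ab u1 u2
  have e : u1 * (Int.gcdA u1 u2 * m) + u2 * (Int.gcdB u1 u2 * m) - a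
      = (Int.gcd u1 u2 : ℤ) * m - a := by
    linear_combination (-m) * this
  rw [e]; exact hm

/-- product bilinear form -/
def T {r : ℕ} (f h : (Fin r → ℤ) →ₗ[ℤ] ℤ) : LinearMap.BilinForm ℤ (Fin r → ℤ) :=
  (LinearMap.mul ℤ ℤ).compl₁₂ f h

@[simp] theorem T_apply {r : ℕ} (f h : (Fin r → ℤ) →ₗ[ℤ] ℤ) (x y : Fin r → ℤ) :
    T f h x y = f x * h y := by
  simp [T]

theorem gen0 {r m : ℕ} (F : Frame r m) (δ : ℕ) (g D : ℤ) (hδ : (δ : ℤ) ∣ 2 * (g - 1))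
    (d : Fin r → ℤ) (hd : d = D • F.v) (a : ℤ) (ha : (Int.gcd δ (D + 1 - g) : ℤ) ∣ a) :
    homOf F.π ((a : ℤ) : ZMod δ) ∈ Sset r δ g d := by
  obtain ⟨m0, hm0⟩ := bez δ (D + 1 - g) a ha
  have hπd : F.π d = D := by rw [hd, map_smul, F.πv, smul_eq_mul, mul_one]
  show ∃ b : LinearMap.BilinForm ℤ (Fin r → ℤ), b.IsSymm ∧
      ∀ x, homOf F.π ((a : ℤ) : ZMod δ) x = ((b d x + (1 - g) * b x x : ℤ) : ZMod δ)
  have hb : ∀ y z, (m0 • T F.π F.π) y z = m0 * (F.π y * F.π z) := fun y z => by simp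
  refine ⟨m0 • T F.π F.π, ⟨fun x y => ?_⟩, fun x => ?_⟩
  · rw [hb, hb, mul_comm (F.π x)]
  · obtain ⟨k, hk⟩ := Int.even_mul_pred_self (F.π x)
    rw [homOf_apply, hb, hb, hπd, ← Int.cast_mul, ZMod.intCast_eq_intCast_iff_dvd_sub]
    obtain ⟨w, hw⟩ := dvd_add (hm0.mul_left (F.π x)) (hδ.mul_right (-(m0 * k)))
    exact ⟨w, by linear_combination hw + ((1 - g) * m0) * hk⟩

theorem genj {r m : ℕ} (F : Frame r m) (δ : ℕ) (g D : ℤ) (hδ : (δ : ℤ) ∣ 2 * (g - 1))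
    (d : Fin r → ℤ) (hd : d = D • F.v) (j : Fin m) (a : ℤ)
    (ha : (Int.gcd δ (Int.gcd (g - 1) D) : ℤ) ∣ a) :
    homOf (F.γ j) ((a : ℤ) : ZMod δ) ∈ Sset r δ g d := by
  obtain ⟨m1, β, hm⟩ := bez2 δ (g - 1) D a ha
  have hπd : F.π d = D := by rw [hd, map_smul, F.πv, smul_eq_mul, mul_one]
  have hγd : F.γ j d = 0 := by rw [hd, map_smul, F.γv, smul_zero]
  show ∃ b : LinearMap.BilinForm ℤ (Fin r → ℤ), b.IsSymm ∧
      ∀ x, homOf (F.γ j) ((a : ℤ) : ZMod δ) x = ((b d x + (1 - g) * b x x : ℤ) : ZMod δ)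
  have hb : ∀ y z, (β • (T F.π (F.γ j) + T (F.γ j) F.π) + (-m1) • T (F.γ j) (F.γ j)) y z
      = β * (F.π y * F.γ j z + F.γ j y * F.π z) + (-m1) * (F.γ j y * F.γ j z) :=
    fun y z => by
      simp only [LinearMap.add_apply, LinearMap.smul_apply, T_apply, smul_eq_mul]
  refine ⟨β • (T F.π (F.γ j) + T (F.γ j) F.π) + (-m1) • T (F.γ j) (F.γ j),
    ⟨fun x y => ?_⟩, fun x => ?_⟩
  · rw [hb, hb]; ring
  · obtain ⟨k, hk⟩ := Int.even_mul_pred_self (F.γ j x)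
    rw [homOf_apply, hb, hb, hπd, hγd, ← Int.cast_mul, ZMod.intCast_eq_intCast_iff_dvd_sub]
    obtain ⟨w, hw⟩ := dvd_add (hm.mul_left (F.γ j x))
      (hδ.mul_right (m1 * k - β * F.π x * F.γ j x))
    exact ⟨w, by linear_combination hw + ((g - 1) * m1) * hk⟩

theorem closure_eq_ker {r m : ℕ} (F : Frame r m) (δ : ℕ) (g D : ℤ)
    (hδ : (δ : ℤ) ∣ 2 * (g - 1)) (d : Fin r → ℤ) (hd : d = D • F.v) :
    AddSubgroup.closure (Sset r δ g d) =
      (Psi F δ (Int.gcd δ (D + 1 - g)) (Int.gcd δ (Int.gcd (g - 1) D))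
        (gcd_dvd_nat _ _) (gcd_dvd_nat _ _)).ker := by
  apply le_antisymm
  · rw [AddSubgroup.closure_le]
    rintro φ ⟨b, hb, hφ⟩
    rw [SetLike.mem_coe, AddMonoidHom.mem_ker, Psi_apply]
    have hbd : ∀ y, b d y = D * b F.v y := fun y => by
      rw [hd, map_smul, LinearMap.smul_apply, smul_eq_mul]
    apply Prod.ext
    · show cst _ _ _ (φ F.v) = 0
      rw [hφ, cst_eq_zero_iff, hbd]
      have : D * b F.v F.v + (1 - g) * b F.v F.v = (D + 1 - g) * b F.v F.v := by ring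
      rw [this]
      exact Dvd.dvd.mul_right (Int.gcd_dvd_right _ _) _
    · funext j
      show cst _ _ _ (φ (F.c j)) = 0
      rw [hφ, cst_eq_zero_iff, hbd]
      have hg : (Int.gcd (δ : ℤ) (Int.gcd (g - 1) D) : ℤ) ∣ (Int.gcd (g - 1) D : ℤ) :=
        Int.gcd_dvd_right _ _
      have h1 : (Int.gcd (δ : ℤ) (Int.gcd (g - 1) D) : ℤ) ∣ D :=
        hg.trans (Int.gcd_dvd_right _ _)
      have h2 : (Int.gcd (δ : ℤ) (Int.gcd (g - 1) D) : ℤ) ∣ g - 1 :=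
        hg.trans (Int.gcd_dvd_left _ _)
      have : D * b F.v (F.c j) + (1 - g) * b (F.c j) (F.c j)
          = D * b F.v (F.c j) + (g - 1) * (- b (F.c j) (F.c j)) := by ring
      rw [this]
      exact dvd_add (h1.mul_right _) (h2.mul_right _)
  · intro φ hφ
    rw [AddMonoidHom.mem_ker, Psi_apply] at hφ
    have hφ1 : cst _ _ (gcd_dvd_nat δ (D + 1 - g)) (φ F.v) = 0 := congrArg Prod.fst hφ
    have hφ2 : ∀ j, cst _ _ (gcd_dvd_nat δ (Int.gcd (g - 1) D)) (φ (F.c j)) = 0 :=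
      fun j => congrFun (congrArg Prod.snd hφ) j
    have hdec : φ = homOf F.π (φ F.v) + ∑ j, homOf (F.γ j) (φ (F.c j)) :=
      ((F.Ev δ).left_inv φ).symm
    rw [hdec]
    refine add_mem ?_ (sum_mem fun j _ => ?_)
    · obtain ⟨a, ha⟩ := ZMod.intCast_surjective (φ F.v)
      rw [← ha] at hφ1 ⊢
      rw [cst_eq_zero_iff] at hφ1
      exact AddSubgroup.subset_closure (gen0 F δ g D hδ d hd a hφ1)
    · obtain ⟨a, ha⟩ := ZMod.intCast_surjective (φ (F.c j))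
      have h := hφ2 j
      rw [← ha] at h ⊢
      rw [cst_eq_zero_iff] at h
      exact AddSubgroup.subset_closure (genj F δ g D hδ d hd j a h)

theorem main1 (r : ℕ) (hr : 0 < r) (δ : ℕ) (g : ℤ) (hδ : (δ : ℤ) ∣ 2 * (g - 1))
    (d : Fin r → ℤ) :
    Nonempty ((((Fin r → ℤ) →+ ZMod δ) ⧸ AddSubgroup.closure (Sset r δ g d)) ≃+
      (ZMod (Int.gcd δ (Finset.univ.gcd d + 1 - g)) ×
        (Fin (r - 1) → ZMod (Int.gcd δ (Int.gcd (g - 1) (Finset.univ.gcd d)))))) := by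
  obtain ⟨F, hd⟩ := exists_frame r hr d
  have hcl := closure_eq_ker F δ g (Finset.univ.gcd d) hδ d hd
  exact ⟨(QuotientAddGroup.quotientAddEquivOfEq hcl).trans
    (QuotientAddGroup.quotientKerEquivOfSurjective _ (Psi_surjective F δ _ _ _ _))⟩

/-- multiplication by `n` from `ZMod (δ / n)` -/
noncomputable def iota (δ n : ℕ) (h : n ∣ δ) : ZMod (δ / n) →+ ZMod δ :=
  ZMod.lift (δ / n) ⟨(Int.castAddHom (ZMod δ)).comp (AddMonoidHom.mulLeft (n : ℤ)), by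
    show (((n : ℤ) * ((δ / n : ℕ) : ℤ) : ℤ) : ZMod δ) = 0
    rw [← Nat.cast_mul, Nat.mul_div_cancel' h, Int.cast_natCast, ZMod.natCast_self]⟩

theorem iota_coe (δ n : ℕ) (h : n ∣ δ) (s : ℤ) :
    iota δ n h ((s : ℤ) : ZMod (δ / n)) = (((n : ℤ) * s : ℤ) : ZMod δ) := by
  rw [iota, ZMod.lift_coe]
  rfl

theorem iota_injective (δ n : ℕ) (hδ : 0 < δ) (h : n ∣ δ) : Function.Injective (iota δ n h) := by
  rw [iota, ZMod.lift_injective]
  intro s hs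
  have hs' : (((n : ℤ) * s : ℤ) : ZMod δ) = 0 := hs
  rw [CharP.intCast_eq_zero_iff (ZMod δ) δ] at hs'
  rw [CharP.intCast_eq_zero_iff (ZMod (δ / n)) (δ / n)]
  have hn : (n : ℤ) ≠ 0 := by
    intro h0
    have : n = 0 := by exact_mod_cast h0
    subst this
    rw [zero_dvd_iff] at h
    omega
  have hδn : (δ : ℤ) = (n : ℤ) * ((δ / n : ℕ) : ℤ) := by
    rw [← Nat.cast_mul, Nat.mul_div_cancel' h]
  rw [hδn] at hs'
  exact (mul_dvd_mul_iff_left hn).mp hs'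

theorem iota_exact (δ n : ℕ) (h : n ∣ δ) (z : ZMod δ) :
    cst δ n h z = 0 ↔ ∃ t, iota δ n h t = z := by
  constructor
  · intro hz
    obtain ⟨a, rfl⟩ := ZMod.intCast_surjective z
    rw [cst_eq_zero_iff] at hz
    obtain ⟨s, hs⟩ := hz
    exact ⟨((s : ℤ) : ZMod (δ / n)), by rw [iota_coe, hs]⟩
  · rintro ⟨t, rfl⟩
    obtain ⟨s, rfl⟩ := ZMod.intCast_surjective t
    rw [iota_coe, cst_eq_zero_iff]
    exact dvd_mul_right _ _

/-- parametrisation of the kernel -/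
noncomputable def Theta {r m : ℕ} (F : Frame r m) (δ n1 n2 : ℕ) (h1 : n1 ∣ δ) (h2 : n2 ∣ δ) :
    ZMod (δ / n1) × (Fin m → ZMod (δ / n2)) →+ ((Fin r → ℤ) →+ ZMod δ) :=
  (F.Ev δ).symm.toAddMonoidHom.comp (prodPi m (iota δ n1 h1) (iota δ n2 h2))

theorem Theta_injective {r m : ℕ} (F : Frame r m) (δ n1 n2 : ℕ) (hδ : 0 < δ)
    (h1 : n1 ∣ δ) (h2 : n2 ∣ δ) : Function.Injective (Theta F δ n1 n2 h1 h2) :=
  fun _ _ h => prodPi_injective m (iota_injective δ n1 hδ h1) (iota_injective δ n2 hδ h2)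
    ((F.Ev δ).symm.injective h)

theorem range_Theta {r m : ℕ} (F : Frame r m) (δ n1 n2 : ℕ) (h1 : n1 ∣ δ) (h2 : n2 ∣ δ) :
    (Theta F δ n1 n2 h1 h2).range = (Psi F δ n1 n2 h1 h2).ker := by
  ext φ
  rw [AddMonoidHom.mem_range, AddMonoidHom.mem_ker]
  have hex := prodPi_exact m (iota_exact δ n1 h1) (iota_exact δ n2 h2)
  constructor
  · rintro ⟨x, rfl⟩
    show prodPi m (cst δ n1 h1) (cst δ n2 h2)
      ((F.Ev δ) ((F.Ev δ).symm (prodPi m (iota δ n1 h1) (iota δ n2 h2) x))) = 0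
    rw [AddEquiv.apply_symm_apply]
    exact (hex _).2 ⟨x, rfl⟩
  · intro h
    have h' : prodPi m (cst δ n1 h1) (cst δ n2 h2) (F.Ev δ φ) = 0 := h
    obtain ⟨x, hx⟩ := (hex _).1 h'
    refine ⟨x, ?_⟩
    show (F.Ev δ).symm (prodPi m (iota δ n1 h1) (iota δ n2 h2) x) = φ
    rw [hx, AddEquiv.symm_apply_apply]

theorem main2 (r : ℕ) (hr : 0 < r) (δ : ℕ) (hδ0 : 0 < δ) (g : ℤ) (hδ : (δ : ℤ) ∣ 2 * (g - 1))
    (d : Fin r → ℤ) :
    Nonempty (AddSubgroup.closure (Sset r δ g d) ≃+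
      (ZMod (δ / Int.gcd δ (Finset.univ.gcd d + 1 - g)) ×
        (Fin (r - 1) → ZMod (δ / Int.gcd δ (Int.gcd (g - 1) (Finset.univ.gcd d)))))) := by
  obtain ⟨F, hd⟩ := exists_frame r hr d
  have hcl := closure_eq_ker F δ g (Finset.univ.gcd d) hδ d hd
  have hrg := range_Theta F δ _ _ (gcd_dvd_nat δ (Finset.univ.gcd d + 1 - g))
    (gcd_dvd_nat δ (Int.gcd (g - 1) (Finset.univ.gcd d)))
  exact ⟨(AddEquiv.addSubgroupCongr (hcl.trans hrg.symm)).trans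
    (AddMonoidHom.ofInjective (Theta_injective F δ _ _ hδ0 _ _)).symm⟩

end Groth.Agent.Helper25.LatHom
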