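import Mathlib

namespace Groth.Agent.Helper25.LexHilb

open Polynomial Finset Nat

lemma lex_lt {ℓ : ℕ} (G : Fin ℓ → (Fin ℓ → ℚ) → ℚ)
    (hG : ∀ j x z, (∀ j' < j, x j' = z j') → G j x = G j z) (x z : Fin ℓ → ℚ)
    (h : toLex x < toLex z) : toLex (fun j => x j + G j x) < toLex (fun j => z j + G j z) := by
  change ∃ i, (∀ j, j < i → x j = z j) ∧ x i < z i at h
  obtain ⟨j, hj1, hj2⟩ := h
  refine ⟨j, ?_, ?_⟩
  · intro j' hj'
    show x j' + G j' x = z j' + G j' z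
    rw [hj1 j' hj', hG j' x z (fun j'' hj'' => hj1 j'' (lt_trans hj'' hj'))]
  · show x j + G j x < z j + G j z
    rw [hG j x z hj1]
    exact add_lt_add_left hj2 _

lemma lex_iff {ℓ : ℕ} (G : Fin ℓ → (Fin ℓ → ℚ) → ℚ)
    (hG : ∀ j x z, (∀ j' < j, x j' = z j') → G j x = G j z) (x z : Fin ℓ → ℚ) :
    toLex x ≤ toLex z ↔ toLex (fun j => x j + G j x) ≤ toLex (fun j => z j + G j z) := by
  constructor
  · intro h
    rcases h.eq_or_lt with h | h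
    · have : x = z := toLex.injective h
      rw [this]
    · exact (lex_lt G hG x z h).le
  · intro h
    by_contra hcon
    rw [not_le] at hcon
    exact absurd h (not_le.mpr (lex_lt G hG z x hcon))

noncomputable def cc (a : ℚ) (k : ℕ) : ℚ := -(-a) ^ k / ((k ! : ℚ) * a)

noncomputable def GG (a : ℚ) (ℓ : ℕ) (j : Fin ℓ) (x : Fin ℓ → ℚ) : ℚ :=
  ∑ m ∈ range (j : ℕ), cc a (j + 1 - m) * (if h : m < ℓ then x ⟨m, h⟩ else 0) + cc a (j + 2)

lemma GG_congr (a : ℚ) (ℓ : ℕ) (j : Fin ℓ) (x z : Fin ℓ → ℚ) (h : ∀ j' < j, x j' = z j') :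
    GG a ℓ j x = GG a ℓ j z := by
  unfold GG
  congr 1
  apply Finset.sum_congr rfl
  intro m hm
  have hm' : m < (j : ℕ) := mem_range.mp hm
  have hmℓ : m < ℓ := lt_trans hm' j.2
  rw [dif_pos hmℓ, dif_pos hmℓ, h ⟨m, hmℓ⟩ (Fin.lt_def.mpr hm')]

noncomputable def xs (P : ℚ[X]) (d ℓ : ℕ) : Fin ℓ → ℚ :=
  fun j => (P.coeff (d - 1 - (j : ℕ)) * ((d - 1 - (j : ℕ))! : ℚ)) / (P.coeff d * (d ! : ℚ))

lemma coeff_delta (P : ℚ[X]) (d : ℕ) (hP : P.natDegree ≤ d) (a : ℚ) (i : ℕ) (hi : i ≤ d) :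
    (P - P.comp (X - C a)).coeff i * (i ! : ℚ)
      = -∑ k ∈ range (d - i), (P.coeff (i + k + 1) * ((i + k + 1)! : ℚ)) * (-a) ^ (k + 1)
        / ((k + 1)! : ℚ) := by
  have hcomp : P.comp (X - C a) = taylor (-a) P := by
    rw [taylor_apply, C_neg, sub_eq_add_neg]
  have hdeg : (hasseDeriv i P).natDegree < d - i + 1 := by
    have := natDegree_hasseDeriv_le P i
    omega
  rw [coeff_sub, hcomp, taylor_coeff, eval_eq_sum_range' hdeg, Finset.sum_range_succ']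
  have h0 : (hasseDeriv i P).coeff 0 * (-a) ^ 0 = P.coeff i := by
    rw [hasseDeriv_coeff, pow_zero, mul_one, zero_add, Nat.choose_self, Nat.cast_one, one_mul]
  rw [h0, sub_add_cancel_right, neg_mul, Finset.sum_mul]
  congr 1
  apply Finset.sum_congr rfl
  intro k _
  rw [hasseDeriv_coeff]
  have hch : (((k + 1 + i).choose i : ℕ) : ℚ) * ((k + 1)! : ℚ) * (i ! : ℚ) = ((k + 1 + i)! : ℚ) := by
    exact_mod_cast Nat.add_choose_mul_factorial_mul_factorial (k + 1) i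
  have hidx : k + 1 + i = i + k + 1 := by omega
  rw [hidx] at hch ⊢
  have hk : ((k + 1)! : ℚ) ≠ 0 := Nat.cast_ne_zero.mpr (Nat.factorial_ne_zero _)
  rw [eq_div_iff hk]
  linear_combination (P.coeff (i + k + 1) * (-a) ^ (k + 1)) * hch

lemma ratio_formula (P : ℚ[X]) (d : ℕ) (hP : P.natDegree = d) (hP0 : P ≠ 0) (a : ℚ) (ha : a ≠ 0)
    (ℓ : ℕ) (hℓ : ℓ + 1 ≤ d) (j : Fin ℓ) :
    ((P - P.comp (X - C a)).coeff ((d - 1) - 1 - (j : ℕ)) * (((d - 1) - 1 - (j : ℕ))! : ℚ)) /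
      ((P - P.comp (X - C a)).coeff (d - 1) * ((d - 1)! : ℚ))
    = xs P d ℓ j + GG a ℓ j (xs P d ℓ) := by
  have hj : (j : ℕ) < ℓ := j.2
  obtain ⟨e, he⟩ : ∃ e, d = e + j + 2 := ⟨d - j - 2, by omega⟩
  have hlead : P.coeff d ≠ 0 := by
    rw [← hP]
    exact leadingCoeff_ne_zero.mpr hP0
  have hd0 : ((d ! : ℕ) : ℚ) ≠ 0 := Nat.cast_ne_zero.mpr (Nat.factorial_ne_zero _)
  have hαd : P.coeff d * (d ! : ℚ) ≠ 0 := mul_ne_zero hlead hd0
  have hden : (P - P.comp (X - C a)).coeff (d - 1) * ((d - 1)! : ℚ)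
      = a * (P.coeff d * (d ! : ℚ)) := by
    rw [coeff_delta P d hP.le a (d - 1) (by omega)]
    have h1 : d - (d - 1) = 1 := by omega
    rw [h1, Finset.sum_range_one]
    have h2 : d - 1 + 0 + 1 = d := by omega
    rw [h2]
    simp
    ring
  have hnum : (P - P.comp (X - C a)).coeff (d - 1 - 1 - j) * ((d - 1 - 1 - (j : ℕ))! : ℚ)
      = -∑ k ∈ range ((j : ℕ) + 2), (P.coeff (e + k + 1) * ((e + k + 1)! : ℚ)) * (-a) ^ (k + 1)
        / ((k + 1)! : ℚ) := by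
    have h1 : d - 1 - 1 - (j : ℕ) = e := by omega
    have h2 : d - e = j + 2 := by omega
    rw [h1, coeff_delta P d hP.le a e (by omega), h2]
  rw [hden, hnum, div_eq_iff (mul_ne_zero ha hαd)]
  set T : ℕ → ℚ := fun k => (P.coeff (e + k + 1) * ((e + k + 1)! : ℚ)) * (-a) ^ (k + 1)
    / ((k + 1)! : ℚ) with hT
  have hT0 : xs P d ℓ j * (a * (P.coeff d * (d ! : ℚ))) = -T 0 := by
    unfold xs
    have h1 : d - 1 - (j : ℕ) = e + 0 + 1 := by omega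
    rw [h1, hT]
    simp only [zero_add, Nat.factorial_one, Nat.cast_one, pow_one, div_one]
    field_simp
  have hTm : ∀ m ∈ range (j : ℕ),
      cc a (j + 1 - m) * (if h : m < ℓ then xs P d ℓ ⟨m, h⟩ else 0) * (a * (P.coeff d * (d ! : ℚ)))
        = -T (j - m) := by
    intro m hm
    have hm' : m < (j : ℕ) := mem_range.mp hm
    have hmℓ : m < ℓ := lt_trans hm' hj
    rw [dif_pos hmℓ]
    unfold xs cc
    have h1 : d - 1 - m = e + (j - m) + 1 := by omega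
    have h2 : (j : ℕ) + 1 - m = (j - m) + 1 := by omega
    show _ * (P.coeff (d - 1 - m) * ((d - 1 - m)! : ℚ) / _) * _ = _
    rw [h1, h2, hT]
    have hk : (((j : ℕ) - m + 1)! : ℚ) ≠ 0 := Nat.cast_ne_zero.mpr (Nat.factorial_ne_zero _)
    field_simp
  have hTl : cc a (j + 2) * (a * (P.coeff d * (d ! : ℚ))) = -T (j + 1) := by
    unfold cc
    rw [hT]
    have h1 : e + ((j : ℕ) + 1) + 1 = d := by omega
    have hk : ((((j : ℕ) + 2)! : ℕ) : ℚ) ≠ 0 := Nat.cast_ne_zero.mpr (Nat.factorial_ne_zero _)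
    simp only [h1]
    field_simp
  unfold GG
  rw [add_mul, add_mul, Finset.sum_mul, hT0, hTl, Finset.sum_congr rfl hTm]
  rw [Finset.sum_range_succ, ← Finset.sum_range_reflect, Finset.sum_range_succ]
  have h3 : (j : ℕ) + 1 - 1 - j = 0 := by omega
  rw [h3]
  have h4 : ∀ m ∈ range (j : ℕ), T ((j : ℕ) + 1 - 1 - m) = T (j - m) := by
    intro m _
    rw [Nat.add_sub_cancel]
  rw [Finset.sum_congr rfl h4, Finset.sum_neg_distrib]
  ring

theorem main (d ℓ : ℕ) (hℓ : ℓ + 1 ≤ d) (a : ℚ) (ha : a ≠ 0)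
    (P Q : ℚ[X]) (hP : P.natDegree = d) (hQ : Q.natDegree = d) (hP0 : P ≠ 0) (hQ0 : Q ≠ 0) :
    toLex (fun j : Fin ℓ => ((P).coeff (d - 1 - (j : ℕ)) * (Nat.factorial (d - 1 - (j : ℕ)) : ℚ)) / ((P).coeff (d) * (Nat.factorial (d) : ℚ))) ≤ toLex (fun j : Fin ℓ => ((Q).coeff (d - 1 - (j : ℕ)) * (Nat.factorial (d - 1 - (j : ℕ)) : ℚ)) / ((Q).coeff (d) * (Nat.factorial (d) : ℚ))) ↔
      toLex (fun j : Fin ℓ => ((P - P.comp (X - C a)).coeff ((d - 1) - 1 - (j : ℕ)) * (Nat.factorial ((d - 1) - 1 - (j : ℕ)) : ℚ)) / ((P - P.comp (X - C a)).coeff ((d - 1)) * (Nat.factorial ((d - 1)) : ℚ))) ≤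
        toLex (fun j : Fin ℓ => ((Q - Q.comp (X - C a)).coeff ((d - 1) - 1 - (j : ℕ)) * (Nat.factorial ((d - 1) - 1 - (j : ℕ)) : ℚ)) / ((Q - Q.comp (X - C a)).coeff ((d - 1)) * (Nat.factorial ((d - 1)) : ℚ))) := by
  have eP := funext (fun j : Fin ℓ => ratio_formula P d hP hP0 a ha ℓ hℓ j)
  have eQ := funext (fun j : Fin ℓ => ratio_formula Q d hQ hQ0 a ha ℓ hℓ j)
  rw [eP, eQ]
  exact lex_iff (GG a ℓ) (GG_congr a ℓ) (xs P d ℓ) (xs Q d ℓ)

end Groth.Agent.Helper25.LexHilb
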