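import Mathlib

/-!
Abstract operator calculus for the pieces `E_I` of a module with commuting-or-not components
`φ i` obeying a twisted Leibniz rule with derivations `θ i` (used for `LogConn`).
-/

namespace Groth.Agent.Helper25.LogConnA

universe v u

variable {A : Type v} {B E : Type u} [CommRing A] [CommRing B] [Algebra A B]
  [AddCommGroup E] [Module B E] [Module A E] [IsScalarTower A B E] {n : ℕ}

/-- ordered composite -/
noncomputable def cP (φ : Fin n → (E →ₗ[A] E)) (I : Finset (Fin n)) : E →ₗ[A] E :=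
  (I.sort (· ≤ ·)).foldr (fun i ψ => φ i ∘ₗ ψ) LinearMap.id

noncomputable def gen (φ : Fin n → (E →ₗ[A] E)) (t : Fin n → B) (I J : Finset (Fin n)) :
    E →ₗ[A] E :=
  ((LinearMap.lsmul B E (∏ i ∈ I \ J, t i)).restrictScalars A) ∘ₗ cP φ J

noncomputable def G (φ : Fin n → (E →ₗ[A] E)) (t : Fin n → B) (I J : Finset (Fin n)) :
    Submodule A E :=
  ⨆ J' ∈ J.powerset, LinearMap.range (gen φ t I J')

noncomputable def pc (φ : Fin n → (E →ₗ[A] E)) (t : Fin n → B) (I : Finset (Fin n)) :
    Submodule A E := G φ t I I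

variable {φ : Fin n → (E →ₗ[A] E)} {t : Fin n → B}

lemma gen_apply (I J : Finset (Fin n)) (e : E) :
    gen φ t I J e = (∏ i ∈ I \ J, t i) • cP φ J e := rfl

lemma mem_G {I J J' : Finset (Fin n)} (h : J' ⊆ J) (e : E) : gen φ t I J' e ∈ G φ t I J :=
  Submodule.mem_iSup_of_mem J' (Submodule.mem_iSup_of_mem (Finset.mem_powerset.mpr h) ⟨e, rfl⟩)

lemma G_le {I J : Finset (Fin n)} {N : Submodule A E}
    (h : ∀ J', J' ⊆ J → ∀ e, gen φ t I J' e ∈ N) : G φ t I J ≤ N :=
  iSup₂_le fun J' hJ' => by
    rintro _ ⟨e, rfl⟩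
    exact h J' (Finset.mem_powerset.mp hJ') e

lemma G_mono {I J J₂ : Finset (Fin n)} (h : J ⊆ J₂) : G φ t I J ≤ G φ t I J₂ :=
  G_le fun _ hJ' e => mem_G (hJ'.trans h) e

lemma cP_empty : cP φ (∅ : Finset (Fin n)) = LinearMap.id := by
  simp [cP]

lemma cP_insert_min (a : Fin n) (s : Finset (Fin n)) (h : ∀ x ∈ s, a < x) :
    cP φ (insert a s) = φ a ∘ₗ cP φ s := by
  have ha : a ∉ s := fun h' => lt_irrefl _ (h a h')
  unfold cP
  rw [Finset.sort_insert (· ≤ ·) (fun b hb => (h b hb).le) ha]
  rfl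

/-- hypotheses on the operators -/
structure Sys (φ : Fin n → (E →ₗ[A] E)) (θ : Fin n → Derivation A B B) (lam : B)
    (t : Fin n → B) : Prop where
  leib : ∀ (i : Fin n) (b : B) (e : E), φ i (b • e) = b • φ i e + (lam * θ i b) • e
  thetat : ∀ i j : Fin n, θ i (t j) = if j = i then t j else 0
  div : ∀ (i : Fin n) (b : B), t i ∣ θ i b

variable {θ : Fin n → Derivation A B B} {lam : B}

lemma theta_prod_eq_zero (h : Sys φ θ lam t) (a : Fin n) (S : Finset (Fin n)) (ha : a ∉ S) :
    θ a (∏ i ∈ S, t i) = 0 := by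
  classical
  induction S using Finset.induction_on with
  | empty => simp
  | insert k S hk ih =>
    have hka : k ≠ a := fun h' => ha (h' ▸ Finset.mem_insert_self _ _)
    rw [Finset.prod_insert hk, Derivation.leibniz, ih (fun h' => ha (Finset.mem_insert_of_mem h')),
      h.thetat, if_neg hka, smul_zero, smul_zero, add_zero]

lemma theta_prod_dvd (h : Sys φ θ lam t) (a : Fin n) (S : Finset (Fin n)) :
    (∏ i ∈ S, t i) ∣ θ a (∏ i ∈ S, t i) := by
  classical
  induction S using Finset.induction_on with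
  | empty => simp
  | insert k S hk ih =>
    rw [Finset.prod_insert hk, Derivation.leibniz, smul_eq_mul, smul_eq_mul]
    apply dvd_add
    · exact mul_dvd_mul_left _ ih
    · have h1 : t k ∣ θ a (t k) := by
        rw [h.thetat]
        split_ifs
        · exact dvd_refl _
        · exact dvd_zero _
      calc t k * ∏ i ∈ S, t i ∣ θ a (t k) * ∏ i ∈ S, t i := mul_dvd_mul_right h1 _
        _ = (∏ i ∈ S, t i) * θ a (t k) := mul_comm _ _

lemma G_main (h : Sys φ θ lam t) (J : Finset (Fin n)) :
    ∀ I : Finset (Fin n), J ⊆ I → ∀ (c : B) (e : E),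
      (c * ∏ i ∈ I \ J, t i) • cP φ J e ∈ G φ t I J := by
  classical
  induction J using Finset.induction_on_min with
  | empty =>
    intro I _ c e
    have h0 : (c * ∏ i ∈ I \ ∅, t i) • cP φ ∅ e = gen φ t I ∅ (c • e) := by
      rw [gen_apply, cP_empty, LinearMap.id_apply, LinearMap.id_apply, smul_smul, mul_comm]
    rw [h0]
    exact mem_G (Finset.Subset.refl _) _
  | insert a s has ih =>
    intro I hI c e
    have ha : a ∉ s := fun h' => lt_irrefl _ (has a h')
    have haI : a ∈ I := hI (Finset.mem_insert_self _ _)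
    have hsI : s ⊆ I := (Finset.subset_insert _ _).trans hI
    have e1 : I \ insert a s = I.erase a \ s := by
      ext i
      simp only [Finset.mem_sdiff, Finset.mem_insert, Finset.mem_erase]
      tauto
    have e3 : I \ s = insert a (I \ insert a s) := by
      ext i
      simp only [Finset.mem_sdiff, Finset.mem_insert]
      constructor
      · rintro ⟨hi, his⟩
        by_cases hia : i = a
        · exact Or.inl hia
        · exact Or.inr ⟨hi, fun h' => h'.elim hia his⟩
      · rintro (rfl | ⟨hi, his⟩)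
        · exact ⟨haI, ha⟩
        · exact ⟨hi, fun h' => his (Or.inr h')⟩
    have hnot : a ∉ I \ insert a s := by simp
    rw [cP_insert_min a s has, LinearMap.comp_apply]
    have hl : (c * ∏ i ∈ I \ insert a s, t i) • φ a (cP φ s e) =
        φ a ((c * ∏ i ∈ I \ insert a s, t i) • cP φ s e) -
          (lam * θ a (c * ∏ i ∈ I \ insert a s, t i)) • cP φ s e := by
      rw [h.leib]; abel
    rw [hl]
    apply Submodule.sub_mem
    · have h1 : (c * ∏ i ∈ I \ insert a s, t i) • cP φ s e ∈ G φ t (I.erase a) s := by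
        rw [e1]
        exact ih (I.erase a)
          (fun i hi => Finset.mem_erase.mpr ⟨fun h' => ha (h' ▸ hi), hsI hi⟩) c e
      have h2 : G φ t (I.erase a) s ≤ (G φ t I (insert a s)).comap (φ a) := by
        apply G_le
        intro J' hJ' e'
        have hnot' : a ∉ I.erase a \ J' := by simp
        have e2 : I.erase a \ J' = I \ insert a J' := by
          ext i
          simp only [Finset.mem_sdiff, Finset.mem_insert, Finset.mem_erase]
          tauto
        rw [Submodule.mem_comap, gen_apply, h.leib, theta_prod_eq_zero h a _ hnot', mul_zero,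
          zero_smul, add_zero]
        have h3 : (∏ i ∈ I.erase a \ J', t i) • φ a (cP φ J' e') =
            gen φ t I (insert a J') e' := by
          rw [gen_apply, cP_insert_min a J' (fun x hx => has x (hJ' hx)), LinearMap.comp_apply, e2]
        rw [h3]
        exact mem_G (Finset.insert_subset_insert a hJ') _
      exact h2 h1
    · obtain ⟨c', hc'⟩ := h.div a c
      have e4 : θ a (c * ∏ i ∈ I \ insert a s, t i) = c' * ∏ i ∈ I \ s, t i := by
        rw [Derivation.leibniz, smul_eq_mul, smul_eq_mul, theta_prod_eq_zero h a _ hnot, mul_zero,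
          zero_add, hc', e3, Finset.prod_insert hnot]
        ring
      rw [e4, ← mul_assoc]
      exact G_mono (Finset.subset_insert a s) (ih I hsI (lam * c') e)

lemma mem_pc {I J : Finset (Fin n)} (h : J ⊆ I) (e : E) : gen φ t I J e ∈ pc φ t I :=
  mem_G h e

lemma pc_le {I : Finset (Fin n)} {N : Submodule A E}
    (h : ∀ J, J ⊆ I → ∀ e, gen φ t I J e ∈ N) : pc φ t I ≤ N :=
  G_le h

lemma smul_mem_pc (h : Sys φ θ lam t) (I : Finset (Fin n)) (b : B) {x : E}
    (hx : x ∈ pc φ t I) : b • x ∈ pc φ t I := by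
  have h1 : pc φ t I ≤ (pc φ t I).comap ((LinearMap.lsmul B E b).restrictScalars A) := by
    apply pc_le
    intro J hJ e
    rw [Submodule.mem_comap, LinearMap.coe_restrictScalars, LinearMap.lsmul_apply, gen_apply,
      smul_smul]
    exact G_mono hJ (G_main h J I hJ b e)
  exact h1 hx

lemma pc_empty_eq_top : pc φ t (∅ : Finset (Fin n)) = ⊤ := by
  rw [eq_top_iff]
  intro e _
  have h1 := mem_pc (φ := φ) (t := t) (I := ∅) (J := ∅) (Finset.Subset.refl ∅) e
  simpa [gen_apply, cP_empty] using h1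

section comm

variable (hC : ∀ i j, φ i ∘ₗ φ j = φ j ∘ₗ φ i)
include hC

lemma cP_insert (a : Fin n) (s : Finset (Fin n)) (ha : a ∉ s) :
    cP φ (insert a s) = φ a ∘ₗ cP φ s := by
  unfold cP
  have hp : ((insert a s).sort (· ≤ ·)).Perm (a :: s.sort (· ≤ ·)) := by
    rw [← Multiset.coe_eq_coe, Finset.sort_eq, ← Multiset.cons_coe, Finset.sort_eq,
      Finset.insert_val_of_notMem ha]
  haveI : LeftCommutative (fun (i : Fin n) (ψ : E →ₗ[A] E) => φ i ∘ₗ ψ) :=
    ⟨fun i j ψ => by
      show φ i ∘ₗ (φ j ∘ₗ ψ) = φ j ∘ₗ (φ i ∘ₗ ψ)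
      rw [← LinearMap.comp_assoc, ← LinearMap.comp_assoc, hC i j]⟩
  rw [List.Perm.foldr_eq (f := fun (i : Fin n) (ψ : E →ₗ[A] E) => φ i ∘ₗ ψ) hp]
  rfl

lemma comm_cP (j : Fin n) (J : Finset (Fin n)) :
    φ j ∘ₗ cP φ J = cP φ J ∘ₗ φ j := by
  classical
  induction J using Finset.induction_on_min with
  | empty => rw [cP_empty, LinearMap.comp_id, LinearMap.id_comp]
  | insert a s has ih =>
    ext e
    have h1 := LinearMap.congr_fun ih e
    have h2 := LinearMap.congr_fun (hC j a) (cP φ s e)
    simp only [cP_insert_min a s has, LinearMap.comp_apply] at h1 h2 ⊢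
    rw [h2, h1]

lemma phi_mem_pc (h : Sys φ θ lam t) (I : Finset (Fin n))
    (j : Fin n) {x : E} (hx : x ∈ pc φ t I) : φ j x ∈ pc φ t I := by
  have h1 : pc φ t I ≤ (pc φ t I).comap (φ j) := by
    apply pc_le
    intro J hJ e
    obtain ⟨q, hq⟩ := theta_prod_dvd h j (I \ J)
    have h2 : φ j (cP φ J e) = cP φ J (φ j e) := LinearMap.congr_fun (comm_cP hC j J) e
    rw [Submodule.mem_comap, gen_apply, h.leib, h2, hq]
    apply Submodule.add_mem
    · exact mem_pc hJ (φ j e)
    · have h3 : (lam * ((∏ i ∈ I \ J, t i) * q)) • cP φ J e = (lam * q) • gen φ t I J e := by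
        rw [gen_apply, smul_smul]; congr 1; ring
      rw [h3]
      exact smul_mem_pc h I _ (mem_pc hJ e)
  exact h1 hx

omit hC in
lemma t_smul_mem_pc_insert (k : Fin n) (K : Finset (Fin n)) (hk : k ∉ K) {x : E}
    (hx : x ∈ pc φ t K) : t k • x ∈ pc φ t (insert k K) := by
  have h1 : pc φ t K ≤
      (pc φ t (insert k K)).comap ((LinearMap.lsmul B E (t k)).restrictScalars A) := by
    apply pc_le
    intro J hJ e
    have hkJ : k ∉ K \ J := fun h' => hk (Finset.mem_sdiff.mp h').1
    have e1 : insert k K \ J = insert k (K \ J) :=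
      Finset.insert_sdiff_of_notMem _ (fun h' => hk (hJ h'))
    rw [Submodule.mem_comap, LinearMap.coe_restrictScalars, LinearMap.lsmul_apply, gen_apply,
      smul_smul, ← Finset.prod_insert hkJ, ← e1]
    exact mem_pc (hJ.trans (Finset.subset_insert _ _)) e
  exact h1 hx

lemma phi_mem_pc_insert (h : Sys φ θ lam t) (k : Fin n) (K : Finset (Fin n)) (hk : k ∉ K)
    {x : E} (hx : x ∈ pc φ t K) : φ k x ∈ pc φ t (insert k K) := by
  have h1 : pc φ t K ≤ (pc φ t (insert k K)).comap (φ k) := by
    apply pc_le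
    intro J hJ e
    have hkJ : k ∉ K \ J := fun h' => hk (Finset.mem_sdiff.mp h').1
    have hkJ' : k ∉ J := fun h' => hk (hJ h')
    have e1 : insert k K \ insert k J = K \ J := by
      ext i
      simp only [Finset.mem_sdiff, Finset.mem_insert]
      constructor
      · rintro ⟨hi | hi, hni⟩
        · exact absurd (Or.inl hi) hni
        · exact ⟨hi, fun h' => hni (Or.inr h')⟩
      · rintro ⟨hi, hni⟩
        exact ⟨Or.inr hi, fun h' => h'.elim (fun h'' => hk (h'' ▸ hi)) hni⟩
    rw [Submodule.mem_comap, gen_apply, h.leib, theta_prod_eq_zero h k _ hkJ, mul_zero, zero_smul,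
      add_zero]
    have h3 : (∏ i ∈ K \ J, t i) • φ k (cP φ J e) = gen φ t (insert k K) (insert k J) e := by
      rw [gen_apply, cP_insert hC k J hkJ', LinearMap.comp_apply, e1]
    rw [h3]
    exact mem_pc (Finset.insert_subset_insert k hJ) e
  exact h1 hx

lemma pc_insert_le (h : Sys φ θ lam t) (k : Fin n) (K : Finset (Fin n)) (hk : k ∉ K) :
    pc φ t (insert k K) ≤
      (pc φ t K).map ((LinearMap.lsmul B E (t k)).restrictScalars A) ⊔ (pc φ t K).map (φ k) := by
  apply pc_le
  intro J hJ e
  by_cases hkJ : k ∈ J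
  · apply Submodule.mem_sup_right
    have hJ0 : J.erase k ⊆ K := fun i hi => by
      have h1 := hJ (Finset.mem_of_mem_erase hi)
      rcases Finset.mem_insert.mp h1 with h' | h'
      · exact absurd h' (Finset.ne_of_mem_erase hi)
      · exact h'
    have e1 : insert k K \ J = K \ J.erase k := by
      ext i
      simp only [Finset.mem_sdiff, Finset.mem_insert, Finset.mem_erase]
      constructor
      · rintro ⟨hi | hi, hni⟩
        · exact absurd (hi ▸ hkJ) hni
        · exact ⟨hi, fun h' => hni h'.2⟩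
      · rintro ⟨hi, hni⟩
        exact ⟨Or.inr hi, fun h' => hni ⟨fun h'' => hk (h'' ▸ hi), h'⟩⟩
    have hkK : k ∉ K \ J.erase k := fun h' => hk (Finset.mem_sdiff.mp h').1
    have hcp : cP φ J = φ k ∘ₗ cP φ (J.erase k) := by
      conv_lhs => rw [← Finset.insert_erase hkJ]
      exact cP_insert hC k _ (Finset.notMem_erase k J)
    refine Submodule.mem_map.mpr ⟨gen φ t K (J.erase k) e, mem_pc hJ0 e, ?_⟩
    rw [gen_apply, h.leib, theta_prod_eq_zero h k _ hkK, mul_zero, zero_smul, add_zero, gen_apply,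
      e1, hcp, LinearMap.comp_apply]
  · apply Submodule.mem_sup_left
    have hJK : J ⊆ K := fun i hi => by
      rcases Finset.mem_insert.mp (hJ hi) with h' | h'
      · exact absurd (h' ▸ hi) hkJ
      · exact h'
    have hkJ' : k ∉ K \ J := fun h' => hk (Finset.mem_sdiff.mp h').1
    refine Submodule.mem_map.mpr ⟨gen φ t K J e, mem_pc hJK e, ?_⟩
    rw [LinearMap.coe_restrictScalars, LinearMap.lsmul_apply, gen_apply, gen_apply, smul_smul,
      Finset.insert_sdiff_of_notMem _ hkJ, Finset.prod_insert hkJ']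

lemma pc_insert_le_pc (h : Sys φ θ lam t) (k : Fin n) (K : Finset (Fin n)) (hk : k ∉ K) :
    pc φ t (insert k K) ≤ pc φ t K := by
  refine (pc_insert_le hC h k K hk).trans (sup_le ?_ ?_)
  · rintro _ ⟨y, hy, rfl⟩
    exact smul_mem_pc h K (t k) hy
  · rintro _ ⟨z, hz, rfl⟩
    exact phi_mem_pc hC h K k hz

lemma pc_antitone (h : Sys φ θ lam t) {K K' : Finset (Fin n)} (hKK : K ⊆ K') :
    pc φ t K' ≤ pc φ t K := by
  classical
  have key : ∀ S : Finset (Fin n), Disjoint S K → pc φ t (K ∪ S) ≤ pc φ t K := by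
    intro S
    induction S using Finset.induction_on with
    | empty => intro _; rw [Finset.union_empty]
    | insert k S hk ih =>
      intro hd
      have hd' : Disjoint S K := Finset.disjoint_of_subset_left (Finset.subset_insert _ _) hd
      have hkK : k ∉ K := fun h' => Finset.disjoint_left.mp hd (Finset.mem_insert_self _ _) h'
      have hk' : k ∉ K ∪ S := fun h' => (Finset.mem_union.mp h').elim hkK hk
      rw [Finset.union_insert]
      exact (pc_insert_le_pc hC h k _ hk').trans (ih hd')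
  have h1 := key (K' \ K) Finset.sdiff_disjoint
  rwa [Finset.union_sdiff_of_subset hKK] at h1

omit hC in
lemma prod_smul_mem_pc {K K' : Finset (Fin n)} (hKK : K ⊆ K') {x : E} (hx : x ∈ pc φ t K) :
    (∏ i ∈ K' \ K, t i) • x ∈ pc φ t K' := by
  classical
  have key : ∀ S : Finset (Fin n), Disjoint S K → (∏ i ∈ S, t i) • x ∈ pc φ t (K ∪ S) := by
    intro S
    induction S using Finset.induction_on with
    | empty => intro _; simpa using hx
    | insert k S hk ih =>
      intro hd
      have hd' : Disjoint S K := Finset.disjoint_of_subset_left (Finset.subset_insert _ _) hd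
      have hkK : k ∉ K := fun h' => Finset.disjoint_left.mp hd (Finset.mem_insert_self _ _) h'
      have hk' : k ∉ K ∪ S := fun h' => (Finset.mem_union.mp h').elim hkK hk
      rw [Finset.union_insert, Finset.prod_insert hk, mul_smul]
      exact t_smul_mem_pc_insert k _ hk' (ih hd')
  have h1 := key (K' \ K) Finset.sdiff_disjoint
  rwa [Finset.union_sdiff_of_subset hKK] at h1

lemma prod_sdiff_smul_mem_pc (h : Sys φ θ lam t) (K K'' : Finset (Fin n)) {x : E}
    (hx : x ∈ pc φ t K) : (∏ i ∈ K'' \ K, t i) • x ∈ pc φ t K'' := by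
  classical
  have h1 : x ∈ pc φ t (K ∩ K'') := pc_antitone hC h Finset.inter_subset_left hx
  have h2 := prod_smul_mem_pc (t := t) (φ := φ) (Finset.inter_subset_right : K ∩ K'' ⊆ K'') h1
  have e : K'' \ (K ∩ K'') = K'' \ K := by
    ext i
    simp only [Finset.mem_sdiff, Finset.mem_inter]
    tauto
  rwa [e] at h2

end comm

lemma pc_le_pc {φ' : Fin n → (E →ₗ[A] E)} {θ' : Fin n → Derivation A B B} {lam' : B}
    {t' : Fin n → B}
    (h : Sys φ θ lam t) (hC : ∀ i j, φ i ∘ₗ φ j = φ j ∘ₗ φ i)
    (h' : Sys φ' θ' lam' t') (hC' : ∀ i j, φ' i ∘ₗ φ' j = φ' j ∘ₗ φ' i)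
    (hT : ∀ k, ∃ v : B, t' k = v * t k)
    (hR : ∀ k e, ∃ c : Fin n → B, φ' k e = φ k e + ∑ j, (t k * c j) • φ j e)
    (K : Finset (Fin n)) : pc φ' t' K ≤ pc φ t K := by
  classical
  induction K using Finset.induction_on with
  | empty => rw [pc_empty_eq_top, pc_empty_eq_top]
  | insert k K hk ih =>
    refine (pc_insert_le hC' h' k K hk).trans (sup_le ?_ ?_)
    · rintro _ ⟨y, hy, rfl⟩
      obtain ⟨v, hv⟩ := hT k
      rw [LinearMap.coe_restrictScalars, LinearMap.lsmul_apply, hv, mul_smul]
      exact smul_mem_pc h _ v (t_smul_mem_pc_insert k K hk (ih hy))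
    · rintro _ ⟨z, hz, rfl⟩
      obtain ⟨c, hc⟩ := hR k z
      rw [hc]
      apply Submodule.add_mem
      · exact phi_mem_pc_insert hC h k K hk (ih hz)
      · apply Submodule.sum_mem
        intro j _
        rw [mul_comm, mul_smul]
        exact smul_mem_pc h _ (c j)
          (t_smul_mem_pc_insert k K hk (phi_mem_pc hC h K j (ih hz)))

end Groth.Agent.Helper25.LogConnA
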