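import Mathlib
import Groth.Prelude.Def_W4swconnpcurvhiggsLogLam
import Groth.Prelude.Def_LogDiff
import Groth.Agent.Lib.Helper25.LogConnA

/-!
Concrete part for `LogConn`: coordinates in exterior powers, the operator system attached to a
logarithmic coordinate system, and the description of the layer by generators.
-/

namespace Groth.Agent.Helper25.LogConnB

open TensorProduct Groth.Agent.Helper25.LogConnA

universe v u

variable {A : Type v} {B L E : Type u} [CommRing A] [CommRing B]
    [Algebra A B] [AddCommGroup L] [Module B L] [Module A L] [IsScalarTower A B L]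
    [AddCommGroup E] [Module B E] [Module A E] [IsScalarTower A B E] {n : ℕ}

/-- bundled hypotheses on the coordinate system -/
structure LogData (t : Fin n → B) (ω : Module.Basis (Fin n) B L)
    (ι : KaehlerDifferential A B →ₗ[B] L) : Prop where
  ex_basis : ∃ bΩ : Module.Basis (Fin n) B (KaehlerDifferential A B),
    ∀ i, bΩ i = KaehlerDifferential.D A B (t i)
  hι : ∀ i, ι (KaehlerDifferential.D A B (t i)) = t i • ω i

/-- the derivation `θ_i` -/
noncomputable def th (ω : Module.Basis (Fin n) B L) (ι : KaehlerDifferential A B →ₗ[B] L)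
    (i : Fin n) : Derivation A B B :=
  ((ω.coord i) ∘ₗ ι).compDer (KaehlerDifferential.D A B)

lemma th_apply (ω : Module.Basis (Fin n) B L) (ι : KaehlerDifferential A B →ₗ[B] L)
    (i : Fin n) (b : B) : th ω ι i b = ω.coord i (ι (KaehlerDifferential.D A B b)) := rfl

variable {t : Fin n → B} {ω : Module.Basis (Fin n) B L} {ι : KaehlerDifferential A B →ₗ[B] L}

lemma coord_self (ω : Module.Basis (Fin n) B L) (i j : Fin n) :
    ω.coord i (ω j) = if j = i then 1 else 0 := by
  rw [Module.Basis.coord_apply, Module.Basis.repr_self, Finsupp.single_apply]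

lemma coord_iota_dvd (hd : LogData t ω ι) (i : Fin n) (η : KaehlerDifferential A B) :
    t i ∣ ω.coord i (ι η) := by
  obtain ⟨bΩ, hbΩ⟩ := hd.ex_basis
  have h1 : η = ∑ j, bΩ.repr η j • KaehlerDifferential.D A B (t j) := by
    conv_lhs => rw [← bΩ.sum_repr η]
    exact Finset.sum_congr rfl fun j _ => by rw [hbΩ j]
  rw [h1, map_sum, map_sum]
  apply Finset.dvd_sum
  intro j _
  rw [map_smul, map_smul, hd.hι, map_smul, coord_self, smul_eq_mul, smul_eq_mul]
  split_ifs with hji
  · rw [hji, mul_one]; exact dvd_mul_left _ _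
  · simp

lemma sys_of_logData (hd : LogData t ω ι) {lam : B} {nabla : E →ₗ[A] E ⊗[B] L}
    (hc : Conn.IsLamConn (ι.compDer (KaehlerDifferential.D A B)) lam nabla) :
    Sys (LogConn.comp nabla ω) (th ω ι) lam t where
  leib := by
    intro i b e
    show Conn.along nabla (ω.coord i) (b • e) = b • Conn.along nabla (ω.coord i) e + _
    have h0 : (ι.compDer (KaehlerDifferential.D A B)) b = ι (KaehlerDifferential.D A B b) := rfl
    rw [Conn.along_apply, Conn.along_apply, hc b e, h0, map_add, map_add, map_smul, map_smul,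
      map_smul, map_smul, TensorProduct.map_tmul, TensorProduct.rid_tmul, LinearMap.id_apply,
      smul_smul, th_apply]
  thetat := by
    intro i j
    rw [th_apply, hd.hι, map_smul, coord_self, smul_eq_mul]
    split_ifs <;> simp
  div := fun i b => coord_iota_dvd hd i _

/-! ### expansions -/

lemma expand1 (ω : Module.Basis (Fin n) B L) (z : E ⊗[B] L) :
    z = ∑ j, (TensorProduct.rid B E (TensorProduct.map LinearMap.id (ω.coord j) z)) ⊗ₜ[B] ω j := by
  induction z using TensorProduct.induction_on with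
  | zero => simp
  | tmul e l =>
    simp only [TensorProduct.map_tmul, LinearMap.id_apply, TensorProduct.rid_tmul]
    conv_lhs => rw [← ω.sum_repr l, TensorProduct.tmul_sum]
    refine Finset.sum_congr rfl fun j _ => ?_
    rw [Module.Basis.coord_apply, TensorProduct.smul_tmul]
  | add x y hx hy =>
    simp only [map_add, TensorProduct.add_tmul, Finset.sum_add_distrib]
    exact congrArg₂ (· + ·) hx hy

lemma nabla_expand (ω : Module.Basis (Fin n) B L) (nabla : E →ₗ[A] E ⊗[B] L) (e : E) :
    nabla e = ∑ j, (LogConn.comp nabla ω j e) ⊗ₜ[B] ω j :=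
  expand1 ω (nabla e)

lemma coordE_tmul (ω : Module.Basis (Fin n) B L) (p : ℕ) (K : Set.powersetCard (Fin n) p)
    (e : E) (η : ↥(⋀[B]^p L)) :
    LogConn.coordE ω p K (e ⊗ₜ[B] η) = ((ω.exteriorPower p).coord K η) • e := by
  simp [LogConn.coordE]

lemma expandP (ω : Module.Basis (Fin n) B L) (p : ℕ) (x : E ⊗[B] ↥(⋀[B]^p L)) :
    x = ∑ K : Set.powersetCard (Fin n) p,
      (LogConn.coordE ω p K x) ⊗ₜ[B] (ω.exteriorPower p K) := by
  induction x using TensorProduct.induction_on with
  | zero => simp
  | tmul e η =>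
    simp only [coordE_tmul]
    conv_lhs => rw [← (ω.exteriorPower p).sum_repr η, TensorProduct.tmul_sum]
    refine Finset.sum_congr rfl fun K _ => ?_
    rw [Module.Basis.coord_apply, TensorProduct.smul_tmul]
  | add x y hx hy =>
    simp only [map_add, TensorProduct.add_tmul, Finset.sum_add_distrib]
    exact congrArg₂ (· + ·) hx hy

lemma coord_ιMulti (ω : Module.Basis (Fin n) B L) (p : ℕ) (K : Set.powersetCard (Fin n) p)
    (v : Fin p → L) :
    (ω.exteriorPower p).coord K (exteriorPower.ιMulti B p v) =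
      (Matrix.of fun i j => ω.coord (Set.powersetCard.ofFinEmbEquiv.symm K j) (v i)).det := by
  rw [exteriorPower.basis_coord, exteriorPower.ιMultiDual_apply_ιMulti]

/-! ### determinant divisibility -/

lemma det_dvd {p : ℕ} (K'' : Set.powersetCard (Fin n) p) (Kx : Finset (Fin n)) (t : Fin n → B)
    (M : Matrix (Fin p) (Fin p) B)
    (h : ∀ b : Fin p, (Set.powersetCard.ofFinEmbEquiv.symm K'' b) ∉ Kx →
      ∀ a, t (Set.powersetCard.ofFinEmbEquiv.symm K'' b) ∣ M a b) :
    (∏ k ∈ (K'' : Finset (Fin n)) \ Kx, t k) ∣ M.det := by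
  classical
  have h' : ∀ b a, ∃ c, (Set.powersetCard.ofFinEmbEquiv.symm K'' b) ∉ Kx →
      M a b = t (Set.powersetCard.ofFinEmbEquiv.symm K'' b) * c := by
    intro b a
    by_cases hb : (Set.powersetCard.ofFinEmbEquiv.symm K'' b) ∉ Kx
    · obtain ⟨c, hc⟩ := h b hb a
      exact ⟨c, fun _ => hc⟩
    · exact ⟨0, fun h'' => absurd h'' hb⟩
  choose q hq using h'
  let v : Fin p → B := fun b =>
    if (Set.powersetCard.ofFinEmbEquiv.symm K'' b) ∉ Kx then
      t (Set.powersetCard.ofFinEmbEquiv.symm K'' b) else 1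
  let M' : Matrix (Fin p) (Fin p) B := Matrix.of fun a b =>
    if (Set.powersetCard.ofFinEmbEquiv.symm K'' b) ∉ Kx then q b a else M a b
  have hM : M = Matrix.of fun a b => v b * M' a b := by
    ext a b
    by_cases hb : (Set.powersetCard.ofFinEmbEquiv.symm K'' b) ∉ Kx
    · simp only [Matrix.of_apply, v, M', if_pos hb]
      exact hq b a hb
    · simp only [Matrix.of_apply, v, M', if_neg hb, one_mul]
  have hv : (∏ b, v b) = ∏ k ∈ (K'' : Finset (Fin n)) \ Kx, t k := by
    have h1 : (∏ b, v b) = ∏ k ∈ (K'' : Finset (Fin n)), if k ∉ Kx then t k else 1 := by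
      conv_rhs => rw [← Finset.map_orderEmbOfFin_univ (K'' : Finset (Fin n)) K''.prop,
        Finset.prod_map]
      rfl
    rw [h1, Finset.sdiff_eq_filter, Finset.prod_filter]
  rw [hM, Matrix.det_mul_row, hv]
  exact dvd_mul_right _ _

/-! ### gens ⊆ layer -/

lemma gens_subset_layer (hd : LogData t ω ι) {lam : B} {nabla : E →ₗ[A] E ⊗[B] L}
    (hc : Conn.IsLamConn (ι.compDer (KaehlerDifferential.D A B)) lam nabla) (p : ℕ)
    {x : E ⊗[B] ↥(⋀[B]^p L)} (hx : x ∈ LogConn.gens nabla ω ι p) :
    x ∈ LogConn.layer nabla ω t p := by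
  obtain ⟨I, hIp, e, v, hv1, hv2, rfl⟩ := hx
  have hS := sys_of_logData hd hc
  rw [LogConn.layer, Submodule.mem_iInf]
  intro K
  rw [Submodule.mem_comap, LinearMap.coe_restrictScalars, coordE_tmul, coord_ιMulti]
  show _ ∈ pc (LogConn.comp nabla ω) t (K : Finset (Fin n))
  by_cases hIK : I ⊆ (K : Finset (Fin n))
  · have hdvd : (∏ k ∈ (K : Finset (Fin n)) \ I, t k) ∣
        (Matrix.of fun i j => ω.coord (Set.powersetCard.ofFinEmbEquiv.symm K j) (v i)).det := by
      apply det_dvd K I t
      intro b hb a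
      rw [Matrix.of_apply]
      by_cases ha : a.val < I.card
      · rw [hv1 a ha, coord_self, if_neg]
        · exact dvd_zero _
        · intro h'
          apply hb
          rw [← h']
          exact Finset.orderEmbOfFin_mem I rfl _
      · obtain ⟨η, hη⟩ := hv2 a (not_lt.mp ha)
        rw [← hη]
        exact coord_iota_dvd hd _ η
    obtain ⟨c, hc'⟩ := hdvd
    rw [hc', show (∏ k ∈ (K : Finset (Fin n)) \ I, t k) * c =
      c * ∏ k ∈ (K : Finset (Fin n)) \ I, t k from mul_comm _ _]
    exact G_mono hIK (G_main hS I _ hIK c e)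
  · obtain ⟨i₀, hi₀I, hi₀K⟩ := Finset.not_subset.mp hIK
    have h1 : i₀ ∈ Set.range (I.orderEmbOfFin rfl) := by
      rw [Finset.range_orderEmbOfFin]; exact hi₀I
    obtain ⟨r, hr⟩ := h1
    have hrp : r.val < p := lt_of_lt_of_le r.2 hIp
    have hdet : (Matrix.of fun i j =>
        ω.coord (Set.powersetCard.ofFinEmbEquiv.symm K j) (v i)).det = 0 := by
      apply Matrix.det_eq_zero_of_row_eq_zero ⟨r.val, hrp⟩
      intro j
      rw [Matrix.of_apply, hv1 ⟨r.val, hrp⟩ r.2, coord_self, if_neg]
      intro h'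
      apply hi₀K
      have h2 : I.orderEmbOfFin rfl ⟨r.val, r.2⟩ = i₀ := hr
      rw [← h2, h']
      exact Finset.orderEmbOfFin_mem (K : Finset (Fin n)) K.prop j
    rw [hdet, zero_smul]
    exact Submodule.zero_mem _

/-! ### layer ⊆ span gens -/

lemma gen_tmul_basis_mem (hd : LogData t ω ι) (nabla : E →ₗ[A] E ⊗[B] L) (p : ℕ)
    (K : Set.powersetCard (Fin n) p) (J : Finset (Fin n)) (hJ : J ⊆ (K : Finset (Fin n)))
    (e : E) :
    ((∏ i ∈ (K : Finset (Fin n)) \ J, t i) • cP (LogConn.comp nabla ω) J e) ⊗ₜ[B]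
      (ω.exteriorPower p K) ∈ Submodule.span B (LogConn.gens nabla ω ι p) := by
  classical
  have hKc : (K : Finset (Fin n)).card = p := K.prop
  have hlp : J.card ≤ p := by rw [← hKc]; exact Finset.card_le_card hJ
  obtain ⟨g, hg⟩ := Finset.exists_equiv_extend_of_card_eq (α := Fin p)
    (t := (K : Finset (Fin n)))
    (s := Finset.univ.filter (fun k : Fin p => k.val < J.card))
    (f := fun k => if hk : k.val < J.card then J.orderEmbOfFin rfl ⟨k.val, hk⟩
      else (K : Finset (Fin n)).orderEmbOfFin hKc k)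
    (by rw [Fintype.card_fin]; exact hKc.symm)
    (by
      intro x hx
      obtain ⟨k, hk, rfl⟩ := Finset.mem_image.mp hx
      have hk' := (Finset.mem_filter.mp hk).2
      simp only [dif_pos hk']
      exact hJ (Finset.orderEmbOfFin_mem J rfl _))
    (by
      intro k hk k' hk' hkk
      have h1 := (Finset.mem_filter.mp (Finset.mem_coe.mp hk)).2
      have h2 := (Finset.mem_filter.mp (Finset.mem_coe.mp hk')).2
      simp only [dif_pos h1, dif_pos h2] at hkk
      have h3 := (J.orderEmbOfFin rfl).injective hkk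
      exact Fin.ext (Fin.mk.inj_iff.mp h3))
  have a1 : ∀ (k : Fin p) (hk : k.val < J.card),
      (g k : Fin n) = J.orderEmbOfFin rfl ⟨k.val, hk⟩ := by
    intro k hk
    rw [hg k (Finset.mem_filter.mpr ⟨Finset.mem_univ _, hk⟩), dif_pos hk]
  have a2 : ∀ k : Fin p, J.card ≤ k.val → (g k : Fin n) ∉ J := by
    intro k hk hmem
    have h1 : (g k : Fin n) ∈ Set.range (J.orderEmbOfFin rfl) := by
      rw [Finset.range_orderEmbOfFin]; exact hmem
    obtain ⟨r, hr⟩ := h1
    have hrp : r.val < p := lt_of_lt_of_le r.2 hlp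
    have h2 := a1 ⟨r.val, hrp⟩ r.2
    have h3 : g ⟨r.val, hrp⟩ = g k := Subtype.ext (by rw [h2]; exact hr)
    have h4 := g.injective h3
    have h5 : r.val = k.val := congrArg Fin.val h4
    have h6 := r.2
    omega
  obtain ⟨v, hv⟩ : ∃ v : Fin p → L, ∀ k, v k = if k.val < J.card then ω (g k : Fin n)
      else ι (KaehlerDifferential.D A B (t (g k : Fin n))) := ⟨_, fun _ => rfl⟩
  have hv_gens : (cP (LogConn.comp nabla ω) J e) ⊗ₜ[B] exteriorPower.ιMulti B p v ∈
      LogConn.gens nabla ω ι p := by
    refine ⟨J, hlp, e, v, ?_, ?_, rfl⟩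
    · intro k hk
      rw [hv k, if_pos hk, a1 k hk]
    · intro k hk
      rw [hv k, if_neg (not_lt.mpr hk)]
      exact ⟨_, rfl⟩
  have hsm : ∀ k, v k = (if k.val < J.card then (1 : B) else t (g k : Fin n)) •
      ω (g k : Fin n) := by
    intro k
    rw [hv k]
    split_ifs with hk
    · rw [one_smul]
    · rw [hd.hι]
  obtain ⟨σ, hσ⟩ : ∃ σ : Equiv.Perm (Fin p),
      ∀ k, (K : Finset (Fin n)).orderEmbOfFin hKc (σ k) = (g k : Fin n) := by
    refine ⟨g.trans ((K : Finset (Fin n)).orderIsoOfFin hKc).symm.toEquiv, fun k => ?_⟩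
    rw [← Finset.coe_orderIsoOfFin_apply]
    simp
  have hprod : (∏ k : Fin p, (if k.val < J.card then (1 : B) else t (g k : Fin n))) =
      ∏ i ∈ (K : Finset (Fin n)) \ J, t i := by
    have h1 : ∀ k : Fin p, (if k.val < J.card then (1 : B) else t (g k : Fin n)) =
        (fun x : (K : Finset (Fin n)) => if (x : Fin n) ∈ J then (1 : B) else t x) (g k) := by
      intro k
      by_cases hk : k.val < J.card
      · have h2 : (g k : Fin n) ∈ J := by rw [a1 k hk]; exact Finset.orderEmbOfFin_mem J rfl _
        simp only [if_pos hk, if_pos h2]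
      · have h2 := a2 k (not_lt.mp hk)
        simp only [if_neg hk, if_neg h2]
    calc (∏ k : Fin p, (if k.val < J.card then (1 : B) else t (g k : Fin n)))
        = ∏ k : Fin p, (fun x : (K : Finset (Fin n)) =>
            if (x : Fin n) ∈ J then (1 : B) else t x) (g k) :=
          Finset.prod_congr rfl (fun k _ => h1 k)
      _ = ∏ x : (K : Finset (Fin n)), (if (x : Fin n) ∈ J then (1 : B) else t x) :=
          Equiv.prod_comp g (fun x : (K : Finset (Fin n)) =>
            if (x : Fin n) ∈ J then (1 : B) else t x)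
      _ = ∏ x ∈ (K : Finset (Fin n)), (if x ∈ J then (1 : B) else t x) :=
          Finset.prod_coe_sort _ (fun x => if x ∈ J then (1 : B) else t x)
      _ = ∏ i ∈ (K : Finset (Fin n)) \ J, t i := by
          rw [Finset.sdiff_eq_filter, Finset.prod_filter]
          refine Finset.prod_congr rfl fun x _ => ?_
          by_cases hx : x ∈ J <;> simp [hx]
  have hιM : exteriorPower.ιMulti B p v =
      (∏ i ∈ (K : Finset (Fin n)) \ J, t i) •
        (Equiv.Perm.sign σ • ω.exteriorPower p K) := by
    have h1 : v = fun k => (if k.val < J.card then (1 : B) else t (g k : Fin n)) •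
        ((ω ∘ (Set.powersetCard.ofFinEmbEquiv.symm K)) ∘ σ) k := by
      funext k
      rw [hsm k]
      simp only [Function.comp_apply]
      congr 2
      exact (hσ k).symm
    rw [h1, AlternatingMap.map_smul_univ, AlternatingMap.map_perm, exteriorPower.basis_apply,
      hprod]
    rfl
  rcases Int.units_eq_one_or (Equiv.Perm.sign σ) with h1 | h1
  · rw [h1, one_smul] at hιM
    have h2 : ((∏ i ∈ (K : Finset (Fin n)) \ J, t i) • cP (LogConn.comp nabla ω) J e) ⊗ₜ[B]
        (ω.exteriorPower p K) =
        (cP (LogConn.comp nabla ω) J e) ⊗ₜ[B] exteriorPower.ιMulti B p v := by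
      rw [hιM, TensorProduct.smul_tmul]
    rw [h2]
    exact Submodule.subset_span hv_gens
  · rw [h1, Units.neg_smul, one_smul, smul_neg] at hιM
    have h2 : ((∏ i ∈ (K : Finset (Fin n)) \ J, t i) • cP (LogConn.comp nabla ω) J e) ⊗ₜ[B]
        (ω.exteriorPower p K) =
        -((cP (LogConn.comp nabla ω) J e) ⊗ₜ[B] exteriorPower.ιMulti B p v) := by
      rw [hιM, TensorProduct.tmul_neg, neg_neg, TensorProduct.smul_tmul]
    rw [h2]
    exact Submodule.neg_mem _ (Submodule.subset_span hv_gens)

lemma layer_le_span (hd : LogData t ω ι) (nabla : E →ₗ[A] E ⊗[B] L) (p : ℕ)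
    {x : E ⊗[B] ↥(⋀[B]^p L)} (hx : x ∈ LogConn.layer nabla ω t p) :
    x ∈ Submodule.span B (LogConn.gens nabla ω ι p) := by
  rw [expandP ω p x]
  apply Submodule.sum_mem
  intro K _
  rw [LogConn.layer, Submodule.mem_iInf] at hx
  have hK := hx K
  rw [Submodule.mem_comap, LinearMap.coe_restrictScalars] at hK
  have h1 : pc (LogConn.comp nabla ω) t (K : Finset (Fin n)) ≤
      ((Submodule.span B (LogConn.gens nabla ω ι p)).restrictScalars A).comap
        (((TensorProduct.mk B E _).flip (ω.exteriorPower p K)).restrictScalars A) := by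
    apply pc_le
    intro J hJ e
    rw [Submodule.mem_comap, Submodule.restrictScalars_mem, LinearMap.coe_restrictScalars,
      LinearMap.flip_apply, TensorProduct.mk_apply, gen_apply]
    exact gen_tmul_basis_mem hd nabla p K J hJ e
  exact h1 hK

theorem span_gens_eq_layer (hd : LogData t ω ι) {lam : B} {nabla : E →ₗ[A] E ⊗[B] L}
    (hc : Conn.IsLamConn (ι.compDer (KaehlerDifferential.D A B)) lam nabla) (p : ℕ) :
    (Submodule.span B (LogConn.gens nabla ω ι p)).restrictScalars A =
      LogConn.layer nabla ω t p := by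
  have hS := sys_of_logData hd hc
  apply le_antisymm
  · intro x hx
    rw [Submodule.restrictScalars_mem] at hx
    induction hx using Submodule.span_induction with
    | mem x hx => exact gens_subset_layer hd hc p hx
    | zero => exact Submodule.zero_mem _
    | add x y _ _ hx hy => exact Submodule.add_mem _ hx hy
    | smul b x _ hx =>
      rw [LogConn.layer, Submodule.mem_iInf] at hx ⊢
      intro K
      have h1 := hx K
      rw [Submodule.mem_comap, LinearMap.coe_restrictScalars] at h1 ⊢
      rw [map_smul]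
      exact smul_mem_pc hS _ b h1
  · intro x hx
    rw [Submodule.restrictScalars_mem]
    exact layer_le_span hd nabla p hx

end Groth.Agent.Helper25.LogConnB
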