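import Mathlib
import Groth.Prelude.Def_W4swconnpcurvhiggsLogLam
import Groth.Prelude.Def_LogDiff
import Groth.Agent.Lib.Helper25.LogConnA
import Groth.Agent.Lib.Helper25.LogConnB

/-!
Integrable case for `LogConn`: commutation of the components, stability of the layers under the
extended connection, and independence of the layers from the admissible coordinate system.
-/

namespace Groth.Agent.Helper25.LogConnC

open TensorProduct Groth.Agent.Helper25.LogConnA Groth.Agent.Helper25.LogConnB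

universe v u

variable {A : Type v} {B L E : Type u} [CommRing A] [CommRing B]
    [Algebra A B] [AddCommGroup L] [Module B L] [Module A L] [IsScalarTower A B L]
    [AddCommGroup E] [Module B E] [Module A E] [IsScalarTower A B E] {n : ℕ}

lemma vecTail_cons {α : Type*} {p : ℕ} (x : α) (v : Fin p → α) :
    Matrix.vecTail (Fin.cons x v : Fin (p + 1) → α) = v := by
  funext i
  simp [Matrix.vecTail]

lemma coe_oneEquiv_symm (x : L) :
    (((exteriorPower.oneEquiv B L).symm x : ↥(⋀[B]^1 L)) : ExteriorAlgebra B L) =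
      ExteriorAlgebra.ι B x := by
  rw [exteriorPower.oneEquiv_symm_apply, exteriorPower.ιMulti_apply_coe,
    ExteriorAlgebra.ιMulti_succ_apply]
  simp

lemma wedge_oneEquiv_ιMulti (p : ℕ) (x : L) (v : Fin p → L) :
    Conn.wedge p ((exteriorPower.oneEquiv B L).symm x) (exteriorPower.ιMulti B p v) =
      exteriorPower.ιMulti B (p + 1) (Fin.cons x v) := by
  apply Subtype.ext
  rw [Conn.wedge_apply_coe, coe_oneEquiv_symm, exteriorPower.ιMulti_apply_coe,
    exteriorPower.ιMulti_apply_coe, ExteriorAlgebra.ιMulti_succ_apply, Fin.cons_zero,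
    vecTail_cons]

lemma wedge_oneEquiv_oneEquiv (x y : L) :
    Conn.wedge 1 ((exteriorPower.oneEquiv B L).symm x) ((exteriorPower.oneEquiv B L).symm y) =
      exteriorPower.ιMulti B 2 (Fin.cons x (fun _ => y)) := by
  have h := wedge_oneEquiv_ιMulti (B := B) 1 x (fun _ => y)
  rw [← exteriorPower.oneEquiv_symm_apply] at h
  exact h

lemma twedge_toOne_nabla (ω : Module.Basis (Fin n) B L) (nabla : E →ₗ[A] E ⊗[B] L) (p : ℕ)
    (y : E) (η : ↥(⋀[B]^p L)) :
    Conn.twedge p (Conn.toOne (nabla y)) η =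
      ∑ i, (LogConn.comp nabla ω i y) ⊗ₜ[B]
        Conn.wedge p ((exteriorPower.oneEquiv B L).symm (ω i)) η := by
  conv_lhs => rw [nabla_expand ω nabla y]
  simp only [map_sum, LinearMap.sum_apply, Conn.toOne_tmul, Conn.twedge_tmul]

lemma coord_ιMulti_eq_zero (ω : Module.Basis (Fin n) B L) {q : ℕ} (α : Fin q → Fin n)
    (K' : Set.powersetCard (Fin n) q) (k : Fin n) (hk : k ∈ (K' : Finset (Fin n)))
    (hk' : ∀ i, α i ≠ k) :
    (ω.exteriorPower q).coord K' (exteriorPower.ιMulti B q (fun i => ω (α i))) = 0 := by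
  rw [coord_ιMulti]
  have h1 : k ∈ Set.range ((K' : Finset (Fin n)).orderEmbOfFin K'.prop) := by
    rw [Finset.range_orderEmbOfFin]; exact hk
  obtain ⟨j₀, hj₀⟩ := h1
  have hj₀' : Set.powersetCard.ofFinEmbEquiv.symm K' j₀ = k := hj₀
  apply Matrix.det_eq_zero_of_column_eq_zero j₀
  intro i
  rw [Matrix.of_apply, hj₀', coord_self, if_neg (hk' i)]

variable {t : Fin n → B} {ω : Module.Basis (Fin n) B L} {ι : KaehlerDifferential A B →ₗ[B] L}
  {d : ∀ p : ℕ, ↥(⋀[B]^p L) →ₗ[A] ↥(⋀[B]^(p + 1) L)}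

lemma d_basis_eq_zero (hd : LogDiff.IsLogRule (KaehlerDifferential.D A B) ι (⇑ω) d) (p : ℕ)
    (K : Set.powersetCard (Fin n) p) : d p (ω.exteriorPower p K) = 0 := by
  rw [exteriorPower.basis_apply]
  have h1 := hd p 1 (ω ∘ (Set.powersetCard.ofFinEmbEquiv.symm K)) (fun k => Or.inr ⟨_, rfl⟩)
  rw [one_smul] at h1
  show d p (exteriorPower.ιMulti B p (ω ∘ _)) = 0
  rw [h1]
  apply AlternatingMap.map_coord_zero _ 0
  rw [Fin.cons_zero, Derivation.map_one_eq_zero, map_zero]

lemma d_one_eq_zero (hd : LogDiff.IsLogRule (KaehlerDifferential.D A B) ι (⇑ω) d) (j : Fin n) :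
    d 1 ((exteriorPower.oneEquiv B L).symm (ω j)) = 0 := by
  rw [exteriorPower.oneEquiv_symm_apply]
  have h1 := hd 1 1 (fun _ => ω j) (fun k => Or.inr ⟨j, rfl⟩)
  rw [one_smul] at h1
  rw [h1]
  apply AlternatingMap.map_coord_zero _ 0
  rw [Fin.cons_zero, Derivation.map_one_eq_zero, map_zero]

lemma ιMulti_cons_smul_self (c : B) (x : L) :
    exteriorPower.ιMulti B 2 (Fin.cons (c • x) (fun _ => x)) = 0 := by
  have h : (Fin.cons (c • x) (fun _ => x) : Fin 2 → L) =
      fun i => (Fin.cons c (fun _ => 1) : Fin 2 → B) i • (fun _ => x : Fin 2 → L) i := by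
    funext i
    refine Fin.cases ?_ (fun i => ?_) i <;> simp
  rw [h, AlternatingMap.map_smul_univ,
    AlternatingMap.map_eq_zero_of_eq _ (fun _ => x) (i := (0 : Fin 2)) (j := 1) rfl (by decide),
    smul_zero]

lemma d_one_eq_zero' (hd : LogDiff.IsLogRule (KaehlerDifferential.D A B) ι (⇑ω) d) (u : Bˣ)
    (j : Fin n) :
    d 1 ((exteriorPower.oneEquiv B L).symm
      (ω j + ((u⁻¹ : Bˣ) : B) • ι (KaehlerDifferential.D A B (u : B)))) = 0 := by
  rw [map_add, map_smul, map_add, d_one_eq_zero hd j, zero_add,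
    exteriorPower.oneEquiv_symm_apply]
  have h1 := hd 1 ((u⁻¹ : Bˣ) : B) (fun _ => ι (KaehlerDifferential.D A B (u : B)))
    (fun k => Or.inl ⟨_, rfl⟩)
  rw [h1]
  have h2 : KaehlerDifferential.D A B ((u⁻¹ : Bˣ) : B) =
      -((u⁻¹ : Bˣ) : B) ^ 2 • KaehlerDifferential.D A B (u : B) :=
    Derivation.leibniz_of_mul_eq_one _ (Units.inv_mul u)
  rw [h2, map_smul]
  exact ιMulti_cons_smul_self _ _

lemma comm_of_integrable (ω : Module.Basis (Fin n) B L) {lam : B} {nabla : E →ₗ[A] E ⊗[B] L}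
    {nablas : ∀ p : ℕ, E ⊗[B] ↥(⋀[B]^p L) →ₗ[A] E ⊗[B] ↥(⋀[B]^(p + 1) L)}
    (hcl : ∀ j, d 1 ((exteriorPower.oneEquiv B L).symm (ω j)) = 0)
    (hint : Conn.IsIntegrable nabla (fun p => lam • d p) nablas) (a b : Fin n) :
    LogConn.comp nabla ω a ∘ₗ LogConn.comp nabla ω b =
      LogConn.comp nabla ω b ∘ₗ LogConn.comp nabla ω a := by
  ext e
  simp only [LinearMap.comp_apply]
  have h0 := hint.2 e
  rw [nabla_expand ω nabla e] at h0
  simp only [map_sum, Conn.toOne_tmul] at h0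
  have h1 : ∀ j, nablas 1 ((LogConn.comp nabla ω j e) ⊗ₜ[B]
      (exteriorPower.oneEquiv B L).symm (ω j)) =
      ∑ i, (LogConn.comp nabla ω i (LogConn.comp nabla ω j e)) ⊗ₜ[B]
        exteriorPower.ιMulti B 2 (Fin.cons (ω i) (fun _ => ω j)) := by
    intro j
    have hr := hint.1 1 (LogConn.comp nabla ω j e) ((exteriorPower.oneEquiv B L).symm (ω j))
    simp only [LinearMap.smul_apply] at hr
    rw [hr, twedge_toOne_nabla ω, hcl j, smul_zero, TensorProduct.tmul_zero, add_zero]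
    refine Finset.sum_congr rfl fun i _ => ?_
    rw [wedge_oneEquiv_oneEquiv]
  simp only [h1] at h0
  obtain ⟨ψ, hψ⟩ : ∃ ψ : Module.Dual B ↥(⋀[B]^2 L), ∀ i j,
      ψ (exteriorPower.ιMulti B 2 (Fin.cons (ω i) (fun _ => ω j))) =
        (if i = a then 1 else 0) * (if j = b then 1 else 0) -
          (if i = b then 1 else 0) * (if j = a then 1 else 0) := by
    refine ⟨exteriorPower.pairingDual B L 2
      (exteriorPower.ιMulti B 2 (Fin.cons (ω.coord a) (fun _ => ω.coord b))), fun i j => ?_⟩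
    rw [exteriorPower.pairingDual_ιMulti_ιMulti, Matrix.det_fin_two]
    simp [Finsupp.single_apply]
  have h2 := congrArg (fun z => TensorProduct.rid B E (TensorProduct.map LinearMap.id ψ z)) h0
  simp only [map_sum, map_zero, TensorProduct.map_tmul, TensorProduct.rid_tmul,
    LinearMap.id_apply, hψ] at h2
  simp only [sub_smul, Finset.sum_sub_distrib, ite_mul, mul_ite, one_mul, zero_mul, mul_zero,
    mul_one, ite_smul, one_smul, zero_smul, Finset.sum_ite_eq', Finset.mem_univ, if_true,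
    Finset.sum_ite_irrel, Finset.sum_const_zero] at h2
  exact sub_eq_zero.mp h2

/-! ### the extended connection preserves the layers -/

theorem nablas_mem_layer (hd : LogData t ω ι) {lam : B} {nabla : E →ₗ[A] E ⊗[B] L}
    (hc : Conn.IsLamConn (ι.compDer (KaehlerDifferential.D A B)) lam nabla)
    (hrule : LogDiff.IsLogRule (KaehlerDifferential.D A B) ι (⇑ω) d)
    {nablas : ∀ p : ℕ, E ⊗[B] ↥(⋀[B]^p L) →ₗ[A] E ⊗[B] ↥(⋀[B]^(p + 1) L)}
    (hint : Conn.IsIntegrable nabla (fun p => lam • d p) nablas)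
    (p : ℕ) (x : E ⊗[B] ↥(⋀[B]^p L)) (hx : x ∈ LogConn.layer nabla ω t p) :
    nablas p x ∈ LogConn.layer nabla ω t (p + 1) := by
  have hS := sys_of_logData hd hc
  have hC : ∀ i j, LogConn.comp nabla ω i ∘ₗ LogConn.comp nabla ω j =
      LogConn.comp nabla ω j ∘ₗ LogConn.comp nabla ω i :=
    comm_of_integrable ω (d_one_eq_zero hrule) hint
  rw [expandP ω p x, map_sum]
  apply Submodule.sum_mem
  intro K _
  have hK : LogConn.coordE ω p K x ∈ pc (LogConn.comp nabla ω) t (K : Finset (Fin n)) := by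
    rw [LogConn.layer, Submodule.mem_iInf] at hx
    have h1 := hx K
    rw [Submodule.mem_comap, LinearMap.coe_restrictScalars] at h1
    exact h1
  generalize LogConn.coordE ω p K x = y at hK
  have hr := hint.1 p y (ω.exteriorPower p K)
  simp only [LinearMap.smul_apply] at hr
  rw [hr, d_basis_eq_zero hrule, smul_zero, TensorProduct.tmul_zero, add_zero,
    twedge_toOne_nabla ω]
  apply Submodule.sum_mem
  intro i _
  have hw : Conn.wedge p ((exteriorPower.oneEquiv B L).symm (ω i)) (ω.exteriorPower p K) =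
      exteriorPower.ιMulti B (p + 1) (fun r => ω ((Fin.cons i
        (fun r => Set.powersetCard.ofFinEmbEquiv.symm K r) : Fin (p + 1) → Fin n) r)) := by
    rw [exteriorPower.basis_apply]
    show Conn.wedge p _ (exteriorPower.ιMulti B p (ω ∘ _)) = _
    rw [wedge_oneEquiv_ιMulti]
    congr 1
    funext r
    refine Fin.cases ?_ (fun r => ?_) r <;> simp
  rw [hw, LogConn.layer, Submodule.mem_iInf]
  intro K'
  rw [Submodule.mem_comap, LinearMap.coe_restrictScalars, coordE_tmul]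
  show _ ∈ pc (LogConn.comp nabla ω) t (K' : Finset (Fin n))
  have hc1 : (K' : Finset (Fin n)).card = p + 1 := K'.prop
  have hc2 : (K : Finset (Fin n)).card = p := K.prop
  by_cases hcase : i ∉ (K : Finset (Fin n)) ∧
      (K' : Finset (Fin n)) = insert i (K : Finset (Fin n))
  · obtain ⟨hiK, hK'⟩ := hcase
    rw [hK']
    exact smul_mem_pc hS _ _ (phi_mem_pc_insert hC hS i _ hiK hK)
  · have hex : ∃ k ∈ (K' : Finset (Fin n)), k ∉ insert i (K : Finset (Fin n)) := by
      by_contra hne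
      push Not at hne
      have hsub : (K' : Finset (Fin n)) ⊆ insert i (K : Finset (Fin n)) := hne
      by_cases hiK : i ∈ (K : Finset (Fin n))
      · rw [Finset.insert_eq_of_mem hiK] at hsub
        have h3 := Finset.card_le_card hsub
        omega
      · have hc3 : (insert i (K : Finset (Fin n))).card = p + 1 := by
          rw [Finset.card_insert_of_notMem hiK, hc2]
        exact hcase ⟨hiK, Finset.eq_of_subset_of_card_le hsub (by rw [hc3, hc1])⟩
    obtain ⟨k, hkK', hkn⟩ := hex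
    rw [coord_ιMulti_eq_zero ω _ K' k hkK', zero_smul]
    · exact Submodule.zero_mem _
    · intro r
      refine Fin.cases ?_ (fun r => ?_) r
      · rw [Fin.cons_zero]
        intro h'
        exact hkn (h' ▸ Finset.mem_insert_self _ _)
      · rw [Fin.cons_succ]
        intro h'
        exact hkn (h' ▸ Finset.mem_insert_of_mem (Finset.orderEmbOfFin_mem _ K.prop r))

/-! ### change of coordinates -/

lemma comp_change (ω ω'' : Module.Basis (Fin n) B L) (nabla : E →ₗ[A] E ⊗[B] L) (k : Fin n)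
    (e : E) :
    LogConn.comp nabla ω'' k e = ∑ j, ω''.coord k (ω j) • LogConn.comp nabla ω j e := by
  show TensorProduct.rid B E (TensorProduct.map LinearMap.id (ω''.coord k) (nabla e)) = _
  rw [nabla_expand ω nabla e]
  simp only [map_sum, TensorProduct.map_tmul, TensorProduct.rid_tmul, LinearMap.id_apply]

lemma pc_le_pc_of_rel {t t' : Fin n → B} {ω ω' : Module.Basis (Fin n) B L}
    (hd : LogData t ω ι) (hd' : LogData t' ω' ι) {lam : B} {nabla : E →ₗ[A] E ⊗[B] L}
    (hc : Conn.IsLamConn (ι.compDer (KaehlerDifferential.D A B)) lam nabla)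
    (hC : ∀ i j, LogConn.comp nabla ω i ∘ₗ LogConn.comp nabla ω j =
      LogConn.comp nabla ω j ∘ₗ LogConn.comp nabla ω i)
    (hC' : ∀ i j, LogConn.comp nabla ω' i ∘ₗ LogConn.comp nabla ω' j =
      LogConn.comp nabla ω' j ∘ₗ LogConn.comp nabla ω' i)
    (hξ : ∀ j, ∃ ξ, ω j = ω' j + ι ξ) (hT : ∀ k, ∃ v, t' k = v * t k)
    (K : Finset (Fin n)) :
    pc (LogConn.comp nabla ω') t' K ≤ pc (LogConn.comp nabla ω) t K := by
  refine pc_le_pc (sys_of_logData hd hc) hC (sys_of_logData hd' hc) hC' hT ?_ K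
  intro k e
  have hco : ∀ j, ∃ c, ω'.coord k (ω j) = (if j = k then 1 else 0) + t k * c := by
    intro j
    obtain ⟨ξ, hξj⟩ := hξ j
    obtain ⟨q, hq⟩ := coord_iota_dvd hd' k ξ
    obtain ⟨v, hv⟩ := hT k
    refine ⟨v * q, ?_⟩
    rw [hξj, map_add, coord_self, hq, hv]
    ring
  choose c hc' using hco
  refine ⟨c, ?_⟩
  rw [comp_change ω ω' nabla k e]
  simp only [hc', add_smul, Finset.sum_add_distrib, ite_smul, one_smul, zero_smul,
    Finset.sum_ite_eq', Finset.mem_univ, if_true]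

lemma layer_le_layer_of_rel {t t' : Fin n → B} {ω ω' : Module.Basis (Fin n) B L}
    (hd' : LogData t' ω' ι) {lam : B} {nabla : E →ₗ[A] E ⊗[B] L}
    (hc : Conn.IsLamConn (ι.compDer (KaehlerDifferential.D A B)) lam nabla)
    (hC' : ∀ i j, LogConn.comp nabla ω' i ∘ₗ LogConn.comp nabla ω' j =
      LogConn.comp nabla ω' j ∘ₗ LogConn.comp nabla ω' i)
    (hpc : ∀ K, pc (LogConn.comp nabla ω) t K = pc (LogConn.comp nabla ω') t' K)
    (hξ : ∀ j, ∃ ξ, ω j = ω' j + ι ξ) (p : ℕ) :
    LogConn.layer nabla ω t p ≤ LogConn.layer nabla ω' t' p := by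
  have hS' := sys_of_logData hd' hc
  intro x hx
  rw [LogConn.layer, Submodule.mem_iInf] at hx ⊢
  intro K''
  rw [Submodule.mem_comap, LinearMap.coe_restrictScalars]
  show _ ∈ pc (LogConn.comp nabla ω') t' (K'' : Finset (Fin n))
  rw [expandP ω p x, map_sum]
  apply Submodule.sum_mem
  intro K _
  have hK : LogConn.coordE ω p K x ∈ pc (LogConn.comp nabla ω') t' (K : Finset (Fin n)) := by
    have h1 := hx K
    rw [Submodule.mem_comap, LinearMap.coe_restrictScalars] at h1
    rw [← hpc]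
    exact h1
  generalize LogConn.coordE ω p K x = y at hK
  rw [coordE_tmul, exteriorPower.basis_apply]
  show ((ω'.exteriorPower p).coord K'' (exteriorPower.ιMulti B p
    (ω ∘ (Set.powersetCard.ofFinEmbEquiv.symm K)))) • y ∈ _
  rw [coord_ιMulti]
  have hdvd : (∏ k ∈ (K'' : Finset (Fin n)) \ (K : Finset (Fin n)), t' k) ∣
      (Matrix.of fun a b => ω'.coord (Set.powersetCard.ofFinEmbEquiv.symm K'' b)
        ((ω ∘ (Set.powersetCard.ofFinEmbEquiv.symm K)) a)).det := by
    apply det_dvd K'' (K : Finset (Fin n)) t'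
    intro b hb a
    rw [Matrix.of_apply, Function.comp_apply]
    obtain ⟨ξ, hξ'⟩ := hξ (Set.powersetCard.ofFinEmbEquiv.symm K a)
    rw [hξ', map_add, coord_self, if_neg, zero_add]
    · exact coord_iota_dvd hd' _ ξ
    · intro h'
      apply hb
      rw [← h']
      exact Finset.orderEmbOfFin_mem _ K.prop a
  obtain ⟨c, hc0⟩ := hdvd
  rw [hc0, mul_comm, mul_smul]
  exact smul_mem_pc hS' _ c (prod_sdiff_smul_mem_pc hC' hS' _ _ hK)

theorem layer_eq_layer {lam : B} (bΩ : Module.Basis (Fin n) B (KaehlerDifferential A B))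
    (hbΩ : ∀ i, bΩ i = KaehlerDifferential.D A B (t i))
    (hι : ∀ i, ι (KaehlerDifferential.D A B (t i)) = t i • ω i)
    {nabla : E →ₗ[A] E ⊗[B] L}
    (hc : Conn.IsLamConn (ι.compDer (KaehlerDifferential.D A B)) lam nabla)
    (hd : LogDiff.IsLogRule (KaehlerDifferential.D A B) ι (⇑ω) d)
    {nablas : ∀ p : ℕ, E ⊗[B] ↥(⋀[B]^p L) →ₗ[A] E ⊗[B] ↥(⋀[B]^(p + 1) L)}
    (hint : Conn.IsIntegrable nabla (fun p => lam • d p) nablas)
    (u : Fin n → Bˣ) (bΩ' : Module.Basis (Fin n) B (KaehlerDifferential A B))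
    (hbΩ' : ∀ i, bΩ' i = KaehlerDifferential.D A B ((u i : B) * t i))
    (ω' : Module.Basis (Fin n) B L)
    (hω' : ∀ i, ω' i = ω i + ((u i)⁻¹ : Bˣ).val • ι (KaehlerDifferential.D A B (u i : B)))
    (p : ℕ) :
    LogConn.layer nabla ω t p = LogConn.layer nabla ω' (fun i => (u i : B) * t i) p := by
  have hd0 : LogData t ω ι := ⟨⟨bΩ, hbΩ⟩, hι⟩
  have hd0' : LogData (fun i => (u i : B) * t i) ω' ι := by
    refine ⟨⟨bΩ', hbΩ'⟩, fun i => ?_⟩
    show ι (KaehlerDifferential.D A B ((u i : B) * t i)) = ((u i : B) * t i) • ω' i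
    have h1 : (u i : B) * t i * ((u i)⁻¹ : Bˣ).val = t i := by
      rw [mul_comm (u i : B), mul_assoc, Units.mul_inv, mul_one]
    rw [Derivation.leibniz, map_add, map_smul, map_smul, hι, hω' i, smul_add, smul_smul,
      smul_smul, h1]
  have hC := comm_of_integrable (E := E) ω (d_one_eq_zero hd) hint
  have hC' := comm_of_integrable (E := E) ω'
    (fun j => by rw [hω' j]; exact d_one_eq_zero' hd (u j) j) hint
  have hξ1 : ∀ j, ∃ ξ, ω j = ω' j + ι ξ := fun j =>
    ⟨-(((u j)⁻¹ : Bˣ).val • KaehlerDifferential.D A B (u j : B)), by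
      rw [hω' j, map_neg, map_smul]; abel⟩
  have hξ2 : ∀ j, ∃ ξ, ω' j = ω j + ι ξ := fun j =>
    ⟨((u j)⁻¹ : Bˣ).val • KaehlerDifferential.D A B (u j : B), by rw [hω' j, map_smul]⟩
  have hT1 : ∀ k, ∃ v, (fun i => (u i : B) * t i) k = v * t k := fun k => ⟨u k, rfl⟩
  have hT2 : ∀ k, ∃ v, t k = v * (fun i => (u i : B) * t i) k := fun k =>
    ⟨((u k)⁻¹ : Bˣ).val, by simp⟩
  have hpc : ∀ K, pc (LogConn.comp nabla ω) t K =
      pc (LogConn.comp nabla ω') (fun i => (u i : B) * t i) K := fun K =>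
    le_antisymm (pc_le_pc_of_rel hd0' hd0 hc hC' hC hξ2 hT2 K)
      (pc_le_pc_of_rel hd0 hd0' hc hC hC' hξ1 hT1 K)
  exact le_antisymm (layer_le_layer_of_rel hd0' hc hC' hpc hξ1 p)
    (layer_le_layer_of_rel hd0 hc hC (fun K => (hpc K).symm) hξ2 p)

end Groth.Agent.Helper25.LogConnC
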