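import Mathlib
import Groth.Prelude.Def_Conn
import Groth.Prelude.Def_W4swconnpcurvhiggsLogLam

/-!
# The pieces `E_I` of a logarithmic λ-connection are `B`-submodules (helper25)
-/

set_option autoImplicit false

universe v u

open TensorProduct LogConn

namespace Groth.Agent.Helper25.LogConnPiece

variable {A : Type v} {B L E : Type u} [CommRing A] [CommRing B] [Algebra A B]
  [AddCommGroup L] [Module B L] [Module A L] [IsScalarTower A B L]
  [AddCommGroup E] [Module B E] [Module A E] [IsScalarTower A B E]

section basics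

variable (nabla : E →ₗ[A] E ⊗[B] L) {n : ℕ} (ω : Module.Basis (Fin n) B L)

omit [Module A L] [IsScalarTower A B L] in
theorem compProd_empty : compProd nabla ω ∅ = LinearMap.id := by
  simp [compProd]

omit [Module A L] [IsScalarTower A B L] in
theorem compProd_insert (j : Fin n) (J : Finset (Fin n)) (hj : ∀ x ∈ J, j < x) :
    compProd nabla ω (insert j J) = comp nabla ω j ∘ₗ compProd nabla ω J := by
  have h2 : j ∉ J := fun h => lt_irrefl j (hj j h)
  unfold compProd
  rw [Finset.sort_insert (r := fun a b => a ≤ b) (fun b hb => (hj b hb).le) h2]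
  rfl

variable (t : Fin n → B)

omit [Module A L] [IsScalarTower A B L] in
theorem gen_mem_piece {I J : Finset (Fin n)} (hJ : J ⊆ I) (e : E) :
    (∏ i ∈ I \ J, t i) • compProd nabla ω J e ∈ piece nabla ω t I :=
  Submodule.mem_iSup_of_mem J (Submodule.mem_iSup_of_mem (Finset.mem_powerset.2 hJ) ⟨e, rfl⟩)

omit [Module A L] [IsScalarTower A B L] in
theorem piece_le {I : Finset (Fin n)} (S : Submodule A E)
    (h : ∀ J, J ⊆ I → ∀ e : E, (∏ i ∈ I \ J, t i) • compProd nabla ω J e ∈ S) :
    piece nabla ω t I ≤ S := by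
  unfold piece
  refine iSup₂_le fun J hJ => ?_
  rintro _ ⟨e, rfl⟩
  exact h J (Finset.mem_powerset.1 hJ) e

theorem prod_sdiff_mul {I J K : Finset (Fin n)} (hJ : J ⊆ I) (hK : K ⊆ J) :
    (∏ i ∈ I \ J, t i) * (∏ i ∈ J \ K, t i) = ∏ i ∈ I \ K, t i := by
  rw [← Finset.sdiff_union_sdiff_cancel hJ hK, Finset.prod_union]
  exact Finset.disjoint_left.2 fun x hx hx' =>
    (Finset.mem_sdiff.1 hx).2 (Finset.mem_sdiff.1 hx').1

omit [Module A L] [IsScalarTower A B L] in
/-- multiplying `E_J` by `t_{I∖J}` lands in `E_I`. -/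
theorem smul_piece_le {I J : Finset (Fin n)} (hJ : J ⊆ I) (x : E) (hx : x ∈ piece nabla ω t J) :
    (∏ i ∈ I \ J, t i) • x ∈ piece nabla ω t I := by
  have : piece nabla ω t J ≤ (piece nabla ω t I).comap
      ((LinearMap.lsmul B E (∏ i ∈ I \ J, t i)).restrictScalars A) := by
    apply piece_le
    intro K hK e
    change (∏ i ∈ I \ J, t i) • (∏ i ∈ J \ K, t i) • compProd nabla ω K e ∈ piece nabla ω t I
    rw [smul_smul, prod_sdiff_mul t hJ hK]
    exact gen_mem_piece nabla ω t (hK.trans hJ) e
  exact this hx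

end basics

section main

variable (lam : B) {n : ℕ} (t : Fin n → B) (bΩ : Module.Basis (Fin n) B (KaehlerDifferential A B))
  (hbΩ : ∀ i, bΩ i = KaehlerDifferential.D A B (t i))
  (ω : Module.Basis (Fin n) B L) (ι : KaehlerDifferential A B →ₗ[B] L)
  (hι : ∀ i, ι (KaehlerDifferential.D A B (t i)) = t i • ω i)
  (nabla : E →ₗ[A] E ⊗[B] L)
  (hc : Conn.IsLamConn (ι.compDer (KaehlerDifferential.D A B)) lam nabla)

/-- the partial derivative with respect to `t j`. -/
noncomputable def pd (j : Fin n) : Derivation A B B :=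
  (bΩ.coord j).compDer (KaehlerDifferential.D A B)

theorem pd_apply (j : Fin n) (b : B) : pd bΩ j b = bΩ.coord j (KaehlerDifferential.D A B b) := rfl

include hbΩ in
theorem pd_t (j i : Fin n) : pd bΩ j (t i) = if i = j then 1 else 0 := by
  rw [pd_apply, ← hbΩ, Module.Basis.coord_apply, Module.Basis.repr_self, Finsupp.single_apply]

include hbΩ in
theorem pd_prod (j : Fin n) (K : Finset (Fin n)) (hj : j ∉ K) : pd bΩ j (∏ i ∈ K, t i) = 0 := by
  induction K using Finset.induction_on with
  | empty => simp
  | insert a K ha ih =>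
    rw [Finset.prod_insert ha, Derivation.leibniz, ih (fun h => hj (Finset.mem_insert_of_mem h)),
      pd_t t bΩ hbΩ, if_neg (fun h : a = j => hj (h ▸ Finset.mem_insert_self a K))]
    simp

include hbΩ hι in
theorem coord_iota (j : Fin n) (x : KaehlerDifferential A B) :
    ω.coord j (ι x) = bΩ.coord j x * t j := by
  conv_lhs => rw [← bΩ.sum_repr x]
  rw [map_sum, map_sum, Finset.sum_eq_single j]
  · rw [map_smul, map_smul, hbΩ, hι, map_smul, smul_eq_mul, smul_eq_mul, Module.Basis.coord_apply,
      Module.Basis.coord_apply, Module.Basis.repr_self, Finsupp.single_eq_same, mul_one]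
  · intro i _ hij
    rw [map_smul, map_smul, hbΩ, hι, map_smul, smul_eq_mul, smul_eq_mul, Module.Basis.coord_apply,
      Module.Basis.repr_self, Finsupp.single_eq_of_ne hij.symm, mul_zero, mul_zero]
  · intro h
    exact absurd (Finset.mem_univ j) h

include hbΩ hι hc in
theorem comp_smul (j : Fin n) (b : B) (e : E) :
    comp nabla ω j (b • e) = b • comp nabla ω j e + (lam * (pd bΩ j b * t j)) • e := by
  unfold comp
  rw [Conn.along_apply, Conn.along_apply, hc b e, map_add, map_add, map_smul, map_smul, map_smul,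
    map_smul, TensorProduct.map_tmul, TensorProduct.rid_tmul]
  have h1 : (ι.compDer (KaehlerDifferential.D A B)) b = ι (KaehlerDifferential.D A B b) := rfl
  rw [h1, coord_iota t bΩ hbΩ ω ι hι, LinearMap.id_apply, smul_smul, pd_apply]

include hbΩ hι hc in
/-- `∇_j` maps `E_{J'}` into `E_{J' ∪ {j}}` when `j` is smaller than all elements of `J'`. -/
theorem comp_piece (j : Fin n) (J' : Finset (Fin n)) (hj : ∀ x ∈ J', j < x) (y : E)
    (hy : y ∈ piece nabla ω t J') : comp nabla ω j y ∈ piece nabla ω t (insert j J') := by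
  have hjJ : j ∉ J' := fun h => lt_irrefl j (hj j h)
  have : piece nabla ω t J' ≤ (piece nabla ω t (insert j J')).comap (comp nabla ω j) := by
    apply piece_le
    intro K hK e
    change comp nabla ω j ((∏ i ∈ J' \ K, t i) • compProd nabla ω K e) ∈
      piece nabla ω t (insert j J')
    rw [comp_smul lam t bΩ hbΩ ω ι hι nabla hc,
      pd_prod t bΩ hbΩ j _ (fun h => hjJ (Finset.mem_sdiff.1 h).1), zero_mul, mul_zero, zero_smul,
      add_zero]
    have h1 : comp nabla ω j (compProd nabla ω K e) = compProd nabla ω (insert j K) e := by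
      rw [compProd_insert nabla ω j K (fun x hx => hj x (hK hx))]
      rfl
    have h2 : J' \ K = insert j J' \ insert j K := by
      ext x
      simp only [Finset.mem_sdiff, Finset.mem_insert, not_or]
      constructor
      · rintro ⟨h1, h2⟩
        exact ⟨Or.inr h1, fun h => hjJ (h ▸ h1), h2⟩
      · rintro ⟨h1 | h1, h2, h3⟩
        · exact absurd h1 h2
        · exact ⟨h1, h3⟩
    rw [h1, h2]
    exact gen_mem_piece nabla ω t (Finset.insert_subset_insert j hK) e
  exact this hy

include hbΩ hι hc in
/-- `b · ∇_J(e) ∈ E_J`. -/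
theorem smul_compProd_mem (J : Finset (Fin n)) :
    ∀ (b : B) (e : E), b • compProd nabla ω J e ∈ piece nabla ω t J := by
  induction J using Finset.induction_on_min with
  | empty =>
    intro b e
    have := gen_mem_piece nabla ω t (Finset.Subset.refl (∅ : Finset (Fin n))) (b • e)
    simpa [compProd_empty] using this
  | insert j J' hj ih =>
    intro b e
    have hjJ : j ∉ J' := fun h => lt_irrefl j (hj j h)
    rw [compProd_insert nabla ω j J' hj, LinearMap.comp_apply]
    have h1 := comp_smul lam t bΩ hbΩ ω ι hι nabla hc j b (compProd nabla ω J' e)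
    have h2 : b • comp nabla ω j (compProd nabla ω J' e) =
        comp nabla ω j (b • compProd nabla ω J' e) -
          (lam * (pd bΩ j b * t j)) • compProd nabla ω J' e := by
      rw [h1]
      abel
    rw [h2]
    refine Submodule.sub_mem _ ?_ ?_
    · exact comp_piece lam t bΩ hbΩ ω ι hι nabla hc j J' hj _ (ih b e)
    · have h3 : (lam * (pd bΩ j b * t j)) • compProd nabla ω J' e =
          (∏ i ∈ insert j J' \ J', t i) • ((lam * pd bΩ j b) • compProd nabla ω J' e) := by
        rw [Finset.insert_sdiff_cancel hjJ, Finset.prod_singleton, smul_smul]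
        congr 1
        ring
      rw [h3]
      exact smul_piece_le nabla ω t (Finset.subset_insert j J') _ (ih _ e)

include hbΩ hι hc in
/-- S16792: the piece `E_I` is stable under multiplication by `B`. -/
theorem smul_mem_piece (I : Finset (Fin n)) (b : B) (x : E) (hx : x ∈ piece nabla ω t I) :
    b • x ∈ piece nabla ω t I := by
  have : piece nabla ω t I ≤ (piece nabla ω t I).comap
      ((LinearMap.lsmul B E b).restrictScalars A) := by
    apply piece_le
    intro J hJ e
    change b • (∏ i ∈ I \ J, t i) • compProd nabla ω J e ∈ piece nabla ω t I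
    rw [smul_comm]
    exact smul_piece_le nabla ω t hJ _ (smul_compProd_mem lam t bΩ hbΩ ω ι hι nabla hc J b e)
  exact this hx

end main

section span

variable (lam : B) {n : ℕ} (t : Fin n → B) (bΩ : Module.Basis (Fin n) B (KaehlerDifferential A B))
  (hbΩ : ∀ i, bΩ i = KaehlerDifferential.D A B (t i))
  (ω : Module.Basis (Fin n) B L) (ι : KaehlerDifferential A B →ₗ[B] L)
  (hι : ∀ i, ι (KaehlerDifferential.D A B (t i)) = t i • ω i)
  (nabla : E →ₗ[A] E ⊗[B] L)
  (hc : Conn.IsLamConn (ι.compDer (KaehlerDifferential.D A B)) lam nabla)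
  {m : ℕ} (e : Fin m → E)

/-- the generators `t_{I∖J} ∇_J(e_k)`. -/
def G (I : Finset (Fin n)) : Set E :=
  ⋃ J ∈ I.powerset, Set.range (fun k : Fin m => (∏ i ∈ I \ J, t i) • compProd nabla ω J (e k))

omit [Module A L] [IsScalarTower A B L] in
theorem mem_G {I J : Finset (Fin n)} (hJ : J ⊆ I) (k : Fin m) :
    (∏ i ∈ I \ J, t i) • compProd nabla ω J (e k) ∈ G t ω nabla e I :=
  Set.mem_iUnion₂.2 ⟨J, Finset.mem_powerset.2 hJ, ⟨k, rfl⟩⟩

omit [Module A L] [IsScalarTower A B L] in
theorem smul_span_G {I J : Finset (Fin n)} (hJ : J ⊆ I) (y : E)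
    (hy : y ∈ Submodule.span B (G t ω nabla e J)) :
    (∏ i ∈ I \ J, t i) • y ∈ Submodule.span B (G t ω nabla e I) := by
  have : Submodule.span B (G t ω nabla e J) ≤ (Submodule.span B (G t ω nabla e I)).comap
      (LinearMap.lsmul B E (∏ i ∈ I \ J, t i)) := by
    rw [Submodule.span_le]
    intro g hg
    obtain ⟨K, hK, k, rfl⟩ := Set.mem_iUnion₂.1 hg
    change (∏ i ∈ I \ J, t i) • ((∏ i ∈ J \ K, t i) • compProd nabla ω K (e k)) ∈
      Submodule.span B (G t ω nabla e I)
    rw [smul_smul, prod_sdiff_mul t hJ (Finset.mem_powerset.1 hK)]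
    exact Submodule.subset_span (mem_G t ω nabla e ((Finset.mem_powerset.1 hK).trans hJ) k)
  exact this hy

theorem sdiff_insert_insert {j : Fin n} {J' K : Finset (Fin n)} (hjJ : j ∉ J') :
    J' \ K = insert j J' \ insert j K := by
  ext x
  simp only [Finset.mem_sdiff, Finset.mem_insert, not_or]
  constructor
  · rintro ⟨h1, h2⟩
    exact ⟨Or.inr h1, fun h => hjJ (h ▸ h1), h2⟩
  · rintro ⟨h1 | h1, h2, h3⟩
    · exact absurd h1 h2
    · exact ⟨h1, h3⟩

include hbΩ hι hc in
theorem comp_span_G (j : Fin n) (J' : Finset (Fin n)) (hj : ∀ x ∈ J', j < x) (y : E)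
    (hy : y ∈ Submodule.span B (G t ω nabla e J')) :
    comp nabla ω j y ∈ Submodule.span B (G t ω nabla e (insert j J')) := by
  have hjJ : j ∉ J' := fun h => lt_irrefl j (hj j h)
  induction hy using Submodule.span_induction with
  | mem g hg =>
    obtain ⟨K, hK, k, rfl⟩ := Set.mem_iUnion₂.1 hg
    have hK' := Finset.mem_powerset.1 hK
    change comp nabla ω j ((∏ i ∈ J' \ K, t i) • compProd nabla ω K (e k)) ∈
      Submodule.span B (G t ω nabla e (insert j J'))
    rw [comp_smul lam t bΩ hbΩ ω ι hι nabla hc,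
      pd_prod t bΩ hbΩ j _ (fun h => hjJ (Finset.mem_sdiff.1 h).1), zero_mul, mul_zero, zero_smul,
      add_zero]
    have h1 : comp nabla ω j (compProd nabla ω K (e k)) = compProd nabla ω (insert j K) (e k) := by
      rw [compProd_insert nabla ω j K (fun x hx => hj x (hK' hx))]
      rfl
    rw [h1, sdiff_insert_insert hjJ]
    exact Submodule.subset_span (mem_G t ω nabla e (Finset.insert_subset_insert j hK') k)
  | zero =>
    rw [map_zero]
    exact Submodule.zero_mem _
  | add x y hx hy ihx ihy =>
    rw [map_add]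
    exact Submodule.add_mem _ ihx ihy
  | smul c x hx ih =>
    rw [comp_smul lam t bΩ hbΩ ω ι hι nabla hc]
    refine Submodule.add_mem _ (Submodule.smul_mem _ c ih) ?_
    have h3 : (lam * (pd bΩ j c * t j)) • x =
        (lam * pd bΩ j c) • ((∏ i ∈ insert j J' \ J', t i) • x) := by
      rw [Finset.insert_sdiff_cancel hjJ, Finset.prod_singleton, smul_smul]
      congr 1
      ring
    rw [h3]
    exact Submodule.smul_mem _ _ (smul_span_G t ω nabla e (Finset.subset_insert j J') x hx)

include hbΩ hι hc in
theorem compProd_mem_span_G (he : Submodule.span B (Set.range e) = ⊤) (J : Finset (Fin n)) :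
    ∀ x : E, compProd nabla ω J x ∈ Submodule.span B (G t ω nabla e J) := by
  induction J using Finset.induction_on_min with
  | empty =>
    intro x
    rw [compProd_empty]
    have hsub : Set.range e ⊆ G t ω nabla e ∅ := by
      rintro _ ⟨k, rfl⟩
      have := mem_G t ω nabla e (Finset.Subset.refl (∅ : Finset (Fin n))) k
      simpa [compProd_empty] using this
    have hx : x ∈ Submodule.span B (Set.range e) := by
      rw [he]
      trivial
    exact Submodule.span_mono hsub hx
  | insert j J' hj ih =>
    intro x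
    rw [compProd_insert nabla ω j J' hj, LinearMap.comp_apply]
    exact comp_span_G lam t bΩ hbΩ ω ι hι nabla hc e j J' hj _ (ih x)

include hbΩ hι hc in
/-- S16795. -/
theorem span_G_eq_piece (he : Submodule.span B (Set.range e) = ⊤) (I : Finset (Fin n)) :
    (Submodule.span B (G t ω nabla e I)).restrictScalars A = piece nabla ω t I := by
  apply le_antisymm
  · let P : Submodule B E :=
      { carrier := piece nabla ω t I
        add_mem' := fun ha hb => Submodule.add_mem _ ha hb
        zero_mem' := Submodule.zero_mem _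
        smul_mem' := fun b x hx => smul_mem_piece lam t bΩ hbΩ ω ι hι nabla hc I b x hx }
    have : Submodule.span B (G t ω nabla e I) ≤ P := by
      rw [Submodule.span_le]
      intro g hg
      obtain ⟨J, hJ, k, rfl⟩ := Set.mem_iUnion₂.1 hg
      exact gen_mem_piece nabla ω t (Finset.mem_powerset.1 hJ) (e k)
    intro x hx
    exact this hx
  · apply piece_le
    intro J hJ x
    exact smul_span_G t ω nabla e hJ _
      (compProd_mem_span_G lam t bΩ hbΩ ω ι hι nabla hc e he J x)

end span

end Groth.Agent.Helper25.LogConnPiece
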