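import Mathlib
import Groth.Prelude.Def_SGA3b
import Groth.Prelude.Def_CartDual
import Groth.Agent.Lib.Helper25.CartIso

/-!
# Helper25: a finite group of multiplicative type over a connected base is isotrivial.
-/

set_option autoImplicit false

namespace Groth.Agent.Helper25.MTFin

open TensorProduct SGA3b
open Groth.Agent.Helper25.Desc Groth.Agent.Helper25.NilLift Groth.Agent.Helper25.NilLift2
  Groth.Agent.Helper25.CartIso
open Groth.Agent.Helper28.IntegralDescent

universe u

section Cover

variable {R : Type u} [CommRing R] {A : Type u} [CommRing A] [HopfAlgebra R A]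

/-- `exists_cover` with flatness of the members of the cover -/
theorem exists_cover' (hA : IsMultType R A) :
    ∃ (ι : Type u) (_ : Fintype ι) (_ : DecidableEq ι) (T : ι → Type u)
      (_ : ∀ i, CommRing (T i)) (_ : ∀ i, Algebra R (T i)),
      Module.FaithfullyFlat R (Π i, T i) ∧ (∀ i, Module.Flat R (T i)) ∧
        ∀ i, HasGL R A (T i) := by
  classical
  obtain ⟨s, hs, hsf⟩ := hA
  obtain ⟨s', hs's, hs'⟩ := (Ideal.span_eq_top_iff_finite s).mp hs
  choose T iCR iAlg hflat hfaith hgl using
    fun i : s' => local_data (A := A) i.1 (hsf i.1 (hs's (Finset.mem_coe.mpr i.2)))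
  refine ⟨s', inferInstance, inferInstance, T, iCR, iAlg, ?_, hflat, hgl⟩
  apply pi_faithfullyFlat R T
  intro m hm
  have hnot : ¬ ((s' : Set R) ⊆ (m : Set R)) := by
    intro hsm
    have h1 : Ideal.span (s' : Set R) ≤ m := Ideal.span_le.mpr hsm
    rw [hs'] at h1
    exact hm.ne_top (top_le_iff.mp h1)
  obtain ⟨f, hfs, hfm⟩ := Set.not_subset.mp hnot
  exact ⟨⟨f, Finset.mem_coe.mp hfs⟩, hfaith _ m hm hfm⟩

end Cover

section Family

variable {R : Type u} [CommRing R] {ι : Type u} [Fintype ι] [DecidableEq ι]
  (T : ι → Type u) [∀ i, CommRing (T i)] [∀ i, Algebra R (T i)]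
  [Module.FaithfullyFlat R (Π i, T i)]

/-- descent of finite generation along a finite faithfully flat family -/
theorem finite_of_cover (K : Type u) [AddCommGroup K] [Module R K]
    (h : ∀ i, Module.Finite (T i) (T i ⊗[R] K)) : Module.Finite R K := by
  classical
  have hS : ∀ i, ∃ S : Finset K, Submodule.span (T i)
      ((fun s : K => (1 : T i) ⊗ₜ[R] s) '' (S : Set K)) = ⊤ := by
    intro i
    obtain ⟨G, hG⟩ := (h i).fg_top
    choose P hP using fun g : T i ⊗[R] K => TensorProduct.exists_finset g
    refine ⟨G.biUnion (fun g => (P g).image Prod.snd), ?_⟩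
    rw [eq_top_iff, ← hG, Submodule.span_le]
    intro g hg
    have hg' := hP g
    rw [SetLike.mem_coe, hg']
    refine Submodule.sum_mem _ (fun p hp => ?_)
    have h1 : p.1 ⊗ₜ[R] p.2 = p.1 • ((1 : T i) ⊗ₜ[R] p.2) := by
      rw [TensorProduct.smul_tmul', smul_eq_mul, mul_one]
    rw [h1]
    apply Submodule.smul_mem
    apply Submodule.subset_span
    refine ⟨p.2, ?_, rfl⟩
    rw [Finset.mem_coe, Finset.mem_biUnion]
    exact ⟨g, hg, Finset.mem_image_of_mem _ hp⟩
  choose S hS using hS
  obtain ⟨K', hK'def⟩ : ∃ K' : Submodule R K,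
      K' = Submodule.span R (↑(Finset.univ.biUnion S) : Set K) := ⟨_, rfl⟩
  have hK' : K' = ⊤ := by
    rw [eq_top_iff]
    intro y _
    rw [← Submodule.Quotient.mk_eq_zero K']
    apply inj_family R T (K ⧸ K')
    intro i
    have h2 : ∀ z : T i ⊗[R] K, (K'.mkQ.baseChange (T i)) z = 0 := by
      intro z
      have hz : z ∈ Submodule.span (T i)
          ((fun s : K => (1 : T i) ⊗ₜ[R] s) '' (S i : Set K)) := by
        rw [hS i]
        trivial
      induction hz using Submodule.span_induction with
      | mem x hx =>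
        obtain ⟨s, hs, rfl⟩ := hx
        rw [LinearMap.baseChange_tmul]
        have h3 : K'.mkQ s = 0 := by
          rw [Submodule.mkQ_apply, Submodule.Quotient.mk_eq_zero, hK'def]
          apply Submodule.subset_span
          rw [Finset.mem_coe, Finset.mem_biUnion]
          exact ⟨i, Finset.mem_univ i, hs⟩
        rw [h3, TensorProduct.tmul_zero]
      | zero => rw [map_zero]
      | add x y _ _ hx hy => rw [map_add, hx, hy, add_zero]
      | smul t x _ hx => rw [map_smul, hx, smul_zero]
    have h3 := h2 ((1 : T i) ⊗ₜ[R] y)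
    rw [LinearMap.baseChange_tmul] at h3
    exact h3
  refine ⟨?_⟩
  rw [← hK', hK'def]
  exact Submodule.fg_span (Finset.finite_toSet _)

/-- descent of étaleness along a finite faithfully flat family -/
theorem etale_of_cover [∀ i, Module.Flat R (T i)] (S : Type u) [CommRing S] [Algebra R S]
    [Algebra.FinitePresentation R S] (h : ∀ i, Algebra.Etale (T i) (T i ⊗[R] S)) :
    Algebra.Etale R S := by
  have hunr : Algebra.FormallyUnramified R S := by
    constructor
    refine ⟨fun a b => ?_⟩
    rw [← sub_eq_zero]
    apply inj_family R T (Ω[S⁄R])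
    intro i
    let _ : Algebra S (T i ⊗[R] S) := Algebra.TensorProduct.rightAlgebra
    have h1 : Subsingleton (T i ⊗[R] Ω[S⁄R]) :=
      (KaehlerDifferential.tensorKaehlerEquivBase R (T i) S (T i ⊗[R] S)).subsingleton
    exact Subsingleton.elim _ _
  have hsm : Algebra.FormallySmooth R S := by
    refine ⟨?_, ?_⟩
    · have : Subsingleton (Ω[S⁄R]) := inferInstance
      exact Module.Projective.of_free
    · refine ⟨fun a b => ?_⟩
      rw [← sub_eq_zero]
      apply inj_family R T (Algebra.H1Cotangent R S)
      intro i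
      have h1 : Subsingleton (T i ⊗[R] Algebra.H1Cotangent R S) :=
        (Algebra.tensorH1CotangentOfFlat R S (T i)).subsingleton
      exact Subsingleton.elim _ _
  have hfe : Algebra.FormallyEtale R S :=
    Algebra.FormallyEtale.of_formallyUnramified_and_formallySmooth
  exact ⟨hfe, inferInstance⟩

end Family

section Props

variable {R : Type u} [CommRing R] {A : Type u} [CommRing A] [Bialgebra R A]

theorem comm_comul_of_hasGL {T : Type u} [CommRing T] [Algebra R T] (h : HasGL R A T)
    (y : T ⊗[R] A) :
    TensorProduct.comm T (T ⊗[R] A) (T ⊗[R] A) (Coalgebra.comul (R := T) y) =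
      Coalgebra.comul (R := T) y := by
  obtain ⟨N, β, hβ⟩ := h
  have key : (TensorProduct.comm T (T ⊗[R] A) (T ⊗[R] A)).toLinearMap ∘ₗ
      Coalgebra.comul (R := T) = Coalgebra.comul (R := T) := by
    apply β.ext
    intro n
    rw [LinearMap.comp_apply, (hβ n).comul_eq_tmul_self]
    rfl
  exact congrArg (fun f : T ⊗[R] A →ₗ[T] (T ⊗[R] A) ⊗[T] (T ⊗[R] A) => f y) key

theorem Psi_comm (T : Type u) [CommRing T] [Algebra R T] (z : A ⊗[R] A) :
    Ψ (k := R) (K := T) (TensorProduct.comm R A A z) =
      TensorProduct.comm T (T ⊗[R] A) (T ⊗[R] A) (Ψ (k := R) (K := T) z) := by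
  induction z using TensorProduct.induction_on with
  | zero => simp
  | tmul a b => rw [TensorProduct.comm_tmul, Ψ_tmul, Ψ_tmul, TensorProduct.comm_tmul]
  | add z w hz hw => rw [map_add, map_add, hz, hw, map_add, map_add]

variable {ι : Type u} [Fintype ι] [DecidableEq ι]
  (T : ι → Type u) [∀ i, CommRing (T i)] [∀ i, Algebra R (T i)]
  [Module.FaithfullyFlat R (Π i, T i)]

theorem isCocomm_of_cover (hgl : ∀ i, HasGL R A (T i)) : Coalgebra.IsCocomm R A := by
  refine ⟨?_⟩
  apply LinearMap.ext
  intro a
  rw [LinearMap.comp_apply, LinearEquiv.coe_coe, ← sub_eq_zero]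
  apply inj_family R T (A ⊗[R] A)
  intro i
  apply (TensorProduct.AlgebraTensorModule.distribBaseChange R (T i) A A).injective
  rw [map_zero, ← Psi_eq, map_sub, Psi_comm, ← comul_one_tmul, sub_eq_zero]
  exact comm_comul_of_hasGL (hgl i) _

theorem leftComm_nat (T₀ : Type u) [AddCommGroup T₀] [Module R T₀] {N N' : Type u}
    [AddCommGroup N] [AddCommGroup N'] [Module R N] [Module R N'] (f : N →ₗ[R] N') :
    (TensorProduct.leftComm R T₀ N' A).toLinearMap ∘ₗ (f.rTensor A).lTensor T₀ =
      (f.rTensor (T₀ ⊗[R] A)) ∘ₗ (TensorProduct.leftComm R T₀ N A).toLinearMap := by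
  apply TensorProduct.ext_threefold'
  intro t n a
  simp

theorem flat_of_cover [∀ i, Module.Flat R (T i)] (hgl : ∀ i, HasGL R A (T i)) :
    Module.Flat R A := by
  rw [Module.Flat.iff_rTensor_preserves_injective_linearMap]
  intro N N' _ _ _ _ f hf
  rw [injective_iff_map_eq_zero]
  intro m hm
  apply inj_family R T (N ⊗[R] A)
  intro i
  obtain ⟨N₀, β, hβ⟩ := hgl i
  have hfree : Module.Free (T i) (T i ⊗[R] A) := Module.Free.of_basis β
  have hflat : Module.Flat R (T i ⊗[R] A) := Module.Flat.trans R (T i) (T i ⊗[R] A)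
  have h1 : ((f.rTensor A).lTensor (T i)) ((1 : T i) ⊗ₜ[R] m) = 0 := by
    rw [LinearMap.lTensor_tmul, hm, TensorProduct.tmul_zero]
  have h2 := congrArg (fun g : T i ⊗[R] (N ⊗[R] A) →ₗ[R] N' ⊗[R] (T i ⊗[R] A) =>
    g ((1 : T i) ⊗ₜ[R] m)) (leftComm_nat (A := A) (T i) f)
  simp only [LinearMap.comp_apply, LinearEquiv.coe_coe] at h2
  rw [h1, map_zero] at h2
  have h3 := Module.Flat.rTensor_preserves_injective_linearMap (M := T i ⊗[R] A) f hf
  have h4 := h3 (h2.symm.trans (map_zero _).symm)
  exact (TensorProduct.leftComm R (T i) N A).injective (h4.trans (map_zero _).symm)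

theorem finitePresentation_of_cover [∀ i, Module.Flat R (T i)] [Module.Finite R A]
    (hgl : ∀ i, HasGL R A (T i)) : Module.FinitePresentation R A := by
  obtain ⟨n, f, hf⟩ := Module.Finite.exists_fin' R A
  have hK : Module.Finite R (LinearMap.ker f) := by
    apply finite_of_cover T
    intro i
    obtain ⟨N₀, β, hβ⟩ := hgl i
    have hfree : Module.Free (T i) (T i ⊗[R] A) := Module.Free.of_basis β
    have hfp : Module.FinitePresentation (T i) (T i ⊗[R] A) :=
      Module.finitePresentation_of_projective _ _
    have hsurj : Function.Surjective (f.baseChange (T i)) := LinearMap.lTensor_surjective (T i) hf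
    have hfg : (LinearMap.ker (f.baseChange (T i))).FG :=
      Module.FinitePresentation.fg_ker (f.baseChange (T i)) hsurj
    have hinj : Function.Injective ((LinearMap.ker f).subtype.baseChange (T i)) :=
      Module.Flat.lTensor_preserves_injective_linearMap (M := T i) _
        (Submodule.injective_subtype _)
    have hrange : LinearMap.range ((LinearMap.ker f).subtype.baseChange (T i)) =
        LinearMap.ker (f.baseChange (T i)) := by
      have hex : Function.Exact ((LinearMap.ker f).subtype.lTensor (T i)) (f.lTensor (T i)) :=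
        lTensor_exact (T i) (LinearMap.exact_subtype_ker_map f) hf
      ext x
      rw [LinearMap.mem_range, LinearMap.mem_ker]
      exact (hex x).symm
    have hfin : Module.Finite (T i) (LinearMap.ker (f.baseChange (T i))) :=
      Module.Finite.iff_fg.mpr hfg
    exact Module.Finite.equiv
      ((LinearEquiv.ofInjective _ hinj).trans (LinearEquiv.ofEq _ _ hrange)).symm
  exact Module.finitePresentation_of_free_of_surjective f hf (Module.Finite.iff_fg.mp hK)

end Props

section Main

/-- S17846 -/
theorem main17846 (R : Type u) [CommRing R] [ConnectedSpace (PrimeSpectrum R)]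
    (A : Type u) [CommRing A] [HopfAlgebra R A] [Module.Finite R A]
    (hA : SGA3b.IsMultType R A) : SGA3b.IsIsotrivial R A := by
  obtain ⟨ι, _, _, T, _, _, hff, hflat, hgl⟩ := exists_cover' hA
  have : Coalgebra.IsCocomm R A := isCocomm_of_cover T hgl
  have : Module.Flat R A := flat_of_cover T hgl
  have : Module.FinitePresentation R A := finitePresentation_of_cover T hgl
  have : Module.Projective R A := Module.Flat.projective_of_finitePresentation
  have het : Algebra.Etale R (CartDual.D R A) := by
    have : Module.FinitePresentation R (CartDual.D R A) :=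
      Module.finitePresentation_of_projective R _
    apply etale_of_cover T
    intro i
    obtain ⟨N, β, hβ⟩ := hgl i
    rcases subsingleton_or_nontrivial (T i) with hs | hnt
    · have : Algebra.IsFiniteSplit (T i) (T i ⊗[R] CartDual.D R A) :=
        Algebra.IsFiniteSplit.of_subsingleton
      infer_instance
    · have : Finite N := Module.Finite.finite_basis β
      exact Algebra.Etale.of_equiv
        (AlgEquiv.ofBijective (Theta R A (T i) β hβ) (Theta_bijective R A (T i) β hβ)).symm
  exact isIsotrivial_of_etale R A het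

end Main

end Groth.Agent.Helper25.MTFin
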