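import Mathlib
import Groth.Prelude.Def_CAlgX
import Groth.Agent.Lib.Helper25.MinorDual

set_option autoImplicit false

universe u

namespace Groth.Agent.Helper25.MinorSummand

open Groth.Agent.Helper25.MinorDual

variable {R : Type u} [CommRing R]

theorem sel_mul {n : ℕ} {o : Type*} {s : ℕ} (f : Fin s → Fin n) (X : Matrix (Fin n) o R) :
    (1 : Matrix (Fin n) (Fin n) R).submatrix f id * X = X.submatrix f id := by
  ext a j
  simp [Matrix.mul_apply, Matrix.one_apply]

theorem mul_sel {m : ℕ} {o : Type*} {s : ℕ} (g : Fin s → Fin m) (X : Matrix o (Fin m) R) :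
    X * (1 : Matrix (Fin m) (Fin m) R).submatrix id g = X.submatrix id g := by
  ext a j
  simp [Matrix.mul_apply, Matrix.one_apply]

section Forward

variable [IsLocalRing R] {n m r : ℕ}

theorem forward (A : Matrix (Fin n) (Fin m) R)
    (N' : Submodule R (Fin n → R)) (hc : IsCompl (LinearMap.range (Matrix.mulVecLin A)) N')
    (hfr : Module.finrank R (LinearMap.range (Matrix.mulVecLin A)) = r) :
    CAlgX.minorIdeal A (r + 1) = ⊥ ∧ CAlgX.minorIdeal A r = ⊤ := by
  classical
  let π : (Fin n → R) →ₗ[R] (LinearMap.range (Matrix.mulVecLin A)) :=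
    Submodule.projectionOnto _ N' hc
  have hπ : ∀ w : LinearMap.range (Matrix.mulVecLin A), π w = w :=
    Submodule.projectionOnto_apply_left hc
  haveI : Module.Projective R (LinearMap.range (Matrix.mulVecLin A)) :=
    Module.Projective.of_split (LinearMap.range (Matrix.mulVecLin A)).subtype π
      (LinearMap.ext fun w => hπ w)
  haveI : Module.Free R (LinearMap.range (Matrix.mulVecLin A)) :=
    Module.free_of_flat_of_isLocalRing
  let b : Module.Basis (Fin r) R (LinearMap.range (Matrix.mulVecLin A)) :=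
    Module.finBasisOfFinrankEq R _ hfr
  have hv : ∀ i, ∃ v : Fin m → R, A.mulVec v = (b i : Fin n → R) := by
    intro i
    obtain ⟨v, hv⟩ := LinearMap.mem_range.mp (b i).2
    exact ⟨v, by rw [← hv, Matrix.mulVecLin_apply]⟩
  choose v hv using hv
  let Wm : Matrix (Fin n) (Fin r) R := Matrix.of fun l i => (b i : Fin n → R) l
  let V : Matrix (Fin m) (Fin r) R := Matrix.of fun j i => v i j
  let ρ : (Fin n → R) →ₗ[R] (Fin r → R) := b.equivFun.toLinearMap ∘ₗ π
  let Q : Matrix (Fin r) (Fin n) R := LinearMap.toMatrix' ρ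
  have hAV : A * V = Wm := by
    ext l i
    have := congrFun (hv i) l
    simpa [Matrix.mul_apply, Matrix.mulVec, dotProduct, V, Wm] using this
  have hρ : ∀ w : LinearMap.range (Matrix.mulVecLin A), ρ w = b.equivFun w := by
    intro w
    show b.equivFun (π w) = _
    rw [hπ]
  have hQW : Q * Wm = 1 := by
    ext a i
    have h1 : (Q * Wm) a i = (Q.mulVec (b i : Fin n → R)) a := by
      simp [Matrix.mul_apply, Matrix.mulVec, dotProduct, Wm]
    rw [h1, LinearMap.toMatrix'_mulVec, hρ, Module.Basis.equivFun_self, Matrix.one_apply]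
    by_cases h : a = i
    · rw [if_pos h, if_pos h.symm]
    · rw [if_neg h, if_neg (Ne.symm h)]
  have hrepr : ∀ w : LinearMap.range (Matrix.mulVecLin A),
      (w : Fin n → R) = ∑ i, b.repr w i • (b i : Fin n → R) := by
    intro w
    have h := congrArg (fun z : LinearMap.range (Matrix.mulVecLin A) => (z : Fin n → R))
      (b.sum_repr w)
    simp only [Submodule.coe_sum, Submodule.coe_smul] at h
    exact h.symm
  have hW : ∀ x, A.mulVec x = Wm.mulVec (Q.mulVec (A.mulVec x)) := by
    intro x
    have hmem : A.mulVec x ∈ LinearMap.range (Matrix.mulVecLin A) :=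
      LinearMap.mem_range.mpr ⟨x, Matrix.mulVecLin_apply _ _⟩
    have h1 := hρ ⟨_, hmem⟩
    rw [LinearMap.toMatrix'_mulVec, h1]
    have h2 := hrepr ⟨_, hmem⟩
    ext l
    have h3 := congrFun h2 l
    simp only [Finset.sum_apply, Pi.smul_apply, smul_eq_mul] at h3
    rw [h3]
    simp only [Matrix.mulVec, dotProduct, Wm, Matrix.of_apply, Module.Basis.equivFun_apply]
    exact Finset.sum_congr rfl fun i _ => mul_comm _ _
  have hfac : A = Wm * (Q * A) := by
    apply Matrix.toLin'.injective
    apply LinearMap.ext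
    intro x
    rw [Matrix.toLin'_apply, Matrix.toLin'_apply, ← Matrix.mulVec_mulVec, ← Matrix.mulVec_mulVec]
    exact hW x
  constructor
  · rw [CAlgX.minorIdeal, Ideal.span_eq_bot]
    rintro _ ⟨⟨f, g⟩, rfl⟩
    have := det_submatrix_mul_eq_zero Wm (Q * A) f g
    rw [← hfac] at this
    exact this
  · have h1 := det_mul_mul_mem A r Q V
    rw [Matrix.mul_assoc, hAV, hQW, Matrix.det_one] at h1
    exact (Ideal.eq_top_iff_one _).mpr h1

end Forward

section Backward

variable [IsLocalRing R] {n m r : ℕ}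

theorem exists_unit_minor (A : Matrix (Fin n) (Fin m) R) (h2 : CAlgX.minorIdeal A r = ⊤) :
    ∃ (f : Fin r → Fin n) (g : Fin r → Fin m), IsUnit (A.submatrix f g).det := by
  by_contra hcon
  push Not at hcon
  have hle : CAlgX.minorIdeal A r ≤ IsLocalRing.maximalIdeal R := by
    unfold CAlgX.minorIdeal
    rw [Ideal.span_le]
    rintro _ ⟨⟨f, g⟩, rfl⟩
    exact (IsLocalRing.mem_maximalIdeal _).mpr (hcon f g)
  rw [h2] at hle
  exact (IsLocalRing.maximalIdeal.isMaximal R).ne_top (top_le_iff.mp hle)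

/-- the key factorisation -/
theorem factor (A : Matrix (Fin n) (Fin m) R) (h1 : CAlgX.minorIdeal A (r + 1) = ⊥)
    (f : Fin r → Fin n) (g : Fin r → Fin m) (hB : IsUnit (A.submatrix f g).det)
    (L : Matrix (Fin r) (Fin n) R)
    (hL : L = (A.submatrix f g)⁻¹ * (1 : Matrix (Fin n) (Fin n) R).submatrix f id) :
    A = A.submatrix id g * (L * A) := by
  classical
  set B := A.submatrix f g with hBdef
  set Ag := A.submatrix id g with hAg
  have hLAg : L * Ag = 1 := by
    rw [hL, Matrix.mul_assoc, sel_mul]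
    exact Matrix.nonsing_inv_mul B hB
  set E := (1 - Ag * L) * A with hE
  have hEg : E.submatrix id g = 0 := by
    rw [hE, ← mul_sel, Matrix.mul_assoc, mul_sel, ← hAg, Matrix.sub_mul, Matrix.one_mul,
      Matrix.mul_assoc, hLAg, Matrix.mul_one, sub_self]
  have hE0 : E = 0 := by
    ext i j
    rw [Matrix.zero_apply]
    let rows : Fin (r + 1) → Fin n → R :=
      Fin.cons ((1 - Ag * L : Matrix (Fin n) (Fin n) R) i)
        (fun a => (1 : Matrix (Fin n) (Fin n) R) (f a))
    let cg : Fin (r + 1) → Fin m := Fin.cons j g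
    have hcg0 : cg 0 = j := by
      show (Fin.cons j g : Fin (r + 1) → Fin m) 0 = j
      rw [Fin.cons_zero]
    have hcgs : ∀ b : Fin r, cg b.succ = g b := by
      intro b
      show (Fin.cons j g : Fin (r + 1) → Fin m) b.succ = g b
      rw [Fin.cons_succ]
    have hrows0 : rows 0 = (1 - Ag * L : Matrix (Fin n) (Fin n) R) i := by
      show (Fin.cons ((1 - Ag * L : Matrix (Fin n) (Fin n) R) i)
        (fun a => (1 : Matrix (Fin n) (Fin n) R) (f a)) : Fin (r + 1) → Fin n → R) 0 = _
      rw [Fin.cons_zero]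
    have hrowss : ∀ a : Fin r, rows a.succ = (1 : Matrix (Fin n) (Fin n) R) (f a) := by
      intro a
      show (Fin.cons ((1 - Ag * L : Matrix (Fin n) (Fin n) R) i)
        (fun a => (1 : Matrix (Fin n) (Fin n) R) (f a)) : Fin (r + 1) → Fin n → R) a.succ = _
      rw [Fin.cons_succ]
    let Lp : Matrix (Fin (r + 1)) (Fin n) R := Matrix.of rows
    let Zp : Matrix (Fin m) (Fin (r + 1)) R :=
      (1 : Matrix (Fin m) (Fin m) R).submatrix id cg
    have hT : ∀ c d, (Lp * A * Zp) c d = (Matrix.vecMul (rows c) A) (cg d) := by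
      intro c d
      rw [mul_sel, Matrix.submatrix_apply, id, Matrix.mul_apply_eq_vecMul]
      rfl
    have hT00 : (Lp * A * Zp) 0 0 = E i j := by
      rw [hT, hcg0, hrows0, hE, Matrix.mul_apply_eq_vecMul]
    have hT0s : ∀ b : Fin r, (Lp * A * Zp) 0 b.succ = 0 := by
      intro b
      rw [hT, hcgs, hrows0]
      have : (Matrix.vecMul ((1 - Ag * L : Matrix (Fin n) (Fin n) R) i) A) (g b)
          = (E.submatrix id g) i b := by
        rw [Matrix.submatrix_apply, id, hE, Matrix.mul_apply_eq_vecMul]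
      rw [this, hEg, Matrix.zero_apply]
    have hTss : (Lp * A * Zp).submatrix Fin.succ Fin.succ = B := by
      ext a b
      rw [Matrix.submatrix_apply, hT, hcgs, hrowss, ← Matrix.mul_apply_eq_vecMul, Matrix.one_mul]
      rfl
    have hdet : (Lp * A * Zp).det = E i j * B.det := by
      rw [Matrix.det_succ_row_zero, Fin.sum_univ_succ, Finset.sum_eq_zero, add_zero]
      · rw [Fin.succAbove_zero, hTss, hT00]
        simp
      · intro b _
        rw [hT0s]
        simp
    have hmem := det_mul_mul_mem A (r + 1) Lp Zp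
    rw [h1, Ideal.mem_bot, hdet] at hmem
    exact (hB.mul_left_eq_zero).mp hmem
  have : A - Ag * (L * A) = 0 := by
    rw [← hE0, hE, Matrix.sub_mul, Matrix.one_mul, Matrix.mul_assoc]
  exact sub_eq_zero.mp this

theorem backward (A : Matrix (Fin n) (Fin m) R) (h1 : CAlgX.minorIdeal A (r + 1) = ⊥)
    (h2 : CAlgX.minorIdeal A r = ⊤) :
    ∃ N' : Submodule R (Fin n → R), IsCompl (LinearMap.range (Matrix.mulVecLin A)) N' ∧
        Module.finrank R (LinearMap.range (Matrix.mulVecLin A)) = r := by
  classical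
  obtain ⟨f, g, hB⟩ := exists_unit_minor A h2
  set L : Matrix (Fin r) (Fin n) R :=
    (A.submatrix f g)⁻¹ * (1 : Matrix (Fin n) (Fin n) R).submatrix f id with hL
  have hfac := factor A h1 f g hB L hL
  set Ag := A.submatrix id g with hAg
  have hLAg : L * Ag = 1 := by
    rw [hL, Matrix.mul_assoc, sel_mul]
    exact Matrix.nonsing_inv_mul _ hB
  have hcomp : L.mulVecLin ∘ₗ Ag.mulVecLin = LinearMap.id := by
    rw [← Matrix.mulVecLin_mul, hLAg, Matrix.mulVecLin_one]
  have hLA : ∀ c, L.mulVec (Ag.mulVec c) = c := by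
    intro c
    have := LinearMap.congr_fun hcomp c
    simpa using this
  have hrange : LinearMap.range A.mulVecLin = LinearMap.range Ag.mulVecLin := by
    apply le_antisymm
    · rintro _ ⟨x, rfl⟩
      refine ⟨(L * A).mulVec x, ?_⟩
      rw [Matrix.mulVecLin_apply, Matrix.mulVecLin_apply, Matrix.mulVec_mulVec, ← hfac]
    · rintro _ ⟨c, rfl⟩
      refine ⟨((1 : Matrix (Fin m) (Fin m) R).submatrix id g).mulVec c, ?_⟩
      rw [Matrix.mulVecLin_apply, Matrix.mulVecLin_apply, Matrix.mulVec_mulVec, mul_sel]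
  have hinj : Function.Injective Ag.mulVecLin := by
    intro c c' h
    have := congrArg L.mulVec h
    simp only [Matrix.mulVecLin_apply] at this
    rwa [hLA, hLA] at this
  refine ⟨LinearMap.ker L.mulVecLin, ?_, ?_⟩
  · rw [hrange]
    constructor
    · rw [Submodule.disjoint_def]
      rintro _ ⟨c, rfl⟩ hx
      rw [LinearMap.mem_ker, Matrix.mulVecLin_apply, Matrix.mulVecLin_apply, hLA] at hx
      rw [hx, map_zero]
    · rw [Submodule.codisjoint_iff_exists_add_eq]
      intro z
      refine ⟨Ag.mulVec (L.mulVec z), z - Ag.mulVec (L.mulVec z),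
        ⟨L.mulVec z, Matrix.mulVecLin_apply _ _⟩, ?_, by abel⟩
      rw [LinearMap.mem_ker, map_sub, Matrix.mulVecLin_apply, Matrix.mulVecLin_apply, hLA,
        sub_self]
  · rw [hrange, ← (LinearEquiv.ofInjective Ag.mulVecLin hinj).finrank_eq, Module.finrank_fin_fun]

end Backward

theorem main [IsLocalRing R] (n m r : ℕ) (A : Matrix (Fin n) (Fin m) R) :
    (∃ N' : Submodule R (Fin n → R), IsCompl (LinearMap.range (Matrix.mulVecLin A)) N' ∧
        Module.finrank R (LinearMap.range (Matrix.mulVecLin A)) = r) ↔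
      (CAlgX.minorIdeal A (r + 1) = ⊥ ∧ CAlgX.minorIdeal A r = ⊤) := by
  constructor
  · rintro ⟨N', hc, hfr⟩
    exact forward A N' hc hfr
  · rintro ⟨h1, h2⟩
    exact backward A h1 h2

end Groth.Agent.Helper25.MinorSummand
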