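import Mathlib

/-!
# Miscellaneous small lemmas (helper25); also serves as a full-Mathlib import for statement files
-/

set_option autoImplicit false

namespace Groth.Agent.Helper25.Misc1

theorem not_dvd_uniformBell (p : ℕ) (hp : p.Prime) (k : ℕ) : ¬ p ∣ Nat.uniformBell k p := by
  have : Fact p.Prime := ⟨hp⟩
  have hp1 := hp.one_lt
  induction k with
  | zero =>
    rw [Nat.uniformBell_zero_left]
    intro h
    exact hp.one_lt.ne' (Nat.dvd_one.mp h)
  | succ k ih =>
    rw [Nat.uniformBell_succ_left]
    intro h
    rcases (Nat.Prime.dvd_mul hp).mp h with h1 | h1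
    · have hl := Choose.choose_modEq_choose_mod_mul_choose_div_nat (n := k * p + p - 1)
        (k := p - 1) (p := p)
      have e0 : k * p + p - 1 = (p - 1) + p * k := by
        rw [Nat.mul_comm k p]; omega
      have e1 : (k * p + p - 1) % p = p - 1 := by
        rw [e0, Nat.add_mul_mod_self_left, Nat.mod_eq_of_lt (by omega)]
      have e2 : (p - 1) % p = p - 1 := Nat.mod_eq_of_lt (by omega)
      have e4 : (p - 1) / p = 0 := Nat.div_eq_of_lt (by omega)
      have e3 : (k * p + p - 1) / p = k := by
        rw [e0, Nat.add_mul_div_left _ _ (by omega : 0 < p), e4, zero_add]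
      rw [e1, e2, e3, e4, Nat.choose_self, Nat.choose_zero_right, mul_one] at hl
      have h2 := Nat.modEq_zero_iff_dvd.mpr h1
      have h3 : p ∣ 1 := Nat.modEq_zero_iff_dvd.mp (hl.symm.trans h2)
      exact hp.one_lt.ne' (Nat.dvd_one.mp h3)
    · exact ih h1

end Groth.Agent.Helper25.Misc1
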