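import Mathlib

namespace Groth.Agent.Helper25.MonoDecomp

open MvPolynomial Finsupp

section comb
variable (n k0 e1 e2 : ℕ)

def GI : Set (Fin (n + 1) →₀ ℕ) :=
  {s | ∃ p q : Fin (n + 1), e1 ≤ p.val ∧ p.val ≤ e2 ∧ e1 ≤ q.val ∧ q.val ≤ e2 ∧
      s = single p 1 + single q 1} ∪
  {s | ∃ p q m : Fin (n + 1), e1 ≤ p.val ∧ p.val < q.val ∧ q.val ≤ e2 ∧
      m.val + k0 = n + 1 + q.val ∧ s = single p 1 + single m 1}

def GJ (j : Fin (n + 1)) : Set (Fin (n + 1) →₀ ℕ) :=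
  {s | ∃ i : Fin (n + 1), e1 ≤ i.val ∧ i.val ≤ e2 ∧ i ≠ j ∧ s = single i 1} ∪ {single j 2} ∪
  {s | ∃ q m : Fin (n + 1), j.val < q.val ∧ q.val ≤ e2 ∧ m.val + k0 = n + 1 + q.val ∧
      s = single m 1}

variable {n}

theorem add_single_le_of_ne {p q : Fin (n + 1)} (h : p ≠ q) (xi : Fin (n + 1) →₀ ℕ) :
    single p 1 + single q 1 ≤ xi ↔ 1 ≤ xi p ∧ 1 ≤ xi q := by
  constructor
  · intro hle
    have hp := hle p
    have hq := hle q
    rw [Finsupp.add_apply, Finsupp.single_apply, Finsupp.single_apply, if_pos rfl,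
      if_neg (Ne.symm h)] at hp
    rw [Finsupp.add_apply, Finsupp.single_apply, Finsupp.single_apply, if_pos rfl,
      if_neg h] at hq
    omega
  · rintro ⟨hp, hq⟩ i
    simp only [Finsupp.add_apply, Finsupp.single_apply]
    by_cases h1 : p = i
    · subst h1
      rw [if_pos rfl, if_neg (Ne.symm h)]
      omega
    · by_cases h2 : q = i
      · subst h2
        rw [if_neg h1, if_pos rfl]
        omega
      · rw [if_neg h1, if_neg h2]
        omega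

theorem add_single_self_le (p : Fin (n + 1)) (xi : Fin (n + 1) →₀ ℕ) :
    single p 1 + single p 1 ≤ xi ↔ 2 ≤ xi p := by
  rw [← Finsupp.single_add, Finsupp.single_le_iff]

theorem comb (hk : 1 ≤ k0) (hn : 2 * k0 ≤ n + 1) (he : e1 ≤ e2) (he2 : e2 + 1 ≤ k0)
    (xi : Fin (n + 1) →₀ ℕ) :
    (∃ s ∈ GI n k0 e1 e2, s ≤ xi) ↔
      ∀ j : Fin (n + 1), e1 ≤ j.val ∧ j.val ≤ e2 → ∃ s ∈ GJ n k0 e1 e2 j, s ≤ xi := by
  constructor
  · rintro ⟨s, hs, hle⟩ j ⟨hj1, hj2⟩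
    rcases hs with ⟨p, q, hp1, hp2, hq1, hq2, rfl⟩ | ⟨p, q, m, hp1, hpq, hq2, hm, rfl⟩
    · by_cases hpq : p = q
      · subst hpq
        rw [add_single_self_le] at hle
        by_cases hpj : p = j
        · subst hpj
          exact ⟨single p 2, Or.inl (Or.inr rfl), Finsupp.single_le_iff.mpr hle⟩
        · exact ⟨single p 1, Or.inl (Or.inl ⟨p, hp1, hp2, hpj, rfl⟩),
            Finsupp.single_le_iff.mpr (by omega)⟩
      · rw [add_single_le_of_ne hpq] at hle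
        by_cases hpj : p = j
        · subst hpj
          exact ⟨single q 1, Or.inl (Or.inl ⟨q, hq1, hq2, Ne.symm hpq, rfl⟩),
            Finsupp.single_le_iff.mpr hle.2⟩
        · exact ⟨single p 1, Or.inl (Or.inl ⟨p, hp1, hp2, hpj, rfl⟩),
            Finsupp.single_le_iff.mpr hle.1⟩
    · have hpm : p ≠ m := by
        intro h
        have : p.val = m.val := congrArg Fin.val h
        omega
      rw [add_single_le_of_ne hpm] at hle
      by_cases hpj : p = j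
      · subst hpj
        exact ⟨single m 1, Or.inr ⟨q, m, hpq, hq2, hm, rfl⟩, Finsupp.single_le_iff.mpr hle.2⟩
      · exact ⟨single p 1, Or.inl (Or.inl ⟨p, hp1, by omega, hpj, rfl⟩),
          Finsupp.single_le_iff.mpr hle.1⟩
  · intro h
    -- is there an index in [e1,e2] with positive exponent?
    by_cases hT : ∃ p : Fin (n + 1), e1 ≤ p.val ∧ p.val ≤ e2 ∧ 1 ≤ xi p
    · obtain ⟨p, hp1, hp2, hp⟩ := hT
      obtain ⟨s, hs, hle⟩ := h p ⟨hp1, hp2⟩
      rcases hs with (⟨i, hi1, hi2, hip, rfl⟩ | hs) | ⟨q, m, hpq, hq2, hm, rfl⟩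
      · rw [Finsupp.single_le_iff] at hle
        exact ⟨single p 1 + single i 1, Or.inl ⟨p, i, hp1, hp2, hi1, hi2, rfl⟩,
          (add_single_le_of_ne (Ne.symm hip) xi).mpr ⟨hp, hle⟩⟩
      · rw [Set.mem_singleton_iff] at hs
        subst hs
        rw [Finsupp.single_le_iff] at hle
        exact ⟨single p 1 + single p 1, Or.inl ⟨p, p, hp1, hp2, hp1, hp2, rfl⟩,
          (add_single_self_le p xi).mpr hle⟩
      · rw [Finsupp.single_le_iff] at hle
        have hpm : p ≠ m := by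
          intro h
          have : p.val = m.val := congrArg Fin.val h
          omega
        exact ⟨single p 1 + single m 1, Or.inr ⟨p, q, m, hp1, hpq, hq2, hm, rfl⟩,
          (add_single_le_of_ne hpm xi).mpr ⟨hp, hle⟩⟩
    · exfalso
      have hlt : e2 < n + 1 := by omega
      obtain ⟨s, hs, hle⟩ := h ⟨e2, hlt⟩ ⟨he, le_refl _⟩
      rcases hs with (⟨i, hi1, hi2, hip, rfl⟩ | hs) | ⟨q, m, hpq, hq2, hm, rfl⟩
      · rw [Finsupp.single_le_iff] at hle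
        exact hT ⟨i, hi1, hi2, hle⟩
      · rw [Set.mem_singleton_iff] at hs
        subst hs
        rw [Finsupp.single_le_iff] at hle
        exact hT ⟨⟨e2, hlt⟩, he, le_refl _, by omega⟩
      · simp only at hpq
        omega

end comb

section ideal
variable (k : Type*) [Field k] (n k0 e1 e2 : ℕ)

theorem setI_eq :
    ({f : MvPolynomial (Fin (n + 1)) k | ∃ p q : Fin (n + 1), e1 ≤ p.val ∧ p.val ≤ e2 ∧ e1 ≤ q.val ∧ q.val ≤ e2 ∧
        f = MvPolynomial.X p * MvPolynomial.X q} ∪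
      {f : MvPolynomial (Fin (n + 1)) k | ∃ p q m : Fin (n + 1), e1 ≤ p.val ∧ p.val < q.val ∧ q.val ≤ e2 ∧
        m.val + k0 = n + 1 + q.val ∧ f = MvPolynomial.X p * MvPolynomial.X m})
      = (fun s => monomial s (1 : k)) '' GI n k0 e1 e2 := by
  have hX : ∀ p q : Fin (n + 1), (X p * X q : MvPolynomial (Fin (n + 1)) k)
      = monomial (single p 1 + single q 1) 1 := by
    intro p q
    rw [X, X, monomial_mul, one_mul]
  ext f
  constructor
  · rintro (⟨p, q, hp1, hp2, hq1, hq2, rfl⟩ | ⟨p, q, m, hp1, hpq, hq2, hm, rfl⟩)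
    · exact ⟨_, Or.inl ⟨p, q, hp1, hp2, hq1, hq2, rfl⟩, (hX p q).symm⟩
    · exact ⟨_, Or.inr ⟨p, q, m, hp1, hpq, hq2, hm, rfl⟩, (hX p m).symm⟩
  · rintro ⟨s, (⟨p, q, hp1, hp2, hq1, hq2, rfl⟩ | ⟨p, q, m, hp1, hpq, hq2, hm, rfl⟩), rfl⟩
    · exact Or.inl ⟨p, q, hp1, hp2, hq1, hq2, (hX p q).symm⟩
    · exact Or.inr ⟨p, q, m, hp1, hpq, hq2, hm, (hX p m).symm⟩

theorem setJ_eq (j : Fin (n + 1)) :
    ({f : MvPolynomial (Fin (n + 1)) k | ∃ i : Fin (n + 1), e1 ≤ i.val ∧ i.val ≤ e2 ∧ i ≠ j ∧ f = MvPolynomial.X i} ∪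
        {MvPolynomial.X j ^ 2} ∪
        {f : MvPolynomial (Fin (n + 1)) k | ∃ q m : Fin (n + 1), j.val < q.val ∧ q.val ≤ e2 ∧ m.val + k0 = n + 1 + q.val ∧
          f = MvPolynomial.X m})
      = (fun s => monomial s (1 : k)) '' GJ n k0 e1 e2 j := by
  have hX2 : (X j ^ 2 : MvPolynomial (Fin (n + 1)) k) = monomial (single j 2) 1 :=
    X_pow_eq_monomial
  ext f
  constructor
  · rintro ((⟨i, hi1, hi2, hij, rfl⟩ | hf) | ⟨q, m, hjq, hq2, hm, rfl⟩)
    · exact ⟨_, Or.inl (Or.inl ⟨i, hi1, hi2, hij, rfl⟩), rfl⟩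
    · rw [Set.mem_singleton_iff] at hf
      subst hf
      exact ⟨_, Or.inl (Or.inr rfl), hX2.symm⟩
    · exact ⟨_, Or.inr ⟨q, m, hjq, hq2, hm, rfl⟩, rfl⟩
  · rintro ⟨s, ((⟨i, hi1, hi2, hij, rfl⟩ | hs) | ⟨q, m, hjq, hq2, hm, rfl⟩), rfl⟩
    · exact Or.inl (Or.inl ⟨i, hi1, hi2, hij, rfl⟩)
    · rw [Set.mem_singleton_iff] at hs
      subst hs
      exact Or.inl (Or.inr hX2.symm)
    · exact Or.inr ⟨q, m, hjq, hq2, hm, rfl⟩

theorem final (hk : 1 ≤ k0) (hn : 2 * k0 ≤ n + 1) (he : e1 ≤ e2) (he2 : e2 + 1 ≤ k0) :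
    Ideal.span ({f : MvPolynomial (Fin (n + 1)) k | ∃ p q : Fin (n + 1), e1 ≤ p.val ∧ p.val ≤ e2 ∧ e1 ≤ q.val ∧ q.val ≤ e2 ∧
        f = MvPolynomial.X p * MvPolynomial.X q} ∪
      {f : MvPolynomial (Fin (n + 1)) k | ∃ p q m : Fin (n + 1), e1 ≤ p.val ∧ p.val < q.val ∧ q.val ≤ e2 ∧
        m.val + k0 = n + 1 + q.val ∧ f = MvPolynomial.X p * MvPolynomial.X m}) =
    ⨅ j : Fin (n + 1), ⨅ (_ : e1 ≤ j.val ∧ j.val ≤ e2),
      Ideal.span ({f : MvPolynomial (Fin (n + 1)) k | ∃ i : Fin (n + 1), e1 ≤ i.val ∧ i.val ≤ e2 ∧ i ≠ j ∧ f = MvPolynomial.X i} ∪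
        {MvPolynomial.X j ^ 2} ∪
        {f : MvPolynomial (Fin (n + 1)) k | ∃ q m : Fin (n + 1), j.val < q.val ∧ q.val ≤ e2 ∧ m.val + k0 = n + 1 + q.val ∧
          f = MvPolynomial.X m}) := by
  ext f
  rw [setI_eq, mem_ideal_span_monomial_image]
  simp only [Ideal.mem_iInf]
  constructor
  · intro h j hj
    rw [setJ_eq, mem_ideal_span_monomial_image]
    intro xi hxi
    exact (comb k0 e1 e2 hk hn he he2 xi).mp (h xi hxi) j hj
  · intro h xi hxi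
    apply (comb k0 e1 e2 hk hn he he2 xi).mpr
    intro j hj
    have h1 := h j hj
    rw [setJ_eq, mem_ideal_span_monomial_image] at h1
    exact h1 xi hxi

end ideal

end Groth.Agent.Helper25.MonoDecomp
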