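import Mathlib
import Groth.Prelude.Def_Flatn

/-!
# Base change of the functor of relative morphisms (helper25)
-/

set_option autoImplicit false

open CategoryTheory CategoryTheory.Limits Opposite

namespace Groth.Agent.Helper25.MorSBC

universe v u

variable {C : Type u} [Category.{v} C] [HasPullbacks C] {S S' X : C} (gX : X ⟶ S) (h : S' ⟶ S)

/-- the comparison isomorphism `T' ×_{S'} (X ×_S S') ≅ T' ×_S X`. -/
noncomputable def cmp (T' : Over S') :
    pullback T'.hom (pullback.snd gX h) ≅ pullback (T'.hom ≫ h) gX :=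
  pullbackSymmetry _ _ ≪≫ pullbackLeftPullbackSndIso gX h T'.hom ≪≫ pullbackSymmetry _ _

@[reassoc (attr := simp)]
lemma cmp_hom_fst (T' : Over S') :
    (cmp gX h T').hom ≫ pullback.fst _ _ = pullback.fst _ _ := by
  simp [cmp]

@[reassoc (attr := simp)]
lemma cmp_hom_snd (T' : Over S') :
    (cmp gX h T').hom ≫ pullback.snd _ _ = pullback.snd _ _ ≫ pullback.fst gX h := by
  simp [cmp]

/-- the Beck–Chevalley isomorphism. -/
noncomputable def bc :
    Over.pullback (pullback.snd gX h) ⋙ Over.map (pullback.snd gX h) ⋙ Over.map h ≅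
      Over.map h ⋙ Over.pullback gX ⋙ Over.map gX :=
  NatIso.ofComponents (fun T' => Over.isoMk (cmp gX h T') (by
      change (cmp gX h T').hom ≫ pullback.snd (T'.hom ≫ h) gX ≫ gX =
        (pullback.snd T'.hom (pullback.snd gX h) ≫ pullback.snd gX h) ≫ h
      rw [cmp_hom_snd_assoc, pullback.condition, Category.assoc]))
    (by
      intro T₁ T₂ φ
      ext
      apply pullback.hom_ext
      · simp
        rw [pullback.lift_fst]
        erw [pullback.lift_fst]
        simp
      · simp
        rw [pullback.lift_snd_assoc]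
        erw [pullback.lift_snd]
        simp)

variable {Y : C} (gY : Y ⟶ S)

/-- the functor of relative morphisms, in a general category with pullbacks. -/
noncomputable def morS' (gX : X ⟶ S) (gY : Y ⟶ S) : (Over S)ᵒᵖ ⥤ Type v :=
  (Over.pullback gX ⋙ Over.map gX).op ⋙ yoneda.obj (Over.mk gY)

noncomputable def adjIso (Z : Over S) :
    yoneda.obj ((Over.pullback h).obj Z) ≅ (Over.map h).op ⋙ yoneda.obj Z :=
  ((Over.mapPullbackAdj h).representableBy Z).toIso

noncomputable def iso1 :
    (Over.map h).op ⋙ morS' gX gY ≅ morS' (pullback.snd gX h) (pullback.snd gY h) :=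
  Functor.isoWhiskerRight (NatIso.op (bc gX h)) (yoneda.obj (Over.mk gY)) ≪≫
    Functor.isoWhiskerLeft (Over.pullback (pullback.snd gX h) ⋙ Over.map (pullback.snd gX h)).op
      (adjIso h (Over.mk gY)).symm

noncomputable def rep {M : Over S} (e : (morS' gX gY).RepresentableBy M) :
    (morS' (pullback.snd gX h) (pullback.snd gY h)).RepresentableBy ((Over.pullback h).obj M) :=
  (((Over.mapPullbackAdj h).representableBy M).ofIso
    (Functor.isoWhiskerLeft (Over.map h).op e.toIso)).ofIso (iso1 gX h gY)

end Groth.Agent.Helper25.MorSBC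

namespace Groth.Agent.Helper25.MorSBC

open AlgebraicGeometry

universe w

theorem nonempty_rep {X Y S S' : Scheme.{w}} (gX : X ⟶ S) (gY : Y ⟶ S) (h : S' ⟶ S)
    (M : Over S) (e : (Flatn.morS gX gY).RepresentableBy M) :
    Nonempty ((Flatn.morS (pullback.snd gX h) (pullback.snd gY h)).RepresentableBy
      (Over.mk (pullback.snd M.hom h))) :=
  ⟨rep gX h gY e⟩

end Groth.Agent.Helper25.MorSBC
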