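import Mathlib
import Groth.Prelude.Def_Flatn

/-!
# Relative morphisms out of a finite coproduct (helper25)
-/

set_option autoImplicit false

open CategoryTheory CategoryTheory.Limits AlgebraicGeometry Opposite

namespace Groth.Agent.Helper25.MorSSigma

universe u

variable {S Y : Scheme.{u}} {ι : Type u} [Finite ι] (X : ι → Scheme.{u}) (g : ∀ i, X i ⟶ S)
  (T : Over S)

/-- the comparison maps `T ×_S X_i ⟶ T ×_S ∐ X` -/
noncomputable def mm (i : ι) : pullback T.hom (g i) ⟶ pullback T.hom (Sigma.desc g) :=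
  pullback.map T.hom (g i) T.hom (Sigma.desc g) (𝟙 T.left) (Sigma.ι X i) (𝟙 S)
    ((Category.comp_id _).trans (Category.id_comp _).symm)
    ((Category.comp_id _).trans (Sigma.ι_desc g i).symm)

lemma mm_fst (i : ι) :
    mm X g T i ≫ pullback.fst T.hom (Sigma.desc g) = pullback.fst T.hom (g i) := by
  unfold mm pullback.map
  rw [pullback.lift_fst, Category.comp_id]

lemma mm_snd (i : ι) :
    mm X g T i ≫ pullback.snd T.hom (Sigma.desc g) = pullback.snd T.hom (g i) ≫ Sigma.ι X i := by
  unfold mm pullback.map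
  rw [pullback.lift_snd]

lemma isPullback_mm (i : ι) :
    IsPullback (mm X g T i) (pullback.snd T.hom (g i)) (pullback.snd T.hom (Sigma.desc g))
      (Sigma.ι X i) := by
  have hright : IsPullback (pullback.fst T.hom (Sigma.desc g))
      (pullback.snd T.hom (Sigma.desc g)) T.hom (Sigma.desc g) :=
    IsPullback.of_hasPullback _ _
  have houter : IsPullback (mm X g T i ≫ pullback.fst T.hom (Sigma.desc g))
      (pullback.snd T.hom (g i)) T.hom (Sigma.ι X i ≫ Sigma.desc g) := by
    rw [mm_fst, Sigma.ι_desc]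
    exact IsPullback.of_hasPullback _ _
  exact IsPullback.of_right houter (mm_snd X g T i) hright

lemma nonempty_isColimit :
    Nonempty (IsColimit (Cofan.mk (pullback T.hom (Sigma.desc g)) (mm X g T))) := by
  have hu : IsUniversalColimit (Cofan.mk (∐ X) (Sigma.ι X)) :=
    FinitaryPreExtensive.isUniversal_finiteCoproducts (coproductIsCoproduct X)
  refine hu (Cofan.mk (pullback T.hom (Sigma.desc g)) (mm X g T))
    (Discrete.natTrans fun i => pullback.snd T.hom (g i.as))
    (pullback.snd T.hom (Sigma.desc g)) ?_ ?_ ?_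
  · ext ⟨i⟩
    simpa using (mm_snd X g T i).symm
  · exact NatTrans.equifibered_of_discrete _
  · rintro ⟨i⟩
    exact isPullback_mm X g T i

theorem main (gY : Y ⟶ S) (a : ∀ i, (Flatn.morS (g i) gY).obj (op T)) :
    ∃! b : (Flatn.morS (Sigma.desc g) gY).obj (op T),
      ∀ i, mm X g T i ≫ b.left = (a i).left := by
  obtain ⟨hc⟩ := nonempty_isColimit X g T
  have hw : ∀ i, (a i).left ≫ gY = pullback.snd T.hom (g i) ≫ g i := fun i => Over.w (a i)
  have hfac : ∀ i, mm X g T i ≫ Cofan.IsColimit.desc hc (fun i => (a i).left) = (a i).left :=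
    fun i => Cofan.IsColimit.fac hc _ i
  refine ⟨Over.homMk (Cofan.IsColimit.desc hc fun i => (a i).left) ?_, ?_, ?_⟩
  · apply Cofan.IsColimit.hom_ext hc
    intro i
    have h1 : mm X g T i ≫ (Cofan.IsColimit.desc hc (fun i => (a i).left) ≫ gY) =
        pullback.snd T.hom (g i) ≫ g i := by
      rw [← Category.assoc, hfac, hw]
    have h2 : mm X g T i ≫ (pullback.snd T.hom (Sigma.desc g) ≫ Sigma.desc g) =
        pullback.snd T.hom (g i) ≫ g i := by
      rw [← Category.assoc, mm_snd, Category.assoc, Sigma.ι_desc]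
    exact h1.trans h2.symm
  · intro i
    exact hfac i
  · intro b hb
    apply Over.OverMorphism.ext
    apply Cofan.IsColimit.hom_ext hc
    intro i
    exact (hb i).trans (hfac i).symm

end Groth.Agent.Helper25.MorSSigma
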