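import Mathlib

/-!
# Chart computation for the moving lemma with modulus (helper25, for S16367)
-/

namespace Groth.Agent.Helper25.MovLemA

open MvPolynomial

variable {k : Type*} [CommRing k] (d n : ℕ)

/-- the homogenized translate, with general translation terms `B i` -/
noncomputable def phiG (B : Fin d → Polynomial (MvPolynomial (Fin d ⊕ Fin n) k)) (N : ℕ)
    (f : MvPolynomial (Fin d ⊕ Fin n) k) : Polynomial (MvPolynomial (Fin d ⊕ Fin n) k) :=
  ∑ m ∈ f.support,
    Polynomial.C (MvPolynomial.C (MvPolynomial.coeff m f)) *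
      Polynomial.X ^ (N - ∑ i : Fin d, m (Sum.inl i)) *
      (∏ i : Fin d, (Polynomial.X * Polynomial.C (MvPolynomial.X (Sum.inl i)) + B i) ^
        m (Sum.inl i)) *
      ∏ j : Fin n, Polynomial.C (MvPolynomial.X (Sum.inr j)) ^ m (Sum.inr j)

theorem map_phiG {S : Type*} [CommRing S]
    (π : Polynomial (MvPolynomial (Fin d ⊕ Fin n) k) →+* S)
    (B : Fin d → Polynomial (MvPolynomial (Fin d ⊕ Fin n) k)) (N : ℕ)
    (f : MvPolynomial (Fin d ⊕ Fin n) k)
    (hdeg : ∀ m ∈ f.support, ∑ i : Fin d, m (Sum.inl i) ≤ N)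
    (hπ : ∀ i : Fin d, π (B i) = 0 ∨ ∀ m ∈ f.support, m (Sum.inl i) = 0) :
    π (phiG d n B N f) = π (Polynomial.X ^ N * Polynomial.C f) := by
  have hf : (Polynomial.C f : Polynomial (MvPolynomial (Fin d ⊕ Fin n) k)) =
      ∑ m ∈ f.support, Polynomial.C (MvPolynomial.C (MvPolynomial.coeff m f)) *
        (∏ i : Fin d, Polynomial.C (MvPolynomial.X (Sum.inl i)) ^ m (Sum.inl i)) *
        ∏ j : Fin n, Polynomial.C (MvPolynomial.X (Sum.inr j)) ^ m (Sum.inr j) := by
    conv_lhs => rw [f.as_sum]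
    rw [map_sum]
    refine Finset.sum_congr rfl fun m _ => ?_
    rw [MvPolynomial.monomial_eq, Finsupp.prod_fintype _ _ (fun _ => pow_zero _),
      Fintype.prod_sum_type]
    simp only [map_mul, map_prod, map_pow, mul_assoc]
  rw [hf, Finset.mul_sum, phiG, map_sum, map_sum]
  refine Finset.sum_congr rfl fun m hm => ?_
  simp only [map_mul, map_prod, map_pow, map_add]
  have h1 : ∀ i : Fin d, (π Polynomial.X * π (Polynomial.C (MvPolynomial.X (Sum.inl i))) +
      π (B i)) ^ m (Sum.inl i) =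
      π Polynomial.X ^ m (Sum.inl i) *
        π (Polynomial.C (MvPolynomial.X (Sum.inl i))) ^ m (Sum.inl i) := by
    intro i
    rcases hπ i with h | h
    · rw [h, add_zero, mul_pow]
    · rw [h m hm, pow_zero, pow_zero, pow_zero, one_mul]
  rw [Finset.prod_congr rfl (fun i _ => h1 i), Finset.prod_mul_distrib,
    Finset.prod_pow_eq_pow_sum]
  have hN : π Polynomial.X ^ N = π Polynomial.X ^ (N - ∑ i : Fin d, m (Sum.inl i)) *
      π Polynomial.X ^ (∑ i : Fin d, m (Sum.inl i)) := by
    rw [← pow_add, Nat.sub_add_cancel (hdeg m hm)]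
  rw [hN]
  ring

theorem main (U : MvPolynomial (Fin d ⊕ Fin n) k) (v : Fin d → k)
    (ζ : MvPolynomial (Fin d ⊕ Fin n) k) (N s : ℕ) (hs : N ≤ s)
    {Λ : Type*} [Fintype Λ] (f : Λ → MvPolynomial (Fin d ⊕ Fin n) k)
    (hdeg : ∀ l, ∀ m ∈ (f l).support, ∑ i : Fin d, m (Sum.inl i) ≤ N)
    (c : ℕ → MvPolynomial (Fin d ⊕ Fin n) k)
    (hE : ζ ^ N + ∑ i ∈ Finset.Icc 1 N, c i * ζ ^ (N - i) * U ^ i ∈ Ideal.span (Set.range f)) :
    ∃ c' : ℕ → Polynomial (MvPolynomial (Fin d ⊕ Fin n) k),
      (Polynomial.X * Polynomial.C ζ) ^ N +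
        ∑ i ∈ Finset.Icc 1 N, c' i * (Polynomial.X * Polynomial.C ζ) ^ (N - i) *
          Polynomial.C U ^ i ∈
      Ideal.span (Set.range fun l : Λ =>
        phiG d n (fun i => Polynomial.C (U ^ s * MvPolynomial.C (v i))) N (f l)) := by
  obtain ⟨a, ha⟩ := Ideal.mem_span_range_iff_exists_fun.mp hE
  set B : Fin d → Polynomial (MvPolynomial (Fin d ⊕ Fin n) k) :=
    fun i => Polynomial.C (U ^ s * MvPolynomial.C (v i)) with hB
  have hmem : ∀ l, phiG d n B N (f l) ∈
      Ideal.span (Set.range fun l : Λ => phiG d n B N (f l)) :=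
    fun l => Ideal.subset_span ⟨l, rfl⟩
  rcases Nat.eq_zero_or_pos N with hN | hN
  · subst hN
    refine ⟨fun _ => 0, ?_⟩
    have hphi : ∀ l, phiG d n B 0 (f l) = Polynomial.C (f l) := by
      intro l
      have := map_phiG d n (RingHom.id _) B 0 (f l) (hdeg l) (fun i => Or.inr fun m hm => by
        have h := hdeg l m hm
        have h2 : m (Sum.inl i) ≤ ∑ i : Fin d, m (Sum.inl i) :=
          Finset.single_le_sum (f := fun i => m (Sum.inl i)) (fun _ _ => Nat.zero_le _)
            (Finset.mem_univ i)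
        omega)
      simpa using this
    have hI : Finset.Icc 1 0 = (∅ : Finset ℕ) := Finset.Icc_eq_empty (by norm_num)
    rw [hI] at ha
    simp only [pow_zero, Finset.sum_empty, add_zero] at ha
    have h1 : (1 : Polynomial (MvPolynomial (Fin d ⊕ Fin n) k)) =
        ∑ l, Polynomial.C (a l) * phiG d n B 0 (f l) := by
      simp only [hphi, ← map_mul, ← map_sum]
      rw [ha, map_one]
    rw [hI]
    simp only [pow_zero, Finset.sum_empty, add_zero]
    rw [h1]
    exact Ideal.sum_mem _ fun l _ => Ideal.mul_mem_left _ _ (hmem l)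
  · set I : Ideal (Polynomial (MvPolynomial (Fin d ⊕ Fin n) k)) :=
      Ideal.span {Polynomial.C U ^ s} with hI
    have hπ : ∀ i, Ideal.Quotient.mk I (B i) = 0 := by
      intro i
      rw [Ideal.Quotient.eq_zero_iff_mem]
      show Polynomial.C (U ^ s * MvPolynomial.C (v i)) ∈ I
      rw [map_mul, map_pow]
      exact Ideal.mul_mem_right _ _ (Ideal.subset_span rfl)
    have hg : ∀ l, ∃ g, phiG d n B N (f l) =
        Polynomial.X ^ N * Polynomial.C (f l) + g * Polynomial.C U ^ s := by
      intro l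
      have h := map_phiG d n (S := Polynomial (MvPolynomial (Fin d ⊕ Fin n) k) ⧸ I)
        (Ideal.Quotient.mk I) B N (f l) (hdeg l) (fun i => Or.inl (hπ i))
      rw [Ideal.Quotient.eq, hI, Ideal.mem_span_singleton'] at h
      obtain ⟨g, hg⟩ := h
      exact ⟨g, by rw [hg]; ring⟩
    choose g hg using hg
    have hkey : Polynomial.X ^ N *
        Polynomial.C (ζ ^ N + ∑ i ∈ Finset.Icc 1 N, c i * ζ ^ (N - i) * U ^ i) +
        Polynomial.C U ^ s * (∑ l, Polynomial.C (a l) * g l) ∈
        Ideal.span (Set.range fun l : Λ => phiG d n B N (f l)) := by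
      have : Polynomial.X ^ N *
          Polynomial.C (ζ ^ N + ∑ i ∈ Finset.Icc 1 N, c i * ζ ^ (N - i) * U ^ i) +
          Polynomial.C U ^ s * (∑ l, Polynomial.C (a l) * g l) =
          ∑ l, Polynomial.C (a l) * phiG d n B N (f l) := by
        rw [← ha, map_sum, Finset.mul_sum, Finset.mul_sum, ← Finset.sum_add_distrib]
        refine Finset.sum_congr rfl fun l _ => ?_
        rw [hg l, map_mul]; ring
      rw [this]
      exact Ideal.sum_mem _ fun l _ => Ideal.mul_mem_left _ _ (hmem l)
    refine ⟨fun i => Polynomial.C (c i) * Polynomial.X ^ i +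
      if i = N then Polynomial.C U ^ (s - N) * (∑ l, Polynomial.C (a l) * g l) else 0, ?_⟩
    convert hkey using 1
    beta_reduce
    have hsum1 : ∑ i ∈ Finset.Icc 1 N, (Polynomial.C (c i) * Polynomial.X ^ i +
        if i = N then Polynomial.C U ^ (s - N) * (∑ l, Polynomial.C (a l) * g l) else 0) *
        (Polynomial.X * Polynomial.C ζ) ^ (N - i) * Polynomial.C U ^ i =
        (∑ i ∈ Finset.Icc 1 N, Polynomial.X ^ N * Polynomial.C (c i * ζ ^ (N - i) * U ^ i)) +
        Polynomial.C U ^ s * (∑ l, Polynomial.C (a l) * g l) := by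
      simp only [add_mul, Finset.sum_add_distrib]
      congr 1
      · refine Finset.sum_congr rfl fun i hi => ?_
        have hiN : i ≤ N := (Finset.mem_Icc.mp hi).2
        have : Polynomial.X ^ N = (Polynomial.X : Polynomial (MvPolynomial (Fin d ⊕ Fin n) k)) ^ i *
            Polynomial.X ^ (N - i) := by rw [← pow_add, Nat.add_sub_cancel' hiN]
        rw [this, mul_pow, map_mul, map_mul, map_pow, map_pow]; ring
      · rw [Finset.sum_eq_single N]
        · rw [if_pos rfl, Nat.sub_self, pow_zero, mul_one]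
          have : Polynomial.C U ^ s =
              (Polynomial.C U : Polynomial (MvPolynomial (Fin d ⊕ Fin n) k)) ^ (s - N) *
              Polynomial.C U ^ N := by rw [← pow_add, Nat.sub_add_cancel hs]
          rw [this]; ring
        · intro i _ hiN; rw [if_neg hiN]; ring
        · intro h; exact absurd (Finset.mem_Icc.mpr ⟨hN, le_refl N⟩) h
    rw [hsum1, map_add, map_sum, map_pow, mul_add, Finset.mul_sum (Finset.Icc 1 N), mul_pow]
    ring

end Groth.Agent.Helper25.MovLemA
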