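import Mathlib

namespace Groth.Agent.Helper25.MultiTele

open Finset

section General

variable {A : Type*} [CommRing A] {r : ℕ} {M : Fin r → Type*} {N : Type*}
  [∀ i, AddCommGroup (M i)] [∀ i, Module A (M i)] [AddCommGroup N] [Module A N]

lemma ite_eq_update (a b z : ∀ k, M k) (i : Fin r) :
    (fun k => if k < i then a k else if k = i then z k else b k)
      = Function.update (fun k => if k < i then a k else b k) i (z i) := by
  funext k
  by_cases hk : k = i
  · subst hk
    simp
  · rw [Function.update_of_ne hk]
    simp [hk]

/-- staircase -/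
def stair (a b : ∀ k, M k) (m : ℕ) : ∀ k, M k := fun k => if (k : ℕ) < m then a k else b k

lemma stair_eq (a b : ∀ k, M k) (i : Fin r) :
    (fun k => if k < i then a k else b k) = stair a b i := by
  funext k
  by_cases h : k < i
  · rw [if_pos h]; unfold stair; rw [if_pos (Fin.lt_def.mp h)]
  · rw [if_neg h]; unfold stair; rw [if_neg (fun h' => h (Fin.lt_def.mpr h'))]

lemma update_stair_a (a b : ∀ k, M k) (i : Fin r) :
    Function.update (stair a b i) i (a i) = stair a b (i + 1) := by
  funext k
  by_cases hk : k = i
  · subst hk
    simp [stair]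
  · rw [Function.update_of_ne hk]
    have : (k : ℕ) ≠ i := fun h => hk (Fin.ext h)
    simp only [stair]
    by_cases h1 : (k : ℕ) < i
    · rw [if_pos h1, if_pos (by omega)]
    · rw [if_neg h1, if_neg (by omega)]

lemma update_stair_b (a b : ∀ k, M k) (i : Fin r) :
    Function.update (stair a b i) i (b i) = stair a b i := by
  funext k
  by_cases hk : k = i
  · subst hk
    simp [stair]
  · rw [Function.update_of_ne hk]

lemma tele (α : A) (φ : MultilinearMap A M N) (a b z : ∀ k, M k)
    (h : ∀ k, a k = b k + α • z k) :
    α • ∑ i : Fin r, φ (fun k => if k < i then a k else if k = i then z k else b k)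
      = φ a - φ b := by
  rw [Finset.smul_sum]
  have step : ∀ i : Fin r,
      α • φ (fun k => if k < i then a k else if k = i then z k else b k)
      = φ (stair a b (i + 1)) - φ (stair a b i) := by
    intro i
    rw [ite_eq_update, stair_eq, ← MultilinearMap.map_update_smul]
    have e : α • z i = a i - b i := by rw [h i]; abel
    rw [e, MultilinearMap.map_update_sub, update_stair_a, update_stair_b]
  rw [Finset.sum_congr rfl (fun i _ => step i)]
  rw [Fin.sum_univ_eq_sum_range (fun m => φ (stair a b (m + 1)) - φ (stair a b m)) r]
  rw [Finset.sum_range_sub (fun m => φ (stair a b m)) r]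
  have e1 : stair a b r = a := by
    funext k
    simp [stair, k.2]
  have e2 : stair a b 0 = b := by
    funext k
    simp [stair]
  rw [e1, e2]

theorem smul_eq (α : A) (φ : MultilinearMap A M N) (n : ℕ) (y w : ∀ i, ℕ → M i)
    (hw : ∀ i, ∀ j < n, w i (j + 1) = w i j + α • y i j) :
    α • (∑ i : Fin r, ∑ j ∈ Finset.range n,
        φ (fun k => if k < i then w k (j + 1) else if k = i then y k j else w k j)) =
    α • ∑ i : Fin r, ∑ j ∈ Finset.range n,
        φ (fun k => if k < i then w k n else if k = i then y k j else w k 0) := by
  have hL : α • (∑ i : Fin r, ∑ j ∈ range n,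
      φ (fun k => if k < i then w k (j + 1) else if k = i then y k j else w k j))
      = φ (fun k => w k n) - φ (fun k => w k 0) := by
    rw [Finset.sum_comm, Finset.smul_sum]
    have : ∀ j ∈ range n, α • ∑ i : Fin r,
        φ (fun k => if k < i then w k (j + 1) else if k = i then y k j else w k j)
        = φ (fun k => w k (j + 1)) - φ (fun k => w k j) := by
      intro j hj
      exact tele α φ (fun k => w k (j + 1)) (fun k => w k j) (fun k => y k j)
        (fun k => hw k j (mem_range.mp hj))
    rw [Finset.sum_congr rfl this]
    exact Finset.sum_range_sub (fun j => φ (fun k => w k j)) n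
  have hwn : ∀ k, w k n = w k 0 + α • ∑ j ∈ range n, y k j := by
    intro k
    have : ∀ m ≤ n, w k m = w k 0 + α • ∑ j ∈ range m, y k j := by
      intro m hm
      induction m with
      | zero => simp
      | succ m ih =>
        rw [hw k m (by omega), ih (by omega), Finset.sum_range_succ, smul_add, add_assoc]
    exact this n le_rfl
  have hR : α • (∑ i : Fin r, ∑ j ∈ range n,
      φ (fun k => if k < i then w k n else if k = i then y k j else w k 0))
      = φ (fun k => w k n) - φ (fun k => w k 0) := by
    rw [← tele α φ (fun k => w k n) (fun k => w k 0) (fun k => ∑ j ∈ range n, y k j) hwn]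
    congr 1
    apply Finset.sum_congr rfl
    intro i _
    have e1 := ite_eq_update (fun k => w k n) (fun k => w k 0)
      (fun k => ∑ j ∈ range n, y k j) i
    beta_reduce at e1
    rw [e1, MultilinearMap.map_update_sum]
    apply Finset.sum_congr rfl
    intro j _
    have e2 := ite_eq_update (fun k => w k n) (fun k => w k 0) (fun k => y k j) i
    beta_reduce at e2
    rw [e2]
  rw [hL, hR]

theorem eq_of_torsionFree (α : A) (htf : ∀ x : N, α • x = 0 → x = 0)
    (φ : MultilinearMap A M N) (n : ℕ) (y w : ∀ i, ℕ → M i)
    (hw : ∀ i, ∀ j < n, w i (j + 1) = w i j + α • y i j) :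
    (∑ i : Fin r, ∑ j ∈ Finset.range n,
        φ (fun k => if k < i then w k (j + 1) else if k = i then y k j else w k j)) =
    ∑ i : Fin r, ∑ j ∈ Finset.range n,
        φ (fun k => if k < i then w k n else if k = i then y k j else w k 0) := by
  have := smul_eq α φ n y w hw
  rw [← sub_eq_zero]
  apply htf
  rw [smul_sub, this, sub_self]

end General

end Groth.Agent.Helper25.MultiTele
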