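import Mathlib
import Groth.Agent.Lib.Helper25.MultiTele

namespace Groth.Agent.Helper25.MultiTele2

open Finset Groth.Agent.Helper25.MultiTele

section

variable {A : Type*} [CommRing A] (α : A) (n : ℕ)

/-- basis-type vectors -/
noncomputable def y' (j : ℕ) : Fin (n + 1) → A :=
  if h : j < n then Pi.single (⟨j + 1, by omega⟩ : Fin (n + 1)) 1 else 0

noncomputable def w' (j : ℕ) : Fin (n + 1) → A :=
  Pi.single 0 1 + α • ∑ l ∈ range j, y' (A := A) n l

lemma w'_succ (j : ℕ) : w' α n (j + 1) = w' α n j + α • y' n j := by
  unfold w'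
  rw [Finset.sum_range_succ, smul_add, add_assoc]

variable {r : ℕ} {M : Fin r → Type*} [∀ i, AddCommGroup (M i)] [∀ i, Module A (M i)]

/-- the vectors to hit -/
def vv (y w : ∀ i, ℕ → M i) (i : Fin r) (c : Fin (n + 1)) : M i :=
  if (c : ℕ) = 0 then w i 0 else y i ((c : ℕ) - 1)

noncomputable def π (y w : ∀ i, ℕ → M i) (i : Fin r) : (Fin (n + 1) → A) →ₗ[A] M i :=
  Fintype.linearCombination A (vv n y w i)

lemma π_y' (y w : ∀ i, ℕ → M i) (i : Fin r) (j : ℕ) (hj : j < n) :
    π (A := A) n y w i (y' n j) = y i j := by
  unfold π y'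
  rw [dif_pos hj, Fintype.linearCombination_apply_single, one_smul]
  simp [vv]

lemma π_w' (y w : ∀ i, ℕ → M i) (hw : ∀ i, ∀ j < n, w i (j + 1) = w i j + α • y i j)
    (i : Fin r) (j : ℕ) (hj : j ≤ n) : π n y w i (w' α n j) = w i j := by
  induction j with
  | zero =>
    unfold w' π
    rw [Finset.range_zero, Finset.sum_empty, smul_zero, add_zero,
      Fintype.linearCombination_apply_single, one_smul]
    simp [vv]
  | succ j ih =>
    rw [w'_succ, map_add, map_smul, ih (by omega), π_y' n y w i j (by omega),
      hw i j (by omega)]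

variable (A r)

/-- universal multilinear map to functions -/
noncomputable def μ : MultilinearMap A (fun _ : Fin r => (Fin (n + 1) → A))
    ((Fin r → Fin (n + 1)) → A) :=
  MultilinearMap.pi (fun c : Fin r → Fin (n + 1) =>
    (MultilinearMap.mkPiAlgebra A (Fin r) A).compLinearMap (fun i => LinearMap.proj (c i)))

lemma μ_apply (g : Fin r → (Fin (n + 1) → A)) (c : Fin r → Fin (n + 1)) :
    μ A n r g c = ∏ i, g i (c i) := rfl

variable {A r} {N : Type*} [AddCommGroup N] [Module A N]

lemma factor (ψ : MultilinearMap A (fun _ : Fin r => (Fin (n + 1) → A)) N) :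
    ψ = (Fintype.linearCombination A (fun c : Fin r → Fin (n + 1) =>
      ψ (fun i => Pi.single (c i) 1))).compMultilinearMap (μ A n r) := by
  apply Module.Basis.ext_multilinear (fun _ => Pi.basisFun A (Fin (n + 1)))
  intro c
  simp only [Pi.basisFun_apply, LinearMap.compMultilinearMap_apply]
  rw [Fintype.linearCombination_apply, Finset.sum_eq_single c]
  · rw [μ_apply]
    simp
  · intro c' _ hc'
    rw [μ_apply]
    obtain ⟨i, hi⟩ : ∃ i, c' i ≠ c i := by
      by_contra hcon
      push Not at hcon
      exact hc' (funext hcon)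
    rw [Finset.prod_eq_zero (Finset.mem_univ i), zero_smul]
    rw [Pi.single_apply, if_neg hi]
  · intro h
    exact absurd (Finset.mem_univ c) h

theorem main (hα : α ∈ nonZeroDivisors A) (φ : MultilinearMap A M N) (y w : ∀ i, ℕ → M i)
    (hw : ∀ i, ∀ j < n, w i (j + 1) = w i j + α • y i j) :
    (∑ i : Fin r, ∑ j ∈ Finset.range n,
        φ (fun k => if k < i then w k (j + 1) else if k = i then y k j else w k j)) =
      ∑ i : Fin r, ∑ j ∈ Finset.range n,
        φ (fun k => if k < i then w k n else if k = i then y k j else w k 0) := by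
  set ψ := φ.compLinearMap (π n y w) with hψ
  set L := Fintype.linearCombination A (fun c : Fin r → Fin (n + 1) =>
    ψ (fun i => Pi.single (c i) 1)) with hL
  have hfac : ∀ g, ψ g = L (μ A n r g) := by
    intro g
    have := factor n ψ
    exact congrArg (fun f => f g) this
  have htf : ∀ x : (Fin r → Fin (n + 1)) → A, α • x = 0 → x = 0 := by
    intro x hx
    funext c
    have := congrFun hx c
    simp only [Pi.smul_apply, smul_eq_mul, Pi.zero_apply] at this
    exact (mul_left_mem_nonZeroDivisors_eq_zero_iff hα).mp this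
  have hμ := eq_of_torsionFree α htf (μ A n r) n (fun _ => y' n) (fun _ => w' α n)
    (fun _ j _ => w'_succ α n j)
  beta_reduce at hμ
  have key1 : ∀ i : Fin r, ∀ j ∈ range n,
      ψ (fun k => if k < i then w' α n (j + 1) else if k = i then y' n j else w' α n j)
      = φ (fun k => if k < i then w k (j + 1) else if k = i then y k j else w k j) := by
    intro i j hj
    have hj' := mem_range.mp hj
    rw [hψ, MultilinearMap.compLinearMap_apply]
    congr 1
    funext k
    split_ifs
    · exact π_w' α n y w hw k (j + 1) (by omega)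
    · exact π_y' n y w k j hj'
    · exact π_w' α n y w hw k j (by omega)
  have key2 : ∀ i : Fin r, ∀ j ∈ range n,
      ψ (fun k => if k < i then w' α n n else if k = i then y' n j else w' α n 0)
      = φ (fun k => if k < i then w k n else if k = i then y k j else w k 0) := by
    intro i j hj
    have hj' := mem_range.mp hj
    rw [hψ, MultilinearMap.compLinearMap_apply]
    congr 1
    funext k
    split_ifs
    · exact π_w' α n y w hw k n le_rfl
    · exact π_y' n y w k j hj'
    · exact π_w' α n y w hw k 0 (by omega)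
  have hμ' := congrArg L hμ
  simp only [map_sum, ← hfac] at hμ'
  rw [Finset.sum_congr rfl (fun i _ => Finset.sum_congr rfl (fun j hj => key1 i j hj))] at hμ'
  rw [Finset.sum_congr rfl (fun i _ => Finset.sum_congr rfl (fun j hj => key2 i j hj))] at hμ'
  exact hμ'

end

end Groth.Agent.Helper25.MultiTele2
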