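import Mathlib
import Groth.Agent.Lib.Helper7.IntDim

namespace Groth.Agent.Helper25.NNLift

open MvPolynomial

universe u

theorem main (A : Type u) [CommRing A]
    [IsDomain A] [IsDiscreteValuationRing A] (B : Type u) [CommRing B] [Algebra A B] [Module.Flat A B]
    (d : ℕ) [Algebra.FiniteType A (B ⧸ Ideal.map (algebraMap A B) (IsLocalRing.maximalIdeal A))]
    (hd : ringKrullDim (B ⧸ Ideal.map (algebraMap A B) (IsLocalRing.maximalIdeal A)) = d) :
    ∃ φ : MvPolynomial (Fin d) A →ₐ[A] B, Function.Injective φ ∧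
      (Function.Injective (MvPolynomial.eval₂Hom
          (Ideal.quotientMap (Ideal.map (algebraMap A B) (IsLocalRing.maximalIdeal A)) (algebraMap A B)
            Ideal.le_comap_map)
          (fun i => Ideal.Quotient.mk (Ideal.map (algebraMap A B) (IsLocalRing.maximalIdeal A))
            (φ (MvPolynomial.X i)))) ∧
        (MvPolynomial.eval₂Hom
          (Ideal.quotientMap (Ideal.map (algebraMap A B) (IsLocalRing.maximalIdeal A)) (algebraMap A B)
            Ideal.le_comap_map)
          (fun i => Ideal.Quotient.mk (Ideal.map (algebraMap A B) (IsLocalRing.maximalIdeal A))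
            (φ (MvPolynomial.X i)))).Finite) := by
  classical
  letI : Field (A ⧸ IsLocalRing.maximalIdeal A) := Ideal.Quotient.field _
  letI : Algebra (A ⧸ IsLocalRing.maximalIdeal A)
      (B ⧸ Ideal.map (algebraMap A B) (IsLocalRing.maximalIdeal A)) :=
    (Ideal.quotientMap (Ideal.map (algebraMap A B) (IsLocalRing.maximalIdeal A)) (algebraMap A B)
            Ideal.le_comap_map).toAlgebra
  haveI : IsScalarTower A (A ⧸ IsLocalRing.maximalIdeal A)
      (B ⧸ Ideal.map (algebraMap A B) (IsLocalRing.maximalIdeal A)) :=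
    IsScalarTower.of_algebraMap_eq (fun a => rfl)
  haveI : Algebra.FiniteType (A ⧸ IsLocalRing.maximalIdeal A)
      (B ⧸ Ideal.map (algebraMap A B) (IsLocalRing.maximalIdeal A)) :=
    Algebra.FiniteType.of_restrictScalars_finiteType A _ _
  haveI : Nontrivial (B ⧸ Ideal.map (algebraMap A B) (IsLocalRing.maximalIdeal A)) := by
    by_contra h
    rw [not_nontrivial_iff_subsingleton] at h
    rw [ringKrullDim_eq_bot_of_subsingleton] at hd
    exact absurd hd (by simp)
  obtain ⟨s, g, hginj, hgfin⟩ := exists_finite_inj_algHom_of_fg (A ⧸ IsLocalRing.maximalIdeal A)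
    (B ⧸ Ideal.map (algebraMap A B) (IsLocalRing.maximalIdeal A))
  have hsd : s = d := by
    letI : Algebra (MvPolynomial (Fin s) (A ⧸ IsLocalRing.maximalIdeal A))
        (B ⧸ Ideal.map (algebraMap A B) (IsLocalRing.maximalIdeal A)) := g.toRingHom.toAlgebra
    haveI : Module.Finite (MvPolynomial (Fin s) (A ⧸ IsLocalRing.maximalIdeal A))
        (B ⧸ Ideal.map (algebraMap A B) (IsLocalRing.maximalIdeal A)) := hgfin
    haveI : Algebra.IsIntegral (MvPolynomial (Fin s) (A ⧸ IsLocalRing.maximalIdeal A))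
        (B ⧸ Ideal.map (algebraMap A B) (IsLocalRing.maximalIdeal A)) :=
      Algebra.IsIntegral.of_finite _ _
    have h1 := Groth.Agent.Helper7.IntDim.ringKrullDim_eq_of_isIntegral_of_injective
      (A := MvPolynomial (Fin s) (A ⧸ IsLocalRing.maximalIdeal A))
      (B := B ⧸ Ideal.map (algebraMap A B) (IsLocalRing.maximalIdeal A)) hginj
    rw [hd, MvPolynomial.ringKrullDim_of_isNoetherianRing, ringKrullDim_eq_zero_of_field,
      Nat.card_fin, zero_add] at h1
    exact_mod_cast h1.symm
  subst hsd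
  choose b hb using fun i : Fin s => Ideal.Quotient.mk_surjective (g (MvPolynomial.X i))
  have hcompat : ∀ P : MvPolynomial (Fin s) A,
      g (MvPolynomial.map (Ideal.Quotient.mk (IsLocalRing.maximalIdeal A)) P) =
        Ideal.Quotient.mk (Ideal.map (algebraMap A B) (IsLocalRing.maximalIdeal A))
          (MvPolynomial.aeval b P) := by
    intro P
    have h : (g.toRingHom.comp (MvPolynomial.map (Ideal.Quotient.mk (IsLocalRing.maximalIdeal A)))) =
        (Ideal.Quotient.mk (Ideal.map (algebraMap A B) (IsLocalRing.maximalIdeal A))).comp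
          (MvPolynomial.aeval b : MvPolynomial (Fin s) A →ₐ[A] B).toRingHom := by
      apply MvPolynomial.ringHom_ext
      · intro a
        simp only [RingHom.comp_apply, MvPolynomial.map_C, AlgHom.toRingHom_eq_coe,
          RingHom.coe_coe, MvPolynomial.algHom_C, MvPolynomial.aeval_C]
        rfl
      · intro i
        simp only [RingHom.comp_apply, MvPolynomial.map_X, AlgHom.toRingHom_eq_coe,
          RingHom.coe_coe, MvPolynomial.aeval_X, hb]
    exact RingHom.congr_fun h P
  have hψ : MvPolynomial.eval₂Hom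
      (Ideal.quotientMap (Ideal.map (algebraMap A B) (IsLocalRing.maximalIdeal A)) (algebraMap A B)
        Ideal.le_comap_map)
      (fun i => Ideal.Quotient.mk (Ideal.map (algebraMap A B) (IsLocalRing.maximalIdeal A))
        ((MvPolynomial.aeval b : MvPolynomial (Fin s) A →ₐ[A] B) (MvPolynomial.X i))) =
      g.toRingHom := by
    apply MvPolynomial.ringHom_ext
    · intro c
      simp only [MvPolynomial.eval₂Hom_C, AlgHom.toRingHom_eq_coe, RingHom.coe_coe,
        MvPolynomial.algHom_C]
      rfl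
    · intro i
      simp only [MvPolynomial.eval₂Hom_X', AlgHom.toRingHom_eq_coe, RingHom.coe_coe,
        MvPolynomial.aeval_X, hb]
  obtain ⟨ϖ, hϖ⟩ := IsDiscreteValuationRing.exists_irreducible A
  have hmax : IsLocalRing.maximalIdeal A = Ideal.span {ϖ} := hϖ.maximalIdeal_eq
  have hϖ0 : ϖ ≠ 0 := hϖ.ne_zero
  have hreg : IsSMulRegular B ϖ :=
    Module.Flat.isSMulRegular_of_nonZeroDivisors (mem_nonZeroDivisors_of_ne_zero hϖ0)
  have hstep : ∀ P : MvPolynomial (Fin s) A, MvPolynomial.aeval b P = 0 →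
      ∃ P₁ : MvPolynomial (Fin s) A, P = MvPolynomial.C ϖ * P₁ ∧ MvPolynomial.aeval b P₁ = 0 := by
    intro P hP
    have h1 : MvPolynomial.map (Ideal.Quotient.mk (IsLocalRing.maximalIdeal A)) P = 0 := by
      apply hginj
      rw [hcompat, hP, map_zero, map_zero]
    have h2 : P ∈ RingHom.ker (MvPolynomial.map (Ideal.Quotient.mk (IsLocalRing.maximalIdeal A)) :
        MvPolynomial (Fin s) A →+* _) := h1
    rw [MvPolynomial.ker_map, Ideal.mk_ker, hmax, Ideal.map_span, Set.image_singleton,
      Ideal.mem_span_singleton'] at h2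
    obtain ⟨P₁, hP₁⟩ := h2
    refine ⟨P₁, by rw [← hP₁, mul_comm], ?_⟩
    apply hreg
    show ϖ • (MvPolynomial.aeval b) P₁ = ϖ • 0
    rw [smul_zero, ← hP, ← hP₁, map_mul, MvPolynomial.aeval_C, Algebra.smul_def, mul_comm]
  have hpow : ∀ (n : ℕ) (P : MvPolynomial (Fin s) A), MvPolynomial.aeval b P = 0 →
      ∃ Q : MvPolynomial (Fin s) A, P = MvPolynomial.C (ϖ ^ n) * Q := by
    intro n
    induction n with
    | zero => intro P _; exact ⟨P, by simp⟩
    | succ n ih =>
      intro P hP
      obtain ⟨P₁, hP₁, hP₁0⟩ := hstep P hP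
      obtain ⟨Q, hQ⟩ := ih P₁ hP₁0
      refine ⟨Q, ?_⟩
      rw [hP₁, hQ, ← mul_assoc, ← map_mul, pow_succ']
  have hinj : Function.Injective (MvPolynomial.aeval b : MvPolynomial (Fin s) A →ₐ[A] B) := by
    rw [injective_iff_map_eq_zero]
    intro P hP
    ext t
    rw [MvPolynomial.coeff_zero]
    have hmem : MvPolynomial.coeff t P ∈ ⨅ i : ℕ, IsLocalRing.maximalIdeal A ^ i := by
      rw [Ideal.mem_iInf]
      intro n
      obtain ⟨Q, hQ⟩ := hpow n P hP
      rw [hQ, MvPolynomial.coeff_C_mul, hmax, Ideal.span_singleton_pow]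
      exact Ideal.mul_mem_right _ _ (Ideal.mem_span_singleton_self _)
    rw [Ideal.iInf_pow_eq_bot_of_isLocalRing _ Ideal.IsPrime.ne_top'] at hmem
    exact hmem
  refine ⟨MvPolynomial.aeval b, hinj, ?_, ?_⟩
  · rw [hψ]; exact hginj
  · rw [hψ]; exact hgfin

end Groth.Agent.Helper25.NNLift
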