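import Mathlib

/-!
# Sections of `K → C₁` and subobjects completing a nine-diagram (helper for S15466)
-/

namespace Groth.Agent.Helper25.NineDiag

open CategoryTheory CategoryTheory.Limits

universe v u

variable {C : Type u} [Category.{v} C] [Abelian C]

/-- A clean "short exact sequence" predicate with lifting and descending properties. -/
structure SES {X₁ X₂ X₃ : C} (m : X₁ ⟶ X₂) (e : X₂ ⟶ X₃) : Prop where
  zero : m ≫ e = 0
  mono : Mono m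
  epi : Epi e
  lift : ∀ {T : C} (k : T ⟶ X₂), k ≫ e = 0 → ∃ l : T ⟶ X₁, l ≫ m = k
  desc : ∀ {T : C} (k : X₂ ⟶ T), m ≫ k = 0 → ∃ l : X₃ ⟶ T, e ≫ l = k

theorem SES.of_exact {X₁ X₂ X₃ : C} {m : X₁ ⟶ X₂} {e : X₂ ⟶ X₃} (w : m ≫ e = 0)
    (hm : Mono m) (he : Epi e) (hex : (ShortComplex.mk m e w).Exact) : SES m e := by
  refine ⟨w, hm, he, ?_, ?_⟩
  · intro T k hk
    have : Mono (ShortComplex.mk m e w).f := hm
    exact hex.lift' k hk
  · intro T k hk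
    have : Epi (ShortComplex.mk m e w).g := he
    exact hex.desc' k hk

theorem SES.of_shortExact {X₁ X₂ X₃ : C} {m : X₁ ⟶ X₂} {e : X₂ ⟶ X₃} {w : m ≫ e = 0}
    (h : (ShortComplex.mk m e w).ShortExact) : SES m e :=
  SES.of_exact w h.mono_f h.epi_g h.exact

theorem SES.of_refinements {X₁ X₂ X₃ : C} {m : X₁ ⟶ X₂} {e : X₂ ⟶ X₃} (w : m ≫ e = 0)
    (hm : Mono m) (he : Epi e)
    (h : ∀ {T : C} (y : T ⟶ X₂), y ≫ e = 0 →
      ∃ (T' : C) (π : T' ⟶ T) (_ : Epi π) (x : T' ⟶ X₁), π ≫ y = x ≫ m) : SES m e := by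
  apply SES.of_exact w hm he
  rw [ShortComplex.exact_iff_exact_up_to_refinements]
  intro T y hy
  exact h y hy

theorem SES.shortExact {X₁ X₂ X₃ : C} {m : X₁ ⟶ X₂} {e : X₂ ⟶ X₃} (h : SES m e) :
    (ShortComplex.mk m e h.zero).ShortExact := by
  have hex : (ShortComplex.mk m e h.zero).Exact := by
    rw [ShortComplex.exact_iff_exact_up_to_refinements]
    intro T x₂ hx₂
    obtain ⟨l, hl⟩ := h.lift x₂ hx₂
    refine ⟨T, 𝟙 T, inferInstance, l, ?_⟩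
    rw [Category.id_comp]
    exact hl.symm
  exact { exact := hex, mono_f := h.mono, epi_g := h.epi }

/-- The abstract data: `Z = ker (π₂ ≫ q)`, `K = Z / A₁`, `g : K ⟶ C₁` induced by `π₂`. -/
structure Core {A₁ A₂ A₃ B₂ C₁ C₂ C₃ Z K : C} (i₁ : A₁ ⟶ A₂) (p₁ : A₂ ⟶ A₃) (i₂ : A₂ ⟶ B₂)
    (π₂ : B₂ ⟶ C₂) (j : C₁ ⟶ C₂) (q : C₂ ⟶ C₃) (iZ : Z ⟶ B₂) (tZ : A₁ ⟶ Z) (π : Z ⟶ K)
    (g : K ⟶ C₁) : Prop where
  hA : SES i₁ p₁
  hB : SES i₂ π₂
  hC : SES j q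
  zeroZ : iZ ≫ π₂ ≫ q = 0
  liftZ : ∀ {T : C} (k : T ⟶ B₂), k ≫ π₂ ≫ q = 0 → ∃ l : T ⟶ Z, l ≫ iZ = k
  tZ_iZ : tZ ≫ iZ = i₁ ≫ i₂
  hT : SES tZ π
  star : π ≫ g ≫ j = iZ ≫ π₂

theorem core_of_shortComplex (S : ShortComplex C) {A₂ A₃ C₁ C₂ : C}
    {i₁ : S.X₁ ⟶ A₂} {p₁ : A₂ ⟶ A₃} {i₂ : A₂ ⟶ S.X₂} {π₂ : S.X₂ ⟶ C₂} {j : C₁ ⟶ C₂}
    {q : C₂ ⟶ S.X₃}
    (hSf : S.f = i₁ ≫ i₂) (hSg : S.g = π₂ ≫ q)
    (hA : SES i₁ p₁) (hB : SES i₂ π₂) (hC : SES j q)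
    (h₃ : S.f ≫ π₂ = 0) (g : S.homology ⟶ C₁)
    (hg : g ≫ j = S.homologyι ≫ S.descOpcycles π₂ h₃) :
    Core i₁ p₁ i₂ π₂ j q S.iCycles S.toCycles S.homologyπ g := by
  have hi₁ : Mono i₁ := hA.mono
  have hi₂ : Mono i₂ := hB.mono
  have hmf : Mono S.f := by rw [hSf]; infer_instance
  have hmt : Mono S.toCycles := mono_of_mono_fac S.toCycles_i
  refine ⟨hA, hB, hC, ?_, ?_, ?_, ?_, ?_⟩
  · rw [← hSg]; exact S.iCycles_g
  · intro T k hk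
    rw [← hSg] at hk
    exact ⟨S.liftCycles k hk, S.liftCycles_i k hk⟩
  · rw [S.toCycles_i, hSf]
  · exact SES.of_exact S.toCycles_comp_homologyπ hmt inferInstance
      (ShortComplex.exact_of_g_is_cokernel _ S.homologyIsCokernel)
  · rw [hg, S.homology_π_ι_assoc, S.p_descOpcycles]

section CoreLemmas

variable {A₁ A₂ A₃ B₂ C₁ C₂ C₃ Z K : C} {i₁ : A₁ ⟶ A₂} {p₁ : A₂ ⟶ A₃} {i₂ : A₂ ⟶ B₂}
  {π₂ : B₂ ⟶ C₂} {j : C₁ ⟶ C₂} {q : C₂ ⟶ C₃} {iZ : Z ⟶ B₂} {tZ : A₁ ⟶ Z} {π : Z ⟶ K}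
  {g : K ⟶ C₁}

/-- From a subobject completing the first half of the nine-diagram to a section. -/
theorem fwd [Mono iZ] (hc : Core i₁ p₁ i₂ π₂ j q iZ tZ π g) (B₁ : Subobject B₂)
    (a : A₁ ⟶ (B₁ : C)) (c : (B₁ : C) ⟶ C₁) (ha : a ≫ B₁.arrow = i₁ ≫ i₂)
    (hcj : c ≫ j = B₁.arrow ≫ π₂) (hac : SES a c) :
    ∃ s : C₁ ⟶ K, s ≫ g = 𝟙 C₁ ∧
      (Subobject.map iZ).obj ((Subobject.pullback π).obj (imageSubobject s)) = B₁ := by
  have hjm : Mono j := hc.hC.mono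
  have hce : Epi c := hac.epi
  have hπe : Epi π := hc.hT.epi
  obtain ⟨b', hb'⟩ := hc.liftZ B₁.arrow (by
    rw [← Category.assoc, ← hcj, Category.assoc, hc.hC.zero, comp_zero])
  have hb'm : Mono b' := mono_of_mono_fac hb'
  have hab' : a ≫ b' = tZ := by
    rw [← cancel_mono iZ, Category.assoc, hb', ha, hc.tZ_iZ]
  obtain ⟨s, hs⟩ := hac.desc (b' ≫ π) (by
    rw [← Category.assoc, hab', hc.hT.zero])
  have hbg : b' ≫ π ≫ g = c := by
    rw [← cancel_mono j, Category.assoc, Category.assoc, hc.star, ← Category.assoc, hb', hcj]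
  have hsg : s ≫ g = 𝟙 C₁ := by
    rw [← cancel_epi c, ← Category.assoc, hs, Category.assoc, hbg, Category.comp_id]
  have hsm : Mono s := mono_of_mono_fac hsg
  refine ⟨s, hsg, ?_⟩
  obtain ⟨t, ht⟩ := hc.hT.desc (cokernel.π b') (by
    rw [← hab', Category.assoc, cokernel.condition, comp_zero])
  have hst : s ≫ t = 0 := by
    rw [← cancel_epi c, ← Category.assoc, hs, Category.assoc, ht, cokernel.condition, comp_zero]
  have hzero : ∀ x : PullbackCone s π, x.snd ≫ cokernel.π b' = 0 := by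
    intro x
    rw [← ht, ← Category.assoc, ← x.condition, Category.assoc, hst, comp_zero]
  have hpb : IsPullback c b' s π := by
    refine ⟨⟨hs⟩, ⟨PullbackCone.IsLimit.mk hs
      (fun x => Abelian.monoLift b' x.snd (hzero x)) ?_ ?_ ?_⟩⟩
    · intro x
      rw [← cancel_mono s, Category.assoc, hs, ← Category.assoc, Abelian.monoLift_comp,
        x.condition]
    · intro x
      exact Abelian.monoLift_comp _ _ _
    · intro x m _ hm2
      rw [← cancel_mono b', hm2, Abelian.monoLift_comp]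
  rw [imageSubobject_mono s, Subobject.pullback_obj_mk hpb, Subobject.map_mk]
  exact (Subobject.eq_mk_of_comm (X := B₁) (b' ≫ iZ) (Iso.refl _) (by
    rw [Iso.refl_hom, Category.id_comp, hb'])).symm

/-- From a section to the first half of the nine-diagram. -/
theorem bwd [Mono iZ] (hc : Core i₁ p₁ i₂ π₂ j q iZ tZ π g) (B₁ : Subobject B₂)
    (s : C₁ ⟶ K) (hsg : s ≫ g = 𝟙 C₁)
    (hΦ : (Subobject.map iZ).obj ((Subobject.pullback π).obj (imageSubobject s)) = B₁) :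
    ∃ (a : A₁ ⟶ (B₁ : C)) (c : (B₁ : C) ⟶ C₁),
      a ≫ B₁.arrow = i₁ ≫ i₂ ∧ c ≫ j = B₁.arrow ≫ π₂ ∧ SES a c := by
  have hsm : Mono s := mono_of_mono_fac hsg
  have hπe : Epi π := hc.hT.epi
  have hi₁ : Mono i₁ := hc.hA.mono
  have hi₂ : Mono i₂ := hc.hB.mono
  rw [imageSubobject_mono s, Subobject.pullback_obj_mk (IsPullback.of_hasPullback s π),
    Subobject.map_mk] at hΦ
  obtain ⟨e, he⟩ : ∃ e : (B₁ : C) ≅ pullback s π,
      e.hom ≫ pullback.snd s π ≫ iZ = B₁.arrow :=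
    ⟨Subobject.isoOfEqMk B₁ (pullback.snd s π ≫ iZ) hΦ.symm, Subobject.ofLEMk_comp _⟩
  obtain ⟨l, hl1, hl2⟩ : ∃ l : A₁ ⟶ pullback s π,
      l ≫ pullback.fst s π = 0 ∧ l ≫ pullback.snd s π = tZ :=
    ⟨pullback.lift 0 tZ (by rw [zero_comp, hc.hT.zero]), pullback.lift_fst _ _ _,
      pullback.lift_snd _ _ _⟩
  have hsgj : s ≫ g ≫ j = j := by rw [← Category.assoc, hsg, Category.id_comp]
  have hfirst : (l ≫ e.inv) ≫ B₁.arrow = i₁ ≫ i₂ := by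
    rw [← he, Category.assoc, Iso.inv_hom_id_assoc, ← Category.assoc, hl2, hc.tZ_iZ]
  refine ⟨l ≫ e.inv, e.hom ≫ pullback.fst s π, hfirst, ?_, ?_⟩
  · rw [← he]
    simp only [Category.assoc]
    rw [← hc.star, ← pullback.condition_assoc, hsgj]
  · have hzero : (l ≫ e.inv) ≫ e.hom ≫ pullback.fst s π = 0 := by
      rw [Category.assoc, Iso.inv_hom_id_assoc, hl1]
    have hmono : Mono (l ≫ e.inv) := mono_of_mono_fac hfirst
    have hepi : Epi (e.hom ≫ pullback.fst s π) := inferInstance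
    apply SES.of_refinements hzero hmono hepi
    intro T k hk
    obtain ⟨x, hxdef⟩ : ∃ x : T ⟶ pullback s π, x = k ≫ e.hom := ⟨_, rfl⟩
    have hx : x ≫ pullback.fst s π = 0 := by
      rw [hxdef, Category.assoc]; exact hk
    have h1 : (x ≫ pullback.snd s π) ≫ π = 0 := by
      rw [Category.assoc, ← pullback.condition, ← Category.assoc, hx, zero_comp]
    obtain ⟨y, hy⟩ := hc.hT.lift (x ≫ pullback.snd s π) h1
    have hyl : y ≫ l = x := by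
      apply pullback.hom_ext
      · rw [Category.assoc, hl1, comp_zero, hx]
      · rw [Category.assoc, hl2, hy]
    refine ⟨T, 𝟙 T, inferInstance, y, ?_⟩
    rw [Category.id_comp, ← Category.assoc, hyl, hxdef, Category.assoc, Iso.hom_inv_id,
      Category.comp_id]

/-- The second half of the nine-diagram follows from the first half. -/
theorem second_half (hA : SES i₁ p₁) (hB : SES i₂ π₂) (hC : SES j q) (B₁ : Subobject B₂)
    (a : A₁ ⟶ (B₁ : C)) (c : (B₁ : C) ⟶ C₁) (ha : a ≫ B₁.arrow = i₁ ≫ i₂)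
    (hcj : c ≫ j = B₁.arrow ≫ π₂) (hac : SES a c) :
    ∃ (a' : A₃ ⟶ cokernel B₁.arrow) (c' : cokernel B₁.arrow ⟶ C₃),
      p₁ ≫ a' = i₂ ≫ cokernel.π B₁.arrow ∧ cokernel.π B₁.arrow ≫ c' = π₂ ≫ q ∧ SES a' c' := by
  have hp₁ : Epi p₁ := hA.epi
  have hi₂ : Mono i₂ := hB.mono
  have hπ₂ : Epi π₂ := hB.epi
  have hj : Mono j := hC.mono
  have hq : Epi q := hC.epi
  have hce : Epi c := hac.epi
  obtain ⟨a', ha'⟩ := hA.desc (i₂ ≫ cokernel.π B₁.arrow) (by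
    rw [← Category.assoc, ← ha, Category.assoc, cokernel.condition, comp_zero])
  have hbq : B₁.arrow ≫ π₂ ≫ q = 0 := by
    rw [← Category.assoc, ← hcj, Category.assoc, hC.zero, comp_zero]
  obtain ⟨c', hc'⟩ : ∃ c' : cokernel B₁.arrow ⟶ C₃, cokernel.π B₁.arrow ≫ c' = π₂ ≫ q :=
    ⟨cokernel.desc B₁.arrow (π₂ ≫ q) hbq, cokernel.π_desc _ _ _⟩
  refine ⟨a', c', ha', hc', ?_⟩
  have hzero : a' ≫ c' = 0 := by
    rw [← cancel_epi p₁, ← Category.assoc, ha', Category.assoc, hc', ← Category.assoc, hB.zero,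
      zero_comp, comp_zero]
  have hepi : Epi c' := epi_of_epi_fac hc'
  have hmono : Mono a' := by
    refine (Preadditive.mono_iff_cancel_zero a').2 (fun T x hx => ?_)
    obtain ⟨T₁, e₁, he₁, x₂, hx₂⟩ := surjective_up_to_refinements_of_epi p₁ x
    have h1 : (x₂ ≫ i₂) ≫ cokernel.π B₁.arrow = 0 := by
      rw [Category.assoc, ← ha', ← Category.assoc, ← hx₂, Category.assoc, hx, comp_zero]
    obtain ⟨y, h2⟩ : ∃ y : T₁ ⟶ (B₁ : C), y ≫ B₁.arrow = x₂ ≫ i₂ :=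
      ⟨Abelian.monoLift B₁.arrow (x₂ ≫ i₂) h1, Abelian.monoLift_comp _ _ _⟩
    have h3 : y ≫ c = 0 := by
      rw [← cancel_mono j, Category.assoc, hcj, ← Category.assoc, h2, Category.assoc, hB.zero,
        comp_zero, zero_comp]
    obtain ⟨z, hz⟩ := hac.lift y h3
    have h4 : x₂ = z ≫ i₁ := by
      rw [← cancel_mono i₂, ← h2, ← hz]
      simp only [Category.assoc]
      rw [ha]
    rw [← cancel_epi e₁, hx₂, h4, Category.assoc, hA.zero, comp_zero, comp_zero]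
  apply SES.of_refinements hzero hmono hepi
  intro T y hy
  obtain ⟨T₁, e₁, he₁, b₂, hb₂⟩ := surjective_up_to_refinements_of_epi (cokernel.π B₁.arrow) y
  have h1 : (b₂ ≫ π₂) ≫ q = 0 := by
    rw [Category.assoc, ← hc', ← Category.assoc, ← hb₂, Category.assoc, hy, comp_zero]
  obtain ⟨c₁, hc₁⟩ := hC.lift (b₂ ≫ π₂) h1
  obtain ⟨T₂, e₂, he₂, b₁, hb₁⟩ := surjective_up_to_refinements_of_epi c c₁
  have h5 : e₂ ≫ b₂ ≫ π₂ = b₁ ≫ B₁.arrow ≫ π₂ := by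
    rw [← hc₁, ← hcj, ← Category.assoc e₂ c₁ j, hb₁, Category.assoc]
  have h2 : (e₂ ≫ b₂ - b₁ ≫ B₁.arrow) ≫ π₂ = 0 := by
    simp only [Preadditive.sub_comp, Category.assoc, h5, sub_self]
  obtain ⟨a₂, ha₂⟩ := hB.lift _ h2
  refine ⟨T₂, e₂ ≫ e₁, epi_comp _ _, a₂ ≫ p₁, ?_⟩
  simp only [Category.assoc]
  rw [hb₂, ha', ← Category.assoc a₂ i₂, ha₂, Preadditive.sub_comp]
  simp only [Category.assoc, cokernel.condition, comp_zero, sub_zero]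

/-- The subobject determines the section. -/
theorem inj [Mono iZ] (hc : Core i₁ p₁ i₂ π₂ j q iZ tZ π g) (s s' : C₁ ⟶ K)
    (hs : s ≫ g = 𝟙 C₁) (hs' : s' ≫ g = 𝟙 C₁)
    (h : (Subobject.map iZ).obj ((Subobject.pullback π).obj (imageSubobject s)) =
      (Subobject.map iZ).obj ((Subobject.pullback π).obj (imageSubobject s'))) : s = s' := by
  have hsm : Mono s := mono_of_mono_fac hs
  have hsm' : Mono s' := mono_of_mono_fac hs'
  have hπe : Epi π := hc.hT.epi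
  rw [imageSubobject_mono s, imageSubobject_mono s',
    Subobject.pullback_obj_mk (IsPullback.of_hasPullback s π),
    Subobject.pullback_obj_mk (IsPullback.of_hasPullback s' π),
    Subobject.map_mk, Subobject.map_mk] at h
  obtain ⟨φ, hφ⟩ : ∃ φ : pullback s π ⟶ pullback s' π,
      φ ≫ (pullback.snd s' π ≫ iZ) = pullback.snd s π ≫ iZ :=
    ⟨_, Subobject.ofMkLEMk_comp h.le⟩
  have hφ' : φ ≫ pullback.snd s' π = pullback.snd s π := by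
    rw [← cancel_mono iZ, Category.assoc, hφ]
  have h1 : pullback.fst s π ≫ s = φ ≫ pullback.fst s' π ≫ s' := by
    rw [pullback.condition, pullback.condition, ← Category.assoc, hφ']
  have h2 : pullback.fst s π = φ ≫ pullback.fst s' π := by
    have := congrArg (· ≫ g) h1
    simp only [Category.assoc, hs, hs', Category.comp_id] at this
    exact this
  rw [← cancel_epi (pullback.fst s π), h1, ← Category.assoc, ← h2]

end CoreLemmas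

/-- Main statement of S15466. -/
theorem main15466
    {C : Type u} [Category.{v} C] [Abelian C] {A₁ A₂ A₃ B₂ C₁ C₂ C₃ : C}
    (i₁ : A₁ ⟶ A₂) (p₁ : A₂ ⟶ A₃) (wA : i₁ ≫ p₁ = 0) (hA : (ShortComplex.mk i₁ p₁ wA).ShortExact)
    (i₂ : A₂ ⟶ B₂) (π₂ : B₂ ⟶ C₂) (wB : i₂ ≫ π₂ = 0) (hB : (ShortComplex.mk i₂ π₂ wB).ShortExact)
    (j : C₁ ⟶ C₂) (q : C₂ ⟶ C₃) (wC : j ≫ q = 0) (hC : (ShortComplex.mk j q wC).ShortExact)
    (w : (i₁ ≫ i₂) ≫ (π₂ ≫ q) = 0) (h₃ : (i₁ ≫ i₂) ≫ π₂ = 0)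
    (g : (CategoryTheory.ShortComplex.mk (i₁ ≫ i₂) (π₂ ≫ q) w).homology ⟶ C₁)
    (hg : g ≫ j = (CategoryTheory.ShortComplex.mk (i₁ ≫ i₂) (π₂ ≫ q) w).homologyι ≫ (CategoryTheory.ShortComplex.mk (i₁ ≫ i₂) (π₂ ≫ q) w).descOpcycles π₂ h₃) :
    (∀ B₁ : Subobject B₂,
      (∃ (a : A₁ ⟶ (B₁ : C)) (c : (B₁ : C) ⟶ C₁) (wac : a ≫ c = 0)
         (a' : A₃ ⟶ cokernel B₁.arrow) (c' : cokernel B₁.arrow ⟶ C₃) (wac' : a' ≫ c' = 0),
         a ≫ B₁.arrow = i₁ ≫ i₂ ∧ c ≫ j = B₁.arrow ≫ π₂ ∧ (ShortComplex.mk a c wac).ShortExact ∧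
         p₁ ≫ a' = i₂ ≫ cokernel.π B₁.arrow ∧ cokernel.π B₁.arrow ≫ c' = π₂ ≫ q ∧
         (ShortComplex.mk a' c' wac').ShortExact) ↔
      ∃ s : C₁ ⟶ (CategoryTheory.ShortComplex.mk (i₁ ≫ i₂) (π₂ ≫ q) w).homology, s ≫ g = 𝟙 C₁ ∧
        (Subobject.map (CategoryTheory.ShortComplex.mk (i₁ ≫ i₂) (π₂ ≫ q) w).iCycles).obj ((Subobject.pullback (CategoryTheory.ShortComplex.mk (i₁ ≫ i₂) (π₂ ≫ q) w).homologyπ).obj (imageSubobject s)) = B₁) ∧
    (∀ s s' : C₁ ⟶ (CategoryTheory.ShortComplex.mk (i₁ ≫ i₂) (π₂ ≫ q) w).homology, s ≫ g = 𝟙 C₁ → s' ≫ g = 𝟙 C₁ →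
      (Subobject.map (CategoryTheory.ShortComplex.mk (i₁ ≫ i₂) (π₂ ≫ q) w).iCycles).obj ((Subobject.pullback (CategoryTheory.ShortComplex.mk (i₁ ≫ i₂) (π₂ ≫ q) w).homologyπ).obj (imageSubobject s)) = (Subobject.map (CategoryTheory.ShortComplex.mk (i₁ ≫ i₂) (π₂ ≫ q) w).iCycles).obj ((Subobject.pullback (CategoryTheory.ShortComplex.mk (i₁ ≫ i₂) (π₂ ≫ q) w).homologyπ).obj (imageSubobject s')) → s = s') := by
  have hAs := SES.of_shortExact hA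
  have hBs := SES.of_shortExact hB
  have hCs := SES.of_shortExact hC
  have hcore := core_of_shortComplex (ShortComplex.mk (i₁ ≫ i₂) (π₂ ≫ q) w)
    (i₁ := i₁) (p₁ := p₁) (i₂ := i₂) (π₂ := π₂) (j := j) (q := q) rfl rfl hAs hBs hCs h₃ g hg
  refine ⟨fun B₁ => ⟨?_, ?_⟩, ?_⟩
  · rintro ⟨a, c, wac, a', c', wac', h1, h2, h3, h4, h5, h6⟩
    exact fwd hcore B₁ a c h1 h2 (SES.of_shortExact h3)
  · rintro ⟨s, hs, hΦ⟩
    obtain ⟨a, c, h1, h2, h3⟩ := bwd hcore B₁ s hs hΦ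
    obtain ⟨a', c', h4, h5, h6⟩ := second_half hAs hBs hCs B₁ a c h1 h2 h3
    exact ⟨a, c, h3.zero, a', c', h6.zero, h1, h2, h3.shortExact, h4, h5, h6.shortExact⟩
  · intro s s' hs hs' h
    exact inj hcore s s' hs hs' h

end Groth.Agent.Helper25.NineDiag
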