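import Mathlib

/-!
# The ring `A[X,Y]/(XY - t)`: if `c X` and `c Y` vanish then `c` vanishes
-/

namespace Groth.Agent.Helper25.NodalKerA

open MvPolynomial

variable {A : Type*} [CommRing A] (t : A)

/-- the relation `X Y - t` -/
noncomputable def F0 : MvPolynomial (Fin 2) A := X 0 * X 1 - C t

/-- value of the normal-form map on monomials -/
noncomputable def nuFun (m : Fin 2 →₀ ℕ) : ℤ →₀ A :=
  Finsupp.single ((m 0 : ℤ) - m 1) (t ^ min (m 0) (m 1))

/-- the normal form map: `X^a Y^b ↦ t^{min a b} e_{a-b}` -/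
noncomputable def nu : MvPolynomial (Fin 2) A →ₗ[A] (ℤ →₀ A) :=
  (basisMonomials (Fin 2) A).constr A (nuFun t)

lemma nu_monomial (m : Fin 2 →₀ ℕ) (a : A) : nu t (monomial m a) = a • nuFun t m := by
  have h : monomial m a = a • (basisMonomials (Fin 2) A m) := by
    rw [coe_basisMonomials, smul_monomial, smul_eq_mul, mul_one]
  rw [h, map_smul, nu, Module.Basis.constr_basis]

/-- the basis elements `X^n` (`n ≥ 0`), `Y^{-n}` (`n < 0`) -/
noncomputable def E (n : ℤ) : MvPolynomial (Fin 2) A := X 0 ^ n.toNat * X 1 ^ (-n).toNat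

lemma E_natCast (k : ℕ) : (E (k : ℤ) : MvPolynomial (Fin 2) A) = X 0 ^ k := by
  simp [E]

lemma E_neg_natCast (k : ℕ) : (E (-(k : ℤ)) : MvPolynomial (Fin 2) A) = X 1 ^ k := by
  simp [E]

noncomputable def sec : (ℤ →₀ A) →ₗ[A] MvPolynomial (Fin 2) A := Finsupp.linearCombination A E

lemma sec_single (n : ℤ) (a : A) : sec (Finsupp.single n a) = a • (E n : MvPolynomial (Fin 2) A) := by
  simp [sec]

lemma monomial_eq' (m : Fin 2 →₀ ℕ) (a : A) :
    monomial m a = a • (X 0 ^ m 0 * X 1 ^ m 1 : MvPolynomial (Fin 2) A) := by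
  rw [monomial_eq, C_mul']
  congr 1
  rw [Finsupp.prod_fintype m (fun n e => (X n : MvPolynomial (Fin 2) A) ^ e) (fun i => pow_zero _),
    Fin.prod_univ_two]

lemma pow_sub_mem (v : ℕ) :
    ((X 0 * X 1) ^ v - C (t ^ v) : MvPolynomial (Fin 2) A) ∈ Ideal.span {F0 t} := by
  rw [map_pow]
  obtain ⟨w, hw⟩ := sub_dvd_pow_sub_pow (X 0 * X 1 : MvPolynomial (Fin 2) A) (C t) v
  rw [hw]
  exact Ideal.mul_mem_right _ _ (Ideal.mem_span_singleton_self _)

lemma sub_sec_nu_mem (p : MvPolynomial (Fin 2) A) : p - sec (nu t p) ∈ Ideal.span {F0 t} := by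
  induction p using MvPolynomial.induction_on' with
  | monomial m a =>
    rw [nu_monomial, LinearMap.map_smul, nuFun, sec_single, monomial_eq', ← smul_sub]
    refine Submodule.smul_of_tower_mem _ a ?_
    rcases le_total (m 1) (m 0) with h | h
    · obtain ⟨k, hk⟩ := Nat.exists_eq_add_of_le h
      have e1 : ((m 0 : ℤ) - m 1) = (k : ℤ) := by rw [hk]; push_cast; ring
      rw [e1, E_natCast, min_eq_right h, hk]
      have : (X 0 ^ (m 1 + k) * X 1 ^ m 1 - t ^ m 1 • X 0 ^ k : MvPolynomial (Fin 2) A) =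
          X 0 ^ k * ((X 0 * X 1) ^ m 1 - C (t ^ m 1)) := by
        rw [smul_eq_C_mul]; ring
      rw [this]
      exact Ideal.mul_mem_left _ _ (pow_sub_mem t _)
    · obtain ⟨k, hk⟩ := Nat.exists_eq_add_of_le h
      have e1 : ((m 0 : ℤ) - m 1) = -(k : ℤ) := by rw [hk]; push_cast; ring
      rw [e1, E_neg_natCast, min_eq_left h, hk]
      have : (X 0 ^ m 0 * X 1 ^ (m 0 + k) - t ^ m 0 • X 1 ^ k : MvPolynomial (Fin 2) A) =
          X 1 ^ k * ((X 0 * X 1) ^ m 0 - C (t ^ m 0)) := by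
        rw [smul_eq_C_mul]; ring
      rw [this]
      exact Ideal.mul_mem_left _ _ (pow_sub_mem t _)
  | add p q hp hq =>
    have : p + q - sec (nu t (p + q)) = (p - sec (nu t p)) + (q - sec (nu t q)) := by
      rw [map_add, map_add]; ring
    rw [this]
    exact Ideal.add_mem _ hp hq

lemma nu_F0_mul (p : MvPolynomial (Fin 2) A) : nu t (F0 t * p) = 0 := by
  induction p using MvPolynomial.induction_on' with
  | monomial m a =>
    have h : F0 t * monomial m a =
        monomial (Finsupp.single 0 1 + Finsupp.single 1 1 + m) a - monomial m (t * a) := by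
      rw [F0, sub_mul, C_mul_monomial, X, X, monomial_mul, monomial_mul]
      simp
    rw [h, map_sub, nu_monomial, nu_monomial, nuFun, nuFun]
    have e0 : (Finsupp.single (0 : Fin 2) 1 + Finsupp.single (1 : Fin 2) 1 + m : Fin 2 →₀ ℕ) 0 = m 0 + 1 := by
      simp [Finsupp.single_apply, add_comm]
    have e1 : (Finsupp.single (0 : Fin 2) 1 + Finsupp.single (1 : Fin 2) 1 + m : Fin 2 →₀ ℕ) 1 = m 1 + 1 := by
      simp [Finsupp.single_apply, add_comm]
    rw [e0, e1, Nat.add_min_add_right]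
    have e2 : (((m 0 + 1 : ℕ) : ℤ) - ((m 1 + 1 : ℕ) : ℤ)) = (m 0 : ℤ) - m 1 := by push_cast; ring
    rw [e2, Finsupp.smul_single, Finsupp.smul_single, smul_eq_mul, smul_eq_mul, pow_succ,
      sub_eq_zero]
    congr 1
    ring
  | add p q hp hq => rw [mul_add, map_add, hp, hq, add_zero]

lemma nu_X0_mul_apply (p : MvPolynomial (Fin 2) A) (n : ℤ) (hn : 0 ≤ n) :
    nu t (X 0 * p) (n + 1) = nu t p n := by
  induction p using MvPolynomial.induction_on' with
  | monomial m a =>
    have h : (X 0 : MvPolynomial (Fin 2) A) * monomial m a = monomial (Finsupp.single 0 1 + m) a := by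
      rw [X, monomial_mul, one_mul]
    rw [h, nu_monomial, nu_monomial, nuFun, nuFun]
    have e0 : (Finsupp.single (0 : Fin 2) 1 + m : Fin 2 →₀ ℕ) 0 = m 0 + 1 := by
      simp [Finsupp.single_apply, add_comm]
    have e1 : (Finsupp.single (0 : Fin 2) 1 + m : Fin 2 →₀ ℕ) 1 = m 1 := by
      simp [Finsupp.single_apply]
    rw [e0, e1, Finsupp.smul_apply, Finsupp.smul_apply, Finsupp.single_apply, Finsupp.single_apply]
    by_cases hc : (m 0 : ℤ) - m 1 = n
    · have hc' : (((m 0 + 1 : ℕ) : ℤ) - (m 1 : ℤ)) = n + 1 := by push_cast; omega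
      rw [if_pos hc, if_pos hc']
      have hle : m 1 ≤ m 0 := by omega
      rw [min_eq_right hle, min_eq_right (by omega : m 1 ≤ m 0 + 1)]
    · have hc' : ¬ (((m 0 + 1 : ℕ) : ℤ) - (m 1 : ℤ)) = n + 1 := by push_cast; omega
      rw [if_neg hc, if_neg hc']
  | add p q hp hq =>
    rw [mul_add, (nu t).map_add, (nu t).map_add, Finsupp.add_apply, Finsupp.add_apply, hp, hq]

lemma nu_X1_mul_apply (p : MvPolynomial (Fin 2) A) (n : ℤ) (hn : n ≤ 0) :
    nu t (X 1 * p) (n - 1) = nu t p n := by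
  induction p using MvPolynomial.induction_on' with
  | monomial m a =>
    have h : (X 1 : MvPolynomial (Fin 2) A) * monomial m a = monomial (Finsupp.single 1 1 + m) a := by
      rw [X, monomial_mul, one_mul]
    rw [h, nu_monomial, nu_monomial, nuFun, nuFun]
    have e0 : (Finsupp.single (1 : Fin 2) 1 + m : Fin 2 →₀ ℕ) 0 = m 0 := by
      simp [Finsupp.single_apply]
    have e1 : (Finsupp.single (1 : Fin 2) 1 + m : Fin 2 →₀ ℕ) 1 = m 1 + 1 := by
      simp [Finsupp.single_apply, add_comm]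
    rw [e0, e1, Finsupp.smul_apply, Finsupp.smul_apply, Finsupp.single_apply, Finsupp.single_apply]
    by_cases hc : (m 0 : ℤ) - m 1 = n
    · have hc' : ((m 0 : ℤ) - ((m 1 + 1 : ℕ) : ℤ)) = n - 1 := by push_cast; omega
      rw [if_pos hc, if_pos hc']
      have hle : m 0 ≤ m 1 := by omega
      rw [min_eq_left hle, min_eq_left (by omega : m 0 ≤ m 1 + 1)]
    · have hc' : ¬ ((m 0 : ℤ) - ((m 1 + 1 : ℕ) : ℤ)) = n - 1 := by push_cast; omega
      rw [if_neg hc, if_neg hc']
  | add p q hp hq =>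
    rw [mul_add, (nu t).map_add, (nu t).map_add, Finsupp.add_apply, Finsupp.add_apply, hp, hq]

theorem mem_of_mul_X_mem (c : MvPolynomial (Fin 2) A)
    (h0 : c * X 0 ∈ Ideal.span {F0 t}) (h1 : c * X 1 ∈ Ideal.span {F0 t}) :
    c ∈ Ideal.span {F0 t} := by
  have hz : ∀ q ∈ Ideal.span {F0 t}, nu t q = 0 := by
    intro q hq
    obtain ⟨r, rfl⟩ := Ideal.mem_span_singleton'.mp hq
    rw [mul_comm]
    exact nu_F0_mul t r
  have hnu : nu t c = 0 := by
    ext n
    rcases le_total 0 n with hn | hn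
    · rw [← nu_X0_mul_apply t c n hn, mul_comm, hz _ h0]
      rfl
    · rw [← nu_X1_mul_apply t c n hn, mul_comm, hz _ h1]
      rfl
  have := sub_sec_nu_mem t c
  rwa [hnu, map_zero, sub_zero] at this

end Groth.Agent.Helper25.NodalKerA
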