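import Mathlib
import Groth.Agent.Lib.Helper25.NodalKerA

/-!
# Injectivity of the conormal map for the nodal model over a trivial square-zero extension
-/

namespace Groth.Agent.Helper25.NodalKerB

open MvPolynomial TensorProduct

universe u

section Der

variable {R : Type*} [CommRing R] {A' : Type*} [CommRing A'] [Algebra R A']
  {B' : Type*} [CommRing B'] [Algebra A' B'] [Algebra R B'] [IsScalarTower R A' B']
  {N : Type*} [AddCommGroup N] [Module B' N] [Module B'ᵐᵒᵖ N] [IsCentralScalar B' N]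
  [Module R N] [IsScalarTower R B' N]

/-- ring hom `A' → B' ⊕ N` from a derivation-like additive map -/
noncomputable def phi0 (D₀ : A' →+ N)
    (hD₀ : ∀ a b, D₀ (a * b) = algebraMap A' B' a • D₀ b + algebraMap A' B' b • D₀ a) :
    A' →+* TrivSqZeroExt B' N where
  toFun a := TrivSqZeroExt.inl (algebraMap A' B' a) + TrivSqZeroExt.inr (D₀ a)
  map_one' := by
    have h1 : D₀ 1 = 0 := by
      have h := hD₀ 1 1
      rw [mul_one, (algebraMap A' B').map_one, one_smul] at h
      exact add_eq_left.mp h.symm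
    rw [h1, map_one, TrivSqZeroExt.inr_zero, add_zero, TrivSqZeroExt.inl_one]
  map_mul' a b := by
    apply TrivSqZeroExt.ext
    · simp
    · simp [hD₀]
  map_zero' := by simp
  map_add' a b := by
    rw [map_add, map_add, TrivSqZeroExt.inl_add, TrivSqZeroExt.inr_add]; abel

theorem exists_derivation (D₀ : A' →+ N)
    (hD₀ : ∀ a b, D₀ (a * b) = algebraMap A' B' a • D₀ b + algebraMap A' B' b • D₀ a)
    (hD₀R : ∀ r : R, D₀ (algebraMap R A' r) = 0)
    (x y : B') (u w : N) (τ : A') (hxy : x * y = algebraMap A' B' τ)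
    (huw : x • w + y • u = D₀ τ)
    (hsurj : Function.Surjective (aeval ![x, y] : MvPolynomial (Fin 2) A' →ₐ[A'] B'))
    (hker : RingHom.ker (aeval ![x, y] : MvPolynomial (Fin 2) A' →ₐ[A'] B') =
      Ideal.span {X 0 * X 1 - C τ}) :
    ∃ D : Derivation R B' N, ∀ a : A', D (algebraMap A' B' a) = D₀ a := by
  classical
  let π : MvPolynomial (Fin 2) A' →ₐ[A'] B' := aeval ![x, y]
  let Φ : MvPolynomial (Fin 2) A' →+* TrivSqZeroExt B' N :=
    eval₂Hom (phi0 D₀ hD₀)
      ![TrivSqZeroExt.inl x + TrivSqZeroExt.inr u, TrivSqZeroExt.inl y + TrivSqZeroExt.inr w]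
  have hΦC : ∀ a, Φ (C a) =
      TrivSqZeroExt.inl (algebraMap A' B' a) + TrivSqZeroExt.inr (D₀ a) := by
    intro a; simp [Φ, phi0]
  have hΦX0 : Φ (X 0) = TrivSqZeroExt.inl x + TrivSqZeroExt.inr u := by simp [Φ]
  have hΦX1 : Φ (X 1) = TrivSqZeroExt.inl y + TrivSqZeroExt.inr w := by simp [Φ]
  have hΦF : Φ (X 0 * X 1 - C τ) = 0 := by
    rw [map_sub, map_mul, hΦC, hΦX0, hΦX1]
    apply TrivSqZeroExt.ext
    · simp [hxy]
    · simp [← huw]
  have hle : RingHom.ker (π : MvPolynomial (Fin 2) A' →+* B') ≤ RingHom.ker Φ := by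
    intro p hp
    have hp' : p ∈ RingHom.ker π := by
      rw [RingHom.mem_ker] at hp ⊢; exact hp
    rw [hker] at hp'
    obtain ⟨r, rfl⟩ := Ideal.mem_span_singleton'.mp hp'
    rw [RingHom.mem_ker, map_mul, hΦF, mul_zero]
  let Ψ : B' →+* TrivSqZeroExt B' N :=
    RingHom.liftOfSurjective (π : MvPolynomial (Fin 2) A' →+* B') hsurj ⟨Φ, hle⟩
  have hΨ : ∀ p, Ψ (π p) = Φ p := fun p =>
    RingHom.liftOfRightInverse_comp_apply _ _ _ ⟨Φ, hle⟩ p
  have hfst : ∀ b, (Ψ b).fst = b := by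
    intro b
    obtain ⟨p, rfl⟩ := hsurj b
    have h : ((TrivSqZeroExt.fstHom B' B' N).toRingHom).comp Φ =
        (π : MvPolynomial (Fin 2) A' →+* B') := by
      apply MvPolynomial.ringHom_ext
      · intro a; simp [hΦC, π]
      · intro i; fin_cases i
        · simp [hΦX0, π]
        · simp [hΦX1, π]
    have h2 := RingHom.congr_fun h p
    rw [show (aeval ![x, y]) p = π p from rfl, hΨ]
    simpa using h2
  have hsndC : ∀ a : A', (Ψ (algebraMap A' B' a)).snd = D₀ a := by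
    intro a
    have : algebraMap A' B' a = π (C a) := by simp [π]
    rw [this, hΨ, hΦC]; simp
  have hleib : ∀ a b : B', (Ψ (a * b)).snd = a • (Ψ b).snd + b • (Ψ a).snd := by
    intro a b
    rw [map_mul, TrivSqZeroExt.snd_mul, hfst, hfst, op_smul_eq_smul]
  let dLin : B' →ₗ[R] N :=
    { toFun := fun b => (Ψ b).snd
      map_add' := fun a b => by rw [map_add, TrivSqZeroExt.snd_add]
      map_smul' := fun r b => by
        rw [Algebra.smul_def, hleib, IsScalarTower.algebraMap_apply R A' B', hsndC, hD₀R,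
          smul_zero, add_zero, ← IsScalarTower.algebraMap_apply, algebraMap_smul,
          RingHom.id_apply] }
  exact ⟨Derivation.mk' dLin (fun a b => hleib a b), fun a => hsndC a⟩

end Der

section Pres

variable {A : Type u} [CommRing A] {J : Type u} [AddCommGroup J] [Module A J] [Module Aᵐᵒᵖ J]
  [IsCentralScalar A J] (τ : TrivSqZeroExt A J)
  {B' : Type u} [CommRing B'] [Algebra (TrivSqZeroExt A J) B'] (x y : B')

/-- reduction of coefficients modulo `J` -/
noncomputable def rho : MvPolynomial (Fin 2) (TrivSqZeroExt A J) →+* MvPolynomial (Fin 2) A :=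
  MvPolynomial.map (TrivSqZeroExt.fstHom A A J).toRingHom

/-- lifting of coefficients -/
noncomputable def sig : MvPolynomial (Fin 2) A →+* MvPolynomial (Fin 2) (TrivSqZeroExt A J) :=
  MvPolynomial.map (TrivSqZeroExt.inlHom A J)

lemma rho_sig (q : MvPolynomial (Fin 2) A) : rho (J := J) (sig q) = q := by
  simp only [rho, sig, MvPolynomial.map_map]
  have : ((TrivSqZeroExt.fstHom A A J).toRingHom).comp (TrivSqZeroExt.inlHom A J) =
      RingHom.id A := by
    ext a; simp
  rw [this, MvPolynomial.map_id]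

lemma rho_F : rho (X 0 * X 1 - C τ : MvPolynomial (Fin 2) (TrivSqZeroExt A J)) =
    NodalKerA.F0 τ.fst := by
  simp [rho, NodalKerA.F0]

lemma exists_lift_of_mem
    (hsurj : Function.Surjective
      (aeval ![x, y] : MvPolynomial (Fin 2) (TrivSqZeroExt A J) →ₐ[TrivSqZeroExt A J] B'))
    (b : B')
    (hb : b ∈ Ideal.map (algebraMap (TrivSqZeroExt A J) B') (TrivSqZeroExt.kerIdeal A J)) :
    ∃ p' ∈ Ideal.map (C : TrivSqZeroExt A J →+* MvPolynomial (Fin 2) (TrivSqZeroExt A J))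
        (TrivSqZeroExt.kerIdeal A J),
      (aeval ![x, y] : MvPolynomial (Fin 2) (TrivSqZeroExt A J) →ₐ[TrivSqZeroExt A J] B') p' =
        b := by
  refine Submodule.span_induction
    (p := fun b _ => ∃ p' ∈ Ideal.map
        (C : TrivSqZeroExt A J →+* MvPolynomial (Fin 2) (TrivSqZeroExt A J))
        (TrivSqZeroExt.kerIdeal A J),
      (aeval ![x, y] : MvPolynomial (Fin 2) (TrivSqZeroExt A J) →ₐ[TrivSqZeroExt A J] B') p' =
        b) ?_ ?_ ?_ ?_ hb
  · rintro _ ⟨k, hk, rfl⟩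
    exact ⟨C k, Ideal.mem_map_of_mem _ hk, by simp⟩
  · exact ⟨0, Ideal.zero_mem _, map_zero _⟩
  · rintro b₁ b₂ _ _ ⟨p₁, h₁, rfl⟩ ⟨p₂, h₂, rfl⟩
    exact ⟨p₁ + p₂, Ideal.add_mem _ h₁ h₂, map_add _ _ _⟩
  · rintro r b₁ _ ⟨p₁, h₁, rfl⟩
    obtain ⟨r', rfl⟩ := hsurj r
    exact ⟨r' * p₁, Ideal.mul_mem_left _ _ h₁, by rw [map_mul, smul_eq_mul]⟩

lemma aeval_mem_of_mem_map_C (r : MvPolynomial (Fin 2) (TrivSqZeroExt A J))
    (hr : r ∈ Ideal.map (C : TrivSqZeroExt A J →+* MvPolynomial (Fin 2) (TrivSqZeroExt A J))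
        (TrivSqZeroExt.kerIdeal A J)) :
    (aeval ![x, y] : MvPolynomial (Fin 2) (TrivSqZeroExt A J) →ₐ[TrivSqZeroExt A J] B') r ∈
      Ideal.map (algebraMap (TrivSqZeroExt A J) B') (TrivSqZeroExt.kerIdeal A J) := by
  have : Ideal.map (C : TrivSqZeroExt A J →+* MvPolynomial (Fin 2) (TrivSqZeroExt A J))
        (TrivSqZeroExt.kerIdeal A J) ≤
      Ideal.comap
        (aeval ![x, y] : MvPolynomial (Fin 2) (TrivSqZeroExt A J) →ₐ[TrivSqZeroExt A J] B')
        (Ideal.map (algebraMap (TrivSqZeroExt A J) B') (TrivSqZeroExt.kerIdeal A J)) := by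
    rw [Ideal.map_le_iff_le_comap]
    intro k hk
    rw [Ideal.mem_comap, Ideal.mem_comap, aeval_C]
    exact Ideal.mem_map_of_mem _ hk
  exact this hr

lemma rho_mem_of_aeval_mem
    (hsurj : Function.Surjective
      (aeval ![x, y] : MvPolynomial (Fin 2) (TrivSqZeroExt A J) →ₐ[TrivSqZeroExt A J] B'))
    (hker : RingHom.ker
      (aeval ![x, y] : MvPolynomial (Fin 2) (TrivSqZeroExt A J) →ₐ[TrivSqZeroExt A J] B') =
      Ideal.span {X 0 * X 1 - C τ})
    (p : MvPolynomial (Fin 2) (TrivSqZeroExt A J))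
    (hp : (aeval ![x, y] : MvPolynomial (Fin 2) (TrivSqZeroExt A J) →ₐ[TrivSqZeroExt A J] B') p ∈
      Ideal.map (algebraMap (TrivSqZeroExt A J) B') (TrivSqZeroExt.kerIdeal A J)) :
    rho p ∈ Ideal.span {NodalKerA.F0 τ.fst} := by
  obtain ⟨p', hp', hpp⟩ := exists_lift_of_mem x y hsurj _ hp
  have h1 : p - p' ∈ RingHom.ker
      (aeval ![x, y] : MvPolynomial (Fin 2) (TrivSqZeroExt A J) →ₐ[TrivSqZeroExt A J] B') := by
    rw [RingHom.mem_ker, map_sub, hpp, sub_self]
  rw [hker] at h1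
  obtain ⟨r, hr⟩ := Ideal.mem_span_singleton'.mp h1
  have h2 : rho p' = 0 := by
    have : Ideal.map (C : TrivSqZeroExt A J →+* MvPolynomial (Fin 2) (TrivSqZeroExt A J))
        (TrivSqZeroExt.kerIdeal A J) ≤ RingHom.ker (rho (A := A) (J := J)) := by
      rw [Ideal.map_le_iff_le_comap]
      intro k hk
      have hk' : (TrivSqZeroExt.fstHom A A J) k = 0 := RingHom.mem_ker.mp hk
      rw [Ideal.mem_comap, RingHom.mem_ker, rho, MvPolynomial.map_C]
      simp only [AlgHom.toRingHom_eq_coe, RingHom.coe_coe, hk', C_0]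
    exact this hp'
  have h3 : rho p = rho r * NodalKerA.F0 τ.fst := by
    have := congrArg (rho (A := A) (J := J)) hr
    rw [map_mul, rho_F, map_sub, h2, sub_zero] at this
    exact this.symm
  rw [h3]
  exact Ideal.mul_mem_left _ _ (Ideal.mem_span_singleton_self _)

lemma aeval_mem_of_rho_mem
    (hker : RingHom.ker
      (aeval ![x, y] : MvPolynomial (Fin 2) (TrivSqZeroExt A J) →ₐ[TrivSqZeroExt A J] B') =
      Ideal.span {X 0 * X 1 - C τ})
    (p : MvPolynomial (Fin 2) (TrivSqZeroExt A J))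
    (hp : rho p ∈ Ideal.span {NodalKerA.F0 τ.fst}) :
    (aeval ![x, y] : MvPolynomial (Fin 2) (TrivSqZeroExt A J) →ₐ[TrivSqZeroExt A J] B') p ∈
      Ideal.map (algebraMap (TrivSqZeroExt A J) B') (TrivSqZeroExt.kerIdeal A J) := by
  obtain ⟨q, hq⟩ := Ideal.mem_span_singleton'.mp hp
  have hF : (aeval ![x, y] : MvPolynomial (Fin 2) (TrivSqZeroExt A J) →ₐ[TrivSqZeroExt A J] B')
      (X 0 * X 1 - C τ) = 0 := by
    have : (X 0 * X 1 - C τ : MvPolynomial (Fin 2) (TrivSqZeroExt A J)) ∈ RingHom.ker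
        (aeval ![x, y] : MvPolynomial (Fin 2) (TrivSqZeroExt A J) →ₐ[TrivSqZeroExt A J] B') := by
      rw [hker]; exact Ideal.mem_span_singleton_self _
    exact RingHom.mem_ker.mp this
  have hrest : p - sig q * (X 0 * X 1 - C τ) ∈
      Ideal.map (C : TrivSqZeroExt A J →+* MvPolynomial (Fin 2) (TrivSqZeroExt A J))
        (TrivSqZeroExt.kerIdeal A J) := by
    rw [MvPolynomial.mem_map_C_iff]
    intro m
    have : rho (p - sig q * (X 0 * X 1 - C τ)) = 0 := by
      rw [map_sub, map_mul, rho_sig, rho_F, hq, sub_self]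
    have h := congrArg (coeff m) this
    rw [rho, MvPolynomial.coeff_map, coeff_zero] at h
    rw [TrivSqZeroExt.kerIdeal, RingHom.mem_ker]
    simpa using h
  have h5 := aeval_mem_of_mem_map_C x y _ hrest
  rwa [map_sub, map_mul, hF, mul_zero, sub_zero] at h5

theorem mem_of_mul_mem
    (hsurj : Function.Surjective
      (aeval ![x, y] : MvPolynomial (Fin 2) (TrivSqZeroExt A J) →ₐ[TrivSqZeroExt A J] B'))
    (hker : RingHom.ker
      (aeval ![x, y] : MvPolynomial (Fin 2) (TrivSqZeroExt A J) →ₐ[TrivSqZeroExt A J] B') =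
      Ideal.span {X 0 * X 1 - C τ})
    (c : B')
    (hx : c * x ∈ Ideal.map (algebraMap (TrivSqZeroExt A J) B') (TrivSqZeroExt.kerIdeal A J))
    (hy : c * y ∈ Ideal.map (algebraMap (TrivSqZeroExt A J) B') (TrivSqZeroExt.kerIdeal A J)) :
    c ∈ Ideal.map (algebraMap (TrivSqZeroExt A J) B') (TrivSqZeroExt.kerIdeal A J) := by
  obtain ⟨p, rfl⟩ := hsurj c
  have e0 : rho (X 0 : MvPolynomial (Fin 2) (TrivSqZeroExt A J)) = X 0 := by simp [rho]
  have e1 : rho (X 1 : MvPolynomial (Fin 2) (TrivSqZeroExt A J)) = X 1 := by simp [rho]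
  have h0 : rho p * X 0 ∈ Ideal.span {NodalKerA.F0 τ.fst} := by
    have h : (aeval ![x, y] : MvPolynomial (Fin 2) (TrivSqZeroExt A J) →ₐ[TrivSqZeroExt A J] B')
        (p * X 0) ∈
        Ideal.map (algebraMap (TrivSqZeroExt A J) B') (TrivSqZeroExt.kerIdeal A J) := by
      simpa using hx
    have := rho_mem_of_aeval_mem τ x y hsurj hker _ h
    rwa [map_mul, e0] at this
  have h1 : rho p * X 1 ∈ Ideal.span {NodalKerA.F0 τ.fst} := by
    have h : (aeval ![x, y] : MvPolynomial (Fin 2) (TrivSqZeroExt A J) →ₐ[TrivSqZeroExt A J] B')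
        (p * X 1) ∈
        Ideal.map (algebraMap (TrivSqZeroExt A J) B') (TrivSqZeroExt.kerIdeal A J) := by
      simpa using hy
    have := rho_mem_of_aeval_mem τ x y hsurj hker _ h
    rwa [map_mul, e1] at this
  exact aeval_mem_of_rho_mem τ x y hker p (NodalKerA.mem_of_mul_X_mem _ _ h0 h1)

end Pres

end Groth.Agent.Helper25.NodalKerB
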