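import Mathlib
import Groth.Agent.Lib.Helper25.NodalKerB

/-!
# Injectivity of the conormal map for the nodal model: main theorem
-/

namespace Groth.Agent.Helper25.NodalKerC

open MvPolynomial TensorProduct Groth.Agent.Helper25.NodalKerB

universe u

variable {A : Type u} [CommRing A] {J : Type u} [AddCommGroup J] [Module A J] [Module Aᵐᵒᵖ J]
  [IsCentralScalar A J] (τ : TrivSqZeroExt A J)
  {B' : Type u} [CommRing B'] [Algebra (TrivSqZeroExt A J) B'] (x y : B')

variable (A J B') in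
/-- the ideal generated by `J` -/
abbrev I0 : Ideal B' :=
  Ideal.map (algebraMap (TrivSqZeroExt A J) B') (TrivSqZeroExt.kerIdeal A J)

variable (A) in
/-- image of `j` in `B'` -/
noncomputable def iot (j : J) : B' := algebraMap (TrivSqZeroExt A J) B' (TrivSqZeroExt.inr j)

lemma iot_mem (j : J) : (iot A j : B') ∈ I0 A J B' :=
  Ideal.mem_map_of_mem _ (by rw [TrivSqZeroExt.kerIdeal, RingHom.mem_ker]; simp)

lemma I0_mul_eq_zero {r s : B'} (hr : r ∈ I0 A J B') (hs : s ∈ I0 A J B') : r * s = 0 := by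
  have h : I0 A J B' * I0 A J B' = ⊥ := by
    rw [I0, ← Ideal.map_mul, ← pow_two, TrivSqZeroExt.kerIdeal_sq, Ideal.map_bot]
  have := Ideal.mul_mem_mul hr hs
  rwa [h, Ideal.mem_bot] at this

lemma algebraMap_mul_iot (α : TrivSqZeroExt A J) (j : J) :
    algebraMap (TrivSqZeroExt A J) B' α * iot A j = iot A (α.fst • j) := by
  rw [iot, iot, ← map_mul]
  congr 1
  apply TrivSqZeroExt.ext <;> simp

/-- the relation vector -/
noncomputable def v0 : ↥(I0 A J B') × B' × B' := (-⟨iot A τ.snd, iot_mem _⟩, y, x)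

/-- the target module of the derivation -/
abbrev NN := (↥(I0 A J B') × B' × B') ⧸ Submodule.span B' {v0 τ x y}

/-- class of `(i, 0, 0)` -/
noncomputable def mkI (i : B') (hi : i ∈ I0 A J B') : NN τ x y :=
  Submodule.Quotient.mk (⟨i, hi⟩, 0, 0)

lemma mkI_add (i j : B') (hi : i ∈ I0 A J B') (hj : j ∈ I0 A J B') (hij : i + j ∈ I0 A J B') :
    mkI τ x y (i + j) hij = mkI τ x y i hi + mkI τ x y j hj := by
  rw [mkI, mkI, mkI, ← Submodule.Quotient.mk_add]
  congr 1
  refine Prod.ext (Subtype.ext rfl) (by simp)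

lemma mkI_smul (a i : B') (hi : i ∈ I0 A J B') (hai : a * i ∈ I0 A J B') :
    mkI τ x y (a * i) hai = a • mkI τ x y i hi := by
  rw [mkI, mkI, ← Submodule.Quotient.mk_smul]
  congr 1
  refine Prod.ext (Subtype.ext rfl) (by simp)

lemma mkI_zero (h0 : (0 : B') ∈ I0 A J B') : mkI τ x y 0 h0 = 0 := rfl

lemma mkI_congr {i j : B'} (h : i = j) (hi : i ∈ I0 A J B') (hj : j ∈ I0 A J B') :
    mkI τ x y i hi = mkI τ x y j hj := by
  subst h; rfl

/-- the derivation on the coefficient ring -/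
noncomputable def D0 : TrivSqZeroExt A J →+ NN τ x y where
  toFun α := mkI τ x y (iot A α.snd) (iot_mem _)
  map_zero' := by
    rw [mkI_congr τ x y (j := 0) (by simp [iot]) _ (Ideal.zero_mem _)]
    rfl
  map_add' a b := by
    rw [← mkI_add τ x y _ _ (iot_mem _) (iot_mem _) (Ideal.add_mem _ (iot_mem _) (iot_mem _))]
    exact mkI_congr τ x y (by simp [iot, TrivSqZeroExt.inr_add]) _ _

lemma D0_mul (a b : TrivSqZeroExt A J) :
    D0 τ x y (a * b) = algebraMap (TrivSqZeroExt A J) B' a • D0 τ x y b +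
      algebraMap (TrivSqZeroExt A J) B' b • D0 τ x y a := by
  show mkI τ x y _ _ = _ • mkI τ x y _ _ + _ • mkI τ x y _ _
  rw [← mkI_smul τ x y _ _ _ (Ideal.mul_mem_left _ _ (iot_mem _)),
    ← mkI_smul τ x y _ _ _ (Ideal.mul_mem_left _ _ (iot_mem _)),
    ← mkI_add τ x y _ _ _ _ (Ideal.add_mem _ (Ideal.mul_mem_left _ _ (iot_mem _))
      (Ideal.mul_mem_left _ _ (iot_mem _)))]
  apply mkI_congr
  rw [algebraMap_mul_iot, algebraMap_mul_iot, TrivSqZeroExt.snd_mul, op_smul_eq_smul]
  simp [iot, TrivSqZeroExt.inr_add]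

lemma D0_algebraMap (r : A) : D0 τ x y (algebraMap A (TrivSqZeroExt A J) r) = 0 := by
  show mkI τ x y _ _ = 0
  rw [mkI_congr τ x y (j := 0) (by simp [iot, TrivSqZeroExt.algebraMap_eq_inl]) _
    (Ideal.zero_mem _)]
  rfl

variable [Algebra A B'] [IsScalarTower A (TrivSqZeroExt A J) B']

theorem main
    (hsurj : Function.Surjective
      (aeval ![x, y] : MvPolynomial (Fin 2) (TrivSqZeroExt A J) →ₐ[TrivSqZeroExt A J] B'))
    (hker : RingHom.ker
      (aeval ![x, y] : MvPolynomial (Fin 2) (TrivSqZeroExt A J) →ₐ[TrivSqZeroExt A J] B') =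
      Ideal.span {X 0 * X 1 - C τ}) :
    Function.Injective (KaehlerDifferential.kerToTensor A B' (B' ⧸ I0 A J B')) := by
  have hxy : x * y = algebraMap (TrivSqZeroExt A J) B' τ := by
    have : (X 0 * X 1 - C τ : MvPolynomial (Fin 2) (TrivSqZeroExt A J)) ∈ RingHom.ker
        (aeval ![x, y] : MvPolynomial (Fin 2) (TrivSqZeroExt A J) →ₐ[TrivSqZeroExt A J] B') := by
      rw [hker]; exact Ideal.mem_span_singleton_self _
    have h := RingHom.mem_ker.mp this
    simpa [sub_eq_zero] using h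
  have huw : x • (Submodule.Quotient.mk ((0 : ↥(I0 A J B')), (0 : B'), (1 : B')) : NN τ x y) +
      y • (Submodule.Quotient.mk ((0 : ↥(I0 A J B')), (1 : B'), (0 : B')) : NN τ x y) =
      D0 τ x y τ := by
    rw [← sub_eq_zero]
    show x • Submodule.Quotient.mk _ + y • Submodule.Quotient.mk _ - Submodule.Quotient.mk _ = 0
    rw [← Submodule.Quotient.mk_smul, ← Submodule.Quotient.mk_smul, ← Submodule.Quotient.mk_add,
      ← Submodule.Quotient.mk_sub, Submodule.Quotient.mk_eq_zero]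
    have : x • ((0 : ↥(I0 A J B')), (0 : B'), (1 : B')) + y • ((0 : ↥(I0 A J B')), (1 : B'), (0 : B')) -
        ((⟨iot A τ.snd, iot_mem _⟩ : ↥(I0 A J B')), (0 : B'), (0 : B')) = v0 τ x y := by
      refine Prod.ext ?_ (Prod.ext ?_ ?_) <;> simp [v0]
    rw [this]
    exact Submodule.mem_span_singleton_self _
  obtain ⟨D, hD⟩ := exists_derivation (R := A) (D0 τ x y) (D0_mul τ x y) (D0_algebraMap τ x y)
    x y _ _ τ hxy huw hsurj hker
  -- the derivation restricted to `I0` is `mkI` modulo `I0 • ⊤`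
  have claim : ∀ i ∈ I0 A J B', ∀ hi' : i ∈ I0 A J B',
      D i - mkI τ x y i hi' ∈ I0 A J B' • (⊤ : Submodule B' (NN τ x y)) := by
    intro i hi
    refine Submodule.span_induction
      (p := fun i _ => ∀ hi' : i ∈ I0 A J B',
        D i - mkI τ x y i hi' ∈ I0 A J B' • (⊤ : Submodule B' (NN τ x y))) ?_ ?_ ?_ ?_ hi
    · rintro _ ⟨k, hk, rfl⟩ hi'
      rw [hD]
      have hk' : k = TrivSqZeroExt.inr k.snd := (TrivSqZeroExt.mem_kerIdeal_iff_inr _ _ k).mp hk
      have : D0 τ x y k = mkI τ x y (algebraMap (TrivSqZeroExt A J) B' k) hi' := by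
        show mkI τ x y (iot A k.snd) _ = _
        apply mkI_congr
        rw [iot, ← hk']
      rw [this, sub_self]
      exact zero_mem _
    · intro hi'
      rw [map_zero, mkI_zero, sub_zero]
      exact zero_mem _
    · intro x1 y1 hx1 hy1 px py hi'
      have hx' : x1 ∈ I0 A J B' := hx1
      have hy' : y1 ∈ I0 A J B' := hy1
      have := add_mem (px hx') (py hy')
      convert this using 1
      rw [map_add, mkI_add τ x y x1 y1 hx' hy']
      abel
    · intro a x1 hx1 px hi'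
      have hx' : x1 ∈ I0 A J B' := hx1
      have h1 := add_mem (Submodule.smul_mem _ a (px hx'))
        (Submodule.smul_mem_smul hx' (Submodule.mem_top : D a ∈ (⊤ : Submodule B' (NN τ x y))))
      convert h1 using 1
      have hi'' : a * x1 ∈ I0 A J B' := hi'
      show D (a * x1) - mkI τ x y (a * x1) hi'' = _
      rw [D.leibniz, mkI_smul τ x y a x1 hx', smul_sub]
      abel
  rw [injective_iff_map_eq_zero]
  rintro ⟨i, hi⟩ h0
  have hi' : i ∈ I0 A J B' := by
    rw [RingHom.mem_ker, Ideal.Quotient.algebraMap_eq, Ideal.Quotient.eq_zero_iff_mem] at hi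
    exact hi
  have h1 : D i ∈ I0 A J B' • (⊤ : Submodule B' (NN τ x y)) := by
    have h := congrArg (fun z => TensorProduct.quotTensorEquivQuotSMul (NN τ x y) (I0 A J B')
      (LinearMap.lTensor (B' ⧸ I0 A J B') D.liftKaehlerDifferential z)) h0
    simp only [KaehlerDifferential.kerToTensor_apply, LinearMap.lTensor_tmul,
      Derivation.liftKaehlerDifferential_comp_D, map_zero,
      TensorProduct.quotTensorEquivQuotSMul_mk_one_tmul] at h
    exact (Submodule.Quotient.mk_eq_zero _).mp h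
  have h2 : mkI τ x y i hi' ∈ I0 A J B' • (⊤ : Submodule B' (NN τ x y)) := by
    have := sub_mem h1 (claim i hi' hi')
    simpa using this
  have h3 : I0 A J B' • (⊤ : Submodule B' (NN τ x y)) =
      Submodule.map (Submodule.mkQ (Submodule.span B' {v0 τ x y}))
        (I0 A J B' • (⊤ : Submodule B' (↥(I0 A J B') × B' × B'))) := by
    rw [Submodule.map_smul'', Submodule.map_top, Submodule.range_mkQ]
  rw [h3] at h2
  obtain ⟨w, hw, hwm⟩ := h2
  have hw' : (w.1 : B') = 0 ∧ w.2.1 ∈ I0 A J B' ∧ w.2.2 ∈ I0 A J B' := by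
    refine Submodule.smul_induction_on hw ?_ ?_
    · intro r hr n _
      refine ⟨?_, ?_, ?_⟩
      · show r * (n.1 : B') = 0
        exact I0_mul_eq_zero hr n.1.2
      · exact Ideal.mul_mem_right _ _ hr
      · exact Ideal.mul_mem_right _ _ hr
    · rintro a b ⟨a1, a2, a3⟩ ⟨b1, b2, b3⟩
      refine ⟨?_, Ideal.add_mem _ a2 b2, Ideal.add_mem _ a3 b3⟩
      show (a.1 : B') + b.1 = 0
      rw [a1, b1, add_zero]
  have hmem : w - ((⟨i, hi'⟩ : ↥(I0 A J B')), (0 : B'), (0 : B')) ∈ Submodule.span B' {v0 τ x y} :=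
    (Submodule.Quotient.eq _).mp hwm
  obtain ⟨c, hc⟩ := Submodule.mem_span_singleton.mp hmem
  have hc1 : -(c * iot A τ.snd) = (w.1 : B') - i := by
    have := congrArg (fun z : ↥(I0 A J B') × B' × B' => ((z.1 : ↥(I0 A J B')) : B')) hc
    simpa [v0] using this
  have hc2 : c * y = w.2.1 := by
    have := congrArg (fun z : ↥(I0 A J B') × B' × B' => z.2.1) hc
    simpa [v0] using this
  have hc3 : c * x = w.2.2 := by
    have := congrArg (fun z : ↥(I0 A J B') × B' × B' => z.2.2) hc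
    simpa [v0] using this
  have hcI : c ∈ I0 A J B' :=
    mem_of_mul_mem τ x y hsurj hker c (hc3 ▸ hw'.2.2) (hc2 ▸ hw'.2.1)
  have hi0 : i = 0 := by
    have h4 := I0_mul_eq_zero hcI (iot_mem (A := A) (B' := B') τ.snd)
    rw [h4, neg_zero, hw'.1, zero_sub] at hc1
    exact neg_eq_zero.mp hc1.symm
  exact Subtype.ext hi0

end Groth.Agent.Helper25.NodalKerC
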