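import Mathlib

/-! If `Spec B → Spec B'` is an open immersion and `B' → C → B` with `C → B` injective,
then `Spec B → Spec C` is an open immersion. -/

namespace Groth.Agent.Helper25.OpenImmFactor

open AlgebraicGeometry CategoryTheory TensorProduct

universe u

theorem epi_of_mono_specMap {R S : CommRingCat.{u}} (φ : R ⟶ S) [Mono (Spec.map φ)] : Epi φ := by
  constructor
  intro T g h hgh
  apply Spec.map_injective
  rw [← cancel_mono (Spec.map φ), ← Spec.map_comp, ← Spec.map_comp, hgh]

section
variable {B' C B : Type u} [CommRing B'] [CommRing C] [CommRing B] [Algebra B' C] [Algebra B' B]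
  [Algebra C B] [IsScalarTower B' C B]

/-- the multiplication map `C ⊗[B'] B → B` -/
noncomputable def mulMap : C ⊗[B'] B →ₐ[B'] B :=
  Algebra.TensorProduct.productMap (IsScalarTower.toAlgHom B' C B) (AlgHom.id B' B)

theorem mulMap_tmul (c : C) (b : B) :
    mulMap (B' := B') (c ⊗ₜ[B'] b) = algebraMap C B c * b := by
  simp [mulMap]

theorem mulMap_bijective [Module.Flat B' B] [Algebra.IsEpi B' B]
    (hinj : Function.Injective (algebraMap C B)) :
    Function.Bijective (mulMap (B' := B') (C := C) (B := B)) := by
  constructor
  · have h1 : Function.Injective ((IsScalarTower.toAlgHom B' C B).toLinearMap.rTensor B) :=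
      Module.Flat.rTensor_preserves_injective_linearMap _ hinj
    have h2 : Function.Injective (TensorProduct.lift (LinearMap.mul B' B)) :=
      Algebra.IsEpi.injective_lift_mul
    have h3 : ∀ x : C ⊗[B'] B, mulMap (B' := B') x = TensorProduct.lift (LinearMap.mul B' B)
        ((IsScalarTower.toAlgHom B' C B).toLinearMap.rTensor B x) := by
      intro x
      induction x using TensorProduct.induction_on with
      | zero => simp
      | tmul c b => simp [mulMap_tmul]
      | add x y hx hy => rw [map_add, map_add, map_add, hx, hy]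
    intro x y hxy
    rw [h3, h3] at hxy
    exact h1 (h2 hxy)
  · intro b
    exact ⟨1 ⊗ₜ b, by rw [mulMap_tmul, map_one, one_mul]⟩

end

theorem main (B' B : Type u) [CommRing B'] [CommRing B] [Algebra B' B]
    (h' : IsOpenImmersion (Spec.map (CommRingCat.ofHom (algebraMap B' B))))
    (C : Type u) [CommRing C] [Algebra B' C] [Algebra C B] [IsScalarTower B' C B]
    (hinj : Function.Injective (algebraMap C B)) :
    IsOpenImmersion (Spec.map (CommRingCat.ofHom (algebraMap C B))) := by
  haveI : Module.Flat B' B := by
    have h1 : Flat (Spec.map (CommRingCat.ofHom (algebraMap B' B))) := inferInstance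
    rw [Flat.SpecMap_iff] at h1
    exact RingHom.flat_algebraMap_iff.1 h1
  haveI : Algebra.IsEpi B' B := by
    haveI : Mono (Spec.map (CommRingCat.ofHom (algebraMap B' B))) := inferInstance
    exact CommRingCat.epi_iff_epi.1 (epi_of_mono_specMap _)
  have hbij := mulMap_bijective (B' := B') (C := C) (B := B) hinj
  let μ : (C ⊗[B'] B) ≃+* B := RingEquiv.ofBijective (mulMap (B' := B')).toRingHom hbij
  have hsq := isPullback_SpecMap_of_isPushout _ _ _ _ (CommRingCat.isPushout_tensorProduct B' C B)
  haveI hopen : IsOpenImmersion (Spec.map (CommRingCat.ofHom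
      (Algebra.TensorProduct.includeLeftRingHom : C →+* C ⊗[B'] B))) :=
    MorphismProperty.of_isPullback (P := @IsOpenImmersion) hsq.flip h'
  have hcomp : CommRingCat.ofHom (algebraMap C B) =
      CommRingCat.ofHom (Algebra.TensorProduct.includeLeftRingHom : C →+* C ⊗[B'] B) ≫
        CommRingCat.ofHom (μ : C ⊗[B'] B →+* B) := by
    ext c
    simp [μ, mulMap_tmul]
  rw [hcomp, Spec.map_comp]
  haveI : IsIso (CommRingCat.ofHom (μ : C ⊗[B'] B →+* B)) :=
    (RingEquiv.toCommRingCatIso μ).isIso_hom
  infer_instance

end Groth.Agent.Helper25.OpenImmFactor
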