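import Mathlib
import Groth.Prelude.Def_SGA3b
import Groth.Agent.Lib.Helper25.Rig1
import Groth.Agent.Lib.Helper25.MTFin
import Groth.Agent.Lib.Helper23.VerschLib

/-! Homomorphisms from a group of multiplicative type over a local base which are trivial (or agree)
on the closed fibre. -/

set_option autoImplicit false
universe u

namespace Groth.Agent.Helper25.Rig2

open TensorProduct SGA3b
open Groth.Agent.Helper25.Dens1 Groth.Agent.Helper22.MultType Groth.Agent.Helper25.Rig1
open Groth.Agent.Helper25.KerMT3 Groth.Agent.Helper25.NilLift Groth.Agent.Helper25.MultDense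

section App

variable {R : Type u} [CommRing R] {A : Type u} [CommRing A] [HopfAlgebra R A]
  {C : Type u} [CommRing C] [HopfAlgebra R C]
  {W : Type u} [CommRing W] [Algebra R W] {M : Type u} [CommGroup M]
  (E : W ⊗[R] A ≃ₐc[W] MonoidAlgebra W M)

/-- base change of `φ` followed by `E`. -/
noncomputable def psiE (φ : C →ₐc[R] A) : W ⊗[R] C →ₐc[W] MonoidAlgebra W M :=
  (E : W ⊗[R] A →ₐc[W] MonoidAlgebra W M).comp (phiW φ W)

theorem psiE_tmul (φ : C →ₐc[R] A) (w : W) (c : C) :
    psiE E φ (w ⊗ₜ[R] c) = E (w ⊗ₜ[R] φ c) := rfl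

theorem psiE_sub_mem (I : Ideal R) (φ ψ : C →ₐc[R] A)
    (hs : ∀ c, φ c - ψ c ∈ Ideal.map (algebraMap R A) I) (z : W ⊗[R] C) :
    psiE E φ z - psiE E ψ z ∈ coeffIdeal (M := M) (Ideal.map (algebraMap R W) I) := by
  induction z using TensorProduct.induction_on with
  | zero =>
    rw [map_zero, map_zero, sub_zero]
    exact Ideal.zero_mem _
  | tmul w c =>
    have hw : ∀ a : A, w ⊗ₜ[R] a = w • ((1 : W) ⊗ₜ[R] a) := fun a => by
      rw [TensorProduct.smul_tmul', smul_eq_mul, mul_one]
    rw [psiE_tmul, psiE_tmul, ← map_sub, ← TensorProduct.tmul_sub, hw, map_smul]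
    exact smul_mem_coeffIdeal _ w
      (thetaHom_mem (E : W ⊗[R] A ≃ₐ[W] MonoidAlgebra W M) I (hs c))
  | add x y hx hy =>
    have h1 : psiE E φ (x + y) - psiE E ψ (x + y) =
        (psiE E φ x - psiE E ψ x) + (psiE E φ y - psiE E ψ y) := by
      rw [map_add, map_add]
      ring
    rw [h1]
    exact Ideal.add_mem _ hx hy

theorem psiE_triv_apply (z : W ⊗[R] C) :
    psiE E (1 : WithConv (C →ₐc[R] A)).ofConv z =
      (1 : WithConv (W ⊗[R] C →ₐc[W] MonoidAlgebra W M)).ofConv z := by
  induction z using TensorProduct.induction_on with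
  | zero => rw [map_zero, map_zero]
  | tmul w c =>
    rw [psiE_tmul]
    show E (w ⊗ₜ[R] algebraMap R A (Coalgebra.counit (R := R) c)) =
      algebraMap W (MonoidAlgebra W M) (Coalgebra.counit (R := W) (w ⊗ₜ[R] c))
    rw [TensorProduct.counit_tmul, CommSemiring.counit_apply,
      Algebra.algebraMap_eq_smul_one (Coalgebra.counit (R := R) c), TensorProduct.tmul_smul,
      TensorProduct.smul_tmul']
    have h1 : (Coalgebra.counit (R := R) c • w) ⊗ₜ[R] (1 : A) =
        algebraMap W (W ⊗[R] A) (Coalgebra.counit (R := R) c • w) := by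
      rw [Algebra.TensorProduct.algebraMap_apply]
      rfl
    rw [h1]
    exact AlgHomClass.commutes E _
  | add x y hx hy => rw [map_add, map_add, hx, hy]

theorem psiE_triv :
    psiE E (1 : WithConv (C →ₐc[R] A)).ofConv =
      (1 : WithConv (W ⊗[R] C →ₐc[W] MonoidAlgebra W M)).ofConv :=
  DFunLike.ext _ _ (psiE_triv_apply E)

end App

section Main

variable {R : Type u} [CommRing R] [IsLocalRing R] {A : Type u} [CommRing A] [HopfAlgebra R A]
  {C : Type u} [CommRing C] [HopfAlgebra R C]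

/-- homomorphisms to a commutative group of finite type which agree on the closed fibre. -/
theorem eq_of_closed_fibre (h : IsMultType R A) [Coalgebra.IsCocomm R C]
    (hC : Algebra.FiniteType R C) (φ ψ : C →ₐc[R] A)
    (hs : ∀ c, φ c - ψ c ∈ Ideal.map (algebraMap R A) (IsLocalRing.maximalIdeal R)) :
    ∀ c, φ c = ψ c := by
  obtain ⟨W, _, _, _, hff, hmax, M, _, ⟨E⟩⟩ := exists_local_diag R A h
  have := hff
  have := hC
  have hft : Algebra.FiniteType W (W ⊗[R] C) := inferInstance
  have key := rigid_local hft (psiE E φ) (psiE E ψ) (fun m => cube_cocomm _ _ m) ?_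
  · intro c
    have h1 := key ((1 : W) ⊗ₜ[R] c)
    rw [psiE_tmul, psiE_tmul] at h1
    have h2 : (1 : W) ⊗ₜ[R] φ c = (1 : W) ⊗ₜ[R] ψ c := E.injective h1
    exact Module.FaithfullyFlat.tensorProduct_mk_injective (A := R) (B := W) A h2
  · intro z
    have h1 := psiE_sub_mem E (IsLocalRing.maximalIdeal R) φ ψ hs z
    rw [mem_coeffIdeal] at h1 ⊢
    exact fun m => hmax (h1 m)

/-- a homomorphism to a group of finite type which is trivial on the closed fibre. -/
theorem triv_of_closed_fibre_ft (h : IsMultType R A) (hC : Algebra.FiniteType R C)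
    (φ : C →ₐc[R] A)
    (hs : ∀ c, φ c - algebraMap R A (Coalgebra.counit (R := R) c) ∈
      Ideal.map (algebraMap R A) (IsLocalRing.maximalIdeal R)) :
    ∀ c, φ c = algebraMap R A (Coalgebra.counit (R := R) c) := by
  obtain ⟨W, _, _, _, hff, hmax, M, _, ⟨E⟩⟩ := exists_local_diag R A h
  have := hff
  have := hC
  have hft : Algebra.FiniteType W (W ⊗[R] C) := inferInstance
  have hs' : ∀ c, φ c - (1 : WithConv (C →ₐc[R] A)).ofConv c ∈
      Ideal.map (algebraMap R A) (IsLocalRing.maximalIdeal R) := hs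
  have key := rigid_local hft (psiE E φ)
    (1 : WithConv (W ⊗[R] C →ₐc[W] MonoidAlgebra W M)).ofConv (fun m => cube_triv _ m) ?_
  · intro c
    have h1 := key ((1 : W) ⊗ₜ[R] c)
    rw [← psiE_triv_apply E, psiE_tmul, psiE_tmul] at h1
    have h2 : (1 : W) ⊗ₜ[R] φ c =
        (1 : W) ⊗ₜ[R] (1 : WithConv (C →ₐc[R] A)).ofConv c := E.injective h1
    exact Module.FaithfullyFlat.tensorProduct_mk_injective (A := R) (B := W) A h2
  · intro z
    have h1 := psiE_sub_mem E (IsLocalRing.maximalIdeal R) φ _ hs' z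
    rw [psiE_triv_apply, mem_coeffIdeal] at h1
    rw [mem_coeffIdeal]
    exact fun m => hmax (h1 m)

end Main

section Desc

variable {R : Type u} [CommRing R] {A : Type u} [CommRing A] [Algebra R A]
  {W : Type u} [CommRing W] [Algebra R W] {M : Type u} [CommGroup M]

theorem desc_mem [Module.FaithfullyFlat R W] (E : W ⊗[R] A ≃ₐ[W] MonoidAlgebra W M)
    (I : Ideal R) (x : A)
    (hx : ∀ m, (E ((1 : W) ⊗ₜ[R] x)).coeff m ∈ Ideal.map (algebraMap R W) I) :
    x ∈ I • (⊤ : Submodule R A) := by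
  have h1 : (1 : W) ⊗ₜ[R] x ∈
      (Ideal.map (algebraMap R W) I) • (⊤ : Submodule W (W ⊗[R] A)) := by
    have h2 : (1 : W) ⊗ₜ[R] x = E.symm (E ((1 : W) ⊗ₜ[R] x)) := (E.symm_apply_apply _).symm
    rw [h2, eq_sum_single (E ((1 : W) ⊗ₜ[R] x)), map_sum]
    refine Submodule.sum_mem _ (fun m _ => ?_)
    have h3 : MonoidAlgebra.single m ((E ((1 : W) ⊗ₜ[R] x)).coeff m) =
        ((E ((1 : W) ⊗ₜ[R] x)).coeff m) • MonoidAlgebra.single m (1 : W) := by
      rw [MonoidAlgebra.smul_single', mul_one]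
    rw [h3, map_smul]
    exact Submodule.smul_mem_smul (hx m) Submodule.mem_top
  have h4 : (1 : W) ⊗ₜ[R] x ∈ I • (⊤ : Submodule R (W ⊗[R] A)) :=
    (smulTop_bridge I W _).2 h1
  have h5 : (LinearMap.lTensor W (Submodule.mkQ (I • (⊤ : Submodule R A))))
      ((1 : W) ⊗ₜ[R] x) ∈
      I • (⊤ : Submodule R (W ⊗[R] (A ⧸ (I • (⊤ : Submodule R A))))) :=
    map_mem_smulTop I _ h4
  have h6 : ∀ y ∈ I • (⊤ : Submodule R (W ⊗[R] (A ⧸ (I • (⊤ : Submodule R A))))), y = 0 := by
    intro y hy
    refine Submodule.smul_induction_on hy ?_ ?_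
    · intro r hr y hy'
      clear hy'
      induction y using TensorProduct.induction_on with
      | zero => rw [smul_zero]
      | tmul w q =>
        obtain ⟨a, rfl⟩ := Submodule.mkQ_surjective _ q
        rw [← TensorProduct.tmul_smul, ← map_smul, Submodule.mkQ_apply,
          (Submodule.Quotient.mk_eq_zero _).2 (Submodule.smul_mem_smul hr Submodule.mem_top),
          TensorProduct.tmul_zero]
      | add a b ha hb => rw [smul_add, ha, hb, add_zero]
    · intro a b ha hb
      rw [ha, hb, add_zero]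
  have h7 := h6 _ h5
  rw [LinearMap.lTensor_tmul] at h7
  have h8 : Submodule.mkQ (I • (⊤ : Submodule R A)) x = 0 :=
    Module.FaithfullyFlat.tensorProduct_mk_injective (A := R) (B := W) _
      (by rw [TensorProduct.mk_apply, h7, map_zero])
  rw [Submodule.mkQ_apply, Submodule.Quotient.mk_eq_zero] at h8
  exact h8

end Desc

section Noeth

variable {R : Type u} [CommRing R] [IsLocalRing R] {A : Type u} [CommRing A] [HopfAlgebra R A]
  {C : Type u} [CommRing C] [HopfAlgebra R C]

theorem triv_mod_pow (h : IsMultType R A) (φ : C →ₐc[R] A)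
    (hs : ∀ c, φ c - algebraMap R A (Coalgebra.counit (R := R) c) ∈
      Ideal.map (algebraMap R A) (IsLocalRing.maximalIdeal R)) (k : ℕ) (c : C) :
    φ c - algebraMap R A (Coalgebra.counit (R := R) c) ∈
      (IsLocalRing.maximalIdeal R ^ k) • (⊤ : Submodule R A) := by
  classical
  obtain ⟨W, _, _, _, hff, hmax, M, _, ⟨E⟩⟩ := exists_local_diag R A h
  have := hff
  have hs' : ∀ c, φ c - (1 : WithConv (C →ₐc[R] A)).ofConv c ∈
      Ideal.map (algebraMap R A) (IsLocalRing.maximalIdeal R) := hs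
  have hval : ∀ m, ValIn (Ideal.map (algebraMap R W) (IsLocalRing.maximalIdeal R))
      (coef (psiE E φ).toCoalgHom m -
        coef (1 : WithConv (W ⊗[R] C →ₐc[W] MonoidAlgebra W M)).ofConv.toCoalgHom m) := by
    intro m z
    have h1 := psiE_sub_mem E (IsLocalRing.maximalIdeal R) φ _ hs' z
    rw [psiE_triv_apply, mem_coeffIdeal] at h1
    have h2 := h1 m
    rw [MonoidAlgebra.coeff_sub, Finsupp.sub_apply] at h2
    exact h2
  have hpow := fun m => valIn_pow_of_cube _ (cube_triv (psiE E φ) m) _ (hval m) k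
  apply desc_mem (E : W ⊗[R] A ≃ₐ[W] MonoidAlgebra W M)
  intro m
  rw [Ideal.map_pow]
  have h3 := hpow m ((1 : W) ⊗ₜ[R] c)
  have h4 : (E ((1 : W) ⊗ₜ[R] (φ c - algebraMap R A (Coalgebra.counit (R := R) c)))) =
      psiE E φ ((1 : W) ⊗ₜ[R] c) -
        (1 : WithConv (W ⊗[R] C →ₐc[W] MonoidAlgebra W M)).ofConv ((1 : W) ⊗ₜ[R] c) := by
    rw [← psiE_triv_apply E, psiE_tmul, psiE_tmul, ← map_sub, ← TensorProduct.tmul_sub]
    rfl
  show (E ((1 : W) ⊗ₜ[R] (φ c - algebraMap R A (Coalgebra.counit (R := R) c)))).coeff m ∈ _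
  rw [h4, MonoidAlgebra.coeff_sub, Finsupp.sub_apply]
  exact h3

end Noeth

section Fin

variable (R : Type u) [CommRing R] (A : Type u) [CommRing A] [HopfAlgebra R A]

theorem finite_quot_torsion (hft : Algebra.FiniteType R A) (h : IsMultType R A) (n : ℕ)
    (hn : 0 < n) : Module.Finite R (A ⧸ torsionIdeal R A n) := by
  classical
  obtain ⟨ι, _, _, T, _, _, hff, hd⟩ := exists_cover_diag h
  have := hff
  apply Groth.Agent.Helper25.MTFin.finite_of_cover T
  intro i
  obtain ⟨M, _, ⟨E⟩⟩ := hd i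
  rcases subsingleton_or_nontrivial (T i) with hs | hnt
  · have : Subsingleton (T i ⊗[R] (A ⧸ torsionIdeal R A n)) := Module.subsingleton (T i) _
    exact Module.Finite.of_surjective (0 : T i →ₗ[T i] T i ⊗[R] (A ⧸ torsionIdeal R A n))
      (fun y => ⟨0, Subsingleton.elim _ _⟩)
  have := hft
  have hft' : Algebra.FiniteType (T i) (MonoidAlgebra (T i) M) :=
    (inferInstance : Algebra.FiniteType (T i) (T i ⊗[R] A)).equiv
      (E : (T i ⊗[R] A) ≃ₐ[T i] MonoidAlgebra (T i) M)
  have hfg : Group.FG M := MonoidAlgebra.finiteType_iff_group_fg.1 hft'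
  have hfin : Finite (M ⧸ (powMonoidHom n : M →* M).range) :=
    Subgroup.finiteIndex_iff_finite_quotient.mp
      (Subgroup.finiteIndex_range_powMonoidHom_of_fg M hn.ne')
  have hfinMod : Module.Finite (T i)
      (MonoidAlgebra (T i) (M ⧸ (powMonoidHom n : M →* M).range)) :=
    Module.Finite.equiv (MonoidAlgebra.coeffLinearEquiv (T i)).symm
  obtain ⟨ρ, hρ⟩ : ∃ ρ : T i ⊗[R] A →ₐ[T i] T i ⊗[R] (A ⧸ torsionIdeal R A n),
      ∀ t a, ρ (t ⊗ₜ[R] a) = t ⊗ₜ[R] (Ideal.Quotient.mk (torsionIdeal R A n) a) :=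
    ⟨Algebra.TensorProduct.map (AlgHom.id (T i) (T i))
      (Ideal.Quotient.mkₐ R (torsionIdeal R A n)), fun t a => rfl⟩
  have hρs : Function.Surjective ρ := by
    intro y
    induction y using TensorProduct.induction_on with
    | zero => exact ⟨0, map_zero _⟩
    | tmul t q =>
      obtain ⟨a, rfl⟩ := Ideal.Quotient.mk_surjective q
      exact ⟨t ⊗ₜ[R] a, hρ t a⟩
    | add x y hx hy =>
      obtain ⟨a, rfl⟩ := hx
      obtain ⟨b, rfl⟩ := hy
      exact ⟨a + b, map_add _ _ _⟩
  have hrev : ∀ y : T i ⊗[R] A, ρ (powConv (T i) (T i ⊗[R] A) n y) =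
      algebraMap (T i) (T i ⊗[R] (A ⧸ torsionIdeal R A n))
        (Coalgebra.counit (R := T i) y) := by
    intro y
    induction y using TensorProduct.induction_on with
    | zero => rw [map_zero, map_zero, map_zero, map_zero]
    | tmul t a =>
      have h1 : Ideal.Quotient.mk (torsionIdeal R A n) (powConv R A n a) =
          algebraMap R (A ⧸ torsionIdeal R A n) (Coalgebra.counit (R := R) a) := by
        have h4 := powConv_mem_torsionIdeal R A n
          (a - algebraMap R A (Coalgebra.counit (R := R) a)) (by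
            show Bialgebra.counitAlgHom R A (a - algebraMap R A (Coalgebra.counit (R := R) a)) = 0
            rw [map_sub, AlgHom.commutes]
            simp)
        rw [map_sub, AlgHom.commutes] at h4
        exact Ideal.Quotient.eq.2 h4
      rw [Groth.Agent.Helper23.VerschLib.powConv_baseChange R (T i) A n t a, hρ,
        TensorProduct.counit_tmul, CommSemiring.counit_apply, h1,
        Algebra.algebraMap_eq_smul_one (Coalgebra.counit (R := R) a), TensorProduct.tmul_smul,
        TensorProduct.smul_tmul', Algebra.TensorProduct.algebraMap_apply]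
      rfl
    | add x y hx hy => rw [map_add, map_add, map_add, map_add, hx, hy]
  have hker : torsionIdeal (T i) (T i ⊗[R] A) n ≤ Ideal.comap ρ ⊥ :=
    torsionIdeal_le_comap (T i) (T i ⊗[R] A) ρ ⊥ n (fun y hy => by
      rw [Ideal.mem_bot, hrev, hy, map_zero])
  obtain ⟨F, hF⟩ : ∃ F : MonoidAlgebra (T i) M →ₐ[T i] T i ⊗[R] (A ⧸ torsionIdeal R A n),
      ∀ v, F v = ρ (E.symm v) :=
    ⟨ρ.comp ((E.symm : MonoidAlgebra (T i) M ≃ₐ[T i] T i ⊗[R] A) :
      MonoidAlgebra (T i) M →ₐ[T i] T i ⊗[R] A), fun v => rfl⟩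
  have hFs : Function.Surjective F := by
    intro y
    obtain ⟨x, rfl⟩ := hρs y
    exact ⟨E x, by rw [hF, E.symm_apply_apply]⟩
  obtain ⟨τ, hτ⟩ : ∃ τ : M →* (T i ⊗[R] (A ⧸ torsionIdeal R A n)),
      ∀ m, τ m = F (MonoidAlgebra.single m 1) :=
    ⟨(F : MonoidAlgebra (T i) M →+* _).toMonoidHom.comp (MonoidAlgebra.of (T i) M),
      fun m => rfl⟩
  have hN : (powMonoidHom n : M →* M).range ≤ τ.ker := by
    rintro _ ⟨k, rfl⟩
    rw [MonoidHom.mem_ker, hτ, hF]
    have h1 : MonoidAlgebra.single (k ^ n) (1 : T i) - 1 ∈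
        torsionIdeal (T i) (MonoidAlgebra (T i) M) n := by
      have h0 := powConv_mem_torsionIdeal (T i) (MonoidAlgebra (T i) M) n
        (MonoidAlgebra.single k 1 - 1) (by
          rw [map_sub, MonoidAlgebra.counit_single, Bialgebra.counit_one]
          simp)
      rwa [map_sub, map_one, Groth.Agent.Helper25.MultFin.powConv_single] at h0
    have h2 := mem_torsionIdeal_bialgHom
      (E.symm : MonoidAlgebra (T i) M →ₐc[T i] T i ⊗[R] A) n _ h1
    have h3 := hker h2
    rw [Ideal.mem_comap, Ideal.mem_bot] at h3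
    have h4 : ρ (E.symm (MonoidAlgebra.single (k ^ n) (1 : T i) - 1)) = 0 := h3
    rw [map_sub, map_sub, map_one, map_one, sub_eq_zero] at h4
    exact h4
  obtain ⟨Ft, hFt⟩ : ∃ Ft : MonoidAlgebra (T i) (M ⧸ (powMonoidHom n : M →* M).range) →ₐ[T i]
      T i ⊗[R] (A ⧸ torsionIdeal R A n),
      ∀ m, Ft (MonoidAlgebra.single (QuotientGroup.mk' (powMonoidHom n : M →* M).range m) 1) =
        F (MonoidAlgebra.single m 1) := by
    refine ⟨MonoidAlgebra.lift (T i) (T i ⊗[R] (A ⧸ torsionIdeal R A n))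
      (M ⧸ (powMonoidHom n : M →* M).range)
      (QuotientGroup.lift (powMonoidHom n : M →* M).range τ hN), fun m => ?_⟩
    rw [MonoidAlgebra.lift_single, one_smul, QuotientGroup.mk'_apply, QuotientGroup.lift_mk, hτ]
  have hcomp : Ft.comp (proj (T i) M n) = F := by
    refine MonoidAlgebra.algHom_ext (fun m => ?_) (Subsingleton.elim _ _)
    rw [AlgHom.comp_apply, proj_single, hFt]
  have hFts : Function.Surjective Ft := by
    intro y
    obtain ⟨v, rfl⟩ := hFs y
    exact ⟨proj (T i) M n v, by rw [← AlgHom.comp_apply, hcomp]⟩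
  exact Module.Finite.of_surjective Ft.toLinearMap hFts

end Fin

section Final

variable (R : Type u) [CommRing R] [IsLocalRing R] (A : Type u) [CommRing A] [HopfAlgebra R A]

theorem eq_zero_of_forall_pow [IsNoetherianRing R] (hft : Algebra.FiniteType R A)
    (h : IsMultType R A) (x : A)
    (hx : ∀ k : ℕ, x ∈ (IsLocalRing.maximalIdeal R ^ k) • (⊤ : Submodule R A)) : x = 0 := by
  have hJ : ∀ n : ℕ, 0 < n → x ∈ torsionIdeal R A n := by
    intro n hn
    have hfin := finite_quot_torsion R A hft h n hn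
    have h1 : (Ideal.Quotient.mkₐ R (torsionIdeal R A n)).toLinearMap x ∈
        (⨅ k : ℕ, (IsLocalRing.maximalIdeal R) ^ k •
          (⊤ : Submodule R (A ⧸ torsionIdeal R A n))) := by
      rw [Submodule.mem_iInf]
      intro k
      exact map_mem_smulTop (IsLocalRing.maximalIdeal R ^ k) _ (hx k)
    rw [Ideal.iInf_pow_smul_eq_bot_of_isLocalRing _
      (IsLocalRing.maximalIdeal.isMaximal R).ne_top, Submodule.mem_bot] at h1
    exact Ideal.Quotient.eq_zero_iff_mem.1 h1
  obtain ⟨j, hj⟩ := Groth.Agent.Helper25.Dens3.key R A hft h 1 x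
    (fun n hn => ⟨0, by rw [pow_zero, one_mul]; exact hJ n hn⟩)
  rwa [one_pow, one_mul] at hj

theorem main5245 (hft : Algebra.FiniteType R A) (hH : IsMultType R A)
    (C : Type u) [CommRing C] [HopfAlgebra R C]
    (hC : IsNoetherianRing R ∨ Algebra.FinitePresentation R C) (φ : C →ₐc[R] A)
    (hs : ∀ c : C, φ c - algebraMap R A (Coalgebra.counit c) ∈
      Ideal.map (algebraMap R A) (IsLocalRing.maximalIdeal R)) :
    ∀ c : C, φ c = algebraMap R A (Coalgebra.counit c) := by
  rcases hC with hN | hfp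
  · intro c
    have := hN
    have h1 := eq_zero_of_forall_pow R A hft hH
      (φ c - algebraMap R A (Coalgebra.counit (R := R) c))
      (fun k => triv_mod_pow hH φ hs k c)
    exact sub_eq_zero.1 h1
  · have := hfp
    exact triv_of_closed_fibre_ft hH inferInstance φ hs

end Final

end Groth.Agent.Helper25.Rig2
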