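import Mathlib
import Groth.Prelude.Def_SGA3b
import Groth.Agent.Lib.Helper25.Rig2
import Groth.Agent.Lib.Helper6.MT2

/-! Closed subgroups of a group of multiplicative type over a local base with trivial closed fibre. -/

set_option autoImplicit false
universe u

namespace Groth.Agent.Helper25.Rig3

open TensorProduct SGA3b
open Groth.Agent.Helper25.MultDense Groth.Agent.Helper25.Dens1 Groth.Agent.Helper25.Dens2
  Groth.Agent.Helper25.Dens3 Groth.Agent.Helper25.NilLift

section KeyDiag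

theorem key_diag (T : Type u) [CommRing T] (D : Type u) [CommRing D] [HopfAlgebra T D]
    (hft : Algebra.FiniteType T D) (hd : IsDiag T D) (a y : D)
    (hy : ∀ n : ℕ, 0 < n → ∃ j : ℕ, a ^ j * y ∈ torsionIdeal T D n) :
    ∃ j : ℕ, a ^ j * y = 0 := by
  obtain ⟨M, _, ⟨E⟩⟩ := hd
  rcases subsingleton_or_nontrivial T with hs | hnt
  · have : Subsingleton D := Module.subsingleton T D
    exact ⟨0, Subsingleton.elim _ _⟩
  have hft' : Algebra.FiniteType T (MonoidAlgebra T M) :=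
    hft.equiv (E : D ≃ₐ[T] MonoidAlgebra T M)
  have hfg : Group.FG M := MonoidAlgebra.finiteType_iff_group_fg.1 hft'
  have hyp : Hyp T M 1 (E a) (E y) := by
    intro n hn _
    obtain ⟨j, hj⟩ := hy n hn
    refine ⟨j, ?_⟩
    have h2 := mem_torsionIdeal_bialgHom (E : D →ₐc[T] MonoidAlgebra T M) n _ hj
    have h3 : proj T M n (E (a ^ j * y)) = 0 := proj_eq_zero_of_mem_torsionIdeal n _ h2
    rw [map_mul, map_pow] at h3
    exact h3
  obtain ⟨j, hj⟩ := core_fg T M hfg _ _ hyp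
  refine ⟨j, ?_⟩
  rw [← map_pow, ← map_mul] at hj
  exact (EmbeddingLike.map_eq_zero_iff (f := E)).1 hj

end KeyDiag

section FieldPoint

theorem exists_field_point (R W S : Type u) [CommRing R] [CommRing W] [Algebra R W] [CommRing S]
    [Algebra R S] [Algebra W S] [IsScalarTower R W S] (ε : S) (hε : ε * ε = ε) (hne : ε ≠ 0) :
    ∃ (κ : Type u) (_ : Field κ) (_ : Algebra R κ) (_ : Algebra W κ) (_ : IsScalarTower R W κ)
      (g : S →ₐ[R] κ), g ε = 1 := by
  have hne_top : Ideal.span {(1 : S) - ε} ≠ ⊤ := by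
    intro htop
    obtain ⟨s, hs⟩ := Ideal.mem_span_singleton'.1 ((Ideal.eq_top_iff_one _).1 htop)
    apply hne
    calc ε = (s * (1 - ε)) * ε := by rw [hs, one_mul]
      _ = s * (ε - ε * ε) := by ring
      _ = 0 := by rw [hε, sub_self, mul_zero]
  obtain ⟨𝔫, h𝔫, hle𝔫⟩ := Ideal.exists_le_maximal _ hne_top
  have := h𝔫
  let iR : Algebra R (S ⧸ 𝔫) := inferInstance
  let iW : Algebra W (S ⧸ 𝔫) := inferInstance
  have iT : IsScalarTower R W (S ⧸ 𝔫) := inferInstance
  refine ⟨S ⧸ 𝔫, Ideal.Quotient.field 𝔫, iR, iW, iT, Ideal.Quotient.mkₐ R 𝔫, ?_⟩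
  have h2 : Ideal.Quotient.mk 𝔫 ((1 : S) - ε) = 0 :=
    Ideal.Quotient.eq_zero_iff_mem.2 (hle𝔫 (Ideal.subset_span rfl))
  rw [map_sub, map_one, sub_eq_zero] at h2
  exact h2.symm

end FieldPoint

section Main

variable (R : Type u) [CommRing R] (A : Type u) [CommRing A] [HopfAlgebra R A]

theorem torsionIdeal_le_ker (n : ℕ) :
    torsionIdeal R A n ≤ RingHom.ker (Bialgebra.counitAlgHom R A) := by
  have h := torsionIdeal_le_comap R A (Bialgebra.counitAlgHom R A) ⊥ n ?_
  · intro x hx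
    rw [RingHom.mem_ker]
    exact Ideal.mem_bot.1 (Ideal.mem_comap.1 (h hx))
  · intro y hy
    rw [Ideal.mem_bot]
    have h1 := Groth.Agent.Helper25.MultFin.bialgHom_powConv (Bialgebra.counitBialgHom R A) n y
    have h2 : Bialgebra.counitBialgHom R A y = 0 := hy
    rw [h2, map_zero] at h1
    exact h1

variable [IsLocalRing R]

theorem main5254 (hft : Algebra.FiniteType R A) (hH : IsMultType R A)
    (J : Ideal A) [J.IsHopfIdeal R] (hK : Algebra.FinitePresentation R (A ⧸ J))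
    (hs : J ⊔ Ideal.map (algebraMap R A) (IsLocalRing.maximalIdeal R) =
      RingHom.ker (Bialgebra.counitAlgHom R A) ⊔
        Ideal.map (algebraMap R A) (IsLocalRing.maximalIdeal R)) :
    J = RingHom.ker (Bialgebra.counitAlgHom R A) := by
  classical
  obtain ⟨π, hπ, hπk⟩ : ∃ π : A →ₐc[R] A ⧸ J, Function.Surjective π ∧ ∀ a, π a = 0 ↔ a ∈ J :=
    ⟨Bialgebra.Quotient.mkBialgHom J, Ideal.Quotient.mk_surjective,
      fun a => Ideal.Quotient.eq_zero_iff_mem⟩
  have hεπ : ∀ a, Coalgebra.counit (R := R) (π a) = Coalgebra.counit (R := R) a :=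
    fun a => CoalgHomClass.counit_comp_apply π a
  have hJle : J ≤ RingHom.ker (Bialgebra.counitAlgHom R A) := by
    intro a ha
    rw [RingHom.mem_ker]
    show Coalgebra.counit (R := R) a = 0
    rw [← hεπ, (hπk a).2 ha, map_zero]
  apply le_antisymm hJle
  suffices hmain : ∀ b : A ⧸ J, Coalgebra.counit (R := R) b = 0 → b = 0 by
    intro a ha
    rw [RingHom.mem_ker] at ha
    apply (hπk a).1
    apply hmain
    rw [hεπ]
    exact ha
  obtain ⟨𝔪B, h𝔪B⟩ : ∃ 𝔪B : Ideal (A ⧸ J),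
      𝔪B = Ideal.map (algebraMap R (A ⧸ J)) (IsLocalRing.maximalIdeal R) := ⟨_, rfl⟩
  obtain ⟨IB, hIB⟩ : ∃ IB : Ideal (A ⧸ J),
      IB = RingHom.ker (Bialgebra.counitAlgHom R (A ⧸ J)).toRingHom := ⟨_, rfl⟩
  have hIBmem : ∀ b, b ∈ IB ↔ Coalgebra.counit (R := R) b = 0 := by
    intro b
    rw [hIB, RingHom.mem_ker]
    rfl
  -- (i) IB ≤ 𝔪B
  have hIBle : IB ≤ 𝔪B := by
    intro b hb
    obtain ⟨a, rfl⟩ := hπ b
    have ha : a ∈ RingHom.ker (Bialgebra.counitAlgHom R A) ⊔
        Ideal.map (algebraMap R A) (IsLocalRing.maximalIdeal R) := by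
      apply Ideal.mem_sup_left
      rw [RingHom.mem_ker]
      show Coalgebra.counit (R := R) a = 0
      rw [← hεπ]
      exact (hIBmem _).1 hb
    rw [← hs] at ha
    obtain ⟨j, hj, x, hx, rfl⟩ := Submodule.mem_sup.1 ha
    rw [map_add, (hπk j).2 hj, zero_add, h𝔪B]
    have hle : Ideal.map (algebraMap R A) (IsLocalRing.maximalIdeal R) ≤
        Ideal.comap π (Ideal.map (algebraMap R (A ⧸ J)) (IsLocalRing.maximalIdeal R)) := by
      rw [Ideal.map_le_iff_le_comap]
      intro r hr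
      rw [Ideal.mem_comap, Ideal.mem_comap, AlgHomClass.commutes]
      exact Ideal.mem_map_of_mem _ hr
    exact Ideal.mem_comap.1 (hle hx)
  -- (ii) IB ≤ 𝔪B • IB
  have hstep : ∀ x ∈ (IsLocalRing.maximalIdeal R) • (⊤ : Submodule R (A ⧸ J)),
      x - algebraMap R (A ⧸ J) (Coalgebra.counit (R := R) x) ∈ 𝔪B * IB := by
    intro x hx
    refine Submodule.smul_induction_on hx ?_ ?_
    · intro r hr b _
      have h1 : r • b - algebraMap R (A ⧸ J) (Coalgebra.counit (R := R) (r • b)) =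
          algebraMap R (A ⧸ J) r * (b - algebraMap R (A ⧸ J) (Coalgebra.counit (R := R) b)) := by
        rw [map_smul, smul_eq_mul, map_mul, Algebra.smul_def]
        ring
      rw [h1]
      apply Ideal.mul_mem_mul
      · rw [h𝔪B]
        exact Ideal.mem_map_of_mem _ hr
      · rw [hIBmem, map_sub, Bialgebra.counit_algebraMap, sub_self]
    · intro x y hx hy
      have h1 : (x + y) - algebraMap R (A ⧸ J) (Coalgebra.counit (R := R) (x + y)) =
          (x - algebraMap R (A ⧸ J) (Coalgebra.counit (R := R) x)) +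
          (y - algebraMap R (A ⧸ J) (Coalgebra.counit (R := R) y)) := by
        rw [map_add, map_add]
        ring
      rw [h1]
      exact Ideal.add_mem _ hx hy
  have hsmul_of_mem : ∀ b ∈ 𝔪B, b ∈ (IsLocalRing.maximalIdeal R) • (⊤ : Submodule R (A ⧸ J)) := by
    intro b hb
    rw [h𝔪B] at hb
    rw [Ideal.smul_top_eq_map]
    exact hb
  have hIBsq : IB ≤ 𝔪B • IB := by
    intro b hb
    have h1 := hstep b (hsmul_of_mem b (hIBle hb))
    rw [(hIBmem b).1 hb, map_zero, sub_zero] at h1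
    rw [Ideal.smul_eq_mul]
    exact h1
  -- (iii) finite generation
  have := hK
  have hfg : IB.FG := by
    rw [hIB]
    exact Algebra.FinitePresentation.ker_fG_of_surjective (Bialgebra.counitAlgHom R (A ⧸ J))
      (fun r => ⟨algebraMap R _ r, Bialgebra.counit_algebraMap r⟩)
  obtain ⟨r, hr1, hr0⟩ :=
    Submodule.exists_sub_one_mem_and_smul_eq_zero_of_fg_of_le_smul 𝔪B IB hfg hIBsq
  have hεm : ∀ x ∈ 𝔪B, Coalgebra.counit (R := R) x ∈ IsLocalRing.maximalIdeal R := by
    intro x hx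
    rw [h𝔪B] at hx
    have hle : Ideal.map (algebraMap R (A ⧸ J)) (IsLocalRing.maximalIdeal R) ≤
        Ideal.comap (Bialgebra.counitAlgHom R (A ⧸ J)) (IsLocalRing.maximalIdeal R) := by
      rw [Ideal.map_le_iff_le_comap]
      intro t ht
      rw [Ideal.mem_comap, Ideal.mem_comap, AlgHom.commutes]
      exact ht
    have h9 : (Bialgebra.counitAlgHom R (A ⧸ J)) x ∈ IsLocalRing.maximalIdeal R :=
      Ideal.mem_comap.1 (hle hx)
    exact h9
  have hu : IsUnit (Coalgebra.counit (R := R) r) := by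
    by_contra hnu
    have h1 : Coalgebra.counit (R := R) r ∈ IsLocalRing.maximalIdeal R :=
      (IsLocalRing.mem_maximalIdeal _).2 hnu
    have h2 := hεm _ hr1
    rw [map_sub, Bialgebra.counit_one] at h2
    have h3 : (1 : R) ∈ IsLocalRing.maximalIdeal R := by
      have h4 := Ideal.sub_mem _ h1 h2
      rwa [sub_sub_cancel] at h4
    exact (IsLocalRing.maximalIdeal.isMaximal R).ne_top ((Ideal.eq_top_iff_one _).2 h3)
  obtain ⟨u, hu'⟩ := hu
  obtain ⟨e, he⟩ : ∃ e : A ⧸ J, e = 1 - algebraMap R (A ⧸ J) (↑u⁻¹ : R) * r := ⟨_, rfl⟩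
  have heI : e ∈ IB := by
    rw [hIBmem, he, map_sub, Bialgebra.counit_one, Bialgebra.counit_mul,
      Bialgebra.counit_algebraMap, ← hu', Units.inv_mul, sub_self]
  have heb : ∀ b ∈ IB, e * b = b := by
    intro b hb
    have h1 := hr0 b hb
    rw [smul_eq_mul] at h1
    rw [he, sub_mul, one_mul, mul_assoc, h1, mul_zero, sub_zero]
  suffices he0 : e = 0 by
    intro b hb
    rw [← heb b ((hIBmem b).2 hb), he0, zero_mul]
  -- step 2
  have hstep2 : ∀ n : ℕ, 0 < n → e ∈ Ideal.map π (torsionIdeal R A n) := by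
    intro n hn
    obtain ⟨Jn, hJn⟩ : ∃ Jn : Ideal (A ⧸ J), Jn = Ideal.map π (torsionIdeal R A n) := ⟨_, rfl⟩
    rw [← hJn]
    have hfinA := Groth.Agent.Helper25.Rig2.finite_quot_torsion R A hft hH n hn
    obtain ⟨g, hg⟩ : ∃ g : (A ⧸ torsionIdeal R A n) →ₐ[R] (A ⧸ J) ⧸ Jn,
        ∀ a, g (Ideal.Quotient.mk _ a) = Ideal.Quotient.mk Jn (π a) := by
      refine ⟨Ideal.Quotient.liftₐ (torsionIdeal R A n)
        ((Ideal.Quotient.mkₐ R Jn).comp (π : A →ₐ[R] A ⧸ J)) ?_, fun a => rfl⟩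
      intro a ha
      show Ideal.Quotient.mk Jn (π a) = 0
      rw [Ideal.Quotient.eq_zero_iff_mem, hJn]
      exact Ideal.mem_map_of_mem _ ha
    have hgs : Function.Surjective g := by
      intro y
      obtain ⟨b, rfl⟩ := Ideal.Quotient.mk_surjective y
      obtain ⟨a, rfl⟩ := hπ b
      exact ⟨Ideal.Quotient.mk _ a, hg a⟩
    have hfinB : Module.Finite R ((A ⧸ J) ⧸ Jn) := Module.Finite.of_surjective g.toLinearMap hgs
    have hsm : ∀ t : R, t • (1 : (A ⧸ J) ⧸ Jn) =
        Ideal.Quotient.mk Jn (algebraMap R (A ⧸ J) t) := by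
      intro t
      have h0 : Ideal.Quotient.mk Jn (algebraMap R (A ⧸ J) t) =
          algebraMap R ((A ⧸ J) ⧸ Jn) t := rfl
      rw [h0, Algebra.algebraMap_eq_smul_one]
    have htop : (⊤ : Submodule R ((A ⧸ J) ⧸ Jn)) ≤ Submodule.span R {1} := by
      apply Submodule.le_of_le_smul_of_le_jacobson_bot (I := IsLocalRing.maximalIdeal R)
        hfinB.fg_top
      · rw [IsLocalRing.jacobson_eq_maximalIdeal ⊥ bot_ne_top]
      · intro y _
        obtain ⟨b, rfl⟩ := Ideal.Quotient.mk_surjective y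
        have h1 : b - algebraMap R (A ⧸ J) (Coalgebra.counit (R := R) b) ∈ 𝔪B :=
          hIBle ((hIBmem _).2 (by rw [map_sub, Bialgebra.counit_algebraMap, sub_self]))
        have h2 : Ideal.Quotient.mk Jn b =
            (Coalgebra.counit (R := R) b) • (1 : (A ⧸ J) ⧸ Jn) +
            (Ideal.Quotient.mkₐ R Jn).toLinearMap
              (b - algebraMap R (A ⧸ J) (Coalgebra.counit (R := R) b)) := by
          rw [hsm]
          show Ideal.Quotient.mk Jn b = Ideal.Quotient.mk Jn (algebraMap R (A ⧸ J) _) +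
            Ideal.Quotient.mk Jn (b - algebraMap R (A ⧸ J) (Coalgebra.counit (R := R) b))
          rw [← map_add]
          congr 1
          ring
        rw [h2]
        apply Submodule.add_mem_sup
        · exact Submodule.smul_mem _ _ (Submodule.subset_span rfl)
        · exact map_mem_smulTop (IsLocalRing.maximalIdeal R) _ (hsmul_of_mem _ h1)
    have h1 : Ideal.Quotient.mk Jn e ∈ Submodule.span R {(1 : (A ⧸ J) ⧸ Jn)} := htop trivial
    obtain ⟨t, ht⟩ := Submodule.mem_span_singleton.1 h1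
    have h2 : e - algebraMap R (A ⧸ J) t ∈ Jn := by
      rw [← Ideal.Quotient.eq, ← ht, hsm]
    have hεJ : ∀ x ∈ Jn, Coalgebra.counit (R := R) x = 0 := by
      intro x hx
      rw [hJn] at hx
      have hle : Ideal.map π (torsionIdeal R A n) ≤
          RingHom.ker (Bialgebra.counitAlgHom R (A ⧸ J)) := by
        rw [Ideal.map_le_iff_le_comap]
        intro a ha
        rw [Ideal.mem_comap, RingHom.mem_ker]
        show Coalgebra.counit (R := R) (π a) = 0
        rw [hεπ]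
        have h8 : (Bialgebra.counitAlgHom R A) a = 0 :=
          RingHom.mem_ker.1 (torsionIdeal_le_ker R A n ha)
        exact h8
      have h9 : (Bialgebra.counitAlgHom R (A ⧸ J)) x = 0 := RingHom.mem_ker.1 (hle hx)
      exact h9
    have h3 := hεJ _ h2
    rw [map_sub, (hIBmem e).1 heI, Bialgebra.counit_algebraMap, zero_sub, neg_eq_zero] at h3
    rw [h3, map_zero, sub_zero] at h2
    exact h2
  -- step 3
  by_contra hne
  obtain ⟨W, _, _, _, hff, hmax, M, _, ⟨E⟩⟩ := Groth.Agent.Helper25.Rig1.exists_local_diag R A hH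
  have := hff
  have heW : (1 : W) ⊗ₜ[R] e ≠ (0 : W ⊗[R] (A ⧸ J)) := by
    intro h0
    apply hne
    exact Module.FaithfullyFlat.tensorProduct_mk_injective (A := R) (B := W) (A ⧸ J)
      (by rw [TensorProduct.mk_apply, h0, map_zero])
  have hee : e * e = e := heb e heI
  have hidem : ((1 : W) ⊗ₜ[R] e) * ((1 : W) ⊗ₜ[R] e) = (1 : W) ⊗ₜ[R] e := by
    rw [Algebra.TensorProduct.tmul_mul_tmul, one_mul, hee]
  obtain ⟨κ, _, _, _, _, g₀, hg₀⟩ := exists_field_point R W (W ⊗[R] (A ⧸ J))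
    ((1 : W) ⊗ₜ[R] e) hidem heW
  have hdiagκ : IsDiag κ (κ ⊗[R] (A ⧸ J)) :=
    Groth.Agent.Helper6.MT.isDiag_of_equiv_of_surjective (F := R) (R' := W) (K := κ) E π hπ
  have htors : ∀ n : ℕ, 0 < n → ((1 : κ) ⊗ₜ[R] e) ∈ torsionIdeal κ (κ ⊗[R] (A ⧸ J)) n := by
    intro n hn
    have hle : Ideal.map π (torsionIdeal R A n) ≤
        Ideal.comap (Algebra.TensorProduct.includeRight : (A ⧸ J) →ₐ[R] κ ⊗[R] (A ⧸ J))
          (torsionIdeal κ (κ ⊗[R] (A ⧸ J)) n) := by
      rw [Ideal.map_le_iff_le_comap]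
      intro a ha
      rw [Ideal.mem_comap, Ideal.mem_comap, Algebra.TensorProduct.includeRight_apply]
      exact mem_torsionIdeal_baseChange R (A ⧸ J) κ n _ (mem_torsionIdeal_bialgHom π n a ha)
    have h1 := hle (hstep2 n hn)
    rwa [Ideal.mem_comap, Algebra.TensorProduct.includeRight_apply] at h1
  have hftB : Algebra.FiniteType R (A ⧸ J) := inferInstance
  have hftκ : Algebra.FiniteType κ (κ ⊗[R] (A ⧸ J)) := inferInstance
  obtain ⟨j, hj⟩ := key_diag κ (κ ⊗[R] (A ⧸ J)) hftκ hdiagκ 1 ((1 : κ) ⊗ₜ[R] e)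
    (fun n hn => ⟨0, by rw [pow_zero, one_mul]; exact htors n hn⟩)
  rw [one_pow, one_mul] at hj
  obtain ⟨g, hg⟩ : ∃ g : (A ⧸ J) →ₐ[R] κ, ∀ b, g b = g₀ ((1 : W) ⊗ₜ[R] b) :=
    ⟨g₀.comp Algebra.TensorProduct.includeRight, fun b => rfl⟩
  have h1 := congrArg (Algebra.TensorProduct.productMap (AlgHom.id R κ) g) hj
  rw [Algebra.TensorProduct.productMap_apply_tmul, map_zero, AlgHom.id_apply, one_mul, hg,
    hg₀] at h1
  exact one_ne_zero h1

end Main

end Groth.Agent.Helper25.Rig3
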