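import Mathlib
import Groth.Prelude.Def_SGA3b
import Groth.Agent.Lib.Helper25.Rig3
import Groth.Agent.Lib.Helper25.KerFP1

/-!
# Helper25: translations by points of a commutative affine group, in the convolution monoid

Composition with algebra maps as monoid homomorphisms of convolution monoids, right translations
`rho t` by points `t : D → K`, and their effect on the ideals of the kernels of the power maps.
-/

set_option autoImplicit false
universe u

namespace Groth.Agent.Helper25.OpenMT1

open TensorProduct SGA3b

section Conv

variable {K : Type u} [CommRing K] {D : Type u} [CommRing D] [Bialgebra K D]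
  {A B : Type u} [CommRing A] [Algebra K A] [CommRing B] [Algebra K B]

/-- composition on the left with an algebra map, as a homomorphism of convolution monoids. -/
noncomputable def compLeft (h : A →ₐ[K] B) :
    WithConv (D →ₐ[K] A) →* WithConv (D →ₐ[K] B) where
  toFun f := WithConv.toConv (h.comp f.ofConv)
  map_one' := by
    apply WithConv.ofConv_injective
    apply AlgHom.ext
    intro c
    show h (algebraMap K A (Coalgebra.counit (R := K) c)) =
      algebraMap K B (Coalgebra.counit (R := K) c)
    exact AlgHom.commutes h _
  map_mul' f g := by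
    apply WithConv.ofConv_injective
    exact AlgHom.comp_convMul_distrib h f g

theorem compLeft_ofConv (h : A →ₐ[K] B) (f : WithConv (D →ₐ[K] A)) :
    (compLeft h f).ofConv = h.comp f.ofConv := rfl

/-- composition on the right with a bialgebra map, as a homomorphism of convolution monoids. -/
noncomputable def compRight {D' : Type u} [CommRing D'] [Bialgebra K D'] (p : D →ₐc[K] D') :
    WithConv (D' →ₐ[K] A) →* WithConv (D →ₐ[K] A) where
  toFun f := WithConv.toConv (f.ofConv.comp (p : D →ₐ[K] D'))
  map_one' := by
    apply WithConv.ofConv_injective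
    apply AlgHom.ext
    intro c
    show algebraMap K A (Coalgebra.counit (R := K) (p c)) =
      algebraMap K A (Coalgebra.counit (R := K) c)
    rw [CoalgHomClass.counit_comp_apply]
  map_mul' f g := by
    apply WithConv.ofConv_injective
    exact AlgHom.convMul_comp_bialgHom_distrib f g p

theorem compRight_ofConv {D' : Type u} [CommRing D'] [Bialgebra K D'] (p : D →ₐc[K] D')
    (f : WithConv (D' →ₐ[K] A)) (d : D) : (compRight p f).ofConv d = f.ofConv (p d) := rfl

end Conv

section Rho

variable {K : Type u} [CommRing K] {D : Type u} [CommRing D] [HopfAlgebra K D]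

/-- the identity, in the convolution monoid. -/
noncomputable def idc : WithConv (D →ₐ[K] D) := WithConv.toConv (AlgHom.id K D)

/-- constant families: `t ↦ η ∘ t`. -/
noncomputable def iota : WithConv (D →ₐ[K] K) →* WithConv (D →ₐ[K] D) :=
  compLeft (Algebra.ofId K D)

/-- right translation by the point `t`. -/
noncomputable def rho (t : WithConv (D →ₐ[K] K)) : D →ₐ[K] D := (idc * iota t).ofConv

theorem powConv_eq (n : ℕ) : powConv K D n = (idc (K := K) (D := D) ^ n).ofConv := rfl

theorem rho_one : rho (1 : WithConv (D →ₐ[K] K)) = AlgHom.id K D := by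
  unfold rho
  rw [map_one, mul_one]
  rfl

theorem compLeft_iota {B : Type u} [CommRing B] [Algebra K B] (y : D →ₐ[K] B)
    (t : WithConv (D →ₐ[K] K)) :
    compLeft y (iota t) = compLeft (Algebra.ofId K B) t := by
  apply WithConv.ofConv_injective
  apply AlgHom.ext
  intro c
  show y (algebraMap K D (t.ofConv c)) = algebraMap K B (t.ofConv c)
  exact AlgHom.commutes y _

theorem compLeft_ofId_self (t : WithConv (D →ₐ[K] K)) :
    compLeft (Algebra.ofId K K) t = t := by
  apply WithConv.ofConv_injective
  apply AlgHom.ext
  intro c
  rfl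

theorem comp_rho (y : D →ₐ[K] K) (t : WithConv (D →ₐ[K] K)) :
    WithConv.toConv (y.comp (rho t)) = WithConv.toConv y * t := by
  have h1 : WithConv.toConv (y.comp (rho t)) = compLeft y (idc * iota t) := rfl
  have h2 : compLeft y (idc (K := K) (D := D)) = WithConv.toConv y := rfl
  rw [h1, map_mul, h2, compLeft_iota, compLeft_ofId_self]

theorem rho_comp_rho (t t' : WithConv (D →ₐ[K] K)) :
    (rho t').comp (rho t) = rho (t' * t) := by
  apply WithConv.toConv_injective
  have h1 : WithConv.toConv ((rho t').comp (rho t)) = compLeft (rho t') (idc * iota t) := rfl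
  have h2 : compLeft (rho t') (idc (K := K) (D := D)) = idc * iota t' := rfl
  have h3 : compLeft (rho t') (iota t) = iota t := compLeft_iota (rho t') t
  rw [h1, map_mul, h2, h3, mul_assoc, ← map_mul]
  rfl

variable [Coalgebra.IsCocomm K D]

theorem rho_comp_powConv (t : WithConv (D →ₐ[K] K)) (m : ℕ) (ht : t ^ m = 1) :
    (rho t).comp (powConv K D m) = powConv K D m := by
  apply WithConv.toConv_injective
  have h1 : WithConv.toConv ((rho t).comp (powConv K D m)) =
      compLeft (rho t) (idc (K := K) (D := D) ^ m) := rfl
  have h2 : compLeft (rho t) (idc (K := K) (D := D)) = idc * iota t := rfl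
  rw [h1, map_pow, h2, mul_pow, ← map_pow, ht, map_one, mul_one]
  rfl

theorem rho_mem_torsionIdeal (t : WithConv (D →ₐ[K] K)) (m : ℕ) (ht : t ^ m = 1) {x : D}
    (hx : x ∈ torsionIdeal K D m) : rho t x ∈ torsionIdeal K D m := by
  have hle : torsionIdeal K D m ≤ Ideal.comap (rho t) (torsionIdeal K D m) := by
    unfold torsionIdeal
    rw [Ideal.map_le_iff_le_comap]
    intro c hc
    rw [Ideal.mem_comap, Ideal.mem_comap]
    have h1 : rho t (powConv K D m c) = powConv K D m c :=
      congrArg (fun F : D →ₐ[K] D => F c) (rho_comp_powConv t m ht)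
    rw [h1]
    exact Ideal.mem_map_of_mem _ hc
  exact hle hx

omit [Coalgebra.IsCocomm K D] in
theorem powConv_mul (n n' : ℕ) :
    powConv K D (n * n') = (powConv K D n).comp (powConv K D n') := by
  apply WithConv.toConv_injective
  have h1 : WithConv.toConv ((powConv K D n).comp (powConv K D n')) =
      compLeft (powConv K D n) (idc (K := K) (D := D) ^ n') := rfl
  have h2 : compLeft (powConv K D n) (idc (K := K) (D := D)) = idc ^ n := rfl
  rw [h1, map_pow, h2, ← pow_mul]
  rfl

omit [Coalgebra.IsCocomm K D] in
theorem torsionIdeal_mul_le (n n' : ℕ) : torsionIdeal K D (n * n') ≤ torsionIdeal K D n := by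
  unfold torsionIdeal
  rw [Ideal.map_le_iff_le_comap]
  intro c hc
  rw [Ideal.mem_comap, powConv_mul]
  show powConv K D n (powConv K D n' c) ∈ _
  apply Ideal.mem_map_of_mem
  have h1 : powConv K D n' c ∈ torsionIdeal K D n' := Ideal.mem_map_of_mem _ hc
  exact Groth.Agent.Helper25.Rig3.torsionIdeal_le_ker K D n' h1

end Rho

end Groth.Agent.Helper25.OpenMT1
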