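import Mathlib

/-!
# Helper25: roots of characters of a finitely generated commutative group, up to torsion

For an algebraically closed field `K`, a finitely generated commutative group `M`, a character
`χ₀ : M → Kˣ` and `r > 0` there are `N' > 0` and a character `χ` with `χ ^ (r N') = χ₀ ^ N'`.
-/

set_option autoImplicit false
universe u

namespace Groth.Agent.Helper25.OpenMT2

section Roots

variable {K : Type u} [Field K] [IsAlgClosed K]

theorem units_zpow_surjective (n : ℤ) (hn : n ≠ 0) (b : Kˣ) : ∃ a : Kˣ, a ^ n = b := by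
  have hm : 0 < n.natAbs := Int.natAbs_pos.2 hn
  obtain ⟨z, hz⟩ := IsAlgClosed.exists_pow_nat_eq (b : K) hm
  have hz0 : z ≠ 0 := by
    intro h0
    rw [h0, zero_pow hm.ne'] at hz
    exact b.ne_zero hz.symm
  have ha₀ : (Units.mk0 z hz0) ^ n.natAbs = b := by
    apply Units.ext
    rw [Units.val_pow_eq_pow_val, Units.val_mk0, hz]
  rcases Int.natAbs_eq n with h | h
  · refine ⟨Units.mk0 z hz0, ?_⟩
    rw [h, zpow_natCast, ha₀]
  · refine ⟨(Units.mk0 z hz0)⁻¹, ?_⟩
    rw [h, zpow_neg, inv_zpow, inv_inv, zpow_natCast, ha₀]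

/-- `Kˣ` is a divisible group. -/
noncomputable def divUnits : DivisibleBy (Additive Kˣ) ℤ :=
  divisibleByOfSMulRightSurj (Additive Kˣ) ℤ (fun {n} hn b => by
    obtain ⟨a, ha⟩ := units_zpow_surjective n hn (Additive.toMul b)
    refine ⟨Additive.ofMul a, ?_⟩
    show n • Additive.ofMul a = b
    rw [← ofMul_zpow, ha]
    rfl)

theorem baer_units : Module.Baer ℤ (Additive Kˣ) :=
  letI := divUnits (K := K)
  Module.Baer.of_divisible (Additive Kˣ)

/-- extension of characters along a homomorphism, given the compatibility of kernels. -/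
theorem exists_char_ext {M : Type u} [CommGroup M] (ψ : M →* M) (ω : M →* Kˣ)
    (hker : ∀ m, ψ m = 1 → ω m = 1) : ∃ χ : M →* Kˣ, ∀ m, χ (ψ m) = ω m := by
  obtain ⟨f, hf⟩ : ∃ f : Additive M →+ Additive M, f = MonoidHom.toAdditive ψ := ⟨_, rfl⟩
  obtain ⟨g, hg⟩ : ∃ g : Additive M →+ Additive Kˣ, g = MonoidHom.toAdditive ω := ⟨_, rfl⟩
  have hle : f.ker ≤ g.ker := by
    intro x hx
    rw [AddMonoidHom.mem_ker] at hx ⊢
    rw [hf] at hx
    rw [hg]
    have h1 : ψ (Additive.toMul x) = 1 := hx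
    exact congrArg Additive.ofMul (hker _ h1)
  obtain ⟨h, hh⟩ := Module.Baer.extension_property_addMonoidHom (baer_units (K := K))
    (QuotientAddGroup.kerLift f) (QuotientAddGroup.kerLift_injective f)
    (QuotientAddGroup.lift f.ker g hle)
  refine ⟨MonoidHom.toAdditive.symm h, fun m => ?_⟩
  have h1 := DFunLike.congr_fun hh (QuotientAddGroup.mk (Additive.ofMul m))
  rw [AddMonoidHom.comp_apply, QuotientAddGroup.kerLift_mk, QuotientAddGroup.lift_mk] at h1
  rw [hf, hg] at h1
  exact congrArg Additive.toMul h1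

end Roots

section Exponent

theorem exists_torsion_exponent (M : Type u) [CommGroup M] [Group.FG M] :
    ∃ N' : ℕ, 0 < N' ∧ ∀ (m : M) (n : ℕ), 0 < n → m ^ n = 1 → m ^ N' = 1 := by
  classical
  obtain ⟨ι, j, _, _, p, hp, e, ⟨φ⟩⟩ := CommGroup.equiv_free_prod_prod_multiplicative_zmod M
  have hne : ∀ i, NeZero (p i ^ e i) := fun i => ⟨pow_ne_zero _ (hp i).ne_zero⟩
  refine ⟨Fintype.card ((i : ι) → Multiplicative (ZMod (p i ^ e i))), Fintype.card_pos, ?_⟩
  intro m n hn hm
  apply φ.injective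
  rw [map_pow, map_one]
  have h1 : (φ m) ^ n = 1 := by rw [← map_pow, hm, map_one]
  have h2 : (φ m).1 = 1 := by
    funext i
    have h3 : ((φ m).1 i) ^ n = 1 := by
      have := congrArg (fun v => v.1 i) h1
      exact this
    have h4 : n • Multiplicative.toAdd ((φ m).1 i) = 0 := by
      have := congrArg Multiplicative.toAdd h3
      rwa [toAdd_pow] at this
    have h5 : Multiplicative.toAdd ((φ m).1 i) = 0 := by
      rcases smul_eq_zero.1 h4 with h | h
      · exact absurd h hn.ne'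
      · exact h
    exact congrArg Multiplicative.ofAdd h5
  apply Prod.ext
  · rw [Prod.pow_fst, h2, one_pow]
    rfl
  · rw [Prod.pow_snd]
    exact pow_card_eq_one

end Exponent

section Main

variable {K : Type u} [Field K] [IsAlgClosed K]

theorem exists_root_char {M : Type u} [CommGroup M] [Group.FG M] (χ₀ : M →* Kˣ) (r : ℕ)
    (hr : 0 < r) :
    ∃ (N' : ℕ) (χ : M →* Kˣ), 0 < N' ∧ ∀ m, χ m ^ (r * N') = χ₀ m ^ N' := by
  obtain ⟨N', hN', hexp⟩ := exists_torsion_exponent M
  obtain ⟨χ, hχ⟩ := exists_char_ext (K := K) (powMonoidHom (r * N') : M →* M)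
    ((powMonoidHom N' : Kˣ →* Kˣ).comp χ₀) (by
      intro m hm
      have h1 : m ^ (r * N') = 1 := hm
      have h2 : m ^ N' = 1 := hexp m (r * N') (Nat.mul_pos hr hN') h1
      show χ₀ m ^ N' = 1
      rw [← map_pow, h2, map_one])
  refine ⟨N', χ, hN', fun m => ?_⟩
  have h1 := hχ m
  have h2 : χ (m ^ (r * N')) = χ₀ m ^ N' := h1
  rw [← map_pow]
  exact h2

end Main

end Groth.Agent.Helper25.OpenMT2
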