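import Mathlib
import Groth.Prelude.Def_SGA3b
import Groth.Agent.Lib.Helper25.OpenMT1
import Groth.Agent.Lib.Helper25.OpenMT2
import Groth.Agent.Lib.Helper25.Dens3
import Groth.Agent.Lib.Helper25.Rig3
import Groth.Agent.Lib.Helper25.KerMT3

/-!
# Helper25: density of the torsion subgroups in a commutative group of finite type over a field
which has an open subgroup of multiplicative type

The group of points over an algebraically closed field of such a group `H ⊇ G` is the product of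
`G` and of the torsion points, and right translations by torsion points preserve the ideals of
the kernels of the power maps; the statement is so brought back to `G` (diagonalisable case).
-/

set_option autoImplicit false
universe u

namespace Groth.Agent.Helper25.OpenMT3

open TensorProduct SGA3b Groth.Agent.Helper25.OpenMT1

section Points

variable {K : Type u} [Field K] [IsAlgClosed K] {D : Type u} [CommRing D] [Algebra K D]

/-- Nullstellensatz: a maximal ideal of an algebra of finite type over an algebraically closed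
field is the kernel of a rational point. -/
theorem exists_point_of_maximal (hft : Algebra.FiniteType K D) (𝔫 : Ideal D)
    (h𝔫 : 𝔫.IsMaximal) : ∃ x : D →ₐ[K] K, ∀ d, x d = 0 ↔ d ∈ 𝔫 := by
  letI : Field (D ⧸ 𝔫) := Ideal.Quotient.field 𝔫
  have := hft
  have hft' : Algebra.FiniteType K (D ⧸ 𝔫) :=
    Algebra.FiniteType.of_surjective (Ideal.Quotient.mkₐ K 𝔫) (Ideal.Quotient.mkₐ_surjective K 𝔫)
  have hfin : Module.Finite K (D ⧸ 𝔫) := finite_of_finite_type_of_isJacobsonRing K (D ⧸ 𝔫)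
  have hint : Algebra.IsIntegral K (D ⧸ 𝔫) := Algebra.IsIntegral.of_finite K (D ⧸ 𝔫)
  have hbij : Function.Bijective (algebraMap K (D ⧸ 𝔫)) :=
    IsAlgClosed.algebraMap_bijective_of_isIntegral
  obtain ⟨E, -⟩ : ∃ E : K ≃ₐ[K] (D ⧸ 𝔫), True :=
    ⟨AlgEquiv.ofBijective (Algebra.ofId K (D ⧸ 𝔫)) hbij, trivial⟩
  refine ⟨(E.symm : (D ⧸ 𝔫) →ₐ[K] K).comp (Ideal.Quotient.mkₐ K 𝔫), fun d => ?_⟩
  constructor
  · intro h
    have h1 : E.symm (Ideal.Quotient.mk 𝔫 d) = 0 := h
    have h2 : Ideal.Quotient.mk 𝔫 d = 0 := by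
      have h3 := congrArg E h1
      rwa [AlgEquiv.apply_symm_apply, map_zero] at h3
    exact Ideal.Quotient.eq_zero_iff_mem.1 h2
  · intro h
    have h2 : Ideal.Quotient.mk 𝔫 d = 0 := Ideal.Quotient.eq_zero_iff_mem.2 h
    show E.symm (Ideal.Quotient.mk 𝔫 d) = 0
    rw [h2, map_zero]

end Points

section ConvLemmas

variable {K : Type u} [CommRing K] {D : Type u} [CommRing D] [Bialgebra K D]
  {A : Type u} [CommRing A] [Algebra K A]

theorem convMul_apply_sum (f g : WithConv (D →ₐ[K] A)) (c : D) (S : Finset (D × D))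
    (hS : Coalgebra.comul (R := K) c = ∑ p ∈ S, p.1 ⊗ₜ[K] p.2) :
    (f * g).ofConv c = ∑ p ∈ S, f.ofConv p.1 * g.ofConv p.2 := by
  show Algebra.TensorProduct.lmul' K (Algebra.TensorProduct.map f.ofConv g.ofConv
    (Coalgebra.comul (R := K) c)) = _
  rw [hS, map_sum, map_sum]
  apply Finset.sum_congr rfl
  intro p _
  rw [Algebra.TensorProduct.map_tmul, Algebra.TensorProduct.lmul'_apply_tmul]

end ConvLemmas

section RhoSum

variable {K : Type u} [CommRing K] {D : Type u} [CommRing D] [HopfAlgebra K D]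

theorem rho_apply_sum (t : WithConv (D →ₐ[K] K)) (c : D) (S : Finset (D × D))
    (hS : Coalgebra.comul (R := K) c = ∑ p ∈ S, p.1 ⊗ₜ[K] p.2) :
    rho t c = ∑ p ∈ S, t.ofConv p.2 • p.1 := by
  have h1 : rho t c = ∑ p ∈ S, (idc (K := K) (D := D)).ofConv p.1 * (iota t).ofConv p.2 :=
    convMul_apply_sum idc (iota t) c S hS
  rw [h1]
  apply Finset.sum_congr rfl
  intro p _
  show p.1 * algebraMap K D (t.ofConv p.2) = _
  rw [Algebra.smul_def, mul_comm]

end RhoSum

section FiniteIndex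

variable {K : Type u} [Field K] {D : Type u} [CommRing D] [HopfAlgebra K D]

/-- finiteness of the index of an open and closed neighbourhood of the unit section: some positive
power of any point lies in it. -/
theorem exists_pow_ne_zero (φ : D) (hφ : Coalgebra.counit (R := K) φ = 1)
    (x' : WithConv (D →ₐ[K] K)) : ∃ r : ℕ, 0 < r ∧ (x' ^ r).ofConv φ ≠ 0 := by
  classical
  obtain ⟨S, hS⟩ := TensorProduct.exists_finset (Coalgebra.comul (R := K) φ)
  obtain ⟨B, hB⟩ : ∃ B : Finset D, B = S.image Prod.fst := ⟨_, rfl⟩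
  have hmem : ∀ t : WithConv (D →ₐ[K] K), rho t φ ∈ Submodule.span K (B : Set D) := by
    intro t
    rw [rho_apply_sum t φ S hS]
    refine Submodule.sum_mem _ (fun p hp => Submodule.smul_mem _ _ (Submodule.subset_span ?_))
    rw [hB]
    exact Finset.mem_coe.2 (Finset.mem_image_of_mem Prod.fst hp)
  have hrank : Module.finrank K (Submodule.span K (B : Set D)) ≤ B.card :=
    finrank_span_finset_le_card B
  obtain ⟨q, hq⟩ : ∃ q : ℕ, q = B.card := ⟨_, rfl⟩
  obtain ⟨v, hv⟩ : ∃ v : Fin (q + 1) → Submodule.span K (B : Set D),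
      ∀ i, (v i : D) = rho (x' ^ (i : ℕ)) φ :=
    ⟨fun i => ⟨rho (x' ^ (i : ℕ)) φ, hmem _⟩, fun i => rfl⟩
  have hdep : ¬ LinearIndependent K v := by
    intro hli
    have h1 := hli.fintype_card_le_finrank
    rw [Fintype.card_fin] at h1
    omega
  rw [Fintype.not_linearIndependent_iff] at hdep
  obtain ⟨g, hg0, hgne⟩ := hdep
  have hg1 : ∑ i, g i • rho (x' ^ (i : ℕ)) φ = 0 := by
    have h2 := congrArg (Submodule.subtype (Submodule.span K (B : Set D))) hg0
    rw [map_sum, map_zero] at h2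
    rw [← h2]
    apply Finset.sum_congr rfl
    intro i _
    rw [map_smul, Submodule.subtype_apply, hv]
  have hP : ∃ n : ℕ, ∃ h : n < q + 1, g ⟨n, h⟩ ≠ 0 := by
    obtain ⟨i, hi⟩ := hgne
    exact ⟨i.1, i.2, hi⟩
  obtain ⟨i₀, ⟨hi₀lt, hi₀ne⟩, hmin⟩ : ∃ n : ℕ, (∃ h : n < q + 1, g ⟨n, h⟩ ≠ 0) ∧
      ∀ m < n, ¬ ∃ h : m < q + 1, g ⟨m, h⟩ ≠ 0 :=
    ⟨Nat.find hP, Nat.find_spec hP, fun m hm => Nat.find_min hP hm⟩
  by_contra hcon
  push Not at hcon
  obtain ⟨y, hy⟩ : ∃ y : WithConv (D →ₐ[K] K), y = (x' ^ i₀)⁻¹ := ⟨_, rfl⟩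
  have heval : ∀ i : Fin (q + 1),
      y.ofConv (rho (x' ^ (i : ℕ)) φ) = (y * x' ^ (i : ℕ)).ofConv φ := by
    intro i
    have h3 := comp_rho y.ofConv (x' ^ (i : ℕ))
    have h4 := congrArg (fun f : WithConv (D →ₐ[K] K) => f.ofConv φ) h3
    exact h4
  have h5 := congrArg y.ofConv hg1
  rw [map_sum, map_zero] at h5
  have h6 : ∑ i : Fin (q + 1), y.ofConv (g i • rho (x' ^ (i : ℕ)) φ) = g ⟨i₀, hi₀lt⟩ := by
    rw [Finset.sum_eq_single (⟨i₀, hi₀lt⟩ : Fin (q + 1))]
    · rw [map_smul, heval, hy]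
      show g ⟨i₀, hi₀lt⟩ • ((x' ^ i₀)⁻¹ * x' ^ i₀).ofConv φ = _
      rw [inv_mul_cancel]
      show g ⟨i₀, hi₀lt⟩ • algebraMap K K (Coalgebra.counit (R := K) φ) = _
      rw [hφ, map_one, smul_eq_mul, mul_one]
    · intro i _ hne
      rw [map_smul, heval]
      have hne' : (i : ℕ) ≠ i₀ := fun h => hne (Fin.ext h)
      rcases lt_or_gt_of_ne hne' with hlt | hgt
      · have h7 : g i = 0 := by
          by_contra h8
          exact hmin i.1 hlt ⟨i.2, h8⟩
        rw [h7, zero_smul]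
      · obtain ⟨j, hj⟩ := Nat.exists_eq_add_of_lt hgt
        have h7 : y * x' ^ (i : ℕ) = x' ^ (j + 1) := by
          rw [hy, hj, add_assoc, pow_add, inv_mul_cancel_left]
        rw [h7, hcon (j + 1) (Nat.succ_pos j), smul_zero]
    · intro hnot
      exact absurd (Finset.mem_univ _) hnot
  rw [h6] at h5
  exact hi₀ne h5

end FiniteIndex

section Characters

variable {K : Type u} [CommRing K] {M : Type u} [CommGroup M]

theorem algHom_ext_single {B : Type u} [CommRing B] [Algebra K B]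
    (φ₁ φ₂ : MonoidAlgebra K M →ₐ[K] B)
    (h : ∀ m, φ₁ (MonoidAlgebra.single m 1) = φ₂ (MonoidAlgebra.single m 1)) : φ₁ = φ₂ := by
  apply (MonoidAlgebra.lift K B M).symm.injective
  apply MonoidHom.ext
  intro m
  exact h m

theorem convMul_single (f g : WithConv (MonoidAlgebra K M →ₐ[K] K)) (m : M) :
    (f * g).ofConv (MonoidAlgebra.single m 1) =
      f.ofConv (MonoidAlgebra.single m 1) * g.ofConv (MonoidAlgebra.single m 1) := by
  show Algebra.TensorProduct.lmul' K (Algebra.TensorProduct.map f.ofConv g.ofConv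
    (Coalgebra.comul (R := K) (MonoidAlgebra.single m (1 : K)))) = _
  rw [(MonoidAlgebra.isGroupLikeElem_single_one (R := K) (A := K) m).comul_eq_tmul_self,
    Algebra.TensorProduct.map_tmul, Algebra.TensorProduct.lmul'_apply_tmul]

theorem convPow_single (f : WithConv (MonoidAlgebra K M →ₐ[K] K)) (n : ℕ) (m : M) :
    (f ^ n).ofConv (MonoidAlgebra.single m 1) = (f.ofConv (MonoidAlgebra.single m 1)) ^ n := by
  induction n with
  | zero =>
    rw [pow_zero, pow_zero]
    show algebraMap K K (Coalgebra.counit (R := K) (MonoidAlgebra.single m (1 : K))) = 1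
    rw [(MonoidAlgebra.isGroupLikeElem_single_one (R := K) (A := K) m).counit_eq_one, map_one]
  | succ n ih =>
    rw [pow_succ, pow_succ, convMul_single, ih]

end Characters

section Root

variable {K : Type u} [Field K] [IsAlgClosed K] {D : Type u} [CommRing D] [HopfAlgebra K D]
  {M : Type u} [CommGroup M]

/-- roots, up to torsion, of points of `G` in the group of points of `G`. -/
theorem exists_root (hfg : Group.FG M) (π : D →ₐc[K] MonoidAlgebra K M)
    (hπ : Function.Surjective π) (y : D →ₐ[K] K) (hy : ∀ d, π d = 0 → y d = 0) (r : ℕ)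
    (hr : 0 < r) :
    ∃ (N' : ℕ) (g₀ : WithConv (MonoidAlgebra K M →ₐ[K] K)), 0 < N' ∧
      (compRight π g₀) ^ (r * N') = (WithConv.toConv y) ^ N' := by
  have := hfg
  obtain ⟨γ₀, hγ₀⟩ : ∃ γ₀ : MonoidAlgebra K M →ₐ[K] K, ∀ d, γ₀ (π d) = y d := by
    refine ⟨AlgHom.liftOfSurjective (π : D →ₐ[K] MonoidAlgebra K M) hπ y ?_, fun d => ?_⟩
    · intro d hd
      rw [RingHom.mem_ker] at hd ⊢
      exact hy d hd
    · exact AlgHom.liftOfSurjective_apply (π : D →ₐ[K] MonoidAlgebra K M) hπ y _ d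
  obtain ⟨χ₀, hχ₀⟩ : ∃ χ₀ : M →* Kˣ, ∀ m, (χ₀ m : K) = γ₀ (MonoidAlgebra.single m 1) :=
    ⟨((MonoidAlgebra.lift K K M).symm γ₀).toHomUnits, fun m => rfl⟩
  obtain ⟨N', χ, hN', hχ⟩ := Groth.Agent.Helper25.OpenMT2.exists_root_char χ₀ r hr
  obtain ⟨g₀, hg₀⟩ : ∃ g₀ : WithConv (MonoidAlgebra K M →ₐ[K] K),
      ∀ m, g₀.ofConv (MonoidAlgebra.single m 1) = (χ m : K) := by
    refine ⟨WithConv.toConv (MonoidAlgebra.lift K K M ((Units.coeHom K).comp χ)), fun m => ?_⟩
    show MonoidAlgebra.lift K K M ((Units.coeHom K).comp χ) (MonoidAlgebra.single m 1) = _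
    rw [MonoidAlgebra.lift_single, one_smul]
    rfl
  have hpow : g₀ ^ (r * N') = (WithConv.toConv γ₀) ^ N' := by
    apply WithConv.ofConv_injective
    apply algHom_ext_single
    intro m
    rw [convPow_single, convPow_single, hg₀]
    show ((χ m : K)) ^ (r * N') = (γ₀ (MonoidAlgebra.single m 1)) ^ N'
    rw [← hχ₀, ← Units.val_pow_eq_pow_val, ← Units.val_pow_eq_pow_val, hχ m]
  refine ⟨N', g₀, hN', ?_⟩
  rw [← map_pow, hpow, map_pow]
  congr 1
  apply WithConv.ofConv_injective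
  apply AlgHom.ext
  intro d
  exact hγ₀ d

end Root

section Ann

variable {D : Type u} [CommRing D]

/-- the annihilator of an element. -/
def annIdeal (z : D) : Ideal D where
  carrier := {d | d * z = 0}
  add_mem' := by
    intro a b ha hb
    have ha' : a * z = 0 := ha
    have hb' : b * z = 0 := hb
    show (a + b) * z = 0
    rw [add_mul, ha', hb', add_zero]
  zero_mem' := zero_mul z
  smul_mem' := by
    intro c a ha
    have ha' : a * z = 0 := ha
    show c • a * z = 0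
    rw [smul_eq_mul, mul_assoc, ha', mul_zero]

theorem mem_annIdeal (z d : D) : d ∈ annIdeal z ↔ d * z = 0 := Iff.rfl

end Ann

section Abstract

variable {K : Type u} [Field K] [IsAlgClosed K] {D : Type u} [CommRing D] [HopfAlgebra K D]
  [Coalgebra.IsCocomm K D] {M : Type u} [CommGroup M]

theorem key_open (hft : Algebra.FiniteType K D) (π : D →ₐc[K] MonoidAlgebra K M)
    (hπ : Function.Surjective π) (ε : D) (hε : IsIdempotentElem ε)
    (hker : ∀ d, π d = 0 ↔ d ∈ Ideal.span {ε}) (α z : D)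
    (hz : ∀ n : ℕ, 0 < n → ∃ j : ℕ, α ^ j * z ∈ torsionIdeal K D n) :
    ∃ j : ℕ, α ^ j * z = 0 := by
  classical
  by_contra hcon
  push Not at hcon
  have hftD := hft
  have hjac : IsJacobsonRing D := isJacobsonRing_of_finiteType (A := K) (B := D)
  have h1 : α ∉ (annIdeal z).jacobson := by
    rw [← Ideal.radical_eq_jacobson]
    rintro ⟨n, hn⟩
    exact hcon n hn
  obtain ⟨𝔫, hle, hmax, hα⟩ : ∃ 𝔫 : Ideal D, annIdeal z ≤ 𝔫 ∧ 𝔫.IsMaximal ∧ α ∉ 𝔫 := by
    by_contra h3
    push Not at h3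
    apply h1
    rw [Ideal.jacobson, Ideal.mem_sInf]
    intro J hJ
    exact h3 J hJ.1 hJ.2
  obtain ⟨x, hx⟩ := exists_point_of_maximal hft 𝔫 hmax
  have hxα : x α ≠ 0 := fun h => hα ((hx α).1 h)
  have hftM : Algebra.FiniteType K (MonoidAlgebra K M) :=
    Algebra.FiniteType.of_surjective (π : D →ₐ[K] MonoidAlgebra K M) hπ
  have hfg : Group.FG M := MonoidAlgebra.finiteType_iff_group_fg.1 hftM
  have hπε : π ε = 0 := (hker ε).2 (Ideal.mem_span_singleton_self ε)
  have hcε : Coalgebra.counit (R := K) ε = 0 := by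
    rw [← CoalgHomClass.counit_comp_apply π ε, hπε, map_zero]
  have hcφ : Coalgebra.counit (R := K) (1 - ε) = 1 := by
    rw [map_sub, hcε, sub_zero, Bialgebra.counit_one]
  obtain ⟨x', hx'⟩ : ∃ x' : WithConv (D →ₐ[K] K), x' = WithConv.toConv x := ⟨_, rfl⟩
  obtain ⟨r, hr, hrne⟩ := exists_pow_ne_zero (1 - ε) hcφ x'
  have hidem : ∀ y : D →ₐ[K] K, y (1 - ε) ≠ 0 → y ε = 0 := by
    intro y hy
    have h4 : y ε * y (1 - ε) = 0 := by
      rw [← map_mul, mul_sub, mul_one, hε.eq, sub_self, map_zero]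
    rcases mul_eq_zero.1 h4 with h | h
    · exact h
    · exact absurd h hy
  have hkill : ∀ y : D →ₐ[K] K, y ε = 0 → ∀ d, π d = 0 → y d = 0 := by
    intro y hy d hd
    obtain ⟨a, rfl⟩ := Ideal.mem_span_singleton'.1 ((hker d).1 hd)
    rw [map_mul, hy, mul_zero]
  obtain ⟨N', g₀, hN', hg₀⟩ :=
    exists_root hfg π hπ (x' ^ r).ofConv (hkill _ (hidem _ hrne)) r hr
  obtain ⟨g, hg⟩ : ∃ g : WithConv (D →ₐ[K] K), g = compRight π g₀ := ⟨_, rfl⟩
  rw [← hg] at hg₀
  have hgN : g ^ (r * N') = x' ^ (r * N') := by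
    rw [hg₀, pow_mul]
  have hgε : g.ofConv ε = 0 := by
    rw [hg]
    show g₀.ofConv (π ε) = 0
    rw [hπε, map_zero]
  have hgφ : g.ofConv (1 - ε) = 1 := by
    rw [map_sub, map_one, hgε, sub_zero]
  obtain ⟨N, hN⟩ : ∃ N : ℕ, N = r * N' := ⟨_, rfl⟩
  have hNpos : 0 < N := by
    rw [hN]
    exact Nat.mul_pos hr hN'
  rw [← hN] at hgN
  obtain ⟨t, ht⟩ : ∃ t : WithConv (D →ₐ[K] K), t = g⁻¹ * x' := ⟨_, rfl⟩
  have htN : t ^ N = 1 := by
    rw [ht, mul_pow, inv_pow, hgN, inv_mul_cancel]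
  have hxt : x' * t⁻¹ = g := by
    rw [ht, mul_inv_rev, inv_inv, mul_inv_cancel_left]
  have hyp : ∀ n : ℕ, 0 < n → ∃ j : ℕ,
      (π (rho t α)) ^ j * π (rho t z) ∈ torsionIdeal K (MonoidAlgebra K M) n := by
    intro n hn
    obtain ⟨j, hj⟩ := hz (n * N) (Nat.mul_pos hn hNpos)
    refine ⟨j, ?_⟩
    have h5 : t ^ (n * N) = 1 := by rw [pow_mul', htN, one_pow]
    have h6 : rho t (α ^ j * z) ∈ torsionIdeal K D (n * N) :=
      rho_mem_torsionIdeal t (n * N) h5 hj
    have h7 : rho t (α ^ j * z) ∈ torsionIdeal K D n := torsionIdeal_mul_le n N h6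
    have h8 := Groth.Agent.Helper25.MultDense.mem_torsionIdeal_bialgHom π n _ h7
    simp only [map_mul, map_pow] at h8
    exact h8
  obtain ⟨j, hj⟩ := Groth.Agent.Helper25.Rig3.key_diag K (MonoidAlgebra K M) hftM
    ⟨M, inferInstance, ⟨BialgEquiv.refl K (MonoidAlgebra K M)⟩⟩ (π (rho t α)) (π (rho t z)) hyp
  obtain ⟨w, hw⟩ : ∃ w : D, w = (rho t α) ^ j * rho t z := ⟨_, rfl⟩
  have hπw : π w = 0 := by
    rw [hw, map_mul, map_pow]
    exact hj
  obtain ⟨a, ha⟩ := Ideal.mem_span_singleton'.1 ((hker w).1 hπw)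
  have h9 : (1 - ε) * w = 0 := by
    rw [← ha, mul_comm a ε, ← mul_assoc, sub_mul, one_mul, hε.eq, sub_self, zero_mul]
  have hback : ∀ d : D, rho t⁻¹ (rho t d) = d := by
    intro d
    have h10 : (rho t⁻¹).comp (rho t) = AlgHom.id K D := by
      rw [rho_comp_rho, inv_mul_cancel, rho_one]
    exact congrArg (fun F : D →ₐ[K] D => F d) h10
  have h11 : (rho t⁻¹ (1 - ε) * α ^ j) * z = 0 := by
    have h12 := congrArg (rho t⁻¹) h9
    rw [hw] at h12
    simp only [map_mul, map_pow, map_zero, hback] at h12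
    rw [mul_assoc]
    exact h12
  have h11' : rho t⁻¹ (1 - ε) * α ^ j ∈ annIdeal z := h11
  have h13 : rho t⁻¹ (1 - ε) * α ^ j ∈ 𝔫 := hle h11'
  have h14 : x (rho t⁻¹ (1 - ε) * α ^ j) = 0 := (hx _).2 h13
  rw [map_mul, map_pow] at h14
  have h15 : x (rho t⁻¹ (1 - ε)) = 1 := by
    have h16 := comp_rho x t⁻¹
    rw [← hx', hxt] at h16
    have h17 := congrArg (fun f : WithConv (D →ₐ[K] K) => f.ofConv (1 - ε)) h16
    exact h17.trans hgφ
  rw [h15, one_mul] at h14
  exact pow_ne_zero j hxα h14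

end Abstract

section Concrete

theorem exists_algClosed_diag {k : Type u} [Field k] {A : Type u} [CommRing A] [HopfAlgebra k A]
    (h : IsMultType k A) :
    ∃ (K : Type u) (_ : Field K) (_ : IsAlgClosed K) (_ : Algebra k K), IsDiag K (K ⊗[k] A) := by
  classical
  obtain ⟨ι, _, _, T, _, _, hff, hd⟩ := Groth.Agent.Helper25.KerMT3.exists_cover_diag h
  have := hff
  obtain ⟨i, hi⟩ :=
    Groth.Agent.Helper25.KerMT1.exists_of_pi_ff T (⊥ : Ideal k) Ideal.bot_isMaximal
  have hnt : Nontrivial (T i) := by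
    by_contra hcon
    rw [not_nontrivial_iff_subsingleton] at hcon
    apply hi
    rw [eq_top_iff]
    intro x _
    have hx0 : x = 0 := Subsingleton.elim _ _
    rw [hx0]
    exact Submodule.zero_mem _
  obtain ⟨𝔫, h𝔫⟩ := Ideal.exists_maximal (T i)
  letI : Field (T i ⧸ 𝔫) := Ideal.Quotient.field 𝔫
  letI alg : Algebra k (AlgebraicClosure (T i ⧸ 𝔫)) :=
    ((algebraMap (T i ⧸ 𝔫) (AlgebraicClosure (T i ⧸ 𝔫))).comp
      (algebraMap k (T i ⧸ 𝔫))).toAlgebra
  let j : T i →ₐ[k] AlgebraicClosure (T i ⧸ 𝔫) :=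
    { toRingHom := (algebraMap (T i ⧸ 𝔫) (AlgebraicClosure (T i ⧸ 𝔫))).comp
        (Ideal.Quotient.mk 𝔫)
      commutes' := fun r => rfl }
  exact ⟨AlgebraicClosure (T i ⧸ 𝔫), inferInstance, inferInstance, alg,
    Groth.Agent.Helper25.NilLift2.diag_via j (hd i)⟩

variable (k : Type u) [Field k] (C : Type u) [CommRing C] [HopfAlgebra k C]
  [Coalgebra.IsCocomm k C]

theorem key5300 (hft : Algebra.FiniteType k C) (e : C) (he : IsIdempotentElem e)
    [(Ideal.span {e}).IsHopfIdeal k] (hG : IsMultType k (C ⧸ Ideal.span {e})) (a y : C)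
    (hy : ∀ n : ℕ, 0 < n → ∃ j : ℕ, a ^ j * y ∈ torsionIdeal k C n) :
    ∃ j : ℕ, a ^ j * y = 0 := by
  classical
  obtain ⟨K, _, _, _, hdiag⟩ := exists_algClosed_diag hG
  obtain ⟨M, _, ⟨E⟩⟩ := hdiag
  obtain ⟨π, hπdef⟩ : ∃ π : K ⊗[k] C →ₐc[K] MonoidAlgebra K M,
      ∀ d, π d = E (Groth.Agent.Helper25.KerMT3.piW (Ideal.span {e}) K d) :=
    ⟨(E : K ⊗[k] (C ⧸ Ideal.span {e}) →ₐc[K] MonoidAlgebra K M).comp
      (Groth.Agent.Helper25.KerMT3.piW (Ideal.span {e}) K), fun d => rfl⟩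
  have hπsurj : Function.Surjective π := by
    intro x
    obtain ⟨d, hd⟩ :=
      Groth.Agent.Helper25.KerMT3.piW_surjective (Ideal.span {e}) K (E.symm x)
    refine ⟨d, ?_⟩
    rw [hπdef, hd]
    exact E.apply_symm_apply x
  obtain ⟨ε, hεdef⟩ : ∃ ε : K ⊗[k] C, ε = (1 : K) ⊗ₜ[k] e := ⟨_, rfl⟩
  have hεidem : IsIdempotentElem ε := by
    show ε * ε = ε
    rw [hεdef, Algebra.TensorProduct.tmul_mul_tmul, one_mul, he.eq]
  have hpiWε : Groth.Agent.Helper25.KerMT3.piW (Ideal.span {e}) K ε = 0 := by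
    rw [hεdef, Groth.Agent.Helper25.KerMT3.piW_tmul]
    have h0 : Ideal.Quotient.mk (Ideal.span {e}) e = 0 :=
      Ideal.Quotient.eq_zero_iff_mem.2 (Ideal.mem_span_singleton_self e)
    rw [h0, TensorProduct.tmul_zero]
  have hker : ∀ d, π d = 0 ↔ d ∈ Ideal.span {ε} := by
    intro d
    constructor
    · intro hd
      rw [hπdef] at hd
      have hd' : Groth.Agent.Helper25.KerMT3.piW (Ideal.span {e}) K d = 0 :=
        (EmbeddingLike.map_eq_zero_iff (f := E)).1 hd
      have h1 : (Ideal.Quotient.mkₐ K (Ideal.span {ε})).toLinearMap d = 0 := by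
        apply Groth.Agent.Helper25.KerMT3.eq_zero_of_lTensor_eq_zero K
          (Ideal.Quotient.mkₐ k (Ideal.span {e})).toLinearMap
          (Ideal.Quotient.mkₐ_surjective k (Ideal.span {e}))
          (Ideal.Quotient.mkₐ K (Ideal.span {ε})).toLinearMap ?_ d ?_
        · intro c hc
          have hc' : c ∈ Ideal.span {e} := Ideal.Quotient.eq_zero_iff_mem.1 hc
          obtain ⟨b, rfl⟩ := Ideal.mem_span_singleton'.1 hc'
          show Ideal.Quotient.mk (Ideal.span {ε}) ((1 : K) ⊗ₜ[k] (b * e)) = 0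
          rw [Ideal.Quotient.eq_zero_iff_mem]
          have h2 : (1 : K) ⊗ₜ[k] (b * e) = ((1 : K) ⊗ₜ[k] b) * ε := by
            rw [hεdef, Algebra.TensorProduct.tmul_mul_tmul, one_mul]
          rw [h2]
          exact Ideal.mul_mem_left _ _ (Ideal.mem_span_singleton_self ε)
        · have h3 : ∀ y : K ⊗[k] C,
              ((Ideal.Quotient.mkₐ k (Ideal.span {e})).toLinearMap.lTensor K) y =
                Groth.Agent.Helper25.KerMT3.piW (Ideal.span {e}) K y := by
            intro y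
            induction y using TensorProduct.induction_on with
            | zero => rw [map_zero, map_zero]
            | tmul w c => rfl
            | add x y hx hy => rw [map_add, map_add, hx, hy]
          rw [h3, hd']
      exact Ideal.Quotient.eq_zero_iff_mem.1 h1
    · intro hd
      obtain ⟨b, rfl⟩ := Ideal.mem_span_singleton'.1 hd
      rw [hπdef, map_mul, hpiWε, mul_zero, map_zero]
  have hftD : Algebra.FiniteType K (K ⊗[k] C) := by
    have := hft
    infer_instance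
  obtain ⟨j, hj⟩ := key_open hftD π hπsurj ε hεidem hker ((1 : K) ⊗ₜ[k] a) ((1 : K) ⊗ₜ[k] y)
    (by
      intro n hn
      obtain ⟨j, hj⟩ := hy n hn
      refine ⟨j, ?_⟩
      rw [Algebra.TensorProduct.tmul_pow, one_pow, Algebra.TensorProduct.tmul_mul_tmul, one_mul]
      exact Groth.Agent.Helper25.MultDense.mem_torsionIdeal_baseChange k C K n _ hj)
  refine ⟨j, ?_⟩
  rw [Algebra.TensorProduct.tmul_pow, one_pow, Algebra.TensorProduct.tmul_mul_tmul, one_mul] at hj
  have hinj : Function.Injective (TensorProduct.mk k K C 1) :=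
    Module.FaithfullyFlat.tensorProduct_mk_injective (A := k) (B := K) C
  apply hinj
  rw [map_zero]
  exact hj

theorem main5300 (hft : Algebra.FiniteType k C) (e : C) (he : IsIdempotentElem e)
    [(Ideal.span {e}).IsHopfIdeal k] (hG : IsMultType k (C ⧸ Ideal.span {e})) (a : C) :
    ⨅ n : {n : ℕ // 0 < n},
      Ideal.map (algebraMap C (Localization.Away a)) (torsionIdeal k C n.1) = ⊥ := by
  rw [eq_bot_iff]
  intro x hx
  rw [Ideal.mem_iInf] at hx
  rw [Ideal.mem_bot]
  obtain ⟨⟨y, s⟩, hys⟩ := IsLocalization.surj (Submonoid.powers a) x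
  have hy : ∀ n : ℕ, 0 < n → ∃ j : ℕ, a ^ j * y ∈ torsionIdeal k C n := by
    intro n hn
    have h1 : algebraMap C (Localization.Away a) y ∈
        Ideal.map (algebraMap C (Localization.Away a)) (torsionIdeal k C n) := by
      rw [← hys]
      exact Ideal.mul_mem_right _ _ (hx ⟨n, hn⟩)
    obtain ⟨m, hm, hmy⟩ := (IsLocalization.algebraMap_mem_map_algebraMap_iff
      (Submonoid.powers a) (Localization.Away a) _ y).1 h1
    obtain ⟨j, hj⟩ := (Submonoid.mem_powers_iff _ _).1 hm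
    exact ⟨j, by rw [hj]; exact hmy⟩
  obtain ⟨j, hj⟩ := key5300 k C hft e he hG a y hy
  have h2 : algebraMap C (Localization.Away a) y = 0 := by
    rw [IsLocalization.map_eq_zero_iff (Submonoid.powers a)]
    exact ⟨⟨a ^ j, j, rfl⟩, hj⟩
  rw [h2] at hys
  exact (IsUnit.mul_left_eq_zero (IsLocalization.map_units _ s)).1 hys

end Concrete

end Groth.Agent.Helper25.OpenMT3
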