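import Groth.Agent.Lib.Helper25.OrthDual
import Mathlib.Algebra.DualNumber

set_option autoImplicit false

namespace Groth.Agent.Helper25.OrthBC

open QuadGrp TensorProduct
open Groth.Agent.Helper25.OrthDual

variable {R : Type*} [CommRing R] {M : Type*} [AddCommGroup M] [Module R M] [Module.Free R M]
  (A : Type*) [CommRing A] [Algebra R A] (Q : QuadraticForm R M)

theorem baseChangeForm_tmul (x : A) (m : M) :
    baseChangeForm A Q (x ⊗ₜ[R] m) = x * x * algebraMap R A (Q m) := by
  unfold baseChangeForm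
  rw [LinearMap.compQuadraticMap_apply, baseChange_tmul]
  simp [Algebra.smul_def, mul_comm]

theorem polar_baseChangeForm_one_tmul (v w : M) :
    QuadraticMap.polar (baseChangeForm A Q) ((1 : A) ⊗ₜ[R] v) ((1 : A) ⊗ₜ[R] w) =
      algebraMap R A (QuadraticMap.polar Q v w) := by
  unfold QuadraticMap.polar
  rw [← TensorProduct.tmul_add, baseChangeForm_tmul, baseChangeForm_tmul, baseChangeForm_tmul]
  simp

theorem X_one_tmul (a b v : M) :
    X (baseChangeForm A Q) ((1 : A) ⊗ₜ[R] a) ((1 : A) ⊗ₜ[R] b) ((1 : A) ⊗ₜ[R] v) =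
      (1 : A) ⊗ₜ[R] (X Q a b v) := by
  rw [X_apply, X_apply, polar_baseChangeForm_one_tmul, polar_baseChangeForm_one_tmul,
    TensorProduct.tmul_sub, TensorProduct.tmul_smul, TensorProduct.tmul_smul]
  simp only [algebraMap_smul]


section Dual

open DualNumber


/-- the `ε`-coefficient map `R[ε] ⊗ M → M` -/
noncomputable def epsCoeff : (DualNumber R) ⊗[R] M →ₗ[R] M :=
  (TensorProduct.lid R M).toLinearMap ∘ₗ LinearMap.rTensor M (TrivSqZeroExt.sndHom R R)

omit [Module.Free R M] in
theorem epsCoeff_tmul (x : DualNumber R) (m : M) :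
    epsCoeff (x ⊗ₜ[R] m) = TrivSqZeroExt.snd x • m := by
  simp [epsCoeff]

/-- the test isometry `1 + ε X_{a,b}` over the dual numbers -/
noncomputable def testEquiv (a b : M) :
    ((DualNumber R) ⊗[R] M) ≃ₗ[DualNumber R] ((DualNumber R) ⊗[R] M) :=
  hEquiv (baseChangeForm (DualNumber R) Q) (ε : DualNumber R) eps_mul_eps
    ((1 : DualNumber R) ⊗ₜ[R] a) ((1 : DualNumber R) ⊗ₜ[R] b)

theorem testEquiv_one_tmul (a b v : M) :
    testEquiv Q a b ((1 : DualNumber R) ⊗ₜ[R] v) =
      (1 : DualNumber R) ⊗ₜ[R] v + (ε : DualNumber R) ⊗ₜ[R] (X Q a b v) := by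
  unfold testEquiv
  rw [hEquiv_apply, X_one_tmul, TensorProduct.smul_tmul', smul_eq_mul, mul_one]

theorem comm_X_of_comm (g : M ≃ₗ[R] M) (a b : M)
    (hcomm : g.baseChange R (DualNumber R) M M * testEquiv Q a b =
      testEquiv Q a b * g.baseChange R (DualNumber R) M M) (v : M) :
    g (X Q a b v) = X Q a b (g v) := by
  have h := congrArg (fun f => epsCoeff (f ((1 : DualNumber R) ⊗ₜ[R] v))) hcomm
  simp only [LinearEquiv.mul_apply, testEquiv_one_tmul, LinearEquiv.baseChange_tmul, map_add,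
    epsCoeff_tmul] at h
  simpa using h

end Dual

end Groth.Agent.Helper25.OrthBC
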