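import Groth.Prelude.Def_QuadGrp
import Mathlib.LinearAlgebra.Reflection
import Mathlib.Tactic

set_option autoImplicit false

namespace Groth.Agent.Helper25.OrthRefl

open QuadGrp

variable {A : Type*} [CommRing A] {M : Type*} [AddCommGroup M] [Module A M] (Q : QuadraticForm A M)
  (v : M) (uinv : A)

/-- the functional `y ↦ Q(v)⁻¹ B(v,y)` -/
noncomputable def reflFun : Module.Dual A M := uinv • QuadraticMap.polarBilin Q v

theorem reflFun_apply (y : M) : reflFun Q v uinv y = uinv * QuadraticMap.polar Q v y := by
  simp [reflFun]

variable (hu : Q v * uinv = 1)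

include hu in
theorem reflFun_self : reflFun Q v uinv v = 2 := by
  rw [reflFun_apply, QuadraticMap.polar_self]
  simp only [nsmul_eq_mul, Nat.cast_ofNat]
  linear_combination 2 * hu

/-- the reflection in a vector `v` with `Q v` invertible -/
noncomputable def refl : M ≃ₗ[A] M := Module.reflection (reflFun_self Q v uinv hu)

theorem refl_apply (y : M) :
    refl Q v uinv hu y = y - (uinv * QuadraticMap.polar Q v y) • v := by
  unfold refl
  rw [Module.reflection_apply, reflFun_apply]

theorem refl_mem_O : refl Q v uinv hu ∈ QuadGrp.O Q := by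
  intro y
  rw [refl_apply]
  set l := uinv * QuadraticMap.polar Q v y with hl
  have h1 : Q (y - l • v) = Q y + Q (-(l • v)) + QuadraticMap.polar Q y (-(l • v)) := by
    unfold QuadraticMap.polar
    rw [sub_eq_add_neg]; ring
  rw [h1, QuadraticMap.map_neg, QuadraticMap.map_smul, QuadraticMap.polar_neg_right,
    QuadraticMap.polar_smul_right, QuadraticMap.polar_comm Q y v]
  simp only [smul_eq_mul]
  rw [hl]
  linear_combination (uinv * QuadraticMap.polar Q v y * QuadraticMap.polar Q v y) * hu

end Groth.Agent.Helper25.OrthRefl
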