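import Groth.Agent.Lib.Helper25.OrthDual
import Groth.Agent.Lib.Helper25.OrthRefl
import Mathlib.LinearAlgebra.Matrix.SchurComplement

set_option autoImplicit false

namespace Groth.Agent.Helper25.OrthDet

open QuadGrp Module
open Groth.Agent.Helper25.OrthDual Groth.Agent.Helper25.OrthRefl

variable {A : Type*} [CommRing A] {M : Type*} [AddCommGroup M] [Module A M]
  {ι : Type*} [Fintype ι] [DecidableEq ι] (b : Basis ι A M)

include b in
theorem det_id_add_smulRight (f : Module.Dual A M) (x : M) :
    LinearMap.det (LinearMap.id + f.smulRight x) = 1 + f x := by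
  rw [← LinearMap.det_toMatrix b, map_add, LinearMap.toMatrix_id, LinearMap.toMatrix_smulRight,
    Matrix.vecMulVec_eq (ι := Unit), Matrix.det_one_add_replicateCol_mul_replicateRow]
  congr 1
  have hx : x = ∑ i, b.repr x i • b i := (b.sum_repr x).symm
  conv_rhs => rw [hx, map_sum]
  simp only [dotProduct, Function.comp, map_smul, smul_eq_mul]
  refine Finset.sum_congr rfl fun i _ => ?_
  ring


variable (Q : QuadraticForm A M)

include b in
theorem det_refl (v : M) (uinv : A) (hu : Q v * uinv = 1) :
    LinearMap.det (refl Q v uinv hu : M →ₗ[A] M) = -1 := by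
  have h1 : (refl Q v uinv hu : M →ₗ[A] M) = LinearMap.id + (-(reflFun Q v uinv)).smulRight v := by
    ext y
    simp only [LinearEquiv.coe_coe, refl_apply, LinearMap.add_apply, LinearMap.id_coe, id_eq,
      LinearMap.smulRight_apply, LinearMap.neg_apply, reflFun_apply, neg_smul]
    abel
  rw [h1, det_id_add_smulRight b, LinearMap.neg_apply, reflFun_self Q v uinv hu]
  ring

include b in
theorem det_neg_id (hodd : Odd (Fintype.card ι)) :
    LinearMap.det (-(LinearMap.id : M →ₗ[A] M)) = -1 := by
  rw [← LinearMap.det_toMatrix b, map_neg, LinearMap.toMatrix_id, Matrix.det_neg, Matrix.det_one,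
    hodd.neg_one_pow, mul_one]

include b in
theorem det_hEquiv (ε : A) (hε : ε * ε = 0) (x y : M) :
    LinearMap.det (hEquiv Q ε hε x y : M →ₗ[A] M) = 1 := by
  have h1 : (hEquiv Q ε hε x y : M →ₗ[A] M) =
      (LinearMap.id + (ε • QuadraticMap.polarBilin Q x).smulRight y) ∘ₗ
        (LinearMap.id + (-(ε • QuadraticMap.polarBilin Q y)).smulRight x) := by
    ext z
    simp only [LinearEquiv.coe_coe, hEquiv_apply, X_apply, LinearMap.coe_comp, Function.comp_apply,
      LinearMap.add_apply, LinearMap.id_coe, id_eq, LinearMap.smulRight_apply, LinearMap.neg_apply,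
      LinearMap.smul_apply, QuadraticMap.polarBilin_apply_apply, smul_eq_mul, map_add, map_neg,
      map_smul, neg_smul, smul_neg, smul_sub, smul_smul]
    have : (ε * QuadraticMap.polar Q y z) * (ε * QuadraticMap.polar Q x x) = 0 := by
      linear_combination (QuadraticMap.polar Q y z * QuadraticMap.polar Q x x) * hε
    rw [smul_add, smul_smul, this, zero_smul]
    abel
  rw [h1, LinearMap.det_comp, det_id_add_smulRight b, det_id_add_smulRight b]
  simp only [LinearMap.smul_apply, LinearMap.neg_apply, QuadraticMap.polarBilin_apply_apply,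
    smul_eq_mul]
  rw [QuadraticMap.polar_comm Q y x]
  linear_combination (-(QuadraticMap.polar Q x y * QuadraticMap.polar Q x y)) * hε

end Groth.Agent.Helper25.OrthDet
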