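import Groth.Agent.Lib.Helper25.OrthBC
import Groth.Agent.Lib.Helper25.OrthRefl
import Groth.Agent.Lib.Helper25.Kronecker

set_option autoImplicit false

namespace Groth.Agent.Helper25.OrthGeneric

open QuadGrp TensorProduct Polynomial
open Groth.Agent.Helper25.OrthBC Groth.Agent.Helper25.OrthRefl Groth.Agent.Helper25.Kronecker

universe u
variable {R : Type u} [CommRing R] {n : ℕ} (Q : QuadraticForm R (Fin n → R))

/-- standard basis vector -/
abbrev e (j : Fin n) : Fin n → R := Pi.single j 1

/-- coefficient table of `Q` via its bilinear lift -/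
noncomputable def cQ (j j' : Fin n) : R := bilinLift Q (e j) (e j')

theorem cQ_self (j : Fin n) : cQ Q j j = Q (e j) := by
  have := congrArg (fun q => q (e j)) (bilinLift_spec Q)
  simpa [cQ, LinearMap.BilinMap.toQuadraticMap_apply] using this

theorem cQ_add (j j' : Fin n) : cQ Q j j' + cQ Q j' j = QuadraticMap.polar Q (e j) (e j') := by
  have h : ∀ x, Q x = bilinLift Q x x := fun x => by
    have := congrArg (fun q => q x) (bilinLift_spec Q)
    simpa [LinearMap.BilinMap.toQuadraticMap_apply] using this.symm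
  unfold QuadraticMap.polar cQ
  rw [h, h, h]
  simp only [map_add, LinearMap.add_apply]
  ring

section GeneralA

variable (A : Type u) [CommRing A] [Algebra R A]

/-- the vector `Σ t_j ⊗ e_j` -/
noncomputable def vA (t : Fin n → A) : A ⊗[R] (Fin n → R) := ∑ j, t j ⊗ₜ[R] (e j : Fin n → R)

theorem baseChangeForm_vA (t : Fin n → A) :
    baseChangeForm A Q (vA A t) = ∑ j, ∑ j', algebraMap R A (cQ Q j j') * (t j * t j') := by
  unfold baseChangeForm QuadGrp.baseChange vA
  rw [LinearMap.compQuadraticMap_apply, LinearMap.BilinMap.toQuadraticMap_apply]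
  simp only [map_sum, LinearMap.sum_apply, LinearMap.BilinMap.baseChange_tmul,
    LinearEquiv.coe_coe, AlgebraTensorModule.rid_tmul, Algebra.smul_def, cQ]
  exact Finset.sum_comm

/-- the `i`-th coordinate functional on `A ⊗ Rⁿ` -/
noncomputable def coord (i : Fin n) : A ⊗[R] (Fin n → R) →ₗ[A] A :=
  (AlgebraTensorModule.rid R A A).toLinearMap ∘ₗ (LinearMap.proj i : (Fin n → R) →ₗ[R] R).baseChange A

theorem coord_tmul (i : Fin n) (a : A) (m : Fin n → R) :
    coord A i (a ⊗ₜ[R] m) = algebraMap R A (m i) * a := by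
  simp [coord, Algebra.smul_def]

theorem coord_vA (i : Fin n) (t : Fin n → A) : coord (R := R) A i (vA A t) = t i := by
  classical
  unfold vA
  rw [map_sum, Finset.sum_eq_single i]
  · rw [coord_tmul]; simp
  · intro j _ hji
    rw [coord_tmul]
    simp [Pi.single_apply, Ne.symm hji]
  · simp

theorem coord_baseChange_vA (g : (Fin n → R) ≃ₗ[R] (Fin n → R)) (i : Fin n) (t : Fin n → A) :
    coord A i (g.baseChange R A _ _ (vA A t)) = ∑ j, algebraMap R A (g (e j) i) * t j := by
  unfold vA
  rw [map_sum, map_sum]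
  refine Finset.sum_congr rfl fun j _ => ?_
  rw [LinearEquiv.baseChange_tmul, coord_tmul]

theorem polar_vA_one_tmul (t : Fin n → A) (x : Fin n → R) :
    QuadraticMap.polar (baseChangeForm A Q) (vA A t) ((1 : A) ⊗ₜ[R] x) =
      ∑ j, algebraMap R A (QuadraticMap.polar Q (e j) x) * t j := by
  have h : ∀ y, QuadraticMap.polar (baseChangeForm A Q) y ((1 : A) ⊗ₜ[R] x) =
      (QuadraticMap.polarBilin (baseChangeForm A Q)).flip ((1 : A) ⊗ₜ[R] x) y := fun y => rfl
  rw [h]
  unfold vA
  rw [map_sum]
  refine Finset.sum_congr rfl fun j _ => ?_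
  have : t j ⊗ₜ[R] (e j : Fin n → R) = t j • ((1 : A) ⊗ₜ[R] (e j : Fin n → R)) := by
    rw [TensorProduct.smul_tmul', smul_eq_mul, mul_one]
  rw [this, map_smul]
  simp only [LinearMap.flip_apply, QuadraticMap.polarBilin_apply_apply, smul_eq_mul]
  rw [polar_baseChangeForm_one_tmul, mul_comm]

end GeneralA


section Generic

/-- the generic value `Q(Σ X^(2^j) e_j)` as a polynomial -/
noncomputable def qgen : R[X] := kron (cQ Q)

theorem qgen_mem_nonZeroDivisors
    (hU : Ideal.span (Set.range fun kj : Fin n × Fin n =>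
      QuadraticMap.polar Q (e kj.1) (e kj.2)) = ⊤) :
    qgen Q ∈ nonZeroDivisors R[X] := by
  rw [Polynomial.mem_nonZeroDivisors_iff]
  intro a ha
  unfold qgen at ha
  rw [smul_kron] at ha
  obtain ⟨h1, h2⟩ := kron_eq_zero _ ha
  have h3 : ∀ x ∈ Ideal.span (Set.range fun kj : Fin n × Fin n =>
      QuadraticMap.polar Q (e kj.1) (e kj.2)), a * x = 0 := by
    intro x hx
    induction hx using Submodule.span_induction with
    | mem x hx =>
      obtain ⟨⟨k, j⟩, rfl⟩ := hx
      show a * QuadraticMap.polar Q (e k) (e j) = 0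
      by_cases hkj : k = j
      · subst hkj
        rw [QuadraticMap.polar_self, ← cQ_self]
        have := h1 k
        simp only [nsmul_eq_mul, Nat.cast_ofNat] at this ⊢
        linear_combination 2 * this
      · rw [← cQ_add, mul_add]
        have := h2 k j hkj
        simpa using this
    | zero => simp
    | add x y _ _ hx hy => rw [mul_add, hx, hy, add_zero]
    | smul b x _ hx => rw [smul_eq_mul, mul_left_comm, hx, mul_zero]
  have := h3 1 (by rw [hU]; trivial)
  simpa using this

/-- the generic localisation `R[X][1/q]` -/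
abbrev Agen : Type u := Localization.Away (qgen Q)

/-- the coordinates `X^(2^j)` of the generic vector -/
noncomputable def tgen (j : Fin n) : Agen Q := algebraMap R[X] (Agen Q) (X ^ (2 ^ (j : ℕ)))

theorem algebraMap_C (r : R) : algebraMap R[X] (Agen Q) (C r) = algebraMap R (Agen Q) r := by
  rw [C_eq_algebraMap, ← IsScalarTower.algebraMap_apply]

theorem algebraMap_lin (p : Fin n → R) :
    algebraMap R[X] (Agen Q) (lin p) = ∑ j, algebraMap R (Agen Q) (p j) * tgen Q j := by
  rw [map_lin]
  refine Finset.sum_congr rfl fun j _ => ?_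
  rw [algebraMap_C]; rfl

theorem form_vgen :
    baseChangeForm (Agen Q) Q (vA (Agen Q) (tgen Q)) = algebraMap R[X] (Agen Q) (qgen Q) := by
  rw [baseChangeForm_vA]
  refine Eq.trans ?_ (map_kron (algebraMap R[X] (Agen Q)) (cQ Q)).symm
  refine Finset.sum_congr rfl fun j _ => ?_
  refine Finset.sum_congr rfl fun j' _ => ?_
  rw [algebraMap_C]; rfl

theorem form_vgen_mul_inv :
    baseChangeForm (Agen Q) Q (vA (Agen Q) (tgen Q)) * IsLocalization.Away.invSelf (qgen Q) = 1 := by
  rw [form_vgen]; exact IsLocalization.Away.mul_invSelf _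

/-- the generic reflection -/
noncomputable def rgen : (Agen Q ⊗[R] (Fin n → R)) ≃ₗ[Agen Q] (Agen Q ⊗[R] (Fin n → R)) :=
  refl (baseChangeForm (Agen Q) Q) (vA (Agen Q) (tgen Q)) (IsLocalization.Away.invSelf (qgen Q))
    (form_vgen_mul_inv Q)

theorem rgen_mem_O : rgen Q ∈ QuadGrp.O (baseChangeForm (Agen Q) Q) := refl_mem_O _ _ _ _

theorem sum_polar_e (v x : Fin n → R) :
    ∑ j, QuadraticMap.polar Q (e j) x * v j = QuadraticMap.polar Q v x := by
  classical
  have hv : v = ∑ j, v j • (e j : Fin n → R) := by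
    funext l
    simp [Finset.sum_apply, Pi.single_apply]
  have h : ∀ y, QuadraticMap.polar Q y x = (QuadraticMap.polarBilin Q).flip x y := fun y => rfl
  conv_rhs => rw [hv, h, map_sum]
  refine Finset.sum_congr rfl fun j _ => ?_
  rw [map_smul, ← h, smul_eq_mul, mul_comm]

theorem sum_g_e (g : (Fin n → R) ≃ₗ[R] (Fin n → R)) (v : Fin n → R) (i : Fin n) :
    ∑ j, g (e j) i * v j = g v i := by
  classical
  have hv : v = ∑ j, v j • (e j : Fin n → R) := by
    funext l
    simp [Finset.sum_apply, Pi.single_apply]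
  conv_rhs => rw [hv, map_sum, Finset.sum_apply]
  refine Finset.sum_congr rfl fun j _ => ?_
  rw [map_smul, Pi.smul_apply, smul_eq_mul, mul_comm]

theorem H_of_comm
    (hU : Ideal.span (Set.range fun kj : Fin n × Fin n =>
      QuadraticMap.polar Q (e kj.1) (e kj.2)) = ⊤)
    (g : (Fin n → R) ≃ₗ[R] (Fin n → R))
    (Hc : g.baseChange R (Agen Q) (Fin n → R) (Fin n → R) * rgen Q =
      rgen Q * g.baseChange R (Agen Q) (Fin n → R) (Fin n → R))
    (x v : Fin n → R) (i : Fin n) :
    QuadraticMap.polar Q v x * g v i = QuadraticMap.polar Q v (g x) * v i := by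
  have hinj : Function.Injective (algebraMap R[X] (Agen Q)) :=
    IsLocalization.injective (Agen Q) (M := Submonoid.powers (qgen Q))
      (Submonoid.powers_le.2 (qgen_mem_nonZeroDivisors Q hU))
  set V := vA (R := R) (Agen Q) (tgen Q) with hV
  set u : Agen Q := IsLocalization.Away.invSelf (qgen Q) with hu
  have h1 := congrArg (fun f => coord (Agen Q) i (f ((1 : Agen Q) ⊗ₜ[R] x))) Hc
  simp only [LinearEquiv.mul_apply, LinearEquiv.baseChange_tmul] at h1
  unfold rgen at h1
  rw [refl_apply, refl_apply, map_sub, map_sub, map_sub, map_smul, map_smul, map_smul,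
    LinearEquiv.baseChange_tmul, ← hV, ← hu, polar_vA_one_tmul, polar_vA_one_tmul,
    coord_baseChange_vA (Agen Q) g i, coord_vA (R := R) (Agen Q) i, ← algebraMap_lin,
    ← algebraMap_lin, ← algebraMap_lin] at h1
  have h2 : u * algebraMap R[X] (Agen Q) (lin fun j => QuadraticMap.polar Q (e j) x) *
        algebraMap R[X] (Agen Q) (lin fun j => g (e j) i) =
      u * algebraMap R[X] (Agen Q) (lin fun j => QuadraticMap.polar Q (e j) (g x)) * tgen Q i := by
    simpa [smul_eq_mul] using h1
  have h3 := congrArg (fun z => algebraMap R[X] (Agen Q) (qgen Q) * z) h2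
  simp only [← mul_assoc] at h3
  rw [IsLocalization.Away.mul_invSelf, one_mul, one_mul] at h3
  unfold tgen at h3
  rw [← map_mul, ← map_mul] at h3
  have h4 := hinj h3
  have h5 := eval_of_lin_mul_sub _ _ _ i (sub_eq_zero.2 h4) v
  rw [sum_polar_e, sum_polar_e, sum_g_e] at h5
  exact h5

end Generic

end Groth.Agent.Helper25.OrthGeneric
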