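import Groth.Agent.Lib.Helper25.QuadHalfDisc
import Groth.Agent.Lib.Helper25.OrthGeneric

set_option autoImplicit false

namespace Groth.Agent.Helper25.OrthNondeg

open QuadGrp
open Groth.Agent.Helper25.QuadDisc Groth.Agent.Helper25.OrthGeneric

universe u

section Univ

variable (n : ℕ)

/-- diagonal universal coefficients -/
noncomputable def cY : Sym2 (Fin n) → MvPolynomial (Fin n) ℤ :=
  Sym2.lift ⟨fun i j => if i = j then MvPolynomial.X i else 0, fun i j => by
    by_cases h : i = j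
    · subst h; rfl
    · dsimp only
      rw [if_neg h, if_neg (Ne.symm h)]⟩

theorem cY_mk (i j : Fin n) : cY n s(i, j) = if i = j then MvPolynomial.X i else 0 := rfl

theorem Pmat_cY : Pmat (cY n) = Matrix.diagonal fun i => 2 * MvPolynomial.X i := by
  ext k l
  simp only [Pmat, Matrix.of_apply, cY_mk, Matrix.diagonal_apply]
  by_cases h : k = l
  · subst h; simp
  · simp [h]

theorem eval_cY (hn : Odd n) (m : ℕ) (hm : n = m + 1) :
    MvPolynomial.eval₂ (Int.castRingHom (MvPolynomial (Fin n) ℤ)) (cY n) (QuadGrp.halfDiscUniv n) =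
      2 ^ m * ∏ i : Fin n, MvPolynomial.X i := by
  have h := two_mul_eval_halfDiscUniv hn (cY n)
  rw [Pmat_cY, Matrix.det_diagonal, Finset.prod_mul_distrib, Finset.prod_const, Finset.card_univ,
    Fintype.card_fin] at h
  have h2 : (2 : MvPolynomial (Fin n) ℤ) ≠ 0 := by
    have hC : (2 : MvPolynomial (Fin n) ℤ) = MvPolynomial.C (2 : ℤ) := by rw [map_ofNat]
    rw [hC]
    intro h0
    exact two_ne_zero (MvPolynomial.C_injective (Fin n) ℤ (h0.trans (map_zero _).symm))
  apply mul_left_cancel₀ h2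
  rw [h, hm, pow_succ]
  ring

/-- half-discriminant of a diagonal coefficient system -/
theorem eval_diag {S : Type*} [CommRing S] (hn : Odd n) (m : ℕ) (hm : n = m + 1)
    (a : Sym2 (Fin n) → S) (ha : ∀ i j : Fin n, i ≠ j → a s(i, j) = 0) :
    MvPolynomial.eval₂ (Int.castRingHom S) a (QuadGrp.halfDiscUniv n) =
      2 ^ m * ∏ i : Fin n, a s(i, i) := by
  set k : MvPolynomial (Fin n) ℤ →+* S :=
    MvPolynomial.eval₂Hom (Int.castRingHom S) (fun i => a s(i, i)) with hk
  have h1 := MvPolynomial.eval₂_comp_left k (Int.castRingHom (MvPolynomial (Fin n) ℤ)) (cY n)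
    (QuadGrp.halfDiscUniv n)
  have h2 : k.comp (Int.castRingHom (MvPolynomial (Fin n) ℤ)) = Int.castRingHom S :=
    RingHom.ext_int _ _
  have h3 : k ∘ cY n = a := by
    funext s
    induction s using Sym2.ind with
    | _ i j =>
      simp only [Function.comp, cY_mk]
      by_cases h : i = j
      · subst h; simp [hk]
      · rw [if_neg h, map_zero, ha i j h]
  rw [h2, h3] at h1
  rw [← h1, eval_cY n hn m hm, map_mul, map_pow, map_ofNat, map_prod]
  congr 1
  refine Finset.prod_congr rfl fun i _ => ?_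
  simp [hk]

end Univ


variable {R : Type u} [CommRing R] {n : ℕ}

theorem span_polar_eq_top_of_isRegular (hn : 3 ≤ n) (Q : QuadraticForm R (Fin n → R))
    (hQ : QuadGrp.IsRegular Q) :
    Ideal.span (Set.range fun kj : Fin n × Fin n =>
      QuadraticMap.polar Q (e kj.1) (e kj.2)) = ⊤ := by
  classical
  have i0 : Fin n := ⟨0, by omega⟩
  obtain ⟨d, hd⟩ := hQ.2 (LinearMap.proj i0)
  have h1 : QuadraticMap.polar Q d (e i0) = 1 := by
    have := congrArg (fun f => f (e i0 : Fin n → R)) hd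
    simpa using this
  rw [Ideal.eq_top_iff_one, ← h1, ← sum_polar_e]
  refine Ideal.sum_mem _ fun j _ => ?_
  exact Ideal.mul_mem_right _ _ (Ideal.subset_span ⟨(j, i0), rfl⟩)

theorem span_polar_eq_top_of_isSemiregular (hn : 3 ≤ n) (hodd : Odd n)
    (Q : QuadraticForm R (Fin n → R))
    (hQ : QuadGrp.IsSemiregular (Pi.basisFun R (Fin n)) (LinearEquiv.refl R R) Q) :
    Ideal.span (Set.range fun kj : Fin n × Fin n =>
      QuadraticMap.polar Q (e kj.1) (e kj.2)) = ⊤ := by
  classical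
  set I := Ideal.span (Set.range fun kj : Fin n × Fin n =>
      QuadraticMap.polar Q (e kj.1) (e kj.2)) with hI
  set ψ := Ideal.Quotient.mk I with hψ
  have hmem : ∀ k j : Fin n, ψ (QuadraticMap.polar Q (e k) (e j)) = 0 := fun k j =>
    Ideal.Quotient.eq_zero_iff_mem.2 (Ideal.subset_span ⟨(k, j), rfl⟩)
  obtain ⟨m, hm⟩ : ∃ m, n = m + 2 := ⟨n - 2, by omega⟩
  have i0 : Fin n := ⟨0, by omega⟩
  unfold QuadGrp.IsSemiregular QuadGrp.halfDisc at hQ
  have h1 := MvPolynomial.eval₂_comp_left ψ (Int.castRingHom R)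
    (QuadGrp.coeffs (Pi.basisFun R (Fin n)) (LinearEquiv.refl R R) Q) (QuadGrp.halfDiscUniv n)
  have h2 : ψ.comp (Int.castRingHom R) = Int.castRingHom (R ⧸ I) := RingHom.ext_int _ _
  have hoff : ∀ i j : Fin n, i ≠ j →
      (ψ ∘ QuadGrp.coeffs (Pi.basisFun R (Fin n)) (LinearEquiv.refl R R) Q) s(i, j) = 0 := by
    intro i j hij
    simp only [Function.comp, QuadGrp.coeffs_mk, if_neg hij, Pi.basisFun_apply,
      LinearEquiv.refl_apply]
    exact hmem i j
  rw [h2, eval_diag n hodd (m + 1) (by omega) _ hoff] at h1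
  have h3 : (2 : R ⧸ I) * ψ (Q (e i0)) = 0 := by
    have := hmem i0 i0
    rw [QuadraticMap.polar_self, nsmul_eq_mul, map_mul, Nat.cast_ofNat, map_ofNat] at this
    exact this
  have h4 : (ψ ∘ QuadGrp.coeffs (Pi.basisFun R (Fin n)) (LinearEquiv.refl R R) Q) s(i0, i0)
      = ψ (Q (e i0)) := by
    simp [QuadGrp.coeffs_mk]
  rw [← Finset.mul_prod_erase Finset.univ _ (Finset.mem_univ i0), h4, pow_succ, mul_assoc,
    ← mul_assoc 2, h3, zero_mul, mul_zero] at h1
  have hu := hQ.map ψ
  rw [h1] at hu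
  have : Subsingleton (R ⧸ I) := subsingleton_of_zero_eq_one
    (by simpa using (isUnit_zero_iff.1 hu))
  exact Ideal.Quotient.subsingleton_iff.1 this

theorem span_polar_eq_top (hn : 3 ≤ n) (Q : QuadraticForm R (Fin n → R))
    (hQ : QuadGrp.IsNondeg (Pi.basisFun R (Fin n)) (LinearEquiv.refl R R) Q) :
    Ideal.span (Set.range fun kj : Fin n × Fin n =>
      QuadraticMap.polar Q (e kj.1) (e kj.2)) = ⊤ := by
  rcases Nat.even_or_odd n with h | h
  · exact span_polar_eq_top_of_isRegular hn Q (hQ.1 h)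
  · exact span_polar_eq_top_of_isSemiregular hn h Q (hQ.2 h)

end Groth.Agent.Helper25.OrthNondeg
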