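import Groth.Agent.Lib.Helper25.OrthMain
import Groth.Agent.Lib.Helper25.OrthNondeg
import Groth.Agent.Lib.Helper25.OrthDet

set_option autoImplicit false

namespace Groth.Agent.Helper25.OrthCentre

open QuadGrp TensorProduct
open Groth.Agent.Helper25.OrthGeneric Groth.Agent.Helper25.OrthMain Groth.Agent.Helper25.OrthNondeg
  Groth.Agent.Helper25.OrthEven Groth.Agent.Helper25.OrthDet Groth.Agent.Helper25.OrthBC
  Groth.Agent.Helper25.OrthDual Groth.Agent.Helper25.OrthRefl

universe u

theorem main_O (R : Type u) [CommRing R] (n : ℕ) (hn : 3 ≤ n)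
    (Q : QuadraticForm R (Fin n → R))
    (hQ : QuadGrp.IsNondeg (Pi.basisFun R (Fin n)) (LinearEquiv.refl R R) Q)
    (g : (Fin n → R) ≃ₗ[R] (Fin n → R)) (hg : g ∈ QuadGrp.O Q) :
    (∀ (A : Type u) [CommRing A] [Algebra R A], ∀ h ∈ QuadGrp.orth Q A,
        g.baseChange R A (Fin n → R) (Fin n → R) * h =
          h * g.baseChange R A (Fin n → R) (Fin n → R)) ↔
      ∃ c : R, c * c = 1 ∧ ∀ v, g v = c • v := by
  constructor
  · intro H
    have hU := span_polar_eq_top hn Q hQ
    exact scalar_of_comm_rgen Q hn hU g hg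
      (H (Agen Q) (rgen Q) (mem_orth_of_mem_O Q _ _ (rgen_mem_O Q)))
  · rintro ⟨c, -, hc⟩ A _ _ h _
    exact comm_of_scalar g c hc A h


theorem neg_mem_O {A : Type*} [CommRing A] {M N : Type*} [AddCommGroup M] [Module A M]
    [AddCommGroup N] [Module A N] (Q : QuadraticMap A M N) :
    LinearEquiv.neg A ∈ QuadGrp.O Q := fun y => by
  rw [LinearEquiv.neg_apply, QuadraticMap.map_neg]

theorem main_SO' (R : Type u) [CommRing R] (n : ℕ) (hn : 3 ≤ n)
    (Q : QuadraticForm R (Fin n → R))
    (hQ : QuadGrp.IsNondeg (Pi.basisFun R (Fin n)) (LinearEquiv.refl R R) Q)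
    (g : (Fin n → R) ≃ₗ[R] (Fin n → R)) (hg : g ∈ QuadGrp.SO' Q) :
    (∀ (A : Type u) [CommRing A] [Algebra R A], ∀ h ∈ QuadGrp.sorth' Q A,
        g.baseChange R A (Fin n → R) (Fin n → R) * h =
          h * g.baseChange R A (Fin n → R) (Fin n → R)) ↔
      ∃ c : R, c * c = 1 ∧ ∀ v, g v = c • v := by
  have hgO : g ∈ QuadGrp.O Q := hg.1
  constructor
  · intro H
    rcases Nat.even_or_odd n with hev | hodd
    · -- even rank: dual numbers
      refine scalar_of_comm_X hn Q (hQ.1 hev) g hgO ?_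
      intro a b v
      refine comm_X_of_comm Q g a b (H (DualNumber R) _ ⟨?_, ?_⟩) v
      · exact mem_orth_of_mem_O Q _ _ (hEquiv_mem_O _ _ _ _ _)
      · apply (MonoidHom.mem_ker (f := LinearEquiv.det)).2
        apply Units.ext
        rw [LinearEquiv.coe_det]
        exact det_hEquiv ((Pi.basisFun R (Fin n)).baseChange (DualNumber R)) _ _ _ _ _
    · -- odd rank: minus the generic reflection
      have hU := span_polar_eq_top hn Q hQ
      refine scalar_of_comm_rgen Q hn hU g hgO ?_
      have hmem : LinearEquiv.neg (Agen Q) * rgen Q ∈ QuadGrp.sorth' Q (Agen Q) := by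
        refine ⟨?_, ?_⟩
        · exact Subgroup.mul_mem _ (neg_mem_O _) (mem_orth_of_mem_O Q _ _ (rgen_mem_O Q))
        · apply (MonoidHom.mem_ker (f := LinearEquiv.det)).2
          rw [map_mul]
          apply Units.ext
          rw [Units.val_mul, LinearEquiv.coe_det, LinearEquiv.coe_det]
          have hb := (Pi.basisFun R (Fin n)).baseChange (Agen Q)
          have h1 : LinearMap.det ((LinearEquiv.neg (Agen Q) :
              (Agen Q ⊗[R] (Fin n → R)) ≃ₗ[Agen Q] (Agen Q ⊗[R] (Fin n → R))) :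
              (Agen Q ⊗[R] (Fin n → R)) →ₗ[Agen Q] (Agen Q ⊗[R] (Fin n → R))) = -1 := by
            have : ((LinearEquiv.neg (Agen Q) :
              (Agen Q ⊗[R] (Fin n → R)) ≃ₗ[Agen Q] (Agen Q ⊗[R] (Fin n → R))) :
              (Agen Q ⊗[R] (Fin n → R)) →ₗ[Agen Q] (Agen Q ⊗[R] (Fin n → R))) = -LinearMap.id := by
              ext y; simp
            rw [this]
            exact det_neg_id hb (by simpa using hodd)
          have h2 : LinearMap.det ((rgen Q :
              (Agen Q ⊗[R] (Fin n → R)) ≃ₗ[Agen Q] (Agen Q ⊗[R] (Fin n → R))) :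
              (Agen Q ⊗[R] (Fin n → R)) →ₗ[Agen Q] (Agen Q ⊗[R] (Fin n → R))) = -1 :=
            det_refl hb _ _ _ _
          rw [h1, h2]; simp
      have Hc := H (Agen Q) _ hmem
      ext y
      have := congrArg (fun f => f y) Hc
      simp only [LinearEquiv.mul_apply, LinearEquiv.neg_apply, map_neg] at this
      simpa using this
  · rintro ⟨c, -, hc⟩ A _ _ h _
    exact comm_of_scalar g c hc A h

end Groth.Agent.Helper25.OrthCentre
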