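import Groth.Prelude.Def_QuadGrp
import Mathlib.Tactic

set_option autoImplicit false

namespace Groth.Agent.Helper25.OrthDual

open QuadGrp CliffordAlgebra

variable {A : Type*} [CommRing A] {M : Type*} [AddCommGroup M] [Module A M] (Q : QuadraticForm A M)

/-- the "infinitesimal rotation" `X_{a,b} v = B(a,v) b − B(b,v) a` -/
noncomputable def X (a b : M) : M →ₗ[A] M :=
  (QuadraticMap.polarBilin Q a).smulRight b - (QuadraticMap.polarBilin Q b).smulRight a

theorem X_apply (a b v : M) :
    X Q a b v = QuadraticMap.polar Q a v • b - QuadraticMap.polar Q b v • a := by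
  simp [X]

theorem polar_X (a b v : M) : QuadraticMap.polar Q v (X Q a b v) = 0 := by
  rw [X_apply, QuadraticMap.polar_sub_right, QuadraticMap.polar_smul_right,
    QuadraticMap.polar_smul_right, QuadraticMap.polar_comm Q v b, QuadraticMap.polar_comm Q v a]
  simp only [smul_eq_mul]
  ring

theorem Q_add_eps (ε : A) (hε : ε * ε = 0) (a b v : M) : Q (v + ε • X Q a b v) = Q v := by
  have : Q (v + ε • X Q a b v) = Q v + Q (ε • X Q a b v) + QuadraticMap.polar Q v (ε • X Q a b v) := by
    unfold QuadraticMap.polar; ring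
  rw [this, QuadraticMap.map_smul, QuadraticMap.polar_smul_right, polar_X, hε]
  simp

/-- `1 + ε X_{a,b}` as a linear automorphism -/
noncomputable def hEquiv (ε : A) (hε : ε * ε = 0) (a b : M) : M ≃ₗ[A] M :=
  LinearEquiv.ofLinearMap (LinearMap.id + ε • X Q a b) (LinearMap.id - ε • X Q a b)
    (by
      ext v
      simp only [LinearMap.coe_comp, Function.comp_apply, LinearMap.add_apply, LinearMap.id_coe,
        id_eq, LinearMap.sub_apply, LinearMap.smul_apply, map_sub, map_smul]
      rw [smul_add, smul_smul, hε]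
      simp)
    (by
      ext v
      simp only [LinearMap.coe_comp, Function.comp_apply, LinearMap.add_apply, LinearMap.id_coe,
        id_eq, LinearMap.sub_apply, LinearMap.smul_apply, map_add, map_smul]
      rw [smul_sub, smul_smul, hε]
      simp)

theorem hEquiv_apply (ε : A) (hε : ε * ε = 0) (a b v : M) :
    hEquiv Q ε hε a b v = v + ε • X Q a b v := rfl

theorem hEquiv_mem_O (ε : A) (hε : ε * ε = 0) (a b : M) : hEquiv Q ε hε a b ∈ QuadGrp.O Q :=
  fun v => by
    rw [hEquiv_apply]; exact Q_add_eps Q ε hε a b v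


section Dickson

/-- conjugation by an invertible element as an algebra endomorphism -/
def conjHom {C : Type*} [Ring C] [Algebra A C] (u u' : C) (h1 : u * u' = 1) (h2 : u' * u = 1) :
    C →ₐ[A] C where
  toFun x := u * x * u'
  map_one' := by rw [mul_one, h1]
  map_mul' x y := by
    calc u * (x * y) * u' = u * x * (1 * (y * u')) := by simp only [one_mul, mul_assoc]
      _ = u * x * u' * (u * y * u') := by rw [← h2]; simp only [mul_assoc]
  map_zero' := by simp
  map_add' x y := by simp [mul_add, add_mul]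
  commutes' r := by rw [← Algebra.commutes, mul_assoc, h1, mul_one]

theorem comm_aux (a b v : M) :
    ι Q v * (ι Q a * ι Q b) - (ι Q a * ι Q b) * ι Q v =
      QuadraticMap.polar Q a v • ι Q b - QuadraticMap.polar Q b v • ι Q a := by
  have h1 : ι Q v * ι Q a = algebraMap A _ (QuadraticMap.polar Q a v) - ι Q a * ι Q v := by
    rw [QuadraticMap.polar_comm]; exact ι_mul_ι_comm v a
  have h2 : ι Q v * ι Q b = algebraMap A _ (QuadraticMap.polar Q b v) - ι Q b * ι Q v := by
    rw [QuadraticMap.polar_comm]; exact ι_mul_ι_comm v b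
  calc ι Q v * (ι Q a * ι Q b) - (ι Q a * ι Q b) * ι Q v
      = (ι Q v * ι Q a) * ι Q b - (ι Q a * ι Q b) * ι Q v := by simp only [mul_assoc]
    _ = algebraMap A _ (QuadraticMap.polar Q a v) * ι Q b - ι Q a * (ι Q v * ι Q b)
          - (ι Q a * ι Q b) * ι Q v := by rw [h1, sub_mul, mul_assoc]
    _ = algebraMap A _ (QuadraticMap.polar Q a v) * ι Q b
          - ι Q a * algebraMap A _ (QuadraticMap.polar Q b v) := by
        rw [h2, mul_sub]; simp only [mul_assoc]; abel
    _ = _ := by rw [← Algebra.commutes, ← Algebra.smul_def, ← Algebra.smul_def]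

variable (ε : A) (hε : ε * ε = 0) (a b : M)

/-- the even unit `1 - ε a b` -/
noncomputable def uElt : CliffordAlgebra Q := 1 - ε • (ι Q a * ι Q b)
/-- its inverse `1 + ε a b` -/
noncomputable def uInv : CliffordAlgebra Q := 1 + ε • (ι Q a * ι Q b)

include hε in
theorem u_mul_uInv : uElt Q ε a b * uInv Q ε a b = 1 := by
  unfold uElt uInv
  rw [sub_mul, mul_add, mul_add, smul_mul_smul_comm, hε]
  simp

include hε in
theorem uInv_mul_u : uInv Q ε a b * uElt Q ε a b = 1 := by
  unfold uElt uInv
  rw [add_mul, mul_sub, mul_sub, smul_mul_smul_comm, hε]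
  simp

include hε in
theorem conj_ι (v : M) :
    uElt Q ε a b * ι Q v * uInv Q ε a b = ι Q (hEquiv Q ε hε a b v) := by
  rw [hEquiv_apply, map_add, map_smul, X_apply, map_sub, map_smul, map_smul, ← comm_aux]
  unfold uElt uInv
  set p := ι Q a * ι Q b with hp
  have e1 : (1 - ε • p) * ι Q v * (1 + ε • p)
      = ι Q v + ε • (ι Q v * p - p * ι Q v) - (ε * ε) • (p * ι Q v * p) := by
    simp only [sub_mul, mul_add, one_mul, mul_one, smul_mul_assoc, mul_smul_comm, smul_sub,
      smul_smul]
    abel
  rw [e1, hε]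
  simp

include hε in
theorem map_hEquiv_eq_conj :
    CliffordAlgebra.map (isometryOfMem Q (hEquiv Q ε hε a b) (hEquiv_mem_O Q ε hε a b)) =
      conjHom (A := A) (uElt Q ε a b) (uInv Q ε a b) (u_mul_uInv Q ε hε a b)
        (uInv_mul_u Q ε hε a b) := by
  apply CliffordAlgebra.hom_ext
  ext v
  simp only [LinearMap.coe_comp, Function.comp_apply, AlgHom.toLinearMap_apply, map_apply_ι,
    isometryOfMem_apply]
  exact (conj_ι Q ε hε a b v).symm

theorem uElt_mem_even : uElt Q ε a b ∈ CliffordAlgebra.even Q := by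
  unfold uElt
  exact Subalgebra.sub_mem _ (Subalgebra.one_mem _)
    (Subalgebra.smul_mem _ (ι_mul_ι_mem_evenOdd_zero Q a b) ε)

include hε in
theorem isDicksonTrivial_hEquiv :
    IsDicksonTrivial Q (hEquiv Q ε hε a b) (hEquiv_mem_O Q ε hε a b) := by
  intro z hz
  rw [map_hEquiv_eq_conj]
  show uElt Q ε a b * (z : CliffordAlgebra Q) * uInv Q ε a b = z
  have hc := (Subalgebra.mem_center_iff.1 hz) ⟨uElt Q ε a b, uElt_mem_even Q ε a b⟩
  have hc' : uElt Q ε a b * (z : CliffordAlgebra Q) = (z : CliffordAlgebra Q) * uElt Q ε a b :=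
    congrArg Subtype.val hc
  rw [hc', mul_assoc, u_mul_uInv Q ε hε, mul_one]

theorem hEquiv_mem_SOeven : hEquiv Q ε hε a b ∈ SOeven Q :=
  ⟨hEquiv_mem_O Q ε hε a b, isDicksonTrivial_hEquiv Q ε hε a b⟩

end Dickson

end Groth.Agent.Helper25.OrthDual
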