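import Groth.Agent.Lib.Helper25.OrthBC

set_option autoImplicit false

namespace Groth.Agent.Helper25.OrthEven

open QuadGrp TensorProduct
open Groth.Agent.Helper25.OrthDual Groth.Agent.Helper25.OrthBC

variable {R : Type*} [CommRing R]

theorem exists_ne_ne {n : ℕ} (hn : 3 ≤ n) (j l : Fin n) : ∃ i : Fin n, i ≠ j ∧ i ≠ l := by
  by_contra h
  push Not at h
  have h0 := h ⟨0, by omega⟩
  have h1 := h ⟨1, by omega⟩
  have h2 := h ⟨2, by omega⟩
  simp only [ne_eq, Fin.ext_iff] at h0 h1 h2
  omega

theorem scalar_of_comm_X {n : ℕ} (hn : 3 ≤ n) (Q : QuadraticForm R (Fin n → R))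
    (hQ : IsRegular Q) (g : (Fin n → R) ≃ₗ[R] (Fin n → R)) (hg : g ∈ QuadGrp.O Q)
    (hc : ∀ a b v, g (X Q a b v) = X Q a b (g v)) :
    ∃ c : R, c * c = 1 ∧ ∀ v, g v = c • v := by
  classical
  -- dual basis
  have hd : ∀ i : Fin n, ∃ d : Fin n → R, ∀ v, QuadraticMap.polar Q d v = v i := by
    intro i
    obtain ⟨d, hd⟩ := hQ.2 (LinearMap.proj i)
    exact ⟨d, fun v => by
      have := congrArg (fun f => f v) hd
      simpa using this⟩
  choose d hd using hd
  set e : Fin n → (Fin n → R) := fun j => Pi.single j 1 with he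
  -- key identity
  have key : ∀ i j : Fin n, i ≠ j → ∀ l : Fin n,
      g (e j) l = QuadraticMap.polar Q (e i) (g (d i)) * (e j) l
        - QuadraticMap.polar Q (e j) (g (d i)) * (e i) l := by
    intro i j hij l
    have h := hc (e i) (e j) (d i)
    rw [X_apply, X_apply, QuadraticMap.polar_comm Q (e i) (d i), QuadraticMap.polar_comm Q (e j) (d i),
      hd, hd] at h
    have h1 : e i i = 1 := by simp [he]
    have h2 : e j i = 0 := by simp [he, hij]
    rw [h1, h2] at h
    simp only [one_smul, zero_smul, sub_zero] at h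
    have := congrFun h l
    simpa using this
  -- off-diagonal entries vanish
  have off : ∀ j l : Fin n, l ≠ j → g (e j) l = 0 := by
    intro j l hlj
    obtain ⟨i, hij, hil⟩ := exists_ne_ne hn j l
    rw [key i j hij l]
    simp [he, hlj, Ne.symm hil]
  -- diagonal entries agree
  have diag : ∀ i j : Fin n, i ≠ j → g (e j) j = QuadraticMap.polar Q (e i) (g (d i)) := by
    intro i j hij
    rw [key i j hij j]
    simp [he, hij]
  have i0 : Fin n := ⟨0, by omega⟩
  set c : R := g (e i0) i0 with hcdef
  have hcj : ∀ j : Fin n, g (e j) j = c := by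
    intro j
    by_cases hj : j = i0
    · rw [hj]
    · obtain ⟨i, hij, hii0⟩ := exists_ne_ne hn j i0
      rw [diag i j hij, hcdef, diag i i0 hii0]
  have hge : ∀ j : Fin n, g (e j) = c • e j := by
    intro j
    funext l
    by_cases hl : l = j
    · subst hl
      rw [hcj]; simp [he]
    · rw [off j l hl]; simp [he, hl]
  have hgv : ∀ v, g v = c • v := by
    intro v
    have hv : v = ∑ j, v j • e j := by
      funext l
      simp [he, Finset.sum_apply, Pi.single_apply]
    conv_lhs => rw [hv]
    rw [map_sum]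
    conv_rhs => rw [hv]
    rw [Finset.smul_sum]
    refine Finset.sum_congr rfl fun j _ => ?_
    rw [map_smul, hge, smul_comm]
  refine ⟨c, ?_, hgv⟩
  -- c^2 = 1
  have hQc : ∀ v, (c * c - 1) * Q v = 0 := by
    intro v
    have := hg v
    rw [hgv, QuadraticMap.map_smul] at this
    rw [sub_mul, one_mul, ← smul_eq_mul (c * c), this, sub_self]
  have hp : (c * c - 1) * QuadraticMap.polar Q (d i0) (e i0) = 0 := by
    unfold QuadraticMap.polar
    rw [mul_sub, mul_sub, hQc, hQc, hQc]; simp
  rw [hd] at hp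
  have : e i0 i0 = 1 := by simp [he]
  rw [this, mul_one] at hp
  exact sub_eq_zero.1 hp


/-- scalars commute with everything after base change -/
theorem comm_of_scalar {M : Type*} [AddCommGroup M] [Module R M]
    (g : M ≃ₗ[R] M) (c : R) (hg : ∀ v, g v = c • v)
    (A : Type*) [CommRing A] [Algebra R A] (h : (A ⊗[R] M) ≃ₗ[A] (A ⊗[R] M)) :
    g.baseChange R A M M * h = h * g.baseChange R A M M := by
  have hgA : ∀ y : A ⊗[R] M, g.baseChange R A M M y = algebraMap R A c • y := by
    intro y
    induction y using TensorProduct.induction_on with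
    | zero => simp
    | tmul a m =>
      rw [LinearEquiv.baseChange_tmul, hg, TensorProduct.tmul_smul, algebraMap_smul]
    | add x y hx hy => rw [map_add, hx, hy, smul_add]
  ext x
  rw [LinearEquiv.mul_apply, LinearEquiv.mul_apply, hgA, hgA, map_smul]

universe u in
theorem main_even (R : Type u) [CommRing R] (m : ℕ) (hm : 2 ≤ m)
    (Q : QuadraticForm R (Fin (2 * m) → R)) (hQ : QuadGrp.IsRegular Q)
    (g : (Fin (2 * m) → R) ≃ₗ[R] (Fin (2 * m) → R)) (hg : g ∈ QuadGrp.SO Q) :
    (∀ (A : Type u) [CommRing A] [Algebra R A], ∀ h ∈ QuadGrp.sorth Q A,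
        g.baseChange R A (Fin (2 * m) → R) (Fin (2 * m) → R) * h =
          h * g.baseChange R A (Fin (2 * m) → R) (Fin (2 * m) → R)) ↔
      ∃ c : R, c * c = 1 ∧ ∀ v, g v = c • v := by
  rcases subsingleton_or_nontrivial R with hR | hR
  · constructor
    · intro _
      exact ⟨1, Subsingleton.elim _ _, fun v => Subsingleton.elim _ _⟩
    · rintro ⟨c, -, hc⟩ A _ _ h _
      exact comm_of_scalar g c hc A h
  have hfr : Module.finrank R (Fin (2 * m) → R) = 2 * m := by simp
  have hgO : g ∈ QuadGrp.O Q := by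
    unfold QuadGrp.SO at hg
    rw [if_pos (by rw [hfr]; exact even_two_mul m)] at hg
    exact hg.1
  constructor
  · intro H
    refine scalar_of_comm_X (by omega) Q hQ g hgO ?_
    intro a b v
    refine comm_X_of_comm Q g a b (H (DualNumber R) _ ?_) v
    unfold QuadGrp.sorth QuadGrp.SO
    rw [if_pos (by rw [Module.finrank_baseChange, hfr]; exact even_two_mul m)]
    exact hEquiv_mem_SOeven _ _ _ _ _
  · rintro ⟨c, -, hc⟩ A _ _ h _
    exact comm_of_scalar g c hc A h

end Groth.Agent.Helper25.OrthEven
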