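import Groth.Agent.Lib.Helper25.OrthEven

set_option autoImplicit false

namespace Groth.Agent.Helper25.OrthScalar

open QuadGrp
open Groth.Agent.Helper25.OrthEven

variable {R : Type*} [CommRing R]

/-- Core algebra: if `B(x,v) g(v) = B(gx,v) v` for all `x, v` (the relation expressing that `g`
commutes with all generic reflections), then for every pair of basis vectors the cube of the polar
entry `β = B(e_k,e_j)` satisfies `β³ g(w) = β² μ w`. -/
theorem cube_smul {n : ℕ} (hn : 3 ≤ n) (B : (Fin n → R) →ₗ[R] (Fin n → R) →ₗ[R] R)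
    (g : (Fin n → R) →ₗ[R] (Fin n → R))
    (H : ∀ x v, B x v • g v = B (g x) v • v) (x₀ : Fin n → R) (j : Fin n) :
    ∀ w, (B x₀ (Pi.single j 1)) ^ 3 • g w =
      ((B x₀ (Pi.single j 1)) ^ 2 * B (g x₀) (Pi.single j 1)) • w := by
  classical
  set v₀ : Fin n → R := Pi.single j 1 with hv₀
  set a := B x₀ with ha
  set b := B (g x₀) with hb
  set β := a v₀ with hβ
  set μ := b v₀ with hμ
  have H1 : ∀ v, a v • g v = b v • v := fun v => H x₀ v
  -- polarised
  have H2 : ∀ v w, a v • g w + a w • g v = b v • w + b w • v := by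
    intro v w
    have h := H1 (v + w)
    rw [map_add, map_add, map_add, add_smul, add_smul, smul_add, smul_add, smul_add, smul_add,
      H1 v, H1 w] at h
    have : b v • v + a v • g w + (a w • g v + b w • w) - b v • v - b w • w
        = b v • v + b v • w + (b w • v + b w • w) - b v • v - b w • w := by rw [h]
    have e1 : b v • v + a v • g w + (a w • g v + b w • w) - b v • v - b w • w
        = a v • g w + a w • g v := by abel
    have e2 : b v • v + b v • w + (b w • v + b w • w) - b v • v - b w • w
        = b v • w + b w • v := by abel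
    rw [e1, e2] at this
    exact this
  set φ : (Fin n → R) →ₗ[R] R := β • b - μ • a with hφ
  -- (5)
  have H5 : ∀ w, β ^ 2 • g w = (β * μ) • w + φ w • v₀ := by
    intro w
    have h := H2 v₀ w
    have h0 := H1 v₀
    have : β • (a v₀ • g w + a w • g v₀) = β • (b v₀ • w + b w • v₀) := by rw [h]
    rw [smul_add, smul_add, smul_comm β (a w) (g v₀), ← hβ, h0, ← hμ] at this
    have e : β ^ 2 • g w = β • β • g w := by rw [pow_two, mul_smul]
    rw [e]
    have e2 : β • β • g w = β • μ • w + β • b w • v₀ - a w • μ • v₀ := by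
      rw [← this]; abel
    rw [e2, hφ]
    simp only [LinearMap.sub_apply, LinearMap.smul_apply, smul_eq_mul, sub_smul, mul_smul]
    rw [smul_comm (a w) μ v₀]
    abel
  -- (6)
  have H6 : ∀ w, φ w • (a w • v₀ - β • w) = 0 := by
    intro w
    have h := H1 w
    have h' : β ^ 2 • (a w • g w) = β ^ 2 • (b w • w) := by rw [h]
    rw [smul_comm (β ^ 2) (a w) (g w), H5 w] at h'
    have hφw : φ w = β * b w - μ * a w := by simp [hφ]
    rw [smul_sub, smul_smul, smul_smul]
    have e : (φ w * a w) • v₀ = a w • φ w • v₀ := by rw [mul_comm, mul_smul]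
    rw [e]
    have e3 : a w • φ w • v₀ = β ^ 2 • b w • w - a w • (β * μ) • w := by
      rw [← h', smul_add]; abel
    rw [e3, hφw]
    simp only [smul_smul, ← sub_smul]
    have : β ^ 2 * b w - a w * (β * μ) - (β * b w - μ * a w) * β = 0 := by ring
    rw [this, zero_smul]
  -- polarised (6)
  have H6p : ∀ w w', φ w • (a w' • v₀ - β • w') + φ w' • (a w • v₀ - β • w) = 0 := by
    intro w w'
    have h := H6 (w + w')
    have h1 := H6 w
    have h2 := H6 w'
    rw [map_add, map_add, add_smul, smul_add] at h
    have ew : (a w + a w') • v₀ - (β • w + β • w')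
        = (a w • v₀ - β • w) + (a w' • v₀ - β • w') := by
      rw [add_smul]; abel
    rw [ew, smul_add, smul_add, h1, h2] at h
    simpa [add_comm] using h
  -- β φ = 0 on basis vectors
  have hβφ : ∀ i : Fin n, β * φ (Pi.single i 1) = 0 := by
    intro i
    by_cases hij : i = j
    · -- use (6p) with w = e_i', w' = v₀
      obtain ⟨i', hi'j, -⟩ := exists_ne_ne hn j j
      have h := H6p (Pi.single i' 1) v₀
      rw [← hβ, sub_self, smul_zero, zero_add] at h
      have := congrFun h i'
      simp only [Pi.smul_apply, Pi.sub_apply, smul_eq_mul, Pi.zero_apply, hv₀] at this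
      rw [Pi.single_eq_of_ne hi'j, Pi.single_eq_same] at this
      rw [hij, ← hv₀]
      linear_combination -this
    · obtain ⟨i', hi'i, hi'j⟩ := exists_ne_ne hn i j
      have h := H6p (Pi.single i 1) (Pi.single i' 1)
      have := congrFun h i'
      simp only [Pi.smul_apply, Pi.sub_apply, Pi.add_apply, smul_eq_mul, Pi.zero_apply, hv₀] at this
      rw [Pi.single_eq_of_ne hi'j, Pi.single_eq_same, Pi.single_eq_of_ne hi'i] at this
      linear_combination -this
  have hβφ' : ∀ w, β * φ w = 0 := by
    intro w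
    have hw : w = ∑ i, w i • (Pi.single i 1 : Fin n → R) := by
      funext l
      simp [Finset.sum_apply, Pi.single_apply]
    rw [hw, map_sum, Finset.mul_sum]
    refine Finset.sum_eq_zero fun i _ => ?_
    rw [map_smul, smul_eq_mul, mul_left_comm, hβφ, mul_zero]
  intro w
  have h := H5 w
  have : β ^ 3 • g w = β • (β ^ 2 • g w) := by rw [pow_succ' β 2, mul_smul]
  rw [this, h, smul_add, smul_smul, smul_smul, hβφ', zero_smul, add_zero]
  congr 1; ring


theorem eq_zero_of_cube_mul {S : Set R} (hS : Ideal.span S = ⊤) (r : R)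
    (hr : ∀ β ∈ S, β ^ 3 * r = 0) : r = 0 := by
  have h1 : (1 : R) ∈ Ideal.span ((fun x => x ^ 3) '' S) := by
    rw [Ideal.span_pow_eq_top S hS 3]; trivial
  have h2 : ∀ x ∈ Ideal.span ((fun x => x ^ 3) '' S), x * r = 0 := by
    intro x hx
    induction hx using Submodule.span_induction with
    | mem x hx =>
      obtain ⟨y, hy, rfl⟩ := hx
      exact hr y hy
    | zero => simp
    | add x y _ _ hx hy => rw [add_mul, hx, hy, add_zero]
    | smul a x _ hx => rw [smul_eq_mul, mul_assoc, hx, mul_zero]
  simpa using h2 1 h1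

theorem scalar_of_H {n : ℕ} (hn : 3 ≤ n) (B : (Fin n → R) →ₗ[R] (Fin n → R) →ₗ[R] R)
    (g : (Fin n → R) →ₗ[R] (Fin n → R))
    (H : ∀ x v, B x v • g v = B (g x) v • v)
    (hU : Ideal.span (Set.range fun kj : Fin n × Fin n =>
      B (Pi.single kj.1 1) (Pi.single kj.2 1)) = ⊤) :
    ∃ c : R, ∀ w, g w = c • w := by
  classical
  set e : Fin n → (Fin n → R) := fun j => Pi.single j 1 with he
  have i0 : Fin n := ⟨0, by omega⟩
  refine ⟨g (e i0) i0, ?_⟩
  have hcube : ∀ (k j : Fin n) (w : Fin n → R), (B (e k) (e j)) ^ 3 • g w =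
      ((B (e k) (e j)) ^ 2 * B (g (e k)) (e j)) • w := fun k j w => cube_smul hn B g H (e k) j w
  have off : ∀ i l : Fin n, l ≠ i → g (e i) l = 0 := by
    intro i l hli
    apply eq_zero_of_cube_mul hU
    rintro β ⟨⟨k, j⟩, rfl⟩
    have := congrFun (hcube k j (e i)) l
    simpa [he, hli] using this
  have diag : ∀ i l : Fin n, g (e i) i = g (e l) l := by
    intro i l
    rw [← sub_eq_zero]
    apply eq_zero_of_cube_mul hU
    rintro β ⟨⟨k, j⟩, rfl⟩
    have h1 := congrFun (hcube k j (e i)) i
    have h2 := congrFun (hcube k j (e l)) l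
    simp only [Pi.smul_apply, smul_eq_mul, he, Pi.single_eq_same, mul_one] at h1 h2
    simp only [he]
    rw [mul_sub, h1, h2, sub_self]
  have hge : ∀ j : Fin n, g (e j) = g (e i0) i0 • e j := by
    intro j
    funext l
    by_cases hl : l = j
    · subst hl
      rw [diag l i0]; simp [he]
    · rw [off j l hl]; simp [he, hl]
  intro v
  have hv : v = ∑ j, v j • e j := by
    funext l
    simp [he, Finset.sum_apply, Pi.single_apply]
  conv_lhs => rw [hv]
  rw [map_sum]
  conv_rhs => rw [hv]
  rw [Finset.smul_sum]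
  refine Finset.sum_congr rfl fun j _ => ?_
  rw [map_smul, hge, smul_comm]

end Groth.Agent.Helper25.OrthScalar
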