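import Groth.Agent.Lib.Helper25.OrthGeneric
import Groth.Agent.Lib.Helper25.OrthScalar

set_option autoImplicit false

namespace Groth.Agent.Helper25.OrthMain

open QuadGrp TensorProduct Polynomial
open Groth.Agent.Helper25.OrthBC Groth.Agent.Helper25.OrthRefl Groth.Agent.Helper25.OrthGeneric
  Groth.Agent.Helper25.OrthScalar Groth.Agent.Helper25.OrthEven

universe u
variable {R : Type u} [CommRing R] {n : ℕ} (Q : QuadraticForm R (Fin n → R))

/-- isometries of the `A`-valued base change are points of `orth` -/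
theorem mem_orth_of_mem_O (A : Type u) [CommRing A] [Algebra R A]
    (h : (A ⊗[R] (Fin n → R)) ≃ₗ[A] (A ⊗[R] (Fin n → R)))
    (hh : h ∈ QuadGrp.O (baseChangeForm A Q)) : h ∈ QuadGrp.orth Q A := by
  intro y
  have := hh y
  unfold baseChangeForm at this
  rw [LinearMap.compQuadraticMap_apply, LinearMap.compQuadraticMap_apply] at this
  exact (AlgebraTensorModule.rid R A A).injective this

theorem mem_O_of_mem_orth (A : Type u) [CommRing A] [Algebra R A]
    (h : (A ⊗[R] (Fin n → R)) ≃ₗ[A] (A ⊗[R] (Fin n → R)))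
    (hh : h ∈ QuadGrp.orth Q A) : h ∈ QuadGrp.O (baseChangeForm A Q) := by
  intro y
  have := hh y
  unfold baseChangeForm
  rw [LinearMap.compQuadraticMap_apply, LinearMap.compQuadraticMap_apply, this]

theorem scalar_of_comm_rgen (hn : 3 ≤ n)
    (hU : Ideal.span (Set.range fun kj : Fin n × Fin n =>
      QuadraticMap.polar Q (e kj.1) (e kj.2)) = ⊤)
    (g : (Fin n → R) ≃ₗ[R] (Fin n → R)) (hg : g ∈ QuadGrp.O Q)
    (Hc : g.baseChange R (Agen Q) (Fin n → R) (Fin n → R) * rgen Q =
      rgen Q * g.baseChange R (Agen Q) (Fin n → R) (Fin n → R)) :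
    ∃ c : R, c * c = 1 ∧ ∀ v, g v = c • v := by
  have H : ∀ x v, QuadraticMap.polarBilin Q x v • g.toLinearMap v =
      QuadraticMap.polarBilin Q (g.toLinearMap x) v • v := by
    intro x v
    funext i
    have := H_of_comm Q hU g Hc x v i
    simp only [QuadraticMap.polarBilin_apply_apply, LinearEquiv.coe_coe, Pi.smul_apply, smul_eq_mul]
    rw [QuadraticMap.polar_comm Q x v, QuadraticMap.polar_comm Q (g x) v]
    exact this
  obtain ⟨c, hc⟩ := scalar_of_H hn (QuadraticMap.polarBilin Q) g.toLinearMap H hU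
  have hgv : ∀ v, g v = c • v := hc
  refine ⟨c, ?_, hgv⟩
  have hQc : ∀ v, (c * c - 1) * Q v = 0 := by
    intro v
    have := hg v
    rw [hgv, QuadraticMap.map_smul] at this
    rw [sub_mul, one_mul, ← smul_eq_mul (c * c), this, sub_self]
  have h3 : ∀ x ∈ Ideal.span (Set.range fun kj : Fin n × Fin n =>
      QuadraticMap.polar Q (e kj.1) (e kj.2)), (c * c - 1) * x = 0 := by
    intro x hx
    induction hx using Submodule.span_induction with
    | mem x hx =>
      obtain ⟨⟨k, j⟩, rfl⟩ := hx
      show (c * c - 1) * QuadraticMap.polar Q (e k) (e j) = 0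
      unfold QuadraticMap.polar
      rw [mul_sub, mul_sub, hQc, hQc, hQc]; simp
    | zero => simp
    | add x y _ _ hx hy => rw [mul_add, hx, hy, add_zero]
    | smul b x _ hx => rw [smul_eq_mul, mul_left_comm, hx, mul_zero]
  have := h3 1 (by rw [hU]; trivial)
  rw [mul_one] at this
  exact sub_eq_zero.1 this

end Groth.Agent.Helper25.OrthMain
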