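import Mathlib
import Groth.Prelude.Def_Conn

namespace Groth.Agent.Helper25.PCurvLin

open TensorProduct

universe v u w

section Ring

theorem sub_pow_prime {R : Type*} [Ring R] (p : ℕ) [hp : Fact p.Prime] (hp0 : (p : R) = 0)
    {x y : R} (h : Commute x y) : (x - y) ^ p = x ^ p - y ^ p := by
  rcases subsingleton_or_nontrivial R with hR | hR
  · exact Subsingleton.elim _ _
  · haveI : CharP R p := (CharP.charP_iff_prime_eq_zero hp.out).2 hp0
    exact sub_pow_char_of_commute p h

theorem ad_pow_prime {R : Type*} [Ring R] (p : ℕ) [Fact p.Prime] (hp0 : (p : R) = 0) (x y : R) :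
    ((fun z => x * z - z * x)^[p]) y = x ^ p * y - y * x ^ p := by
  have hE : ((p : ℕ) : Module.End ℤ R) = 0 := by
    refine LinearMap.ext fun z => ?_
    rw [Module.End.natCast_apply, nsmul_eq_mul, hp0, zero_mul, LinearMap.zero_apply]
  have hcomm : Commute (LinearMap.mulLeft ℤ x) (LinearMap.mulRight ℤ x) :=
    LinearMap.commute_mulLeft_right x x
  have h1 := sub_pow_prime p hE hcomm
  have h2 : ∀ n : ℕ, ∀ y, ((fun z => x * z - z * x)^[n]) y =
      ((LinearMap.mulLeft ℤ x - LinearMap.mulRight ℤ x) ^ n) y := by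
    intro n
    induction n with
    | zero => intro y; simp
    | succ n ih =>
      intro y
      rw [Function.iterate_succ_apply', ih, pow_succ', Module.End.mul_apply]
      simp
  rw [h2, h1, LinearMap.pow_mulLeft, LinearMap.pow_mulRight]
  simp

end Ring

section Universal

variable {A : Type v} {B : Type u} [CommRing A] [CommRing B] [Algebra A B]
  (δ : Derivation A B B) (g : B)

/-- shift operator on sequences -/
noncomputable def Sop : Module.End A (ℕ → B) where
  toFun c := fun k => match k with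
    | 0 => 0
    | j + 1 => c j
  map_add' c d := by
    funext k
    cases k <;> simp
  map_smul' a c := by
    funext k
    cases k <;> simp

theorem Sop_zero (c : ℕ → B) : (Sop (A := A)) c 0 = 0 := rfl
theorem Sop_succ (c : ℕ → B) (k : ℕ) : (Sop (A := A)) c (k + 1) = c k := rfl

noncomputable def dop : Module.End A (ℕ → B) := (δ : B →ₗ[A] B).compLeft ℕ

theorem dop_apply (c : ℕ → B) (k : ℕ) : dop δ c k = δ (c k) := rfl

noncomputable def Nop : Module.End A (ℕ → B) where
  toFun c := fun k => (k + 1) • c (k + 1)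
  map_add' c d := by
    funext k
    simp [smul_add]
  map_smul' a c := by
    funext k
    simp [smul_comm]

theorem Nop_apply (c : ℕ → B) (k : ℕ) : (Nop (A := A)) c k = (k + 1) • c (k + 1) := rfl

noncomputable def mop : B →+* Module.End A (ℕ → B) := Module.toModuleEnd A (S := B) (ℕ → B)

theorem mop_apply (b : B) (c : ℕ → B) (k : ℕ) : (mop (A := A)) b c k = b * c k := rfl

theorem r1 (b : B) : dop δ * mop b = mop b * dop δ + mop (δ b) := by
  refine LinearMap.ext fun c => funext fun k => ?_
  simp only [Module.End.mul_apply, LinearMap.add_apply, Pi.add_apply, dop_apply, mop_apply,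
    Derivation.leibniz, smul_eq_mul]
  ring

theorem r2 (b : B) : (Sop (A := A)) * mop b = mop b * Sop := by
  refine LinearMap.ext fun c => funext fun k => ?_
  cases k with
  | zero => simp [Module.End.mul_apply, Sop_zero, mop_apply]
  | succ j => simp [Module.End.mul_apply, Sop_succ, mop_apply]

theorem r3 (b : B) : (Nop (A := A)) * mop b = mop b * Nop := by
  refine LinearMap.ext fun c => funext fun k => ?_
  simp only [Module.End.mul_apply, Nop_apply, mop_apply]
  exact (mul_smul_comm _ _ _).symm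

theorem r4 : (Nop (A := A)) * dop δ = dop δ * Nop := by
  refine LinearMap.ext fun c => funext fun k => ?_
  simp only [Module.End.mul_apply, Nop_apply, dop_apply]
  exact (map_nsmul δ _ _).symm

theorem r5 : (Nop (A := A) (B := B)) * Sop = Sop * Nop + 1 := by
  refine LinearMap.ext fun c => funext fun k => ?_
  cases k with
  | zero =>
    simp only [Module.End.mul_apply, LinearMap.add_apply, Pi.add_apply, Nop_apply, Sop_succ,
      Sop_zero, Module.End.one_apply, zero_add, one_smul]
  | succ j =>
    simp only [Module.End.mul_apply, LinearMap.add_apply, Pi.add_apply, Nop_apply, Sop_succ,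
      Module.End.one_apply]
    rw [succ_nsmul]

/-- the operator `g (δ + T)` -/
noncomputable def Lop : Module.End A (ℕ → B) := mop g * (dop δ + Sop)

theorem Lop_apply_zero (c : ℕ → B) : Lop δ g c 0 = g * δ (c 0) := by
  show g * (δ (c 0) + 0) = _
  rw [add_zero]

theorem Lop_apply_succ (c : ℕ → B) (k : ℕ) : Lop δ g c (k + 1) = g * (δ (c (k + 1)) + c k) := rfl

theorem Lop_apply (c : ℕ → B) (k : ℕ) :
    Lop δ g c k = g * δ (c k) + g * (Sop (A := A)) c k := by
  show g * (δ (c k) + (Sop (A := A)) c k) = _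
  rw [mul_add]

theorem c1 (b : B) : Lop δ g * mop b - mop b * Lop δ g = mop (g * δ b) := by
  have hc : (mop (A := A)) b * mop g = mop g * mop b := by
    rw [← map_mul, ← map_mul, mul_comm]
  unfold Lop
  rw [mul_assoc, add_mul, r1, r2, ← mul_assoc (mop b), hc, map_mul]
  noncomm_ring

theorem c2 : Lop δ g * Nop - Nop * Lop δ g = - mop g := by
  unfold Lop
  rw [← mul_assoc Nop, r3, mul_assoc (mop g) Nop, mul_add Nop, r4, r5]
  noncomm_ring

theorem c3 (n : ℕ) (b : B) :
    ((fun z => Lop δ g * z - z * Lop δ g)^[n]) ((mop (A := A)) b) =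
      mop ((fun x => g * δ x)^[n] b) := by
  induction n with
  | zero => rfl
  | succ n ih =>
    rw [Function.iterate_succ_apply', ih, Function.iterate_succ_apply']
    exact c1 δ g _

variable (p : ℕ) [hp : Fact p.Prime] [CharP B p]

theorem c4 : ((p : ℕ) : Module.End A (ℕ → B)) = 0 := by
  refine LinearMap.ext fun c => funext fun k => ?_
  simp only [Module.End.natCast_apply, Pi.smul_apply, nsmul_eq_mul, CharP.cast_eq_zero, zero_mul,
    LinearMap.zero_apply, Pi.zero_apply]

/-- the coefficient of `D` in Hochschild's formula -/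
noncomputable def hh : B := -((fun x => g * δ x)^[p - 1] (-g))

theorem c5 : Lop δ g ^ p * (Nop (A := A)) - Nop * Lop δ g ^ p =
    mop ((fun x => g * δ x)^[p - 1] (-g)) := by
  have hpq : p = (p - 1) + 1 := (Nat.sub_add_cancel hp.out.one_le).symm
  have h1 := ad_pow_prime p (c4 (A := A) (B := B) p) (Lop δ g) (Nop (A := A))
  conv_lhs at h1 => rw [hpq]
  rw [Function.iterate_succ_apply] at h1
  have h2 : Lop δ g * Nop - Nop * Lop δ g = (mop (A := A)) (-g) := by
    rw [map_neg]
    exact c2 δ g
  rw [h2, c3] at h1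
  exact h1.symm

/-- the coefficient sequence of `(g D)^n` -/
noncomputable def e0 : ℕ → B := Pi.single 0 1

theorem e0_zero : (e0 : ℕ → B) 0 = 1 := Pi.single_eq_same 0 1
theorem e0_succ (k : ℕ) : (e0 : ℕ → B) (k + 1) = 0 := Pi.single_eq_of_ne (Nat.succ_ne_zero k) 1

noncomputable def uu (n : ℕ) : ℕ → B := (Lop δ g ^ n) e0

theorem uu_zero : uu δ g 0 = e0 := by
  unfold uu
  rw [pow_zero, Module.End.one_apply]

theorem uu_succ (n : ℕ) : uu δ g (n + 1) = Lop δ g (uu δ g n) := by
  unfold uu
  rw [pow_succ', Module.End.mul_apply]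

theorem uu_eq_zero_of_lt : ∀ n k : ℕ, n < k → uu δ g n k = 0 := by
  intro n
  induction n with
  | zero =>
    intro k hk
    obtain ⟨j, rfl⟩ := Nat.exists_eq_succ_of_ne_zero hk.ne'
    rw [uu_zero, e0_succ]
  | succ n ih =>
    intro k hk
    obtain ⟨j, rfl⟩ := Nat.exists_eq_succ_of_ne_zero (Nat.ne_of_gt (lt_of_le_of_lt (Nat.zero_le _) hk))
    rw [uu_succ, Lop_apply_succ, ih (j + 1) (by omega), ih j (by omega), map_zero, add_zero, mul_zero]

theorem uu_diag : ∀ n : ℕ, uu δ g n n = g ^ n := by
  intro n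
  induction n with
  | zero => rw [uu_zero, e0_zero, pow_zero]
  | succ n ih =>
    rw [uu_succ, Lop_apply_succ, uu_eq_zero_of_lt δ g n (n + 1) (by omega), ih, map_zero, zero_add,
      pow_succ']

theorem uu_succ_zero : ∀ n : ℕ, uu δ g (n + 1) 0 = 0 := by
  intro n
  induction n with
  | zero =>
    rw [uu_succ, Lop_apply_zero, uu_zero, e0_zero, Derivation.map_one_eq_zero, mul_zero]
  | succ n ih =>
    rw [uu_succ, Lop_apply_zero, ih, map_zero, mul_zero]

theorem uu_N (k : ℕ) :
    (k + 1) • uu δ g p (k + 1) = hh δ g p * (e0 : ℕ → B) k := by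
  have h := c5 (A := A) δ g p
  have h' := congrFun (LinearMap.congr_fun h (e0 : ℕ → B)) k
  rw [mop_apply] at h'
  have hN0 : (Nop (A := A)) (e0 : ℕ → B) = 0 := by
    funext j
    rw [Nop_apply, e0_succ, smul_zero, Pi.zero_apply]
  rw [LinearMap.sub_apply, Module.End.mul_apply, Module.End.mul_apply, hN0, map_zero,
    Pi.sub_apply, Pi.zero_apply, zero_sub, Nop_apply] at h'
  unfold hh
  rw [neg_mul, ← h', neg_neg]
  rfl

theorem uu_one : uu δ g p 1 = hh δ g p := by
  have h := uu_N (A := A) δ g p 0
  rw [e0_zero, mul_one, zero_add, one_smul] at h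
  exact h

theorem uu_mid (j : ℕ) (hj : 2 ≤ j) (hjp : j < p) : uu δ g p j = 0 := by
  obtain ⟨k, rfl⟩ : ∃ k, j = k + 1 := ⟨j - 1, by omega⟩
  obtain ⟨i, rfl⟩ : ∃ i, k = i + 1 := ⟨k - 1, by omega⟩
  have h := uu_N (A := A) δ g p (i + 1)
  rw [e0_succ, mul_zero] at h
  have hcop : Nat.Coprime (i + 1 + 1) p :=
    Nat.Coprime.symm ((Nat.Prime.coprime_iff_not_dvd hp.out).2
      (Nat.not_dvd_of_pos_of_lt (by omega) hjp))
  have hb := Nat.gcd_eq_gcd_ab (i + 1 + 1) p
  rw [hcop] at hb
  have hb' := congrArg (Int.cast : ℤ → B) hb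
  push_cast at hb'
  rw [CharP.cast_eq_zero B p, zero_mul, add_zero] at hb'
  have h3 : ((i + 1 + 1 : ℕ) : B) * uu δ g p (i + 1 + 1) = 0 := by
    rw [← nsmul_eq_mul]; exact h
  calc uu δ g p (i + 1 + 1) = 1 * uu δ g p (i + 1 + 1) := (one_mul _).symm
    _ = ((Nat.gcdA (i + 1 + 1) p : ℤ) : B) * (((i + 1 + 1 : ℕ) : B) * uu δ g p (i + 1 + 1)) := by
        rw [hb']; push_cast; ring
    _ = 0 := by rw [h3, mul_zero]

theorem uu_other (k : ℕ) (h1 : k ≠ 1) (hk : k ≠ p) : uu δ g p k = 0 := by
  rcases Nat.lt_or_ge p k with h | h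
  · exact uu_eq_zero_of_lt δ g p k h
  · rcases Nat.eq_zero_or_pos k with rfl | h0
    · have hpq : p = (p - 1) + 1 := (Nat.sub_add_cancel hp.out.one_le).symm
      rw [hpq]
      exact uu_succ_zero δ g _
    · exact uu_mid (A := A) δ g p k (by omega) (by omega)

end Universal

theorem natCast_end_eq_zero {A : Type v} (B : Type u) [CommRing A] [CommRing B] [Algebra A B]
    {N : Type w} [AddCommGroup N] [Module B N] [Module A N] [IsScalarTower A B N]
    (p : ℕ) [CharP B p] : ((p : ℕ) : Module.End A N) = 0 := by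
  refine LinearMap.ext fun n => ?_
  have hB : ((p : ℕ) : B) = 0 := CharP.cast_eq_zero B p
  rw [Module.End.natCast_apply, ← Nat.cast_smul_eq_nsmul B p n, hB, zero_smul,
    LinearMap.zero_apply]

section Transfer

variable {A : Type v} {B : Type u} [CommRing A] [CommRing B] [Algebra A B]
  (δ : Derivation A B B) (g : B)
  {N : Type w} [AddCommGroup N] [Module B N] [Module A N] [IsScalarTower A B N]

variable (A N) in
noncomputable def mN : B →+* Module.End A N := Module.toModuleEnd A (S := B) N

theorem mN_apply (b : B) (n : N) : mN A N b n = b • n := rfl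

theorem pow_eq_sum (D : Module.End A N)
    (hDm : ∀ b, D * mN A N b = mN A N (δ b) + mN A N b * D) (n : ℕ) :
    (mN A N g * D) ^ n =
      ∑ k ∈ Finset.range (n + 1), mN A N (uu (A := A) δ g n k) * D ^ k := by
  induction n with
  | zero =>
    rw [pow_zero, Finset.sum_range_one, uu_zero, e0_zero, map_one, pow_zero, mul_one]
  | succ n ih =>
    have hstep : ∀ (c : B) (k : ℕ), mN A N g * D * (mN A N c * D ^ k) =
        mN A N (g * δ c) * D ^ k + mN A N (g * c) * D ^ (k + 1) := by
      intro c k
      rw [pow_succ', map_mul, map_mul]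
      calc mN A N g * D * (mN A N c * D ^ k) = mN A N g * ((D * mN A N c) * D ^ k) := by
            noncomm_ring
        _ = _ := by rw [hDm]; noncomm_ring
    rw [pow_succ', ih, Finset.mul_sum]
    rw [Finset.sum_congr rfl (fun k _ => hstep (uu (A := A) δ g n k) k), Finset.sum_add_distrib]
    have hR : ∑ k ∈ Finset.range (n + 1 + 1), mN A N (uu (A := A) δ g (n + 1) k) * D ^ k =
        ∑ k ∈ Finset.range (n + 1 + 1), mN A N (g * δ (uu (A := A) δ g n k)) * D ^ k +
        ∑ k ∈ Finset.range (n + 1 + 1),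
          mN A N (g * (Sop (A := A)) (uu (A := A) δ g n) k) * D ^ k := by
      rw [← Finset.sum_add_distrib]
      refine Finset.sum_congr rfl fun k _ => ?_
      rw [uu_succ, Lop_apply, map_add, add_mul]
    rw [hR, Finset.sum_range_succ (fun k => mN A N (g * δ (uu (A := A) δ g n k)) * D ^ k) (n + 1),
      Finset.sum_range_succ'
        (fun k => mN A N (g * (Sop (A := A)) (uu (A := A) δ g n) k) * D ^ k) (n + 1)]
    simp only [uu_eq_zero_of_lt δ g n (n + 1) (Nat.lt_succ_self n), map_zero, mul_zero, zero_mul,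
      add_zero, Sop_zero, Sop_succ]

variable (p : ℕ) [hp : Fact p.Prime] [CharP B p]

/-- Hochschild's formula -/
theorem hochschild (D : Module.End A N)
    (hDm : ∀ b, D * mN A N b = mN A N (δ b) + mN A N b * D) :
    (mN A N g * D) ^ p =
      mN A N (g ^ p) * D ^ p + mN A N (hh δ g p) * D := by
  rw [pow_eq_sum δ g D hDm p]
  rw [Finset.sum_eq_add p 1 hp.out.one_lt.ne']
  · rw [uu_diag, uu_one (A := A) δ g p, pow_one]
  · intro c _ hc
    rw [uu_other (A := A) δ g p c hc.2 hc.1, map_zero, zero_mul]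
  · intro h
    exact absurd (Finset.mem_range.2 (Nat.lt_succ_self p)) h
  · intro h
    exact absurd (Finset.mem_range.2 (by have := hp.out.one_lt; omega)) h

/-- Leibniz rule for the `p`-th power -/
theorem pow_p_leibniz (D : Module.End A N)
    (hDm : ∀ b, D * mN A N b = mN A N (δ b) + mN A N b * D) (b : B) :
    D ^ p * mN A N b = mN A N ((⇑δ)^[p] b) + mN A N b * D ^ p := by
  have h3 : ∀ n : ℕ, ∀ b : B, ((fun z => D * z - z * D)^[n]) (mN A N b) = mN A N ((⇑δ)^[n] b) := by
    intro n
    induction n with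
    | zero => intro b; rfl
    | succ n ih =>
      intro b
      rw [Function.iterate_succ_apply', ih, Function.iterate_succ_apply']
      show D * _ - _ * D = _
      rw [hDm]
      noncomm_ring
  have h1 := ad_pow_prime p (natCast_end_eq_zero (A := A) B (N := N) p) D (mN A N b)
  rw [h3] at h1
  rw [h1]
  noncomm_ring

end Transfer

end Groth.Agent.Helper25.PCurvLin
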