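import Mathlib
import Groth.Prelude.Def_Conn
import Groth.Agent.Lib.Helper25.PCurvLin

namespace Groth.Agent.Helper25.PCurvMain

open TensorProduct Groth.Agent.Helper25.PCurvLin

universe v u

variable {A : Type v} {B M : Type u} [CommRing A] [CommRing B] [Algebra A B]
  [AddCommGroup M] [Module B M] [Module A M] [IsScalarTower A B M]

theorem lift_add (θ θ' : Derivation A B B) :
    (θ + θ').liftKaehlerDifferential = θ.liftKaehlerDifferential + θ'.liftKaehlerDifferential :=
  map_add (KaehlerDifferential.linearMapEquivDerivation A B).symm θ θ'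

theorem lift_smul (b : B) (θ : Derivation A B B) :
    (b • θ).liftKaehlerDifferential = b • θ.liftKaehlerDifferential :=
  map_smul (KaehlerDifferential.linearMapEquivDerivation A B).symm b θ

theorem alongDer_eq (nabla : M →ₗ[A] M ⊗[B] KaehlerDifferential A B) (θ θ₀ : Derivation A B B)
    (c : B) (h : θ.liftKaehlerDifferential = c • θ₀.liftKaehlerDifferential) :
    Conn.alongDer nabla θ = mN A M c * Conn.alongDer nabla θ₀ := by
  refine LinearMap.ext fun m => ?_
  show (TensorProduct.rid B M)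
      (TensorProduct.map LinearMap.id θ.liftKaehlerDifferential (nabla m)) =
    c • (TensorProduct.rid B M)
      (TensorProduct.map LinearMap.id θ₀.liftKaehlerDifferential (nabla m))
  rw [h, TensorProduct.map_smul_right, LinearMap.smul_apply, map_smul]

theorem alongDer_leibniz (nabla : M →ₗ[A] M ⊗[B] KaehlerDifferential A B)
    (hc : Conn.IsConn (KaehlerDifferential.D A B) nabla) (θ₀ : Derivation A B B) (b : B) :
    Conn.alongDer nabla θ₀ * mN A M b =
      mN A M (θ₀ b) + mN A M b * Conn.alongDer nabla θ₀ := by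
  refine LinearMap.ext fun m => ?_
  show (TensorProduct.rid B M)
      (TensorProduct.map LinearMap.id θ₀.liftKaehlerDifferential (nabla (b • m))) =
    θ₀ b • m + b • (TensorProduct.rid B M)
      (TensorProduct.map LinearMap.id θ₀.liftKaehlerDifferential (nabla m))
  rw [hc b m, map_add, map_add, map_smul, map_smul, TensorProduct.map_tmul,
    TensorProduct.rid_tmul, Derivation.liftKaehlerDifferential_comp_D, LinearMap.id_apply,
    add_comm]

theorem der_leibniz (θ₀ : Derivation A B B) (b : B) :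
    (θ₀ : B →ₗ[A] B) * mN A B b = mN A B (θ₀ b) + mN A B b * (θ₀ : B →ₗ[A] B) := by
  refine LinearMap.ext fun a => ?_
  show θ₀ (b • a) = θ₀ b • a + b • θ₀ a
  rw [smul_eq_mul, Derivation.leibniz, smul_eq_mul, smul_eq_mul, smul_eq_mul]
  ring

theorem exists_iterPow (p : ℕ) [Fact p.Prime] [CharP B p] (θ₀ : Derivation A B B) :
    ∃ θ₀p : Derivation A B B, Conn.IsIterPow θ₀ p θ₀p := by
  have hL := pow_p_leibniz (A := A) (N := B) θ₀ p (θ₀ : B →ₗ[A] B) (der_leibniz θ₀)
  refine ⟨Derivation.mk' ((θ₀ : B →ₗ[A] B) ^ p) ?_, ?_⟩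
  · intro a b
    have h := LinearMap.congr_fun (hL a) b
    rw [LinearMap.add_apply, Module.End.mul_apply, Module.End.mul_apply, mN_apply, mN_apply,
      mN_apply, smul_eq_mul] at h
    rw [h]
    simp only [Module.End.pow_apply, Derivation.coeFn_coe, smul_eq_mul]
    ring
  · intro b
    show ((θ₀ : B →ₗ[A] B) ^ p) b = _
    rw [Module.End.pow_apply]
    rfl

theorem main (p : ℕ) [Fact p.Prime] [CharP B p]
    (bΩ : Module.Basis (Fin 1) B (KaehlerDifferential A B)) (θ₀ : Derivation A B B)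
    (hθ₀ : θ₀.liftKaehlerDifferential (bΩ 0) = 1)
    (nabla : M →ₗ[A] M ⊗[B] KaehlerDifferential A B)
    (hc : Conn.IsConn (KaehlerDifferential.D A B) nabla)
    (H0 : ∀ θp : Derivation A B B, Conn.IsIterPow θ₀ p θp → Conn.pCurv p nabla θ₀ θp = 0)
    (θ θp : Derivation A B B) (hθ : Conn.IsIterPow θ p θp) : Conn.pCurv p nabla θ θp = 0 := by
  have s1 : ∀ θ' : Derivation A B B, θ'.liftKaehlerDifferential =
      θ'.liftKaehlerDifferential (bΩ 0) • θ₀.liftKaehlerDifferential := by
    intro θ'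
    refine bΩ.ext fun i => ?_
    rw [Subsingleton.elim i 0, LinearMap.smul_apply, hθ₀, smul_eq_mul, mul_one]
  have s2 : ∀ θ' : Derivation A B B, ∀ b,
      θ' b = θ'.liftKaehlerDifferential (bΩ 0) * θ₀ b := by
    intro θ' b
    have h := LinearMap.congr_fun (s1 θ') (KaehlerDifferential.D A B b)
    rw [LinearMap.smul_apply, Derivation.liftKaehlerDifferential_comp_D,
      Derivation.liftKaehlerDifferential_comp_D, smul_eq_mul] at h
    exact h
  obtain ⟨θ₀p, hθ₀p⟩ := exists_iterPow (A := A) p θ₀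
  obtain ⟨f, hf⟩ : ∃ f : B, f = θ.liftKaehlerDifferential (bΩ 0) := ⟨_, rfl⟩
  obtain ⟨f₀, hf₀⟩ : ∃ f₀ : B, f₀ = θ₀p.liftKaehlerDifferential (bΩ 0) := ⟨_, rfl⟩
  obtain ⟨h, hh_def⟩ : ∃ h : B, h = hh θ₀ f p := ⟨_, rfl⟩
  have s1θ : θ.liftKaehlerDifferential = f • θ₀.liftKaehlerDifferential := by
    rw [hf]; exact s1 θ
  have s1θ₀p : θ₀p.liftKaehlerDifferential = f₀ • θ₀.liftKaehlerDifferential := by
    rw [hf₀]; exact s1 θ₀p
  have hDn := alongDer_leibniz nabla hc θ₀
  have e1 : Conn.alongDer nabla θ = mN A M f * Conn.alongDer nabla θ₀ :=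
    alongDer_eq nabla θ θ₀ f s1θ
  have e2 : Conn.alongDer nabla θ₀p = mN A M f₀ * Conn.alongDer nabla θ₀ :=
    alongDer_eq nabla θ₀p θ₀ f₀ s1θ₀p
  have e3 : Conn.alongDer nabla θ₀ ^ p = mN A M f₀ * Conn.alongDer nabla θ₀ := by
    have h3 := H0 θ₀p hθ₀p
    unfold Conn.pCurv at h3
    rw [sub_eq_zero] at h3
    rw [h3, e2]
  have hB := hochschild (A := A) (N := B) θ₀ f p (θ₀ : B →ₗ[A] B) (der_leibniz θ₀)
  rw [← hh_def] at hB
  have hθlin : (θ : B →ₗ[A] B) = mN A B f * (θ₀ : B →ₗ[A] B) := by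
    refine LinearMap.ext fun b => ?_
    rw [hf]
    exact s2 θ b
  have e4 : ∀ b, θp b = f ^ p * θ₀p b + h * θ₀ b := by
    intro b
    rw [hθ b, hθ₀p b]
    have h1 := LinearMap.congr_fun hB b
    rw [← hθlin, Module.End.pow_apply, LinearMap.add_apply, Module.End.mul_apply,
      Module.End.mul_apply, mN_apply, mN_apply, Module.End.pow_apply] at h1
    exact h1
  have e5 : θp = f ^ p • θ₀p + h • θ₀ := by
    refine Derivation.ext fun b => ?_
    rw [e4 b]
    rfl
  have e6 : θp.liftKaehlerDifferential = (f ^ p * f₀ + h) • θ₀.liftKaehlerDifferential := by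
    rw [e5, lift_add, lift_smul, lift_smul, s1θ₀p, smul_smul, ← add_smul]
  have e7 : Conn.alongDer nabla θp = mN A M (f ^ p * f₀ + h) * Conn.alongDer nabla θ₀ :=
    alongDer_eq nabla θp θ₀ _ e6
  have hM := hochschild (A := A) (N := M) θ₀ f p (Conn.alongDer nabla θ₀) hDn
  rw [← hh_def] at hM
  unfold Conn.pCurv
  rw [e1, hM, e3, e7, sub_eq_zero, map_add, map_mul, add_mul, mul_assoc]

end Groth.Agent.Helper25.PCurvMain
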