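import Mathlib
import Groth.Agent.Lib.Helper25.Lang

/-!
# Fitting decomposition for `p`-linear endomorphisms over an algebraically closed field (helper25)
-/

set_option autoImplicit false

namespace Groth.Agent.Helper25.PLinFit

open Groth.Agent.Helper25

variable {p : ℕ} [Fact p.Prime] {k : Type*} [Field k] [CharP k p]
variable {V : Type*} [AddCommGroup V] [Module k V]

theorem iter_smul (F : V →+ V) (hF : ∀ (a : k) (v : V), F (a • v) = a ^ p • F v) (m : ℕ) (a : k)
    (v : V) : (⇑F)^[m] (a • v) = a ^ (p ^ m) • (⇑F)^[m] v := by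
  induction m generalizing a v with
  | zero => simp
  | succ m ih =>
    rw [Function.iterate_succ_apply, Function.iterate_succ_apply, hF, ih, ← pow_mul, ← pow_succ']

theorem iter_add (F : V →+ V) (m : ℕ) (v w : V) :
    (⇑F)^[m] (v + w) = (⇑F)^[m] v + (⇑F)^[m] w := by
  induction m generalizing v w with
  | zero => simp
  | succ m ih =>
    rw [Function.iterate_succ_apply, Function.iterate_succ_apply, Function.iterate_succ_apply,
      map_add, ih]

theorem iter_zero' (F : V →+ V) (m : ℕ) : (⇑F)^[m] (0 : V) = 0 := by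
  induction m with
  | zero => simp
  | succ m ih => rw [Function.iterate_succ_apply, map_zero, ih]

theorem iter_sum (F : V →+ V) (m : ℕ) {ι : Type*} (s : Finset ι) (f : ι → V) :
    (⇑F)^[m] (∑ i ∈ s, f i) = ∑ i ∈ s, (⇑F)^[m] (f i) := by
  induction m generalizing f with
  | zero => simp
  | succ m ih =>
    rw [Function.iterate_succ_apply, map_sum, ih]
    simp only [Function.iterate_succ_apply]

/-- the kernel of the `m`-th iterate, as a subspace -/
def kerIter (F : V →+ V) (hF : ∀ (a : k) (v : V), F (a • v) = a ^ p • F v) (m : ℕ) :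
    Submodule k V where
  carrier := {v | (⇑F)^[m] v = 0}
  add_mem' := by
    intro a b ha hb
    simp only [Set.mem_setOf_eq] at *
    rw [iter_add, ha, hb, add_zero]
  zero_mem' := by
    simp only [Set.mem_setOf_eq]
    rw [iter_zero']
  smul_mem' := by
    intro c v hv
    simp only [Set.mem_setOf_eq] at *
    rw [iter_smul F hF, hv, smul_zero]

theorem kerIter_mono (F : V →+ V) (hF : ∀ (a : k) (v : V), F (a • v) = a ^ p • F v) :
    Monotone (kerIter F hF) := by
  apply monotone_nat_of_le_succ
  intro m v hv
  show (⇑F)^[m+1] v = 0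
  rw [Function.iterate_succ_apply', show (⇑F)^[m] v = 0 from hv, map_zero]

theorem exists_W [FiniteDimensional k V] (F : V →+ V)
    (hF : ∀ (a : k) (v : V), F (a • v) = a ^ p • F v) :
    ∃ (N : ℕ) (W : Submodule k V), (∀ v, v ∈ W ↔ (⇑F)^[N] v = 0) ∧
      (∀ v, (⇑F)^[N+1] v = 0 → v ∈ W) ∧
      Submodule.span k {v : V | ∃ m : ℕ, (⇑F)^[m] v = 0} = W := by
  obtain ⟨N, hN⟩ := (monotone_stabilizes_iff_noetherian.mpr (inferInstance : IsNoetherian k V))
    ⟨kerIter F hF, kerIter_mono F hF⟩
  refine ⟨N, kerIter F hF N, fun v => Iff.rfl, ?_, ?_⟩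
  · intro v hv
    have h1 : v ∈ kerIter F hF (N + 1) := hv
    have h2 := hN (N + 1) (Nat.le_succ N)
    simp only [OrderHom.coe_mk] at h2
    rw [h2]
    exact h1
  · apply le_antisymm
    · apply Submodule.span_le.mpr
      rintro v ⟨m, hm⟩
      have h1 : v ∈ kerIter F hF m := hm
      have h2 : kerIter F hF m ≤ kerIter F hF (max m N) := kerIter_mono F hF (le_max_left _ _)
      have h3 := hN (max m N) (le_max_right _ _)
      simp only [OrderHom.coe_mk] at h3
      rw [SetLike.mem_coe, h3]
      exact h2 h1
    · intro v hv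
      exact Submodule.subset_span ⟨N, hv⟩

/-- the semilinear map attached to `F` -/
def semi (F : V →+ V) (hF : ∀ (a : k) (v : V), F (a • v) = a ^ p • F v) :
    V →ₛₗ[frobenius k p] V where
  toFun := F
  map_add' := F.map_add
  map_smul' := by
    intro a v
    rw [hF, frobenius_def]

theorem isCompl [IsAlgClosed k] [FiniteDimensional k V] (F : V →+ V)
    (hF : ∀ (a : k) (v : V), F (a • v) = a ^ p • F v) :
    IsCompl (Submodule.span k {v : V | F v = v})
      (Submodule.span k {v : V | ∃ m : ℕ, (⇑F)^[m] v = 0}) := by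
  classical
  have hp : p.Prime := Fact.out
  obtain ⟨N, W, hWmem, hWsucc, hWspan⟩ := exists_W F hF
  rw [hWspan]
  have hdisj : Disjoint (Submodule.span k {v : V | F v = v}) W := by
    rw [Submodule.disjoint_def]
    intro x hx1 hx2
    obtain ⟨b, hbs, hbspan, hbli⟩ := exists_linearIndependent k {v : V | F v = v}
    rw [← hbspan] at hx1
    obtain ⟨c, hc⟩ := (Finsupp.mem_span_iff_linearCombination k b x).mp hx1
    have hx : x = ∑ i ∈ c.support, c i • (i : V) := by
      rw [← hc, Finsupp.linearCombination_apply, Finsupp.sum]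
    have hGx : (⇑F)^[N] x = ∑ i ∈ c.support, (c i) ^ (p ^ N) • (i : V) := by
      rw [hx, iter_sum]
      refine Finset.sum_congr rfl fun i _ => ?_
      rw [iter_smul F hF, Function.iterate_fixed (hbs i.2)]
    have h0 : (⇑F)^[N] x = 0 := (hWmem x).mp hx2
    have h1 := linearIndependent_iff'.mp hbli c.support (fun i => (c i) ^ (p ^ N))
      (by rw [← hGx]; exact h0)
    have hc0 : c = 0 := by
      ext i
      by_cases hi : i ∈ c.support
      · exact (pow_eq_zero_iff (pow_ne_zero N hp.ne_zero)).mp (h1 i hi)
      · simpa using hi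
    rw [← hc, hc0, map_zero]
  have hcodisj : Submodule.span k {v : V | F v = v} ⊔ W = ⊤ := by
    have hWle : W ≤ W.comap (semi F hF) := by
      intro v hv
      show F v ∈ W
      rw [hWmem, ← Function.iterate_succ_apply]
      have := (hWmem v).mp hv
      rw [Function.iterate_succ_apply', this, map_zero]
    have hΦ : ∀ x, W.mapQ W (semi F hF) hWle (W.mkQ x) = W.mkQ (F x) := fun x => rfl
    have hinj : Function.Injective (W.mapQ W (semi F hF) hWle) := by
      rw [← LinearMap.ker_eq_bot, LinearMap.ker_eq_bot']
      intro y hy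
      obtain ⟨x, rfl⟩ := W.mkQ_surjective y
      rw [hΦ] at hy
      have h1 : F x ∈ W := (Submodule.Quotient.mk_eq_zero _).mp hy
      have h2 : x ∈ W := by
        apply hWsucc
        rw [Function.iterate_succ_apply]
        exact (hWmem _).mp h1
      exact (Submodule.Quotient.mk_eq_zero _).mpr h2
    have htop := Lang.fixedSpan_eq_top (q := p) hp.two_le (fun a => by rw [frobenius_def])
      (W.mapQ W (semi F hF) hWle) hinj
    have hlift : ∀ y : V ⧸ W, W.mapQ W (semi F hF) hWle y = y → ∃ v, F v = v ∧ W.mkQ v = y := by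
      intro y hy
      obtain ⟨x, rfl⟩ := W.mkQ_surjective y
      rw [hΦ] at hy
      have hw : F x - x ∈ W := by
        rw [← Submodule.Quotient.mk_eq_zero, Submodule.Quotient.mk_sub, sub_eq_zero]
        exact hy
      have hw' : (⇑F)^[N] (F x - x) = 0 := (hWmem _).mp hw
      obtain ⟨u, hu, huW⟩ : ∃ u, F u - u = -(F x - x) ∧ u ∈ W := by
        refine ⟨∑ j ∈ Finset.range N, (⇑F)^[j] (F x - x), ?_, ?_⟩
        · rw [map_sum]
          have h3 : ∀ j, F ((⇑F)^[j] (F x - x)) = (⇑F)^[j+1] (F x - x) :=
            fun j => (Function.iterate_succ_apply' _ _ _).symm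
          simp_rw [h3]
          rw [← Finset.sum_sub_distrib, Finset.sum_range_sub (fun j => (⇑F)^[j] (F x - x)), hw',
            Function.iterate_zero, id, zero_sub]
        · apply Submodule.sum_mem
          intro j _
          rw [hWmem, ← Function.iterate_add_apply, add_comm, Function.iterate_add_apply, hw',
            iter_zero']
      refine ⟨x + u, ?_, ?_⟩
      · have h3 : F u = u + -(F x - x) := by rw [← hu]; abel
        rw [map_add, h3]
        abel
      · rw [map_add, show W.mkQ u = 0 from (Submodule.Quotient.mk_eq_zero _).mpr huW, add_zero]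
    have hmap : Submodule.map W.mkQ (Submodule.span k {v : V | F v = v}) = ⊤ := by
      rw [eq_top_iff, ← htop]
      show Submodule.span k {v | W.mapQ W (semi F hF) hWle v = v} ≤ _
      apply Submodule.span_le.mpr
      intro y hy
      obtain ⟨v, hv, rfl⟩ := hlift y hy
      exact Submodule.mem_map_of_mem (Submodule.subset_span hv)
    have h4 := Submodule.comap_map_mkQ W (Submodule.span k {v : V | F v = v})
    rw [hmap, Submodule.comap_top] at h4
    rw [sup_comm]
    exact h4.symm
  exact ⟨hdisj, codisjoint_iff.mpr hcodisj⟩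

theorem mem_primeField_of_pow_eq (a : k) (ha : a ^ p = a) : ∃ n : ℕ, (n : k) = a := by
  classical
  have hp : p.Prime := Fact.out
  have hP : (Polynomial.X ^ p - Polynomial.X : Polynomial k) ≠ 0 :=
    FiniteField.X_pow_card_sub_X_ne_zero k hp.one_lt
  have hdeg : (Polynomial.X ^ p - Polynomial.X : Polynomial k).natDegree = p :=
    FiniteField.X_pow_card_sub_X_natDegree_eq k hp.one_lt
  have hsub : (Finset.range p).image (Nat.cast : ℕ → k) ⊆
      (Polynomial.X ^ p - Polynomial.X : Polynomial k).roots.toFinset := by
    intro y hy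
    obtain ⟨n, -, rfl⟩ := Finset.mem_image.mp hy
    rw [Multiset.mem_toFinset, Polynomial.mem_roots hP, Polynomial.IsRoot.def]
    simp only [Polynomial.eval_sub, Polynomial.eval_pow, Polynomial.eval_X]
    have : (n : k) ^ p = n := by
      have := map_natCast (frobenius k p) n
      rwa [frobenius_def] at this
    rw [this, sub_self]
  have hcard : ((Finset.range p).image (Nat.cast : ℕ → k)).card = p := by
    rw [Finset.card_image_of_injOn, Finset.card_range]
    intro x hx y hy hxy
    exact CharP.natCast_injOn_Iio k p (by simpa using hx) (by simpa using hy) hxy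
  have hle : (Polynomial.X ^ p - Polynomial.X : Polynomial k).roots.toFinset.card ≤
      ((Finset.range p).image (Nat.cast : ℕ → k)).card := by
    rw [hcard]
    calc _ ≤ Multiset.card (Polynomial.X ^ p - Polynomial.X : Polynomial k).roots :=
          Multiset.toFinset_card_le _
      _ ≤ (Polynomial.X ^ p - Polynomial.X : Polynomial k).natDegree := Polynomial.card_roots' _
      _ = p := hdeg
  have heq := Finset.eq_of_subset_of_card_le hsub hle
  have hmem : a ∈ (Polynomial.X ^ p - Polynomial.X : Polynomial k).roots.toFinset := by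
    rw [Multiset.mem_toFinset, Polynomial.mem_roots hP, Polynomial.IsRoot.def]
    simp only [Polynomial.eval_sub, Polynomial.eval_pow, Polynomial.eval_X]
    rw [ha, sub_self]
  rw [← heq] at hmem
  obtain ⟨n, -, hn⟩ := Finset.mem_image.mp hmem
  exact ⟨n, hn⟩

theorem linInd (F : V →+ V) (hF : ∀ (a : k) (v : V), F (a • v) = a ^ p • F v) (s : Finset V)
    (hs : ∀ v ∈ s, F v = v)
    (hZ : ∀ c : s → ℤ, (∑ v : s, c v • (v : V)) = 0 → ∀ v : s, (p : ℤ) ∣ c v) :
    LinearIndependent k (fun v : s => (v : V)) := by
  classical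
  have hp : p.Prime := Fact.out
  rw [Fintype.linearIndependent_iff]
  have key : ∀ n : ℕ, ∀ a : s → k, (Finset.univ.filter (fun v => a v ≠ 0)).card ≤ n →
      ∑ v : s, a v • (v : V) = 0 → ∀ v, a v = 0 := by
    intro n
    induction n with
    | zero =>
      intro a hcard _ v
      by_contra hv
      have h1 : v ∈ Finset.univ.filter (fun v => a v ≠ 0) := by simp [hv]
      have h2 := Finset.card_pos.mpr ⟨v, h1⟩
      omega
    | succ n ih =>
      intro a hcard hrel
      by_contra hne
      push Not at hne
      obtain ⟨v0, hv0⟩ := hne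
      obtain ⟨a', ha'⟩ : ∃ a' : s → k, ∀ v, a' v = (a v0)⁻¹ * a v := ⟨_, fun _ => rfl⟩
      have ha'0 : a' v0 = 1 := by rw [ha']; exact inv_mul_cancel₀ hv0
      have hrel' : ∑ v : s, a' v • (v : V) = 0 := by
        simp only [ha', mul_smul]
        rw [← Finset.smul_sum, hrel, smul_zero]
      obtain ⟨b, hb⟩ : ∃ b : s → k, ∀ v, b v = a' v ^ p - a' v := ⟨_, fun _ => rfl⟩
      have hbrel : ∑ v : s, b v • (v : V) = 0 := by
        have h1 : F (∑ v : s, a' v • (v : V)) = ∑ v : s, a' v ^ p • (v : V) := by
          rw [map_sum]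
          refine Finset.sum_congr rfl fun v _ => ?_
          rw [hF, hs v v.2]
        simp only [hb, sub_smul]
        rw [Finset.sum_sub_distrib, ← h1, hrel', map_zero, sub_zero]
      have hbcard : (Finset.univ.filter (fun v => b v ≠ 0)).card ≤ n := by
        have hsub : Finset.univ.filter (fun v => b v ≠ 0) ⊆
            (Finset.univ.filter (fun v => a v ≠ 0)).erase v0 := by
          intro v hv
          simp only [Finset.mem_filter, Finset.mem_univ, true_and] at hv
          rw [Finset.mem_erase]
          refine ⟨?_, ?_⟩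
          · rintro rfl
            apply hv
            rw [hb, ha'0, one_pow, sub_self]
          · simp only [Finset.mem_filter, Finset.mem_univ, true_and]
            intro hav
            apply hv
            rw [hb, ha', hav, mul_zero, zero_pow hp.ne_zero, sub_zero]
        have hmem : v0 ∈ Finset.univ.filter (fun v => a v ≠ 0) := by simp [hv0]
        have h5 := Finset.card_le_card hsub
        rw [Finset.card_erase_of_mem hmem] at h5
        omega
      have hb0 := ih b hbcard hbrel
      have hnat : ∀ v, ∃ m : ℕ, (m : k) = a' v := fun v =>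
        mem_primeField_of_pow_eq (p := p) (a' v) (sub_eq_zero.mp (by rw [← hb]; exact hb0 v))
      choose c hc using hnat
      have hcrel : ∑ v : s, ((c v : ℕ) : ℤ) • (v : V) = 0 := by
        rw [← hrel']
        refine Finset.sum_congr rfl fun v _ => ?_
        rw [← hc v, natCast_zsmul, Nat.cast_smul_eq_nsmul]
      have hdvd := hZ (fun v => (c v : ℤ)) hcrel v0
      have h6 : (c v0 : k) = 0 := by
        have h7 : (p : ℕ) ∣ c v0 := by exact_mod_cast hdvd
        exact (CharP.cast_eq_zero_iff k p (c v0)).mpr h7
      rw [hc v0, ha'0] at h6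
      exact one_ne_zero h6
  intro g hg v
  exact key _ g le_rfl hg v

end Groth.Agent.Helper25.PLinFit
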