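import Mathlib

/-!
# Involutions of `k⟦X⟧` are conjugate to `X ↦ ±X`
-/

namespace Groth.Agent.Helper25.PSInvol

open PowerSeries

universe u

variable {k : Type u} [Field k]

theorem sigma_coe (σ : PowerSeries k →ₐ[k] PowerSeries k) (P : Polynomial k) :
    σ (P : PowerSeries k) = Polynomial.aeval (σ X) P := by
  have h : σ.comp (Polynomial.coeToPowerSeries.algHom k) = Polynomial.aeval (σ X) := by
    apply Polynomial.algHom_ext
    simp
  have h2 := DFunLike.congr_fun h P
  simpa using h2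

theorem coeff_pow_mul_eq_zero {s : PowerSeries k} (hs0 : constantCoeff s = 0) (d : ℕ)
    (h : PowerSeries k) : coeff d (s ^ (d + 1) * h) = 0 := by
  obtain ⟨s', hs'⟩ := X_dvd_iff.mpr hs0
  rw [hs', mul_pow, mul_assoc, coeff_X_pow_mul', if_neg (by omega)]

theorem sigma_eq_subst (σ : PowerSeries k →ₐ[k] PowerSeries k)
    (hs0 : constantCoeff (σ X) = 0) (f : PowerSeries k) :
    σ f = subst (σ X) f := by
  have hsub : HasSubst (σ X) := HasSubst.of_constantCoeff_zero' hs0
  ext d
  have hdvd : X ^ (d + 1) ∣ f - ((trunc (d + 1) f : Polynomial k) : PowerSeries k) := by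
    rw [X_pow_dvd_iff]
    intro m hm
    rw [map_sub, Polynomial.coeff_coe, coeff_trunc, if_pos hm, sub_self]
  obtain ⟨g, hg⟩ := hdvd
  have hf : f = ((trunc (d + 1) f : Polynomial k) : PowerSeries k) + X ^ (d + 1) * g := by
    rw [← hg]; ring
  have h1 : σ f = (Polynomial.aeval (σ X) (trunc (d + 1) f) : PowerSeries k) +
      (σ X) ^ (d + 1) * σ g := by
    conv_lhs => rw [hf]
    rw [map_add, map_mul, map_pow, sigma_coe]
  have h2 : (subst (σ X) f : PowerSeries k) =
      (Polynomial.aeval (σ X) (trunc (d + 1) f) : PowerSeries k) +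
        (σ X) ^ (d + 1) * subst (σ X) g := by
    conv_lhs => rw [hf]
    rw [subst_add hsub, subst_mul hsub, subst_pow hsub, subst_X hsub, subst_coe hsub]
  rw [h1, h2, map_add, map_add, coeff_pow_mul_eq_zero hs0, coeff_pow_mul_eq_zero hs0]

theorem coeff_one_subst {s : PowerSeries k} (hs0 : constantCoeff s = 0) (f : PowerSeries k) :
    coeff 1 (subst s f : PowerSeries k) = coeff 1 f * coeff 1 s := by
  have hsub : HasSubst s := HasSubst.of_constantCoeff_zero' hs0
  obtain ⟨s', hs'⟩ := X_dvd_iff.mpr hs0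
  obtain ⟨f', e1⟩ : ∃ f', f = X * f' + C (constantCoeff f) :=
    ⟨_, eq_X_mul_shift_add_const f⟩
  obtain ⟨f'', e2⟩ : ∃ f'', f' = X * f'' + C (constantCoeff f') :=
    ⟨_, eq_X_mul_shift_add_const f'⟩
  have e3 : coeff 1 f = constantCoeff f' := by
    conv_lhs => rw [e1]
    rw [map_add, show (1 : ℕ) = 0 + 1 from rfl, coeff_succ_X_mul, coeff_C,
      if_neg (Nat.succ_ne_zero 0), add_zero, coeff_zero_eq_constantCoeff_apply]
  have e4 : (subst s f : PowerSeries k) =
      s * (s * subst s f'' + C (coeff 1 f)) + C (constantCoeff f) := by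
    conv_lhs => rw [e1]
    rw [subst_add hsub, subst_mul hsub, subst_X hsub, subst_C]
    conv_lhs => rw [e2]
    rw [subst_add hsub, subst_mul hsub, subst_X hsub, subst_C, e3]
    rfl
  have e5 : coeff 1 (s * (s * (subst s f'' : PowerSeries k))) = 0 := by
    have h1 : s * (s * (subst s f'' : PowerSeries k)) =
        X * (X * (s' * s' * (subst s f'' : PowerSeries k))) := by
      rw [hs']; ring
    rw [h1, show (1 : ℕ) = 0 + 1 from rfl, coeff_succ_X_mul, coeff_zero_X_mul]
  have e6 : coeff 1 (s * C (coeff 1 f)) = coeff 1 f * coeff 1 s := by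
    rw [mul_comm, ← smul_eq_C_mul, map_smul, smul_eq_mul]
  rw [e4, map_add, mul_add, map_add, coeff_C, if_neg one_ne_zero, add_zero, e5, e6, zero_add]

theorem main (h2 : (2 : k) ≠ 0) (σ : PowerSeries k ≃ₐ[k] PowerSeries k)
    (hσ : ∀ f, σ (σ f) = f) :
    (coeff 1 (σ X)) ^ 2 = 1 ∧
    ∃ φ : PowerSeries k ≃ₐ[k] PowerSeries k,
      φ X = C (2⁻¹ : k) * (X + C (coeff 1 (σ X)) * σ X) ∧
      ∀ f, φ.symm (σ (φ f)) = rescale (coeff 1 (σ X)) f := by
  obtain ⟨s, hs⟩ : ∃ s, s = σ X := ⟨_, rfl⟩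
  rw [← hs]
  obtain ⟨ξ, hξ⟩ : ∃ ξ, ξ = coeff 1 s := ⟨_, rfl⟩
  rw [← hξ]
  have hσs : σ s = X := by rw [hs, hσ]
  have hσC : ∀ a : k, σ (C a) = C a := fun a => σ.commutes a
  have hs0 : constantCoeff s = 0 := by
    by_contra hne
    have hu : IsUnit s := isUnit_iff_constantCoeff.mpr (IsUnit.mk0 _ hne)
    have hu' : IsUnit (σ s) := hu.map σ
    rw [hσs] at hu'
    have h3 := isUnit_iff_constantCoeff.mp hu'
    rw [constantCoeff_X] at h3
    exact not_isUnit_zero h3
  have hsub : HasSubst s := HasSubst.of_constantCoeff_zero' hs0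
  have hσsub : ∀ f, σ f = subst s f := by
    intro f
    have h3 := sigma_eq_subst (σ : PowerSeries k →ₐ[k] PowerSeries k) (hs ▸ hs0) f
    rw [hs]
    exact h3
  have hξ2 : ξ ^ 2 = 1 := by
    have h1 : (subst s s : PowerSeries k) = X := by rw [← hσsub, hσs]
    have h3 := coeff_one_subst hs0 s
    rw [h1, coeff_one_X, ← hξ] at h3
    rw [pow_two]
    exact h3.symm
  refine ⟨hξ2, ?_⟩
  obtain ⟨u, hu⟩ : ∃ u, u = C (2⁻¹ : k) * (X + C ξ * s) := ⟨_, rfl⟩
  have hξξ : ξ * ξ = 1 := by rw [← pow_two]; exact hξ2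
  have hCC : C ξ * C ξ = (1 : PowerSeries k) := by rw [← map_mul, hξξ, map_one]
  have hu0 : constantCoeff u = 0 := by
    rw [hu, map_mul, map_add, map_mul, constantCoeff_X, hs0, mul_zero, add_zero, mul_zero]
  have hu1' : coeff 1 u = 1 := by
    rw [hu, ← smul_eq_C_mul, map_smul, map_add, coeff_one_X, ← smul_eq_C_mul, map_smul,
      smul_eq_mul, smul_eq_mul, ← hξ, hξξ, one_add_one_eq_two, inv_mul_cancel₀ h2]
  have hu1 : IsUnit (coeff 1 u) := by rw [hu1']; exact isUnit_one
  have husub : HasSubst u := HasSubst.of_constantCoeff_zero' hu0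
  obtain ⟨w, hw⟩ : ∃ w, w = u.substInvOfIsUnit hu1 := ⟨_, rfl⟩
  have hwsub : HasSubst w := by rw [hw]; exact HasSubst.substInvOfIsUnit u hu1
  have huw : (subst w u : PowerSeries k) = X := by
    rw [hw]; exact subst_substInvOfIsUnit_right u hu0 hu1
  have hwu : (subst u w : PowerSeries k) = X := by
    rw [hw]; exact subst_substInvOfIsUnit_left u hu0 hu1
  let φ : PowerSeries k ≃ₐ[k] PowerSeries k :=
    AlgEquiv.ofAlgHom (substAlgHom husub) (substAlgHom hwsub)
      (AlgHom.ext fun f => by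
        rw [AlgHom.comp_apply, coe_substAlgHom, coe_substAlgHom,
          subst_comp_subst_apply hwsub husub, hwu, AlgHom.id_apply]
        exact X_subst f)
      (AlgHom.ext fun f => by
        rw [AlgHom.comp_apply, coe_substAlgHom, coe_substAlgHom,
          subst_comp_subst_apply husub hwsub, huw, AlgHom.id_apply]
        exact X_subst f)
  have hφ : ∀ f, φ f = subst u f := by
    intro f
    show (substAlgHom husub) f = subst u f
    rw [coe_substAlgHom]
  refine ⟨φ, ?_, ?_⟩
  · rw [hφ, subst_X husub, hu]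
  · intro f
    rw [AlgEquiv.symm_apply_eq, hφ, hφ, hσsub, subst_comp_subst_apply husub hsub,
      rescale_eq_subst, subst_comp_subst_apply (HasSubst.smul_X' ξ) husub]
    congr 1
    rw [subst_smul husub, subst_X husub, ← hσsub, hu, map_mul, map_add, map_mul, hσC, hσC,
      hσs, ← hs, smul_eq_C_mul]
    linear_combination (-(C (2⁻¹ : k) * s)) * hCC

end Groth.Agent.Helper25.PSInvol
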