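import Mathlib

namespace Groth.Agent.Helper25.PairCharpoly

open Polynomial Matrix

theorem matrix_identity {K : Type*} [Field K] {ι : Type*} [Fintype ι] [DecidableEq ι]
    (F G : Matrix ι ι K) (c : K) (hc : c ≠ 0) (h : Gᵀ * F = c • (1 : Matrix ι ι K)) :
    F.det • G.charpolyRev =
      ((-1) ^ Fintype.card ι * c ^ Fintype.card ι) • (c⁻¹ • F).charpoly := by
  have h1 : F.det • G.charpolyRev = ((1 - (X : K[X]) • Gᵀ.map C) * F.map C).det := by
    rw [Matrix.det_mul, Polynomial.smul_eq_C_mul, mul_comm]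
    congr 1
    · rw [Matrix.charpolyRev, ← Matrix.det_transpose]
      congr 1
      ext i j
      simp [Matrix.transpose_apply, Matrix.sub_apply, Matrix.one_apply, eq_comm]
    · exact RingHom.map_det C F
  have h2 : ((-1) ^ Fintype.card ι * c ^ Fintype.card ι) • (c⁻¹ • F).charpoly =
      (C (-c) • Matrix.charmatrix (c⁻¹ • F)).det := by
    rw [Matrix.det_smul, Polynomial.smul_eq_C_mul, Matrix.charpoly, ← mul_pow, map_pow]
    congr 3
    ring
  rw [h1, h2]
  congr 1
  rw [Matrix.sub_mul, one_mul, Matrix.smul_mul, ← Matrix.map_mul, h]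
  refine Matrix.ext (fun i j => ?_)
  rw [Matrix.sub_apply, Matrix.smul_apply, Matrix.map_apply, Matrix.map_apply, Matrix.smul_apply,
    Matrix.smul_apply, Matrix.charmatrix_apply, Matrix.smul_apply, Matrix.one_apply,
    Matrix.diagonal_apply]
  simp only [smul_eq_mul]
  have hcc : c * c⁻¹ = 1 := mul_inv_cancel₀ hc
  split_ifs with hij
  · rw [mul_one, map_neg, map_mul]
    have h3 : (C c : K[X]) * C c⁻¹ = 1 := by rw [← map_mul, hcc, map_one]
    linear_combination (-(C (F i j) : K[X])) * h3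
  · rw [mul_zero, map_zero, mul_zero, sub_zero, zero_sub, map_neg, map_mul]
    have h3 : (C c : K[X]) * C c⁻¹ = 1 := by rw [← map_mul, hcc, map_one]
    linear_combination (-(C (F i j) : K[X])) * h3

theorem pair_sum {K V W : Type*} [Field K] [AddCommGroup V] [Module K V] [AddCommGroup W]
    [Module K W] {ι : Type*} [Fintype ι] [DecidableEq ι] (B : V →ₗ[K] W →ₗ[K] K)
    (bV : ι → V) (bW : ι → W)
    (hpair : ∀ l l', B (bV l) (bW l') = if l' = l then 1 else 0) (x y : ι → K) :
    B (∑ l, x l • bV l) (∑ l, y l • bW l) = ∑ l, x l * y l := by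
  have h1 : ∀ w, B (∑ l, x l • bV l) w = ∑ l, x l * B (bV l) w := by
    intro w
    rw [map_sum, LinearMap.sum_apply]
    simp only [map_smul, LinearMap.smul_apply, smul_eq_mul]
  rw [h1]
  apply Finset.sum_congr rfl
  intro l _
  congr 1
  rw [map_sum, Finset.sum_eq_single l]
  · rw [map_smul, hpair, if_pos rfl, smul_eq_mul, mul_one]
  · intro l' _ hl'
    rw [map_smul, hpair, if_neg hl', smul_zero]
  · intro h; exact absurd (Finset.mem_univ l) h

theorem s13059 (K : Type*) [Field K] (V W : Type*)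
    [AddCommGroup V] [Module K V] [FiniteDimensional K V] [AddCommGroup W] [Module K W]
    [FiniteDimensional K W] (B : V →ₗ[K] W →ₗ[K] K) [B.IsPerfPair] (f : V →ₗ[K] V)
    (g : W →ₗ[K] W)
    (c : K) (hc : c ≠ 0) (hfg : ∀ (v : V) (w : W), B (f v) (g w) = c * B v w) :
    LinearMap.det f • (LinearMap.charpoly g).reverse =
      ((-1) ^ Module.finrank K W * c ^ Module.finrank K W) • (c⁻¹ • f).charpoly := by
  classical
  obtain ⟨bW⟩ : Nonempty (Module.Basis (Fin (Module.finrank K W)) K W) :=
    ⟨Module.finBasis K W⟩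
  obtain ⟨bV, hbV⟩ : ∃ bV : Module.Basis (Fin (Module.finrank K W)) K V,
      ∀ l, B (bV l) = bW.dualBasis l := by
    refine ⟨bW.dualBasis.map B.toPerfPair.symm, fun l => ?_⟩
    rw [Module.Basis.map_apply]
    exact B.apply_symm_toPerfPair_self _
  obtain ⟨F, hF⟩ : ∃ F, F = LinearMap.toMatrix bV bV f := ⟨_, rfl⟩
  obtain ⟨G, hG⟩ : ∃ G, G = LinearMap.toMatrix bW bW g := ⟨_, rfl⟩
  have hpair : ∀ l l', B (bV l) (bW l') = if l' = l then 1 else 0 := by
    intro l l'
    rw [hbV, Module.Basis.dualBasis_apply_self]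
  have hGF : Gᵀ * F = c • (1 : Matrix _ _ K) := by
    ext i j
    rw [Matrix.mul_apply, Matrix.smul_apply, Matrix.one_apply, smul_eq_mul]
    have h1 := hfg (bV j) (bW i)
    have hf : f (bV j) = ∑ l, F l j • bV l := by
      rw [hF]; simp only [LinearMap.toMatrix_apply]; exact (bV.sum_repr _).symm
    have hg : g (bW i) = ∑ l, G l i • bW l := by
      rw [hG]; simp only [LinearMap.toMatrix_apply]; exact (bW.sum_repr _).symm
    rw [hf, hg, pair_sum B bV bW hpair, hpair] at h1
    rw [← h1]
    apply Finset.sum_congr rfl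
    intro l _
    rw [Matrix.transpose_apply, mul_comm]
  have hmain := matrix_identity F G c hc hGF
  rw [Fintype.card_fin] at hmain
  have e1 : F.det = LinearMap.det f := by rw [hF]; exact LinearMap.det_toMatrix bV f
  have e2 : G.charpolyRev = (LinearMap.charpoly g).reverse := by
    rw [← Matrix.reverse_charpoly, hG, LinearMap.charpoly_toMatrix]
  have e3 : (c⁻¹ • F).charpoly = (c⁻¹ • f).charpoly := by
    rw [hF, ← map_smul, LinearMap.charpoly_toMatrix]
  rw [e1, e2, e3] at hmain
  exact hmain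

end Groth.Agent.Helper25.PairCharpoly
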