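import Mathlib
import Groth.Prelude.Def_W4c1etcurveeff2PicMod
import Groth.Agent.Lib.Helper25.LocSymConst

/-!
# The exact sequence `0 → (kˣ)^S / kˣ → Pic_m → Pic → 0` for a reduced modulus
-/

universe u

open CategoryTheory CategoryTheory.Limits AlgebraicGeometry

namespace Groth.Agent.Helper25.PicModSeq

open Groth.Agent.Helper25 W4c1etcurveeff2

section

variable {k : Type u} [Field k] {X : Scheme.{u}} [IsIntegral X]
  {c : X ⟶ Spec (CommRingCat.of k)}

/-- The divisor of a nonzero rational function. -/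
noncomputable def divOf [IsProper c] (hdim : topologicalKrullDim X = 1) (g : X.functionField)
    (hg : g ≠ 0) : LocSym.Pt c →₀ ℤ :=
  Finsupp.ofSupportFinite (fun x => x.ord g) (LocSymFin.finite_ord_ne_zero c hdim g hg)

theorem divOf_apply [IsProper c] (hdim : topologicalKrullDim X = 1) (g : X.functionField)
    (hg : g ≠ 0) (x : LocSym.Pt c) : divOf hdim g hg x = x.ord g := rfl

theorem isDivOf_divOf [IsProper c] (hdim : topologicalKrullDim X = 1) (g : X.functionField)
    (hg : g ≠ 0) : IsDivOf c (divOf hdim g hg) g := ⟨hg, fun _ => rfl⟩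

variable (hdvr : ∀ y : LocSym.Pt c, IsDiscreteValuationRing (X.presheaf.stalk y.pt))

include hdvr

theorem isDivOf_add {D E : LocSym.Pt c →₀ ℤ} {g h : X.functionField} (hD : IsDivOf c D g)
    (hE : IsDivOf c E h) : IsDivOf c (D + E) (g * h) :=
  ⟨mul_ne_zero hD.1 hE.1, fun x => by
    rw [Finsupp.add_apply, hD.2 x, hE.2 x, LocSymExist.ord_mul hdvr x hD.1 hE.1]⟩

theorem isDivOf_neg {D : LocSym.Pt c →₀ ℤ} {g : X.functionField} (hD : IsDivOf c D g) :
    IsDivOf c (-D) g⁻¹ :=
  ⟨inv_ne_zero hD.1, fun x => by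
    rw [Finsupp.neg_apply, hD.2 x, LocSymCrit.ord_inv hdvr x hD.1]⟩

theorem isDivOf_zero : IsDivOf c 0 (1 : X.functionField) :=
  ⟨one_ne_zero, fun x => by rw [Finsupp.zero_apply, LocSymExist.ord_one hdvr x]⟩

theorem mem_principal_iff {D : LocSym.Pt c →₀ ℤ} :
    D ∈ principal c ↔ ∃ g : X.functionField, IsDivOf c D g := by
  constructor
  · intro h
    have h' : D ∈ AddSubgroup.closure {D | ∃ g : X.functionField, IsDivOf c D g} := h
    refine AddSubgroup.closure_induction
      (p := fun D _ => ∃ g : X.functionField, IsDivOf c D g) (fun x hx => hx)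
      ⟨1, isDivOf_zero hdvr⟩ (fun x y _ _ hx hy => ?_) (fun x _ hx => ?_) h'
    · obtain ⟨g, hg⟩ := hx
      obtain ⟨h, hh⟩ := hy
      exact ⟨g * h, isDivOf_add hdvr hg hh⟩
    · obtain ⟨g, hg⟩ := hx
      exact ⟨g⁻¹, isDivOf_neg hdvr hg⟩
  · rintro ⟨g, hg⟩
    exact AddSubgroup.subset_closure ⟨g, hg⟩

theorem cong1At_iff_mem (m : LocSym.Pt c →₀ ℕ) (x : LocSym.Pt c) (hx : x ∈ m.support)
    {g : X.functionField} (hg : g ≠ 0) :
    LocSym.Cong1At m x g ↔ Units.mk0 g hg ∈
      LocSymExist.congSubgroup (fun a : X.functionField => x.ord a)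
        (LocSymExist.isVal_ord hdvr x) (m x) := by
  have h1 : 1 ≤ m x := Nat.one_le_iff_ne_zero.mpr (Finsupp.mem_support_iff.mp hx)
  show (g = 1 ∨ (m x : ℤ) ≤ x.ord (1 - g)) ↔
    (g = 1 ∨ ((max (m x) 1 : ℕ) : ℤ) ≤ x.ord (1 - g))
  rw [max_eq_left h1]

theorem cong1_mul (m : LocSym.Pt c →₀ ℕ) {g h : X.functionField} (hg0 : g ≠ 0) (hh0 : h ≠ 0)
    (hg : LocSym.Cong1 m g) (hh : LocSym.Cong1 m h) : LocSym.Cong1 m (g * h) := by
  intro x hx
  rw [cong1At_iff_mem hdvr m x hx (mul_ne_zero hg0 hh0)]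
  have e : Units.mk0 (g * h) (mul_ne_zero hg0 hh0) = Units.mk0 g hg0 * Units.mk0 h hh0 :=
    Units.ext rfl
  rw [e]
  exact Subgroup.mul_mem _ ((cong1At_iff_mem hdvr m x hx hg0).mp (hg x hx))
    ((cong1At_iff_mem hdvr m x hx hh0).mp (hh x hx))

theorem cong1_inv (m : LocSym.Pt c →₀ ℕ) {g : X.functionField} (hg0 : g ≠ 0)
    (hg : LocSym.Cong1 m g) : LocSym.Cong1 m g⁻¹ := by
  intro x hx
  rw [cong1At_iff_mem hdvr m x hx (inv_ne_zero hg0)]
  have e : Units.mk0 g⁻¹ (inv_ne_zero hg0) = (Units.mk0 g hg0)⁻¹ := Units.ext rfl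
  rw [e]
  exact Subgroup.inv_mem _ ((cong1At_iff_mem hdvr m x hx hg0).mp (hg x hx))

theorem mem_principalMod_iff (m : LocSym.Pt c →₀ ℕ) {D : divAway c m} :
    D ∈ principalMod c m ↔
      ∃ g : X.functionField, IsDivOf c (D : LocSym.Pt c →₀ ℤ) g ∧ LocSym.Cong1 m g := by
  constructor
  · intro h
    have h' : D ∈ AddSubgroup.closure {D : divAway c m | ∃ g : X.functionField,
        IsDivOf c (D : LocSym.Pt c →₀ ℤ) g ∧ LocSym.Cong1 m g} := h
    refine AddSubgroup.closure_induction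
      (p := fun (D : divAway c m) _ => ∃ g : X.functionField,
        IsDivOf c (D : LocSym.Pt c →₀ ℤ) g ∧ LocSym.Cong1 m g) (fun x hx => hx)
      ⟨1, isDivOf_zero hdvr, fun x _ => Or.inl rfl⟩ (fun x y _ _ hx hy => ?_)
      (fun x _ hx => ?_) h'
    · obtain ⟨g, hg, hgc⟩ := hx
      obtain ⟨h, hh, hhc⟩ := hy
      exact ⟨g * h, isDivOf_add hdvr hg hh, cong1_mul hdvr m hg.1 hh.1 hgc hhc⟩
    · obtain ⟨g, hg, hgc⟩ := hx
      exact ⟨g⁻¹, isDivOf_neg hdvr hg, cong1_inv hdvr m hg.1 hgc⟩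
  · rintro ⟨g, hg⟩
    exact AddSubgroup.subset_closure ⟨g, hg⟩

/-- Surjectivity of `Pic_m → Pic`. -/
theorem picModToPic_surjective [IsProper c] [X.IsSeparated] (hdim : topologicalKrullDim X = 1)
    (m : LocSym.Pt c →₀ ℕ) : Function.Surjective (picModToPic c m) := by
  classical
  intro y
  obtain ⟨D₀, rfl⟩ := QuotientAddGroup.mk_surjective y
  obtain ⟨f, hf0, hf⟩ := WeakApprox.exists_forall_eq
    (fun (j : ↥m.support) (a : X.functionField) => j.1.ord a)
    (fun j => LocSymExist.isVal_ord hdvr j.1) (fun j => LocSymExist.exists_ord_eq_one hdvr j.1)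
    (fun j j' hjj' => LocSymExist.exists_ord_sep hdvr j.1 j'.1 (fun h => hjj' (Subtype.ext h)))
    (fun j => D₀ j.1)
  have hD : D₀ - divOf hdim f hf0 ∈ divAway c m := by
    show ∀ x ∈ m.support, (D₀ - divOf hdim f hf0 : LocSym.Pt c →₀ ℤ) x = 0
    intro x hx
    have h1 : x.ord f = D₀ x := hf ⟨x, hx⟩
    rw [Finsupp.sub_apply, divOf_apply, h1, sub_self]
  refine ⟨QuotientAddGroup.mk ⟨D₀ - divOf hdim f hf0, hD⟩, ?_⟩
  show (QuotientAddGroup.mk (D₀ - divOf hdim f hf0) : Pic c) = QuotientAddGroup.mk D₀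
  rw [QuotientAddGroup.eq]
  have e : -(D₀ - divOf hdim f hf0) + D₀ = divOf hdim f hf0 := by abel
  rw [e]
  exact AddSubgroup.subset_closure ⟨f, isDivOf_divOf hdim f hf0⟩

/-- The kernel of `Pic_m → Pic`. -/
theorem picModToPic_eq_zero_iff (m : LocSym.Pt c →₀ ℕ) (y : PicMod c m) :
    picModToPic c m y = 0 ↔
      ∃ (g : X.functionField) (D : divAway c m) (v : LocSym.Pt c → kˣ),
        IsDivOf c (D : LocSym.Pt c →₀ ℤ) g ∧
        (∀ x ∈ m.support, LocSym.HasValueAt x g (v x : k)) ∧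
        y = (QuotientAddGroup.mk D : PicMod c m) := by
  constructor
  · intro hy
    obtain ⟨D, rfl⟩ := QuotientAddGroup.mk_surjective y
    have h0 : (QuotientAddGroup.mk (D : LocSym.Pt c →₀ ℤ) : Pic c) = 0 := hy
    have h1 : (D : LocSym.Pt c →₀ ℤ) ∈ principal c := (QuotientAddGroup.eq_zero_iff _).mp h0
    obtain ⟨g, hg⟩ := (mem_principal_iff hdvr).mp h1
    have hval : ∀ x : LocSym.Pt c, ∃ a : kˣ, x ∈ m.support → LocSym.HasValueAt x g (a : k) := by
      intro x
      by_cases hx : x ∈ m.support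
      · have h2 : (D : LocSym.Pt c →₀ ℤ) x = 0 := D.2 x hx
        obtain ⟨a, ha⟩ := LocSymVal.exists_value hdvr x hg.1 (by rw [← hg.2 x]; exact h2)
        exact ⟨a, fun _ => ha⟩
      · exact ⟨1, fun h => absurd h hx⟩
    choose v hv using hval
    exact ⟨g, D, v, hg, fun x hx => hv x hx, rfl⟩
  · rintro ⟨g, D, v, hg, -, rfl⟩
    show (QuotientAddGroup.mk (D : LocSym.Pt c →₀ ℤ) : Pic c) = 0
    exact (QuotientAddGroup.eq_zero_iff _).mpr (AddSubgroup.subset_closure ⟨g, hg⟩)

/-- Functions with prescribed values and the vanishing of their classes in `Pic_m`. -/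
theorem exists_class_of_values [IsAlgClosed k] [IsProper c] [X.IsSeparated]
    (hdim : topologicalKrullDim X = 1) (m : LocSym.Pt c →₀ ℕ) (hm : ∀ x : LocSym.Pt c, m x ≤ 1)
    (v : LocSym.Pt c → kˣ) :
    ∃ (g : X.functionField) (D : divAway c m),
      IsDivOf c (D : LocSym.Pt c →₀ ℤ) g ∧
      (∀ x ∈ m.support, LocSym.HasValueAt x g (v x : k)) ∧
      ((QuotientAddGroup.mk D : PicMod c m) = 0 ↔ ∃ a : kˣ, ∀ x ∈ m.support, v x = a) := by
  obtain ⟨g, hg0, hgv⟩ := LocSymVal.exists_prescribed_values hdvr m.support v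
  have hord : ∀ x ∈ m.support, x.ord g = 0 := fun x hx =>
    LocSymVal.ord_eq_zero_of_hasValueAt hdvr x (v x).ne_zero (hgv x hx)
  have hz : ∀ x : LocSym.Pt c, x.ord (0 : X.functionField) = 0 :=
    fun x => LocSymVal.ordFrac_zero _ _
  have hDmem : divOf hdim g hg0 ∈ divAway c m := by
    show ∀ x ∈ m.support, divOf hdim g hg0 x = 0
    intro x hx
    rw [divOf_apply]
    exact hord x hx
  refine ⟨g, ⟨divOf hdim g hg0, hDmem⟩, isDivOf_divOf hdim g hg0, hgv, ?_⟩
  constructor
  · intro hD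
    have h1 : (⟨divOf hdim g hg0, hDmem⟩ : divAway c m) ∈ principalMod c m :=
      (QuotientAddGroup.eq_zero_iff _).mp hD
    obtain ⟨h, hh, hcong⟩ := (mem_principalMod_iff hdvr m).mp h1
    have hq0 : g / h ≠ 0 := div_ne_zero hg0 hh.1
    have hq : ∀ x : LocSym.Pt c, x.ord (g / h) = 0 := fun x => by
      have h2 : divOf hdim g hg0 x = x.ord h := hh.2 x
      rw [divOf_apply] at h2
      rw [div_eq_mul_inv, LocSymExist.ord_mul hdvr x hg0 (inv_ne_zero hh.1),
        LocSymCrit.ord_inv hdvr x hh.1, h2]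
      ring
    obtain ⟨a, ha⟩ := LocSymConst.exists_const_of_ord_nonneg c hdvr (g / h)
      (fun x => (hq x).ge)
    have ha0 : a ≠ 0 := by
      rintro rfl
      rw [map_zero] at ha
      exact hq0 ha
    have hb0 : LocSym.constFun c a ≠ 0 := LocSymCrit.constFun_ne_zero ha0
    refine ⟨Units.mk0 a ha0, fun x hx => ?_⟩
    have hh0 : h ≠ 0 := hh.1
    have hga : g = LocSym.constFun c a * h := by
      rw [← ha]
      field_simp
    have hval : LocSym.HasValueAt x g a := by
      rcases hcong x hx with h1' | h1'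
      · left
        rw [hga, h1', mul_one]
      · right
        have hmx : 1 ≤ m x := Nat.one_le_iff_ne_zero.mpr (Finsupp.mem_support_iff.mp hx)
        have hmx' : (1 : ℤ) ≤ (m x : ℤ) := by exact_mod_cast hmx
        have hh1 : (1 : X.functionField) - h ≠ 0 := by
          intro h3
          rw [h3, hz x] at h1'
          linarith
        have e : g - LocSym.constFun c a = LocSym.constFun c a * (-(1 - h)) := by
          rw [hga]; ring
        rw [e, LocSymExist.ord_mul hdvr x hb0 (neg_ne_zero.mpr hh1),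
          LocSymCrit.ord_constFun x ha0, zero_add, LocSymCrit.ord_neg hdvr x hh1]
        linarith
    exact Units.ext (LocSymVal.hasValueAt_unique hdvr x (hgv x hx) hval)
  · rintro ⟨a, ha⟩
    apply (QuotientAddGroup.eq_zero_iff _).mpr
    apply (mem_principalMod_iff hdvr m).mpr
    have hb0 : LocSym.constFun c (a : k) ≠ 0 := LocSymCrit.constFun_ne_zero a.ne_zero
    have hbi0 : (LocSym.constFun c (a : k))⁻¹ ≠ 0 := inv_ne_zero hb0
    refine ⟨g * (LocSym.constFun c (a : k))⁻¹, ⟨mul_ne_zero hg0 hbi0, fun x => ?_⟩, ?_⟩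
    · show divOf hdim g hg0 x = _
      rw [divOf_apply, LocSymExist.ord_mul hdvr x hg0 hbi0, LocSymCrit.ord_inv hdvr x hb0,
        LocSymCrit.ord_constFun x a.ne_zero, neg_zero, add_zero]
    · intro x hx
      have hv := hgv x hx
      rw [ha x hx] at hv
      rcases hv with hv | hv
      · left
        rw [hv, mul_inv_cancel₀ hb0]
      · right
        have hmx : (m x : ℤ) ≤ 1 := by exact_mod_cast hm x
        have hne : g - LocSym.constFun c (a : k) ≠ 0 := by
          intro h3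
          rw [h3, hz x] at hv
          exact lt_irrefl _ hv
        have e : (1 : X.functionField) - g * (LocSym.constFun c (a : k))⁻¹ =
            (g - LocSym.constFun c (a : k)) * (-(LocSym.constFun c (a : k))⁻¹) := by
          have h4 := mul_inv_cancel₀ hb0
          linear_combination (-1 : X.functionField) * h4
        rw [e, LocSymExist.ord_mul hdvr x hne (neg_ne_zero.mpr hbi0),
          LocSymCrit.ord_neg hdvr x hbi0, LocSymCrit.ord_inv hdvr x hb0,
          LocSymCrit.ord_constFun x a.ne_zero, neg_zero, add_zero]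
        linarith

end

end Groth.Agent.Helper25.PicModSeq
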