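import Mathlib
import Groth.Prelude.Def_W4c1etcurveeff2PicMod
import Groth.Agent.Lib.Helper25.PicModSeq

/-!
# Torsion in the generalised Picard group of a reduced modulus

Abstract count: for a homomorphism `Φ : (Ω → kˣ) → P` whose kernel consists of the families
constant on a finite set `S`, the `n`-torsion of the image has `n ^ (|S| - 1)` elements.
-/

universe u

open CategoryTheory CategoryTheory.Limits AlgebraicGeometry

namespace Groth.Agent.Helper25.PicModTors

open Groth.Agent.Helper25 W4c1etcurveeff2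

section Abstract

variable {k : Type*} [Field k]

theorem exists_unit_root [IsAlgClosed k] (n : ℕ) (hn : 1 ≤ n) (a : kˣ) : ∃ b : kˣ, b ^ n = a := by
  obtain ⟨z, hz⟩ := IsAlgClosed.exists_pow_nat_eq (a : k) (show 0 < n by omega)
  have hz0 : z ≠ 0 := by
    rintro rfl
    rw [zero_pow (by omega)] at hz
    exact a.ne_zero hz.symm
  exact ⟨Units.mk0 z hz0, Units.ext (by rw [Units.val_pow_eq_pow_val]; exact hz)⟩

/-- Extension by `1` of a family of roots of unity indexed by a finite set. -/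
noncomputable def extHom (n : ℕ) {Ω : Type*} [DecidableEq Ω] (S : Finset Ω) :
    (↥S → rootsOfUnity n k) →* (Ω → kˣ) where
  toFun u x := if h : x ∈ S then ((u ⟨x, h⟩ : rootsOfUnity n k) : kˣ) else 1
  map_one' := by
    funext x
    by_cases h : x ∈ S
    · simp [h]
    · simp [h]
  map_mul' u w := by
    funext x
    by_cases h : x ∈ S
    · simp [h]
    · simp [h]

theorem extHom_apply_of_mem (n : ℕ) {Ω : Type*} [DecidableEq Ω] (S : Finset Ω)
    (u : ↥S → rootsOfUnity n k) (x : Ω) (h : x ∈ S) :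
    extHom n S u x = ((u ⟨x, h⟩ : rootsOfUnity n k) : kˣ) := dif_pos h

theorem extHom_apply_of_notMem (n : ℕ) {Ω : Type*} [DecidableEq Ω] (S : Finset Ω)
    (u : ↥S → rootsOfUnity n k) (x : Ω) (h : x ∉ S) : extHom n S u x = 1 := dif_neg h

theorem extHom_pow (n : ℕ) {Ω : Type*} [DecidableEq Ω] (S : Finset Ω)
    (u : ↥S → rootsOfUnity n k) : (extHom n S u) ^ n = 1 := by
  funext x
  by_cases h : x ∈ S
  · rw [Pi.pow_apply, extHom_apply_of_mem n S u x h, Pi.one_apply]
    exact (mem_rootsOfUnity n _).mp (u ⟨x, h⟩).2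
  · rw [Pi.pow_apply, extHom_apply_of_notMem n S u x h, one_pow, Pi.one_apply]

theorem card_torsion_range [IsAlgClosed k] (n : ℕ) (hn : 1 ≤ n) (hnk : (n : k) ≠ 0)
    {Ω : Type*} (S : Finset Ω) {P : Type*} [AddCommGroup P] (Φ : (Ω → kˣ) →* Multiplicative P)
    (hker : ∀ v, Φ v = 1 ↔ ∃ a : kˣ, ∀ x ∈ S, v x = a) :
    Nat.card {x : P // n • x = 0 ∧ Multiplicative.ofAdd x ∈ Φ.range} = n ^ (S.card - 1) := by
  classical
  have : NeZero (n : k) := ⟨hnk⟩
  have : NeZero n := ⟨by omega⟩
  have hμ : Nat.card (rootsOfUnity n k) = n := HasEnoughRootsOfUnity.natCard_rootsOfUnity k n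
  have hagree : ∀ v w : Ω → kˣ, (∀ x ∈ S, v x = w x) → Φ v = Φ w := by
    intro v w h
    have h1 : Φ (v / w) = 1 :=
      (hker _).mpr ⟨1, fun x hx => by rw [Pi.div_apply, h x hx, div_self']⟩
    rw [map_div, div_eq_one] at h1
    exact h1
  have hiff : ∀ x : P, (n • x = 0 ∧ Multiplicative.ofAdd x ∈ Φ.range) ↔
      Multiplicative.ofAdd x ∈ (Φ.comp (extHom n S)).range := by
    intro x
    constructor
    · rintro ⟨hnx, hxr⟩
      obtain ⟨v, hv⟩ := MonoidHom.mem_range.mp hxr
      have h1 : Φ (v ^ n) = 1 := by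
        rw [map_pow, hv, ← ofAdd_nsmul, hnx, ofAdd_zero]
      obtain ⟨a, ha⟩ := (hker _).mp h1
      obtain ⟨b, hb⟩ := exists_unit_root n hn a
      have hu : ∀ i : ↥S, v i.1 / b ∈ rootsOfUnity n k := by
        intro i
        rw [mem_rootsOfUnity, div_pow, hb]
        have h2 := ha i.1 i.2
        rw [Pi.pow_apply] at h2
        rw [h2, div_self']
      rw [MonoidHom.mem_range]
      refine ⟨fun i => ⟨v i.1 / b, hu i⟩, ?_⟩
      show Φ (extHom n S fun i => ⟨v i.1 / b, hu i⟩) = Multiplicative.ofAdd x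
      rw [← hv]
      have h2 : Φ (fun _ => b) = 1 := (hker _).mpr ⟨b, fun _ _ => rfl⟩
      have h3 : Φ (extHom n S fun i => ⟨v i.1 / b, hu i⟩) = Φ (v / fun _ => b) :=
        hagree _ _ (fun x hx => by rw [extHom_apply_of_mem n S _ x hx]; rfl)
      rw [h3, map_div, h2, div_one]
    · intro hxr
      obtain ⟨u, hu⟩ := MonoidHom.mem_range.mp hxr
      have hu' : Φ (extHom n S u) = Multiplicative.ofAdd x := hu
      refine ⟨?_, MonoidHom.mem_range.mpr ⟨extHom n S u, hu'⟩⟩
      have h1 : Multiplicative.ofAdd (n • x) = 1 := by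
        rw [ofAdd_nsmul, ← hu', ← map_pow, extHom_pow n S u, map_one]
      exact ofAdd_eq_one.mp h1
  have hcardA : Nat.card {x : P // n • x = 0 ∧ Multiplicative.ofAdd x ∈ Φ.range} =
      Nat.card ↥(Φ.comp (extHom n S)).range :=
    Nat.card_congr (Equiv.subtypeEquiv Multiplicative.ofAdd hiff)
  have hprod : Nat.card (Φ.comp (extHom n S)).ker * Nat.card (Φ.comp (extHom n S)).range =
      n ^ S.card := by
    rw [← Subgroup.index_ker, Subgroup.card_mul_index, Nat.card_fun, hμ,
      Nat.card_eq_fintype_card, Fintype.card_coe]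
  rw [hcardA]
  rcases Nat.eq_zero_or_pos S.card with h0 | hpos
  · rw [h0, pow_zero] at hprod
    rw [h0]
    have h1 : Nat.card (Φ.comp (extHom n S)).range ∣ 1 :=
      ⟨Nat.card (Φ.comp (extHom n S)).ker, by rw [mul_comm]; exact hprod.symm⟩
    simpa using Nat.dvd_one.mp h1
  · obtain ⟨i₀, hi₀⟩ : ∃ i₀, i₀ ∈ S := Finset.card_pos.mp hpos
    have hkermem : ∀ z : rootsOfUnity n k,
        (fun _ : ↥S => z) ∈ (Φ.comp (extHom n S)).ker := by
      intro z
      rw [MonoidHom.mem_ker]
      show Φ (extHom n S fun _ => z) = 1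
      exact (hker _).mpr ⟨(z : kˣ), fun x hx => extHom_apply_of_mem n S _ x hx⟩
    have hkerconst : ∀ (u : (Φ.comp (extHom n S)).ker) (i : ↥S), u.1 ⟨i₀, hi₀⟩ = u.1 i := by
      intro u i
      have hu : Φ (extHom n S u.1) = 1 := MonoidHom.mem_ker.mp u.2
      obtain ⟨a, ha⟩ := (hker _).mp hu
      apply Subtype.ext
      have h1 := ha i.1 i.2
      rw [extHom_apply_of_mem n S _ _ i.2] at h1
      have h2 := ha i₀ hi₀
      rw [extHom_apply_of_mem n S _ _ hi₀] at h2
      exact h2.trans h1.symm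
    have hkercard : Nat.card (Φ.comp (extHom n S)).ker = n := by
      have e : ↥(Φ.comp (extHom n S)).ker ≃ ↥(rootsOfUnity n k) :=
        { toFun := fun u => u.1 ⟨i₀, hi₀⟩
          invFun := fun z => ⟨fun _ => z, hkermem z⟩
          left_inv := fun u => Subtype.ext (funext fun i => hkerconst u i)
          right_inv := fun z => rfl }
      exact (Nat.card_congr e).trans hμ
    rw [hkercard] at hprod
    have h1 : n * Nat.card (Φ.comp (extHom n S)).range = n * n ^ (S.card - 1) := by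
      rw [hprod, ← pow_succ', Nat.sub_add_cancel hpos]
    exact Nat.eq_of_mul_eq_mul_left (by omega) h1

end Abstract

section Sch

variable {k : Type u} [Field k] {X : Scheme.{u}} [IsIntegral X]
  {c : X ⟶ Spec (CommRingCat.of k)}

variable (hdvr : ∀ y : LocSym.Pt c, IsDiscreteValuationRing (X.presheaf.stalk y.pt))

omit [IsIntegral X] in
theorem ord_zero' [IsIntegral X] (x : LocSym.Pt c) : x.ord (0 : X.functionField) = 0 :=
  LocSymVal.ordFrac_zero _ _

include hdvr

omit hdvr in
theorem pos_of_hasValueAt (x : LocSym.Pt c) {g : X.functionField} {a : k}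
    (h : LocSym.HasValueAt x g a) :
    g - LocSym.constFun c a = 0 ∨ 1 ≤ x.ord (g - LocSym.constFun c a) := by
  rcases h with h | h
  · left; exact sub_eq_zero.mpr h
  · right; omega

theorem hasValueAt_mul (x : LocSym.Pt c) {g h : X.functionField} {a b : k} (ha : a ≠ 0)
    (hb : b ≠ 0) (hg : LocSym.HasValueAt x g a) (hh : LocSym.HasValueAt x h b) :
    LocSym.HasValueAt x (g * h) (a * b) := by
  have hvx := LocSymExist.isVal_ord hdvr x
  have hh0 : h ≠ 0 := by
    rintro rfl
    exact LocSymVal.not_hasValueAt_zero x hb hh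
  have hordh : x.ord h = 0 := LocSymVal.ord_eq_zero_of_hasValueAt hdvr x hb hh
  have hA0 : LocSym.constFun c a ≠ 0 := LocSymCrit.constFun_ne_zero ha
  have hP1 : (g - LocSym.constFun c a) * h = 0 ∨ 1 ≤ x.ord ((g - LocSym.constFun c a) * h) := by
    rcases pos_of_hasValueAt x hg with h1 | h1
    · left; rw [h1, zero_mul]
    · right
      have hne : g - LocSym.constFun c a ≠ 0 := by
        intro h2
        rw [h2, ord_zero' x] at h1
        omega
      rw [LocSymExist.ord_mul hdvr x hne hh0, hordh, add_zero]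
      exact h1
  have hP2 : LocSym.constFun c a * (h - LocSym.constFun c b) = 0 ∨
      1 ≤ x.ord (LocSym.constFun c a * (h - LocSym.constFun c b)) := by
    rcases pos_of_hasValueAt x hh with h1 | h1
    · left; rw [h1, mul_zero]
    · right
      have hne : h - LocSym.constFun c b ≠ 0 := by
        intro h2
        rw [h2, ord_zero' x] at h1
        omega
      rw [LocSymExist.ord_mul hdvr x hA0 hne, LocSymCrit.ord_constFun x ha, zero_add]
      exact h1
  have hP := LocSymVal.pos_add x hvx hP1 hP2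
  have e : (g - LocSym.constFun c a) * h + LocSym.constFun c a * (h - LocSym.constFun c b) =
      g * h - LocSym.constFun c (a * b) := by
    rw [map_mul]; ring
  rw [e] at hP
  rcases hP with hP | hP
  · left; exact sub_eq_zero.mp hP
  · right; omega

theorem hasValueAt_inv (x : LocSym.Pt c) {g : X.functionField} {a : k} (ha : a ≠ 0)
    (hg : LocSym.HasValueAt x g a) : LocSym.HasValueAt x g⁻¹ a⁻¹ := by
  have hg0 : g ≠ 0 := by
    rintro rfl
    exact LocSymVal.not_hasValueAt_zero x ha hg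
  have hordg : x.ord g = 0 := LocSymVal.ord_eq_zero_of_hasValueAt hdvr x ha hg
  have hA0 : LocSym.constFun c a ≠ 0 := LocSymCrit.constFun_ne_zero ha
  rcases hg with hg | hg
  · left
    rw [hg, map_inv₀]
  · right
    have hne : g - LocSym.constFun c a ≠ 0 := by
      intro h2
      rw [h2, ord_zero' x] at hg
      exact lt_irrefl _ hg
    have h1 : g * g⁻¹ = 1 := mul_inv_cancel₀ hg0
    have h2 : LocSym.constFun c a * (LocSym.constFun c a)⁻¹ = 1 := mul_inv_cancel₀ hA0
    have e : g⁻¹ - LocSym.constFun c a⁻¹ =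
        -((g - LocSym.constFun c a) * (g⁻¹ * (LocSym.constFun c a)⁻¹)) := by
      rw [map_inv₀]
      linear_combination ((LocSym.constFun c a)⁻¹) * h1 - (g⁻¹) * h2
    have hne2 : g⁻¹ * (LocSym.constFun c a)⁻¹ ≠ 0 :=
      mul_ne_zero (inv_ne_zero hg0) (inv_ne_zero hA0)
    rw [e, LocSymCrit.ord_neg hdvr x (mul_ne_zero hne hne2),
      LocSymExist.ord_mul hdvr x hne hne2,
      LocSymExist.ord_mul hdvr x (inv_ne_zero hg0) (inv_ne_zero hA0),
      LocSymCrit.ord_inv hdvr x hg0, LocSymCrit.ord_inv hdvr x hA0, hordg,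
      LocSymCrit.ord_constFun x ha]
    simpa using hg

/-- Two functions with the same nonzero values on the support of a reduced modulus have the same
class in `Pic_m`. -/
theorem mk_eq_of_values (m : LocSym.Pt c →₀ ℕ) (hm : ∀ x : LocSym.Pt c, m x ≤ 1)
    (v : LocSym.Pt c → kˣ) {g g' : X.functionField} {D D' : divAway c m}
    (hD : IsDivOf c (D : LocSym.Pt c →₀ ℤ) g) (hD' : IsDivOf c (D' : LocSym.Pt c →₀ ℤ) g')
    (hv : ∀ x ∈ m.support, LocSym.HasValueAt x g (v x : k))
    (hv' : ∀ x ∈ m.support, LocSym.HasValueAt x g' (v x : k)) :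
    (QuotientAddGroup.mk D : PicMod c m) = QuotientAddGroup.mk D' := by
  rw [QuotientAddGroup.eq]
  apply (PicModSeq.mem_principalMod_iff hdvr m).mpr
  refine ⟨g⁻¹ * g', ?_, ?_⟩
  · exact PicModSeq.isDivOf_add hdvr (PicModSeq.isDivOf_neg hdvr hD) hD'
  · intro x hx
    have h1 : LocSym.HasValueAt x (g⁻¹ * g') ((v x : k)⁻¹ * (v x : k)) :=
      hasValueAt_mul hdvr x (inv_ne_zero (v x).ne_zero) (v x).ne_zero
        (hasValueAt_inv hdvr x (v x).ne_zero (hv x hx)) (hv' x hx)
    rw [inv_mul_cancel₀ (v x).ne_zero] at h1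
    rcases h1 with h1 | h1
    · left; rw [h1, map_one]
    · right
      rw [map_one] at h1
      have hmx : (m x : ℤ) ≤ 1 := by exact_mod_cast hm x
      have hq1 : g⁻¹ * g' - 1 ≠ 0 := by
        intro h2
        rw [h2, ord_zero' x] at h1
        exact lt_irrefl _ h1
      have h3 : x.ord (1 - g⁻¹ * g') = x.ord (g⁻¹ * g' - 1) := by
        rw [← neg_sub (g⁻¹ * g') 1, LocSymCrit.ord_neg hdvr x hq1]
      rw [h3]
      linarith

/-- Torsion of `Pic_m` for a reduced modulus. -/
theorem picMod_torsion [IsAlgClosed k] [IsProper c] [X.IsSeparated]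
    (hdim : topologicalKrullDim X = 1) (m : LocSym.Pt c →₀ ℕ)
    (hm : ∀ x : LocSym.Pt c, m x ≤ 1) (s : ℕ) (hs : m.support.card = s) (n : ℕ) (hn : 1 ≤ n)
    (hnk : (n : k) ≠ 0) :
    (∀ y : Pic c, n • y = 0 → ∃ x : PicMod c m, n • x = 0 ∧ picModToPic c m x = y) ∧
    Nat.card {x : PicMod c m // n • x = 0 ∧ picModToPic c m x = 0} = n ^ (s - 1) := by
  classical
  choose gsel Dsel hsel1 hsel2 hsel3 using PicModSeq.exists_class_of_values hdvr hdim m hm
  have hmul : ∀ v w : LocSym.Pt c → kˣ,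
      (QuotientAddGroup.mk (Dsel (v * w)) : PicMod c m) =
        QuotientAddGroup.mk (Dsel v) + QuotientAddGroup.mk (Dsel w) := by
    intro v w
    have h1 : IsDivOf c ((Dsel v + Dsel w : divAway c m) : LocSym.Pt c →₀ ℤ)
        (gsel v * gsel w) := PicModSeq.isDivOf_add hdvr (hsel1 v) (hsel1 w)
    have h2 : ∀ x ∈ m.support,
        LocSym.HasValueAt x (gsel v * gsel w) (((v * w) x : kˣ) : k) := fun x hx =>
      hasValueAt_mul hdvr x (v x).ne_zero (w x).ne_zero (hsel2 v x hx) (hsel2 w x hx)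
    exact mk_eq_of_values hdvr m hm (v * w) (hsel1 (v * w)) h1 (hsel2 (v * w)) h2
  obtain ⟨Φ₀, hΦ₀⟩ : ∃ Φ₀ : (LocSym.Pt c → kˣ) →* Multiplicative (PicMod c m),
      ∀ v, Φ₀ v = Multiplicative.ofAdd (QuotientAddGroup.mk (Dsel v) : PicMod c m) :=
    ⟨MonoidHom.mk'
      (fun v => Multiplicative.ofAdd (QuotientAddGroup.mk (Dsel v) : PicMod c m))
      (fun v w => by
        show Multiplicative.ofAdd (QuotientAddGroup.mk (Dsel (v * w)) : PicMod c m) = _
        rw [hmul v w]
        rfl), fun v => rfl⟩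
  have hkerΦ : ∀ v, Φ₀ v = 1 ↔ ∃ a : kˣ, ∀ x ∈ m.support, v x = a := fun v => by
    rw [hΦ₀, ofAdd_eq_one]
    exact hsel3 v
  have hrange : ∀ x : PicMod c m,
      picModToPic c m x = 0 ↔ Multiplicative.ofAdd x ∈ Φ₀.range := by
    intro x
    rw [PicModSeq.picModToPic_eq_zero_iff hdvr m x, MonoidHom.mem_range]
    constructor
    · rintro ⟨g, D, v, hD, hv, rfl⟩
      refine ⟨v, ?_⟩
      rw [hΦ₀]
      exact congrArg Multiplicative.ofAdd
        (mk_eq_of_values hdvr m hm v (hsel1 v) hD (hsel2 v) hv)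
    · rintro ⟨v, hv⟩
      rw [hΦ₀] at hv
      exact ⟨gsel v, Dsel v, v, hsel1 v, hsel2 v, (Multiplicative.ofAdd.injective hv).symm⟩
  constructor
  · intro y hy
    obtain ⟨x₀, hx₀⟩ := PicModSeq.picModToPic_surjective hdvr hdim m y
    have h1 : picModToPic c m (n • x₀) = 0 := by rw [map_nsmul, hx₀, hy]
    obtain ⟨v, hv⟩ := MonoidHom.mem_range.mp ((hrange _).mp h1)
    choose w hw using fun x => exists_unit_root n hn (v x)
    have hwv : w ^ n = v := funext fun x => by rw [Pi.pow_apply, hw x]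
    obtain ⟨z, hz⟩ : ∃ z : PicMod c m, Multiplicative.ofAdd z = Φ₀ w :=
      ⟨Multiplicative.toAdd (Φ₀ w), rfl⟩
    have hz0 : picModToPic c m z = 0 :=
      (hrange z).mpr (MonoidHom.mem_range.mpr ⟨w, hz.symm⟩)
    have hnz : n • z = n • x₀ := by
      apply Multiplicative.ofAdd.injective
      rw [ofAdd_nsmul, hz, ← map_pow, hwv, hv]
    refine ⟨x₀ - z, ?_, ?_⟩
    · rw [nsmul_sub, hnz, sub_self]
    · rw [map_sub, hx₀, hz0, sub_zero]
  · rw [← hs, ← card_torsion_range n hn hnk m.support Φ₀ hkerΦ]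
    exact Nat.card_congr (Equiv.subtypeEquivRight (fun x => and_congr_right' (hrange x)))

end Sch

end Groth.Agent.Helper25.PicModTors
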