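import Mathlib

namespace Groth.Agent.Helper25.PlaneDiff

open MvPolynomial

/-- chain rule for derivations and `MvPolynomial.aeval` -/
lemma deriv_aeval {k R M σ : Type*} [CommRing k] [CommRing R] [Algebra k R] [AddCommGroup M]
    [Module k M] [Module R M] [IsScalarTower k R M] [Fintype σ]
    (D : Derivation k R M) (v : σ → R) (f : MvPolynomial σ k) :
    D (aeval v f) = ∑ i, aeval v (pderiv i f) • D (v i) := by
  classical
  induction f using MvPolynomial.induction_on with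
  | C a => simp
  | add p q hp hq => simp [hp, hq, add_smul, Finset.sum_add_distrib]
  | mul_X p j hp =>
    have h1 : ∀ i, aeval v (pderiv i (p * X j))
        = aeval v (pderiv i p) * v j + (if j = i then aeval v p else 0) := by
      intro i
      rw [Derivation.leibniz, pderiv_X, Pi.single_apply]
      split_ifs with h <;> simp [smul_eq_mul, mul_comm, add_comm]
    rw [map_mul, aeval_X, Derivation.leibniz, hp]
    simp only [h1, add_smul, Finset.sum_add_distrib, ite_smul, zero_smul, Finset.sum_ite_eq,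
      Finset.mem_univ, if_true, Finset.smul_sum, smul_smul]
    rw [add_comm]
    congr 1
    apply Finset.sum_congr rfl
    intro i _
    rw [mul_comm]

lemma aeval_scale {k K σ : Type*} [CommSemiring k] [CommSemiring K] [Algebra k K]
    {g : MvPolynomial σ k} {d : ℕ} (hg : g.IsHomogeneous d) (c : K) (w : σ → K) :
    aeval (fun i => c * w i) g = c ^ d * aeval w g := by
  rw [aeval_def, aeval_def, eval₂_eq, eval₂_eq, Finset.mul_sum]
  apply Finset.sum_congr rfl
  intro m hm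
  simp only [mul_pow, Finset.prod_mul_distrib, Finset.prod_pow_eq_pow_sum]
  rw [← hg.degree_eq_sum_deg_support hm]
  ring

lemma key_identity {K M : Type*} [CommRing K] [AddCommGroup M] [Module K M]
    (a00 a01 a02 a10 a11 a12 a20 a21 a22 u0 u1 u2 x y g0 g1 g2 : K) (d0 d1 d2 dx dy : M)
    (S0 : a00 * u0 + a01 * u1 + a02 * u2 = 1)
    (S1 : a10 * u0 + a11 * u1 + a12 * u2 = x)
    (S2 : a20 * u0 + a21 * u1 + a22 * u2 = y)
    (E : g0 + x * g1 + y * g2 = 0)
    (H0 : a00 • d0 + a01 • d1 + a02 • d2 = 0)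
    (H1 : a10 • d0 + a11 • d1 + a12 • d2 = dx)
    (H2 : a20 • d0 + a21 • d1 + a22 • d2 = dy)
    (R : g1 • dx + g2 • dy = 0) :
    (g0 * a02 + g1 * a12 + g2 * a22) • dx =
      (g2 * (a00 * a11 * a22 - a00 * a12 * a21 - a01 * a10 * a22 + a01 * a12 * a20
        + a02 * a10 * a21 - a02 * a11 * a20)) • (u0 • d1 - u1 • d0) := by
  have R1 : (g0 * a00 + g1 * a10 + g2 * a20) * u0 + (g0 * a01 + g1 * a11 + g2 * a21) * u1
      + (g0 * a02 + g1 * a12 + g2 * a22) * u2 = 0 := by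
    linear_combination g0 * S0 + g1 * S1 + g2 * S2 + E
  have R2 : (g0 * a00 + g1 * a10 + g2 * a20) • d0 + (g0 * a01 + g1 * a11 + g2 * a21) • d1
      + (g0 * a02 + g1 * a12 + g2 * a22) • d2 = 0 := by
    linear_combination (norm := module) g0 • H0 + g1 • H1 + g2 • H2 + R
  have B : dx = (a01 * a12 - a02 * a11) • (u1 • d2 - u2 • d1)
      + (-(a00 * a12 - a02 * a10)) • (u2 • d0 - u0 • d2)
      + (a00 * a11 - a01 * a10) • (u0 • d1 - u1 • d0) := by
    linear_combination (norm := module)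
      -(S0 • (a10 • d0 + a11 • d1 + a12 • d2)) - H1 + (a10 * u0 + a11 * u1 + a12 * u2) • H0
  linear_combination (norm := module) (g0 * a02 + g1 * a12 + g2 * a22) • B
    + ((a01 * a12 - a02 * a11) * u1 - (-(a00 * a12 - a02 * a10)) * u0) • R2
    + R1 • (-(a01 * a12 - a02 * a11) • d1 + (-(a00 * a12 - a02 * a10)) • d0)

theorem s12612 (k K : Type*) [Field k] [Field K] [Algebra k K]
    (f : MvPolynomial (Fin 3) k) (e : ℕ) (hf : f.IsHomogeneous e)
    (x y : K) (hfxy : aeval ![(1 : K), x, y] f = 0)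
    (A : Matrix (Fin 3) (Fin 3) k) (hA : A.det ≠ 0)
    (u : Fin 3 → K) (hu : ∀ i, ∑ j, algebraMap k K (A i j) * u j = ![(1 : K), x, y] i)
    (hu0 : u 0 ≠ 0)
    (hfy : aeval ![(1 : K), x, y] (pderiv 2 f) ≠ 0)
    (hfy' : aeval ![(1 : K), u 1 / u 0, u 2 / u 0]
      (pderiv 2 (aeval (fun i : Fin 3 => ∑ j, C (A i j) * X j) f)) ≠ 0) :
    (aeval ![(1 : K), x, y] (pderiv 2 f))⁻¹ • KaehlerDifferential.D k K x =
      (algebraMap k K A.det * (u 0)⁻¹ ^ ((e : ℤ) - 3) *
        (aeval ![(1 : K), u 1 / u 0, u 2 / u 0]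
          (pderiv 2 (aeval (fun i : Fin 3 => ∑ j, C (A i j) * X j) f)))⁻¹) •
        KaehlerDifferential.D k K (u 1 / u 0) := by
  classical
  obtain ⟨P, hP⟩ : ∃ P : Fin 3 → K, P = ![(1 : K), x, y] := ⟨_, rfl⟩
  rw [← hP] at hfxy hfy hu ⊢
  obtain ⟨D, hD⟩ : ∃ D : Derivation k K (Ω[K⁄k]), D = KaehlerDifferential.D k K := ⟨_, rfl⟩
  rw [← hD]
  have hP0 : P 0 = 1 := by simp [hP]
  have hP1 : P 1 = x := by simp [hP]
  have hP2 : P 2 = y := by simp [hP]
  have he : 1 ≤ e := by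
    by_contra h0
    have h00 : e = 0 := by omega
    subst h00
    rw [← totalDegree_zero_iff_isHomogeneous, totalDegree_eq_zero_iff_eq_C] at hf
    apply hfy; rw [hf]; simp
  have hE : aeval P (pderiv 0 f) + x * aeval P (pderiv 1 f) + y * aeval P (pderiv 2 f) = 0 := by
    have h1 := congrArg (aeval P) hf.sum_X_mul_pderiv
    rw [map_sum, Fin.sum_univ_three] at h1
    simp only [map_mul, aeval_X, map_nsmul, hfxy, smul_zero, hP0, hP1, hP2, one_mul] at h1
    exact h1
  have hR : aeval P (pderiv 1 f) • D x + aeval P (pderiv 2 f) • D y = 0 := by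
    have h1 := deriv_aeval D P f
    rw [hfxy, map_zero, Fin.sum_univ_three, hP0, hP1, hP2, Derivation.map_one_eq_zero,
      smul_zero, zero_add] at h1
    exact h1.symm
  have hS : ∀ i, algebraMap k K (A i 0) * u 0 + algebraMap k K (A i 1) * u 1
      + algebraMap k K (A i 2) * u 2 = P i := by
    intro i; have := hu i; rw [Fin.sum_univ_three] at this; exact this
  have hH : ∀ i, algebraMap k K (A i 0) • D (u 0) + algebraMap k K (A i 1) • D (u 1)
      + algebraMap k K (A i 2) • D (u 2) = D (P i) := by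
    intro i
    rw [← hS i]
    simp only [map_add, Derivation.leibniz, Derivation.map_algebraMap, smul_zero, add_zero]
  obtain ⟨V, hV⟩ : ∃ V : Fin 3 → MvPolynomial (Fin 3) k, V = fun i => ∑ j, C (A i j) * X j :=
    ⟨_, rfl⟩
  obtain ⟨P', hP'⟩ : ∃ P' : Fin 3 → K, P' = ![(1 : K), u 1 / u 0, u 2 / u 0] := ⟨_, rfl⟩
  rw [← hV, ← hP'] at hfy' ⊢
  have hF' : aeval P' (pderiv 2 (aeval V f)) = (u 0)⁻¹ ^ (e - 1) *
      (aeval P (pderiv 0 f) * algebraMap k K (A 0 2) + aeval P (pderiv 1 f) * algebraMap k K (A 1 2)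
        + aeval P (pderiv 2 f) * algebraMap k K (A 2 2)) := by
    have h1 := deriv_aeval
      (pderiv (2 : Fin 3) : Derivation k (MvPolynomial (Fin 3) k) (MvPolynomial (Fin 3) k)) V f
    have hV2 : ∀ i, pderiv (2 : Fin 3) (V i) = C (A i 2) := by
      intro i
      rw [hV]
      simp [Fin.sum_univ_three, pderiv_X, Pi.single_apply]
    have hPV : ∀ l, aeval P' (V l) = (u 0)⁻¹ * P l := by
      intro l
      rw [← hS l, hV]
      simp only [Fin.sum_univ_three, map_add, map_mul, aeval_C, aeval_X]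
      have e0 : P' 0 = 1 := by simp [hP']
      have e1 : P' 1 = u 1 / u 0 := by simp [hP']
      have e2 : P' 2 = u 2 / u 0 := by simp [hP']
      rw [e0, e1, e2]
      field_simp
    rw [h1, map_sum, Fin.sum_univ_three]
    simp only [smul_eq_mul, map_mul, hV2, aeval_C, comp_aeval_apply, hPV]
    rw [aeval_scale (hf.pderiv (i := 0)), aeval_scale (hf.pderiv (i := 1)),
      aeval_scale (hf.pderiv (i := 2))]
    ring
  have hDq : D (u 1 / u 0) = (u 0)⁻¹ • D (u 1) - (u 1 * ((u 0)⁻¹) ^ 2) • D (u 0) := by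
    rw [div_eq_mul_inv, Derivation.leibniz, Derivation.leibniz_inv]
    module
  have hkey := key_identity (algebraMap k K (A 0 0)) (algebraMap k K (A 0 1))
    (algebraMap k K (A 0 2)) (algebraMap k K (A 1 0)) (algebraMap k K (A 1 1))
    (algebraMap k K (A 1 2)) (algebraMap k K (A 2 0)) (algebraMap k K (A 2 1))
    (algebraMap k K (A 2 2)) (u 0) (u 1) (u 2) x y
    (aeval P (pderiv 0 f)) (aeval P (pderiv 1 f)) (aeval P (pderiv 2 f))
    (D (u 0)) (D (u 1)) (D (u 2)) (D x) (D y)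
    (by rw [hS 0, hP0]) (by rw [hS 1, hP1]) (by rw [hS 2, hP2]) hE
    (by rw [hH 0, hP0, Derivation.map_one_eq_zero]) (by rw [hH 1, hP1]) (by rw [hH 2, hP2]) hR
  have hdet : algebraMap k K A.det = algebraMap k K (A 0 0) * algebraMap k K (A 1 1) *
      algebraMap k K (A 2 2) - algebraMap k K (A 0 0) * algebraMap k K (A 1 2) *
      algebraMap k K (A 2 1) - algebraMap k K (A 0 1) * algebraMap k K (A 1 0) *
      algebraMap k K (A 2 2) + algebraMap k K (A 0 1) * algebraMap k K (A 1 2) *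
      algebraMap k K (A 2 0) + algebraMap k K (A 0 2) * algebraMap k K (A 1 0) *
      algebraMap k K (A 2 1) - algebraMap k K (A 0 2) * algebraMap k K (A 1 1) *
      algebraMap k K (A 2 0) := by
    rw [Matrix.det_fin_three]; simp only [map_add, map_sub, map_mul]
  rw [← hdet] at hkey
  obtain ⟨g2', hg2'⟩ : ∃ g2' : K, g2' = aeval P (pderiv 0 f) * algebraMap k K (A 0 2)
      + aeval P (pderiv 1 f) * algebraMap k K (A 1 2)
      + aeval P (pderiv 2 f) * algebraMap k K (A 2 2) := ⟨_, rfl⟩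
  rw [← hg2'] at hkey hF'
  have hg2'0 : g2' ≠ 0 := by
    intro h0; apply hfy'; rw [hF', h0, mul_zero]
  obtain ⟨g2, hg2⟩ : ∃ g2 : K, g2 = aeval P (pderiv 2 f) := ⟨_, rfl⟩
  rw [← hg2] at hkey hfy ⊢
  obtain ⟨dt, hdt⟩ : ∃ dt : K, dt = algebraMap k K A.det := ⟨_, rfl⟩
  rw [← hdt] at hkey ⊢
  rw [hF', hDq]
  obtain ⟨e', rfl⟩ : ∃ e', e = e' + 1 := ⟨e - 1, by omega⟩
  have hz : (u 0)⁻¹ ^ (((e' + 1 : ℕ) : ℤ) - 3) = (u 0)⁻¹ ^ e' * (u 0) ^ 2 := by
    have h1 : (((e' + 1 : ℕ) : ℤ) - 3) = (e' : ℤ) + (-2) := by push_cast; ring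
    rw [h1, zpow_add₀ (inv_ne_zero hu0), zpow_natCast, zpow_neg, inv_zpow, inv_inv]
    norm_cast
  rw [hz, Nat.add_sub_cancel]
  have hDx : D x = (g2')⁻¹ • ((g2 * dt) • (u 0 • D (u 1) - u 1 • D (u 0))) := by
    rw [← hkey, smul_smul, inv_mul_cancel₀ hg2'0, one_smul]
  rw [hDx]
  have hzne : (u 0)⁻¹ ^ e' ≠ 0 := pow_ne_zero _ (inv_ne_zero hu0)
  match_scalars <;> field_simp

end Groth.Agent.Helper25.PlaneDiff
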