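import Mathlib
import Groth.Prelude.Def_W4bk4grassmannianPl

/-!
# Injectivity of the Plücker map in matrix form
-/

namespace Groth.Agent.Helper25.PluckerInj

open Matrix

universe u

variable {K : Type u} [Field K] {d n : ℕ}

/-- Cauchy–Binet-lite: multilinear expansion of `det (L * A)`. -/
theorem det_mul_expand (L : Matrix (Fin d) (Fin n) K) (A : Matrix (Fin n) (Fin d) K) :
    (L * A).det = ∑ θ : Fin d → Fin n, (∏ i, L i (θ i)) * (A.submatrix θ id).det := by
  have h1 : L * A = Matrix.of (fun i => ∑ r, L i r • A r) := by
    ext i j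
    simp [Matrix.mul_apply, Finset.sum_apply]
  calc (L * A).det = Matrix.detRowAlternating (fun i => ∑ r, L i r • A r) := by
        rw [h1]; rfl
    _ = ∑ θ : Fin d → Fin n, Matrix.detRowAlternating (fun i => L i (θ i) • A (θ i)) :=
        (Matrix.detRowAlternating (R := K) (n := Fin d)).toMultilinearMap.map_sum
          (fun i r => L i r • A r)
    _ = _ := by
        refine Finset.sum_congr rfl fun θ _ => ?_
        have h2 := (Matrix.detRowAlternating (R := K) (n := Fin d)).toMultilinearMap.map_smul_univ
          (fun i => L i (θ i)) (fun i => A (θ i))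
        rw [show Matrix.detRowAlternating (fun i => L i (θ i) • A (θ i)) = _ from h2, smul_eq_mul]
        rfl

theorem minors_all (A A' : Matrix (Fin n) (Fin d) K) (c : K)
    (h : ∀ θ : W4bk4grassmannian.Idx d n,
      (A.submatrix θ.1 id).det = c * (A'.submatrix θ.1 id).det)
    (θ : Fin d → Fin n) : (A.submatrix θ id).det = c * (A'.submatrix θ id).det := by
  by_cases hinj : Function.Injective θ
  · have hmono : StrictMono (θ ∘ Tuple.sort θ) :=
      (Tuple.monotone_sort θ).strictMono_of_injective (hinj.comp (Tuple.sort θ).injective)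
    have h1 := h ⟨θ ∘ Tuple.sort θ, hmono⟩
    have e1 : A.submatrix (θ ∘ Tuple.sort θ) id =
        (A.submatrix θ id).submatrix (Tuple.sort θ) id := by ext i j; rfl
    have e2 : A'.submatrix (θ ∘ Tuple.sort θ) id =
        (A'.submatrix θ id).submatrix (Tuple.sort θ) id := by ext i j; rfl
    simp only at h1
    rw [e1, e2, Matrix.det_permute, Matrix.det_permute] at h1
    rcases Int.units_eq_one_or (Equiv.Perm.sign (Tuple.sort θ)) with hs | hs <;>
      rw [hs] at h1 <;> simpa using h1
  · obtain ⟨i, j, hij, hne⟩ : ∃ i j, θ i = θ j ∧ i ≠ j := by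
      rw [Function.Injective] at hinj
      push Not at hinj
      obtain ⟨i, j, h1, h2⟩ := hinj
      exact ⟨i, j, h1, h2⟩
    have r1 : (A.submatrix θ id) i = (A.submatrix θ id) j := by
      funext l
      show A (θ i) (id l) = A (θ j) (id l)
      rw [hij]
    have r2 : (A'.submatrix θ id) i = (A'.submatrix θ id) j := by
      funext l
      show A' (θ i) (id l) = A' (θ j) (id l)
      rw [hij]
    rw [Matrix.det_zero_of_row_eq hne r1, Matrix.det_zero_of_row_eq hne r2, mul_zero]

theorem incl (A A' : Matrix (Fin n) (Fin d) K) (c : K) (hA : LinearIndependent K A.transpose)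
    (h : ∀ θ : Fin d → Fin n, (A.submatrix θ id).det = c * (A'.submatrix θ id).det)
    (j0 : Fin d) :
    A'.transpose j0 ∈ Submodule.span K (Set.range A.transpose) := by
  by_contra hnot
  let g : ((Fin d → K) × K) →ₗ[K] (Fin n → K) :=
    (Fintype.linearCombination K A.transpose).coprod
      (LinearMap.toSpanSingleton K _ (A'.transpose j0))
  have hg : ∀ v t, g (v, t) = ∑ j, v j • A.transpose j + t • A'.transpose j0 := by
    intro v t
    simp [g, LinearMap.coprod_apply, Fintype.linearCombination_apply,
      LinearMap.toSpanSingleton_apply]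
  have hginj : Function.Injective g := by
    rw [← LinearMap.ker_eq_bot, LinearMap.ker_eq_bot']
    rintro ⟨v, t⟩ hvt
    rw [hg] at hvt
    have ht : t = 0 := by
      by_contra ht
      apply hnot
      have h1 : A'.transpose j0 = -(t⁻¹ • ∑ j, v j • A.transpose j) := by
        have h2 := congrArg (fun x => t⁻¹ • x) hvt
        simp only [smul_add, smul_smul, inv_mul_cancel₀ ht, one_smul, smul_zero] at h2
        exact eq_neg_of_add_eq_zero_right h2
      rw [h1]
      apply Submodule.neg_mem
      apply Submodule.smul_mem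
      exact Submodule.sum_mem _ fun j _ =>
        Submodule.smul_mem _ _ (Submodule.subset_span ⟨j, rfl⟩)
    rw [ht, zero_smul, add_zero] at hvt
    have hv := Fintype.linearIndependent_iff.mp hA v hvt
    rw [ht, Prod.mk_eq_zero]
    exact ⟨funext hv, rfl⟩
  obtain ⟨hh, hhg⟩ := LinearMap.exists_leftInverse_of_injective g
    (LinearMap.ker_eq_bot.mpr hginj)
  let L : (Fin n → K) →ₗ[K] (Fin d → K) := (LinearMap.fst K _ _).comp hh
  have hLA : ∀ j, L (A.transpose j) = Pi.single j 1 := by
    intro j
    have h1 : g (Pi.single j 1, 0) = A.transpose j := by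
      rw [hg, zero_smul, add_zero, Finset.sum_eq_single j]
      · rw [Pi.single_eq_same, one_smul]
      · intro l _ hl
        rw [Pi.single_eq_of_ne hl, zero_smul]
      · intro h'
        exact absurd (Finset.mem_univ _) h'
    have h2 := LinearMap.congr_fun hhg (Pi.single j 1, 0)
    rw [LinearMap.comp_apply, h1, LinearMap.id_apply] at h2
    show (hh (A.transpose j)).1 = _
    rw [h2]
  have hLA' : L (A'.transpose j0) = 0 := by
    have h1 : g (0, 1) = A'.transpose j0 := by
      rw [hg]
      simp
    have h2 := LinearMap.congr_fun hhg (0, 1)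
    rw [LinearMap.comp_apply, h1, LinearMap.id_apply] at h2
    show (hh (A'.transpose j0)).1 = _
    rw [h2]
  let M : Matrix (Fin d) (Fin n) K := LinearMap.toMatrix' L
  have hM : ∀ (B : Matrix (Fin n) (Fin d) K) (i j), (M * B) i j = L (B.transpose j) i := by
    intro B i j
    have h1 : M.mulVec (B.transpose j) = L (B.transpose j) := by
      rw [← Matrix.toLin'_apply, Matrix.toLin'_toMatrix']
    rw [← h1]
    rfl
  have h1 : M * A = 1 := by
    ext i j
    rw [hM, hLA, Matrix.one_apply, Pi.single_apply]
  have h2 : (M * A').det = 0 := by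
    apply Matrix.det_eq_zero_of_column_eq_zero j0
    intro i
    rw [hM, hLA']
    rfl
  have h3 : (M * A).det = c * (M * A').det := by
    rw [det_mul_expand, det_mul_expand, Finset.mul_sum]
    refine Finset.sum_congr rfl fun θ _ => ?_
    rw [h θ]
    ring
  rw [h1, h2, Matrix.det_one, mul_zero] at h3
  exact one_ne_zero h3

theorem main (A A' : Matrix (Fin n) (Fin d) K) (hA : LinearIndependent K A.transpose)
    (hA' : LinearIndependent K A'.transpose) (c : K) (hc : c ≠ 0)
    (h : ∀ θ : W4bk4grassmannian.Idx d n,
      (A.submatrix θ.1 id).det = c * (A'.submatrix θ.1 id).det) :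
    Submodule.span K (Set.range A.transpose) = Submodule.span K (Set.range A'.transpose) := by
  have hall := minors_all A A' c h
  have hall' : ∀ θ : Fin d → Fin n,
      (A'.submatrix θ id).det = c⁻¹ * (A.submatrix θ id).det := by
    intro θ
    rw [hall θ, ← mul_assoc, inv_mul_cancel₀ hc, one_mul]
  apply le_antisymm
  · rw [Submodule.span_le]
    rintro _ ⟨j, rfl⟩
    exact incl A' A c⁻¹ hA' hall' j
  · rw [Submodule.span_le]
    rintro _ ⟨j, rfl⟩
    exact incl A A' c hA hall j

end Groth.Agent.Helper25.PluckerInj
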