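import Mathlib
import Groth.Prelude.Def_W4sga6xxiiiPolyMap

namespace Groth.Agent.Helper25.PolyMapUnits

open TensorProduct

section
variable {A : Type*} [CommRing A]

/-- truncated binomial series -/
noncomputable def g (m : ℕ) (y : A) (n : ℤ) : A :=
  ∑ j ∈ Finset.range (m + 1), Ring.choose n j • y ^ j

theorem g_zero (m : ℕ) (y : A) : g m y 0 = 1 := by
  unfold g
  rw [Finset.sum_range_succ', Finset.sum_eq_zero]
  · rw [Ring.choose_zero_right, pow_zero, one_smul, zero_add]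
  · intro j _
    rw [Ring.choose_zero_succ, zero_smul]

theorem g_succ (m : ℕ) (y : A) (hy : y ^ (m + 1) = 0) (n : ℤ) :
    g m y (n + 1) = g m y n * (1 + y) := by
  unfold g
  have hL : ∑ j ∈ Finset.range (m + 1), Ring.choose (n + 1) j • y ^ j =
      (∑ j ∈ Finset.range m, Ring.choose n j • y ^ (j + 1) +
        ∑ j ∈ Finset.range m, Ring.choose n (j + 1) • y ^ (j + 1)) + 1 := by
    rw [Finset.sum_range_succ', Ring.choose_zero_right, pow_zero, one_smul]
    congr 1
    rw [← Finset.sum_add_distrib]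
    refine Finset.sum_congr rfl fun j _ => ?_
    rw [Ring.choose_succ_succ, add_smul]
  have hg : ∑ j ∈ Finset.range (m + 1), Ring.choose n j • y ^ j =
      ∑ j ∈ Finset.range m, Ring.choose n (j + 1) • y ^ (j + 1) + 1 := by
    rw [Finset.sum_range_succ', Ring.choose_zero_right, pow_zero, one_smul]
  have hgy : (∑ j ∈ Finset.range (m + 1), Ring.choose n j • y ^ j) * y =
      ∑ j ∈ Finset.range m, Ring.choose n j • y ^ (j + 1) := by
    rw [Finset.sum_mul, Finset.sum_range_succ, smul_mul_assoc, ← pow_succ, hy, smul_zero, add_zero]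
    refine Finset.sum_congr rfl fun j _ => ?_
    rw [smul_mul_assoc, ← pow_succ]
  rw [mul_add, mul_one, hgy, hL, hg]
  abel

theorem zpow_eq_g (m : ℕ) (u : Aˣ) (hy : ((u : A) - 1) ^ (m + 1) = 0) (n : ℤ) :
    ((u ^ n : Aˣ) : A) = g m ((u : A) - 1) n := by
  have hu : (1 : A) + ((u : A) - 1) = u := by ring
  have hstep : ∀ n : ℤ, g m ((u : A) - 1) (n + 1) = g m ((u : A) - 1) n * u := by
    intro n; rw [g_succ m _ hy n, hu]
  induction n using Int.induction_on with
  | zero => rw [zpow_zero, Units.val_one, g_zero]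
  | succ i ih => rw [zpow_add_one, Units.val_mul, ih, hstep]
  | pred i ih =>
    have h1 := hstep (-(i : ℤ) - 1)
    rw [sub_add_cancel] at h1
    rw [zpow_sub_one, Units.val_mul, ih, h1, mul_assoc, Units.mul_inv, mul_one]

end

theorem main (A : Type*) [CommRing A] (I : Ideal A) (m : ℕ) (hI : I ^ (m + 1) = ⊥)
    (P : Subgroup Aˣ) (hP : ∀ u : Aˣ, u ∈ P ↔ (u : A) - 1 ∈ I) :
    W4sga6xxiii.IsPolyMapLE
      (fun u : Additive P => (((Additive.toMul u : P) : Aˣ) : A) ⊗ₜ[ℤ] (1 : ℚ)) m := by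
  intro r x
  let ux : Fin r → Aˣ := fun i => ((Additive.toMul (x i) : P) : Aˣ)
  let yy : Fin r → A := fun i => (ux i : A) - 1
  have hyy : ∀ i, yy i ∈ I := fun i => (hP (ux i)).mp (Additive.toMul (x i)).2
  have hpow : ∀ i, (yy i) ^ (m + 1) = 0 := by
    intro i
    have h : (yy i) ^ (m + 1) ∈ I ^ (m + 1) := Ideal.pow_mem_pow (hyy i) _
    rw [hI] at h
    exact (Submodule.mem_bot A).mp h
  refine ⟨fun k => (∏ i, (yy i) ^ (k i : ℕ)) ⊗ₜ[ℤ] (1 : ℚ), ?_, ?_⟩
  · intro k hk
    have h : (∏ i, (yy i) ^ (k i : ℕ)) ∈ I ^ (m + 1) := by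
      have h1 : (∏ i, (yy i) ^ (k i : ℕ)) ∈ ∏ i, I ^ (k i : ℕ) :=
        Ideal.prod_mem_prod (fun i _ => Ideal.pow_mem_pow (hyy i) _)
      rw [Finset.prod_pow_eq_pow_sum] at h1
      exact Ideal.pow_le_pow_right (by omega) h1
    rw [hI] at h
    show (∏ i, (yy i) ^ (k i : ℕ)) ⊗ₜ[ℤ] (1 : ℚ) = 0
    rw [(Submodule.mem_bot A).mp h, zero_tmul]
  · intro n
    have hprod : (((Additive.toMul (∑ i, n i • x i) : P) : Aˣ) : A) =
        ∏ i, ((ux i ^ n i : Aˣ) : A) := by
      have h0 : Additive.toMul (∑ i, n i • x i) = ∏ i, (Additive.toMul (x i)) ^ (n i) := by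
        rw [toMul_sum]
        refine Finset.prod_congr rfl fun i _ => ?_
        rw [toMul_zsmul]
      rw [h0]
      show ((Units.coeHom A).comp P.subtype) (∏ i, (Additive.toMul (x i)) ^ (n i)) = _
      rw [map_prod]
      refine Finset.prod_congr rfl fun i _ => ?_
      show ((P.subtype ((Additive.toMul (x i)) ^ (n i)) : Aˣ) : A) = _
      rw [map_zpow]
      rfl
    show (((Additive.toMul (∑ i, n i • x i) : P) : Aˣ) : A) ⊗ₜ[ℤ] (1 : ℚ) = _
    rw [hprod]
    have hexp : ∏ i, ((ux i ^ n i : Aˣ) : A) =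
        ∑ k : Fin r → Fin (m + 1),
          (∏ i, Ring.choose (n i) (k i : ℕ)) • ∏ i, (yy i) ^ (k i : ℕ) := by
      have h1 : ∀ i, ((ux i ^ n i : Aˣ) : A) =
          ∑ j : Fin (m + 1), Ring.choose (n i) (j : ℕ) • (yy i) ^ (j : ℕ) := by
        intro i
        rw [zpow_eq_g m (ux i) (hpow i) (n i)]
        unfold g
        rw [Finset.sum_range]
      simp_rw [h1]
      rw [Finset.prod_univ_sum, Fintype.piFinset_univ]
      refine Finset.sum_congr rfl fun k _ => ?_
      simp only [zsmul_eq_mul, Finset.prod_mul_distrib, Int.cast_prod]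
    rw [hexp, TensorProduct.sum_tmul]
    refine Finset.sum_congr rfl fun k _ => ?_
    rw [TensorProduct.smul_tmul']

end Groth.Agent.Helper25.PolyMapUnits
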