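import Mathlib

/-!
# Right exactness of profinite completion for abelian groups (helper25)
-/

set_option autoImplicit false

namespace Groth.Agent.Helper25.ProComplExact

open CategoryTheory ProfiniteGrp

universe u

section General

variable {G K : GrpCat.{u}}

theorem map_eta (f : G ⟶ K) (x : G) :
    (profiniteCompletion.map f).hom (ProfiniteCompletion.etaFn G x) =
      ProfiniteCompletion.etaFn K (f.hom x) := by
  have h := ProfiniteCompletion.lift_eta (f ≫ ProfiniteCompletion.eta K)
  exact ConcreteCategory.congr_hom h x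

/-- coordinate projection of the completion -/
noncomputable def pr (G : GrpCat.{u}) (H : FiniteIndexNormalSubgroup G) :
    ProfiniteCompletion.completion G ⟶ (ProfiniteCompletion.diagram G).obj H :=
  (limitCone (ProfiniteCompletion.diagram G)).π.app H

theorem pr_apply (G : GrpCat.{u}) (H : FiniteIndexNormalSubgroup G)
    (z : ProfiniteCompletion.completion G) : (pr G H).hom z = z.1 H := rfl

theorem continuous_coord (G : GrpCat.{u}) (H : FiniteIndexNormalSubgroup G) :
    Continuous (fun z : ProfiniteCompletion.completion G => z.1 H) :=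
  (pr G H).hom.continuous_toFun

theorem map_coord (f : G ⟶ K) (N : FiniteIndexNormalSubgroup K)
    (z : ProfiniteCompletion.completion G) :
    ((profiniteCompletion.map f).hom z).1 N =
      QuotientGroup.map (N.comap f.hom).toSubgroup N.toSubgroup f.hom (fun _ h => h)
        (z.1 (N.comap f.hom)) := by
  let q : (ProfiniteCompletion.diagram G).obj (N.comap f.hom) ⟶
      (ProfiniteCompletion.diagram K).obj N :=
    ofFiniteGrpHom (FiniteGrp.ofHom
      (QuotientGroup.map (N.comap f.hom).toSubgroup N.toSubgroup f.hom (fun _ h => h)))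
  have h1 : Continuous (fun z : ProfiniteCompletion.completion G =>
      ((profiniteCompletion.map f).hom z).1 N) :=
    (continuous_coord K N).comp (profiniteCompletion.map f).hom.continuous_toFun
  have h2 : Continuous (fun z : ProfiniteCompletion.completion G =>
      q.hom (z.1 (N.comap f.hom))) :=
    (q.hom.continuous_toFun).comp (continuous_coord G (N.comap f.hom))
  have h3 := (ProfiniteCompletion.denseRange G).equalizer h1 h2 (funext fun x => by
    show ((profiniteCompletion.map f).hom (ProfiniteCompletion.etaFn G x)).1 N =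
      q.hom ((ProfiniteCompletion.etaFn G x).1 (N.comap f.hom))
    rw [map_eta]
    rfl)
  exact congrFun h3 z

end General

section Exact

variable (A : Type u) [CommGroup A] (A' : Subgroup A)

theorem surj :
    Function.Surjective (profiniteCompletion.map (GrpCat.ofHom (QuotientGroup.mk' A'))).hom := by
  have hcont := (profiniteCompletion.map (GrpCat.ofHom (QuotientGroup.mk' A'))).hom.continuous_toFun
  have hcl : IsClosed (Set.range (profiniteCompletion.map
      (GrpCat.ofHom (QuotientGroup.mk' A'))).hom) := (isCompact_range hcont).isClosed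
  have hd : Dense (Set.range (profiniteCompletion.map
      (GrpCat.ofHom (QuotientGroup.mk' A'))).hom) := by
    refine Dense.mono ?_ (ProfiniteCompletion.denseRange (GrpCat.of (A ⧸ A')))
    rintro _ ⟨q, rfl⟩
    obtain ⟨a, rfl⟩ := QuotientGroup.mk'_surjective A' q
    exact ⟨ProfiniteCompletion.etaFn (GrpCat.of A) a,
      map_eta (GrpCat.ofHom (QuotientGroup.mk' A')) a⟩
  rw [← Set.range_eq_univ, ← hcl.closure_eq]
  exact hd.closure_eq

theorem comp_trivial (w : ProfiniteCompletion.completion (GrpCat.of A')) :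
    (profiniteCompletion.map (GrpCat.ofHom (QuotientGroup.mk' A'))).hom
      ((profiniteCompletion.map (GrpCat.ofHom A'.subtype)).hom w) = 1 := by
  have h1 : Continuous (fun w : ProfiniteCompletion.completion (GrpCat.of A') =>
      (profiniteCompletion.map (GrpCat.ofHom (QuotientGroup.mk' A'))).hom
        ((profiniteCompletion.map (GrpCat.ofHom A'.subtype)).hom w)) :=
    (profiniteCompletion.map (GrpCat.ofHom (QuotientGroup.mk' A'))).hom.continuous_toFun.comp
      (profiniteCompletion.map (GrpCat.ofHom A'.subtype)).hom.continuous_toFun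
  have h2 : Continuous (fun _ : ProfiniteCompletion.completion (GrpCat.of A') =>
      (1 : ProfiniteCompletion.completion (GrpCat.of (A ⧸ A')))) := continuous_const
  have h3 := (ProfiniteCompletion.denseRange (GrpCat.of A')).equalizer h1 h2 (funext fun a' => by
    show (profiniteCompletion.map (GrpCat.ofHom (QuotientGroup.mk' A'))).hom
        ((profiniteCompletion.map (GrpCat.ofHom A'.subtype)).hom
          (ProfiniteCompletion.etaFn (GrpCat.of A') a')) = 1
    rw [map_eta, map_eta]
    have h4 : (GrpCat.ofHom (QuotientGroup.mk' A')).hom ((GrpCat.ofHom A'.subtype).hom a') = 1 :=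
      (QuotientGroup.eq_one_iff _).mpr a'.2
    rw [h4]
    rfl)
  exact congrFun h3 w

theorem exists_lift_coord (z : ProfiniteCompletion.completion (GrpCat.of A))
    (hz : (profiniteCompletion.map (GrpCat.ofHom (QuotientGroup.mk' A'))).hom z = 1)
    (H : FiniteIndexNormalSubgroup A) :
    ∃ a' : A', (QuotientGroup.mk (a' : A) : A ⧸ H.toSubgroup) = z.1 H := by
  have hfi : (H.toSubgroup.map (QuotientGroup.mk' A')).FiniteIndex :=
    ⟨ne_zero_of_dvd_ne_zero (Subgroup.FiniteIndex.index_ne_zero)
      (Subgroup.index_map_dvd H.toSubgroup (QuotientGroup.mk'_surjective A'))⟩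
  let N : FiniteIndexNormalSubgroup (A ⧸ A') :=
    FiniteIndexNormalSubgroup.ofSubgroup (H.toSubgroup.map (QuotientGroup.mk' A'))
  have hcoord := map_coord (GrpCat.ofHom (QuotientGroup.mk' A')) N z
  rw [hz] at hcoord
  obtain ⟨a, ha⟩ := QuotientGroup.mk_surjective (z.1 H)
  have hle : H ≤ N.comap (GrpCat.ofHom (QuotientGroup.mk' A')).hom := by
    intro x hx
    exact Subgroup.mem_map_of_mem _ hx
  have hcompat := z.2 (homOfLE hle)
  rw [← hcompat, ← ha] at hcoord
  have hmem : (QuotientGroup.mk' A') a ∈ H.toSubgroup.map (QuotientGroup.mk' A') := by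
    have h5 : ((QuotientGroup.mk' A') a : (A ⧸ A') ⧸ N.toSubgroup) = 1 := hcoord.symm
    exact (QuotientGroup.eq_one_iff _).mp h5
  obtain ⟨h, hh, hha⟩ := Subgroup.mem_map.mp hmem
  have ha' : h⁻¹ * a ∈ A' := by
    apply (QuotientGroup.eq_one_iff _).mp
    show (QuotientGroup.mk' A') (h⁻¹ * a) = 1
    rw [map_mul, map_inv, hha, inv_mul_cancel]
  refine ⟨⟨h⁻¹ * a, ha'⟩, ?_⟩
  rw [← ha]
  apply QuotientGroup.eq.mpr
  have h6 : (h⁻¹ * a)⁻¹ * a = h := by
    rw [mul_inv_rev, inv_inv, mul_assoc, mul_comm h a, inv_mul_cancel_left]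
  show (h⁻¹ * a)⁻¹ * a ∈ H.toSubgroup
  rw [h6]
  exact hh

theorem ker_le_range (z : ProfiniteCompletion.completion (GrpCat.of A))
    (hz : (profiniteCompletion.map (GrpCat.ofHom (QuotientGroup.mk' A'))).hom z = 1) :
    ∃ w, (profiniteCompletion.map (GrpCat.ofHom A'.subtype)).hom w = z := by
  have key := exists_lift_coord A A' z hz
  let C : FiniteIndexNormalSubgroup A → Set (ProfiniteCompletion.completion (GrpCat.of A')) :=
    fun H => {w | ((profiniteCompletion.map (GrpCat.ofHom A'.subtype)).hom w).1 H = z.1 H}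
  have hCclosed : ∀ H, IsClosed (C H) := fun H =>
    isClosed_eq ((continuous_coord (GrpCat.of A) H).comp
      (profiniteCompletion.map (GrpCat.ofHom A'.subtype)).hom.continuous_toFun) continuous_const
  have hCne : ∀ H, (C H).Nonempty := fun H => by
    obtain ⟨a', ha'⟩ := key H
    refine ⟨ProfiniteCompletion.etaFn (GrpCat.of A') a', ?_⟩
    show ((profiniteCompletion.map (GrpCat.ofHom A'.subtype)).hom
      (ProfiniteCompletion.etaFn (GrpCat.of A') a')).1 H = z.1 H
    rw [map_eta]
    exact ha'
  have hdir : Directed (· ⊇ ·) C := by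
    intro H₁ H₂
    refine ⟨H₁ ⊓ H₂, ?_, ?_⟩
    · intro w hw
      have hw' : ((profiniteCompletion.map (GrpCat.ofHom A'.subtype)).hom w).1 (H₁ ⊓ H₂) =
          z.1 (H₁ ⊓ H₂) := hw
      show ((profiniteCompletion.map (GrpCat.ofHom A'.subtype)).hom w).1 H₁ = z.1 H₁
      rw [← ((profiniteCompletion.map (GrpCat.ofHom A'.subtype)).hom w).2
        (homOfLE (inf_le_left : H₁ ⊓ H₂ ≤ H₁)), ← z.2 (homOfLE (inf_le_left : H₁ ⊓ H₂ ≤ H₁)), hw']
    · intro w hw
      have hw' : ((profiniteCompletion.map (GrpCat.ofHom A'.subtype)).hom w).1 (H₁ ⊓ H₂) =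
          z.1 (H₁ ⊓ H₂) := hw
      show ((profiniteCompletion.map (GrpCat.ofHom A'.subtype)).hom w).1 H₂ = z.1 H₂
      rw [← ((profiniteCompletion.map (GrpCat.ofHom A'.subtype)).hom w).2
        (homOfLE (inf_le_right : H₁ ⊓ H₂ ≤ H₂)), ← z.2 (homOfLE (inf_le_right : H₁ ⊓ H₂ ≤ H₂)), hw']
  have hne : Nonempty (FiniteIndexNormalSubgroup A) :=
    ⟨FiniteIndexNormalSubgroup.ofSubgroup ⊤⟩
  obtain ⟨w, hw⟩ := IsCompact.nonempty_iInter_of_directed_nonempty_isCompact_isClosed C hdir hCne
    (fun H => (hCclosed H).isCompact) hCclosed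
  refine ⟨w, ?_⟩
  apply ProfiniteGrp.limit_ext
  intro H
  exact Set.mem_iInter.mp hw H

theorem right_exact :
    Function.Surjective (profiniteCompletion.map (GrpCat.ofHom (QuotientGroup.mk' A'))).hom ∧
      (profiniteCompletion.map (GrpCat.ofHom (QuotientGroup.mk' A'))).hom.toMonoidHom.ker =
        (profiniteCompletion.map (GrpCat.ofHom A'.subtype)).hom.toMonoidHom.range := by
  refine ⟨surj A A', ?_⟩
  ext z
  rw [MonoidHom.mem_ker, MonoidHom.mem_range]
  constructor
  · intro hz
    exact ker_le_range A A' z hz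
  · rintro ⟨w, rfl⟩
    exact comp_trivial A A' w

end Exact

end Groth.Agent.Helper25.ProComplExact
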