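import Mathlib
import Groth.Agent.Lib.Helper25.ProComplExact

/-!
# Subgroups of finitely generated abelian groups are closed in the profinite topology (helper25)
-/

set_option autoImplicit false

namespace Groth.Agent.Helper25.ProComplFG

open CategoryTheory ProfiniteGrp Groth.Agent.Helper25.ProComplExact

universe u

theorem isOfFinAddOrder_addCircle_rat (u : AddCircle (1 : ℚ)) : IsOfFinAddOrder u := by
  obtain ⟨q, rfl⟩ := QuotientAddGroup.mk_surjective u
  rw [isOfFinAddOrder_iff_nsmul_eq_zero]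
  refine ⟨q.den, q.den_pos, ?_⟩
  have h1 : q.den • ((q : ℚ) : AddCircle (1 : ℚ)) = (((q.den • q : ℚ)) : AddCircle (1 : ℚ)) := rfl
  rw [show (QuotientAddGroup.mk q : AddCircle (1 : ℚ)) = ((q : ℚ) : AddCircle (1 : ℚ)) from rfl, h1,
    AddCircle.coe_eq_zero_iff]
  refine ⟨q.num, ?_⟩
  rw [nsmul_eq_mul, Rat.den_mul_eq_num, zsmul_eq_mul, mul_one]

theorem exists_finiteIndex_sep_fg (A : Type u) [CommGroup A] [Group.FG A] (L : Subgroup A)
    (a : A) (ha : a ∉ L) : ∃ K : Subgroup A, K.FiniteIndex ∧ L ≤ K ∧ a ∉ K := by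
  have hne : (Additive.ofMul (QuotientGroup.mk a : A ⧸ L)) ≠ 0 := by
    intro h0
    apply ha
    have h1 : (QuotientGroup.mk a : A ⧸ L) = 1 := h0
    exact (QuotientGroup.eq_one_iff _).mp h1
  obtain ⟨c, hc⟩ := CharacterModule.exists_character_apply_ne_zero_of_ne_zero hne
  let c' : Additive (A ⧸ L) →+ AddCircle (1 : ℚ) := c
  have hc' : c' (Additive.ofMul (QuotientGroup.mk a : A ⧸ L)) ≠ 0 := hc
  let φ : A →* Multiplicative (AddCircle (1 : ℚ)) :=
    (AddMonoidHom.toMultiplicativeRight c').comp (QuotientGroup.mk' L)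
  have hφ : ∀ x : A, φ x = Multiplicative.ofAdd (c' (Additive.ofMul (QuotientGroup.mk x))) :=
    fun x => rfl
  have htors : IsMulTorsion φ.range := by
    intro g
    have h1 : IsOfFinOrder (g : Multiplicative (AddCircle (1 : ℚ))) :=
      (isOfFinOrder_ofAdd_iff
        (x := Multiplicative.toAdd (g : Multiplicative (AddCircle (1 : ℚ))))).mpr
        (isOfFinAddOrder_addCircle_rat _)
    rw [isOfFinOrder_iff_pow_eq_one] at h1 ⊢
    obtain ⟨n, hn, hgn⟩ := h1
    refine ⟨n, hn, ?_⟩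
    apply Subtype.ext
    rw [Subgroup.coe_pow]
    exact hgn
  have hfinrange : Finite φ.range := CommGroup.finite_of_fg_isMulTorsion _ htors
  refine ⟨φ.ker, inferInstance, ?_, ?_⟩
  · intro x hx
    rw [MonoidHom.mem_ker, hφ]
    have h3 : (QuotientGroup.mk x : A ⧸ L) = 1 := (QuotientGroup.eq_one_iff _).mpr hx
    rw [h3]
    show Multiplicative.ofAdd (c' 0) = 1
    rw [map_zero]
    rfl
  · intro hmem
    rw [MonoidHom.mem_ker, hφ] at hmem
    apply hc'
    exact hmem

theorem mem_of_eta_mem_range (A' : Type u) [CommGroup A'] [Group.FG A'] (A : Subgroup A') (x : A')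
    (hx : ProfiniteCompletion.etaFn (GrpCat.of A') x ∈
      Set.range ⇑(profiniteCompletion.map (GrpCat.ofHom A.subtype)).hom) : x ∈ A := by
  by_contra hxA
  obtain ⟨K, hKfin, hAK, hxK⟩ := exists_finiteIndex_sep_fg A' A x hxA
  let Kn : FiniteIndexNormalSubgroup A' := FiniteIndexNormalSubgroup.ofSubgroup K
  obtain ⟨w, hw⟩ := hx
  have hcoord := map_coord (GrpCat.ofHom A.subtype) Kn w
  rw [hw] at hcoord
  obtain ⟨a, ha⟩ := QuotientGroup.mk_surjective (w.1 (Kn.comap (GrpCat.ofHom A.subtype).hom))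
  rw [← ha] at hcoord
  have h1 : (QuotientGroup.mk x : A' ⧸ K) = QuotientGroup.mk (a : A') := hcoord
  have h2 : (QuotientGroup.mk (a : A') : A' ⧸ K) = 1 := (QuotientGroup.eq_one_iff _).mpr (hAK a.2)
  rw [h2] at h1
  exact hxK ((QuotientGroup.eq_one_iff _).mp h1)

end Groth.Agent.Helper25.ProComplFG
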