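import Mathlib
import Groth.Agent.Lib.Helper25.ProComplExact

/-!
# Injectivity of profinite completion on a subgroup with well-behaved quotient (helper25)
-/

set_option autoImplicit false

namespace Groth.Agent.Helper25.ProComplInj

open CategoryTheory ProfiniteGrp Groth.Agent.Helper25.ProComplExact

universe u

section GT

variable (A : Type u) [CommGroup A] (A' : Subgroup A)

/-- separation of an element outside a subgroup containing all `n`-th powers by a finite index
subgroup -/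
theorem exists_finiteIndex_sep (L : Subgroup A) (n : ℕ) (hn : 0 < n) (hL : ∀ b : A, b ^ n ∈ L)
    (a : A) (ha : a ∉ L) : ∃ K : Subgroup A, K.FiniteIndex ∧ L ≤ K ∧ a ∉ K := by
  have hexp : ∀ c : A ⧸ L, c ^ n = 1 := by
    intro c
    obtain ⟨b, rfl⟩ := QuotientGroup.mk_surjective c
    rw [← QuotientGroup.mk_pow]
    exact (QuotientGroup.eq_one_iff _).mpr (hL b)
  have hne : (Additive.ofMul (QuotientGroup.mk a : A ⧸ L)) ≠ 0 := by
    intro h0
    apply ha
    have h1 : (QuotientGroup.mk a : A ⧸ L) = 1 := h0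
    exact (QuotientGroup.eq_one_iff _).mp h1
  obtain ⟨c, hc⟩ := CharacterModule.exists_character_apply_ne_zero_of_ne_zero hne
  let c' : Additive (A ⧸ L) →+ AddCircle (1 : ℚ) := c
  have hc' : c' (Additive.ofMul (QuotientGroup.mk a : A ⧸ L)) ≠ 0 := hc
  let φ : A →* Multiplicative (AddCircle (1 : ℚ)) :=
    (AddMonoidHom.toMultiplicativeRight c').comp (QuotientGroup.mk' L)
  have hφ : ∀ x : A, φ x = Multiplicative.ofAdd (c' (Additive.ofMul (QuotientGroup.mk x))) :=
    fun x => rfl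
  have hfinrange : Finite φ.range := by
    have hsub : (φ.range : Set (Multiplicative (AddCircle (1 : ℚ)))) ⊆
        Multiplicative.ofAdd '' {u : AddCircle (1 : ℚ) | n • u = 0} := by
      rintro _ ⟨x, rfl⟩
      refine ⟨c' (Additive.ofMul (QuotientGroup.mk x)), ?_, (hφ x).symm⟩
      show n • c' (Additive.ofMul (QuotientGroup.mk x)) = 0
      rw [← map_nsmul]
      have h2 : n • (Additive.ofMul (QuotientGroup.mk x : A ⧸ L)) = 0 := by
        show Additive.ofMul ((QuotientGroup.mk x : A ⧸ L) ^ n) = 0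
        rw [hexp]
        rfl
      rw [h2, map_zero]
    exact (((AddCircle.finite_torsion (1 : ℚ) hn).image _).subset hsub).to_subtype
  refine ⟨φ.ker, inferInstance, ?_, ?_⟩
  · intro x hx
    rw [MonoidHom.mem_ker, hφ]
    have h3 : (QuotientGroup.mk x : A ⧸ L) = 1 := (QuotientGroup.eq_one_iff _).mpr hx
    rw [h3]
    show Multiplicative.ofAdd (c' 0) = 1
    rw [map_zero]
    rfl
  · intro hmem
    rw [MonoidHom.mem_ker, hφ] at hmem
    apply hc'
    exact hmem

theorem exists_finiteIndex_comap_le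
    (htors : ∃ N : ℕ, 0 < N ∧ ∀ x : A ⧸ A', IsOfFinOrder x → x ^ N = 1)
    (H' : Subgroup A') [H'.FiniteIndex] :
    ∃ H : Subgroup A, H.FiniteIndex ∧ H.comap A'.subtype ≤ H' := by
  obtain ⟨N, hN, htN⟩ := htors
  have hm : 0 < H'.index := Nat.pos_of_ne_zero Subgroup.FiniteIndex.index_ne_zero
  obtain ⟨n, hn⟩ : ∃ n, n = N * H'.index := ⟨_, rfl⟩
  have hnpos : 0 < n := by
    rw [hn]
    exact Nat.mul_pos hN hm
  obtain ⟨L, hLdef⟩ : ∃ L : Subgroup A, L = H'.map A'.subtype ⊔ (powMonoidHom n : A →* A).range :=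
    ⟨_, rfl⟩
  have hLpow : ∀ b : A, b ^ n ∈ L := fun b => by
    rw [hLdef]
    exact Subgroup.mem_sup_right ⟨b, rfl⟩
  have hLH' : ∀ h' : A', h' ∈ H' → (h' : A) ∈ L := fun h' hh' => by
    rw [hLdef]
    exact Subgroup.mem_sup_left (Subgroup.mem_map_of_mem _ hh')
  have hclaim : ∀ a' : A', (a' : A) ∈ L → a' ∈ H' := by
    intro a' ha
    rw [hLdef] at ha
    obtain ⟨h, hh, t, ht, hht⟩ := Subgroup.mem_sup.mp ha
    obtain ⟨h', hh', rfl⟩ := Subgroup.mem_map.mp hh
    obtain ⟨b, rfl⟩ := MonoidHom.mem_range.mp ht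
    have hht' : (h' : A) * b ^ n = (a' : A) := hht
    have hbn : b ^ n ∈ A' := by
      have h1 : b ^ n = (h' : A)⁻¹ * a' := by
        rw [← hht', inv_mul_cancel_left]
      rw [h1]
      exact A'.mul_mem (A'.inv_mem h'.2) a'.2
    have hfin : IsOfFinOrder (QuotientGroup.mk b : A ⧸ A') := by
      rw [isOfFinOrder_iff_pow_eq_one]
      refine ⟨n, hnpos, ?_⟩
      rw [← QuotientGroup.mk_pow]
      exact (QuotientGroup.eq_one_iff _).mpr hbn
    have hbN : b ^ N ∈ A' := by
      have h2 := htN _ hfin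
      rw [← QuotientGroup.mk_pow] at h2
      exact (QuotientGroup.eq_one_iff _).mp h2
    have hpow : (⟨b ^ N, hbN⟩ : A') ^ H'.index ∈ H' := Subgroup.pow_index_mem H' _
    have hbn' : (⟨b ^ n, hbn⟩ : A') ∈ H' := by
      have h3 : (⟨b ^ n, hbn⟩ : A') = (⟨b ^ N, hbN⟩ : A') ^ H'.index := by
        apply Subtype.ext
        rw [Subgroup.coe_pow]
        show b ^ n = (b ^ N) ^ H'.index
        rw [hn, pow_mul]
      rw [h3]
      exact hpow
    have h4 : a' = h' * ⟨b ^ n, hbn⟩ := by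
      apply Subtype.ext
      rw [Subgroup.coe_mul]
      exact hht'.symm
    rw [h4]
    exact H'.mul_mem hh' hbn'
  have hsep : ∀ a' : A', a' ∉ H' → ∃ K : Subgroup A, K.FiniteIndex ∧ L ≤ K ∧ (a' : A) ∉ K :=
    fun a' ha' => exists_finiteIndex_sep A L n hnpos hLpow a' (fun h => ha' (hclaim a' h))
  have hall : ∀ f : A' ⧸ H', ∃ K : Subgroup A, K.FiniteIndex ∧ L ≤ K ∧
      (f.out ∉ H' → ((f.out : A') : A) ∉ K) := by
    intro f
    by_cases hf : f.out ∈ H'
    · exact ⟨⊤, inferInstance, le_top, fun h => absurd hf h⟩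
    · obtain ⟨K, hK1, hK2, hK3⟩ := hsep f.out hf
      exact ⟨K, hK1, hK2, fun _ => hK3⟩
  choose K hK1 hK2 hK3 using hall
  refine ⟨⨅ f, K f, Subgroup.finiteIndex_iInf hK1, ?_⟩
  intro a' ha'
  have ha'' : (a' : A) ∈ ⨅ f, K f := ha'
  by_contra hnot
  obtain ⟨f, hf⟩ : ∃ f : A' ⧸ H', f = QuotientGroup.mk a' := ⟨_, rfl⟩
  have hout : f.out⁻¹ * a' ∈ H' := by
    apply QuotientGroup.eq.mp
    rw [QuotientGroup.out_eq', hf]
  have hfout : f.out ∉ H' := fun h => hnot (by
    have h5 := H'.mul_mem h hout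
    rwa [mul_inv_cancel_left] at h5)
  have h1 : ((f.out : A') : A) ∉ K f := hK3 f hfout
  have h2 : (a' : A) ∈ K f := (Subgroup.mem_iInf.mp ha'') f
  have h3 : ((f.out⁻¹ * a' : A') : A) ∈ K f := hK2 f (hLH' _ hout)
  apply h1
  have h6 : ((f.out : A') : A) = (a' : A) * ((f.out⁻¹ * a' : A') : A)⁻¹ := by
    rw [Subgroup.coe_mul, Subgroup.coe_inv, mul_inv_rev, inv_inv, mul_inv_cancel_left]
  rw [h6]
  exact (K f).mul_mem h2 ((K f).inv_mem h3)

end GT

section Inj

variable (A : Type u) [CommGroup A] (A' : Subgroup A)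

theorem injective_map_subtype
    (htors : ∃ N : ℕ, 0 < N ∧ ∀ x : A ⧸ A', IsOfFinOrder x → x ^ N = 1) :
    Function.Injective (profiniteCompletion.map (GrpCat.ofHom A'.subtype)).hom := by
  rw [injective_iff_map_eq_one]
  intro w hw
  apply ProfiniteGrp.limit_ext
  intro H'
  obtain ⟨H, hHfin, hHle⟩ := exists_finiteIndex_comap_le A A' htors H'.toSubgroup
  let Hn : FiniteIndexNormalSubgroup A := FiniteIndexNormalSubgroup.ofSubgroup H
  have hcoord := map_coord (GrpCat.ofHom A'.subtype) Hn w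
  rw [hw] at hcoord
  obtain ⟨a', ha'⟩ := QuotientGroup.mk_surjective (w.1 (Hn.comap (GrpCat.ofHom A'.subtype).hom))
  rw [← ha'] at hcoord
  have hmem : (a' : A) ∈ H := by
    have h1 : ((A'.subtype a' : A) : A ⧸ Hn.toSubgroup) = 1 := hcoord.symm
    exact (QuotientGroup.eq_one_iff _).mp h1
  have hle : Hn.comap (GrpCat.ofHom A'.subtype).hom ≤ H' := fun x hx => hHle hx
  have hcompat := w.2 (homOfLE hle)
  rw [← hcompat, ← ha']
  have h2 : (QuotientGroup.mk a' :
      A' ⧸ (Hn.comap (GrpCat.ofHom A'.subtype).hom).toSubgroup) = 1 :=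
    (QuotientGroup.eq_one_iff _).mpr hmem
  rw [h2]
  exact map_one (Hom.hom ((ProfiniteCompletion.diagram (GrpCat.of ↥A')).map (homOfLE hle)))

end Inj

end Groth.Agent.Helper25.ProComplInj
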