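import Mathlib

/-!
# Covering `Proj` by basic opens of sections of fixed degree
-/

namespace Groth.Agent.Helper25.ProjCover

open AlgebraicGeometry DirectSum

universe u

variable {R A : Type u} [CommRing R] [CommRing A] [Algebra R A]
  (𝒜 : ℕ → Submodule R A) [GradedAlgebra 𝒜]

/-- If `S` generates `A` as an algebra and consists of elements of the irrelevant ideal, then
any relevant homogeneous prime misses some element of `S`. -/
theorem exists_notMem (S : Set A) (hgen : Algebra.adjoin R S = ⊤)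
    (hS : ∀ s ∈ S, s ∈ HomogeneousIdeal.irrelevant 𝒜) (x : Proj 𝒜) :
    ∃ s ∈ S, s ∉ x.asHomogeneousIdeal.toIdeal := by
  by_contra hcon
  push Not at hcon
  have key : ∀ a : A, ∃ r ∈ 𝒜 0, a - r ∈ x.asHomogeneousIdeal.toIdeal := by
    intro a
    have ha : a ∈ Algebra.adjoin R S := by rw [hgen]; exact Algebra.mem_top
    induction ha using Algebra.adjoin_induction with
    | mem s hs => exact ⟨0, zero_mem _, by rw [sub_zero]; exact hcon s hs⟩
    | algebraMap c =>
      exact ⟨algebraMap R A c, SetLike.algebraMap_mem_graded 𝒜 c, by rw [sub_self]; exact zero_mem _⟩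
    | add a b _ _ iha ihb =>
      obtain ⟨r1, hr1, h1⟩ := iha
      obtain ⟨r2, hr2, h2⟩ := ihb
      refine ⟨r1 + r2, add_mem hr1 hr2, ?_⟩
      have : a + b - (r1 + r2) = (a - r1) + (b - r2) := by ring
      rw [this]
      exact add_mem h1 h2
    | mul a b _ _ iha ihb =>
      obtain ⟨r1, hr1, h1⟩ := iha
      obtain ⟨r2, hr2, h2⟩ := ihb
      refine ⟨r1 * r2, ?_, ?_⟩
      · have := SetLike.mul_mem_graded hr1 hr2
        rwa [add_zero] at this
      · have : a * b - r1 * r2 = (a - r1) * b + r1 * (b - r2) := by ring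
        rw [this]
        exact add_mem (Ideal.mul_mem_right _ _ h1) (Ideal.mul_mem_left _ _ h2)
  apply x.not_irrelevant_le
  intro a ha
  obtain ⟨r, hr, hj⟩ := key a
  have hπ : GradedRing.proj 𝒜 0 a = 0 := (HomogeneousIdeal.mem_irrelevant_iff 𝒜 a).mp ha
  have h1 : GradedRing.proj 𝒜 0 r = r := by
    rw [GradedRing.proj_apply]
    exact decompose_of_mem_same 𝒜 hr
  have h2 : GradedRing.proj 𝒜 0 (a - r) ∈ x.asHomogeneousIdeal.toIdeal :=
    x.asHomogeneousIdeal.isHomogeneous 0 hj
  rw [map_sub, hπ, h1, zero_sub, neg_mem_iff] at h2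
  have : a = (a - r) + r := by ring
  change a ∈ x.asHomogeneousIdeal.toIdeal
  rw [this]
  exact add_mem hj h2

theorem iSup_basicOpen_eq_top {s : ℕ} (f : Fin s → A) (deg : Fin s → ℕ)
    (hdeg : ∀ i, 0 < deg i) (hf : ∀ i, f i ∈ 𝒜 (deg i))
    (hgen : Algebra.adjoin R (Set.range f) = ⊤) (a : ℕ) :
    (⨆ g : 𝒜 (a * Finset.univ.lcm deg), Proj.basicOpen 𝒜 (g : A)) = ⊤ := by
  rw [eq_top_iff]
  intro x _
  rw [TopologicalSpace.Opens.mem_iSup]
  obtain ⟨_, ⟨i, rfl⟩, hi⟩ := exists_notMem 𝒜 (Set.range f) hgen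
    (by rintro _ ⟨i, rfl⟩; exact HomogeneousIdeal.mem_irrelevant_of_mem 𝒜 (hdeg i) (hf i)) x
  have hdvd : deg i ∣ a * Finset.univ.lcm deg :=
    Dvd.dvd.mul_left (Finset.dvd_lcm (Finset.mem_univ i)) a
  obtain ⟨c, hc⟩ := hdvd
  refine ⟨⟨f i ^ c, ?_⟩, ?_⟩
  · have := SetLike.pow_mem_graded c (hf i)
    rw [smul_eq_mul, mul_comm, ← hc] at this
    exact this
  · rw [Proj.mem_basicOpen]
    intro hmem
    exact hi (x.isPrime.mem_of_pow_mem c hmem)

theorem exists_diff (p : Ideal R) [p.IsPrime] (d : ℕ)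
    (hcard : (d : Cardinal.{u}) ≤ Cardinal.mk p.ResidueField) :
    ∃ t : Fin d → R, ∀ j j', j ≠ j' → t j - t j' ∉ p := by
  have h1 : (d : Cardinal.{u}) ≤ Cardinal.mk (R ⧸ p) := by
    by_cases hfin : Finite (R ⧸ p)
    · haveI : p.IsMaximal :=
        Ideal.Quotient.maximal_of_isField p (Finite.isField_of_domain (R ⧸ p))
      have := Cardinal.mk_congr (Equiv.ofBijective _ p.bijective_algebraMap_quotient_residueField)
      rw [this]
      exact hcard
    · rw [not_finite_iff_infinite] at hfin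
      exact le_trans (le_of_lt (Cardinal.nat_lt_aleph0 d)) (Cardinal.aleph0_le_mk _)
  obtain ⟨T, hT⟩ := Cardinal.le_mk_iff_exists_set.mp h1
  obtain ⟨T', rfl, hT'⟩ := Cardinal.mk_set_eq_nat_iff_finset.mp hT
  let e := T'.equivFinOfCardEq hT'
  refine ⟨fun j => Function.surjInv (Ideal.Quotient.mk_surjective (I := p))
    ((e.symm j : T') : R ⧸ p), ?_⟩
  intro j j' hjj hmem
  apply hjj
  have h2 := Ideal.Quotient.eq.mpr hmem
  rw [Function.surjInv_eq (Ideal.Quotient.mk_surjective (I := p)),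
    Function.surjInv_eq (Ideal.Quotient.mk_surjective (I := p))] at h2
  exact e.symm.injective (Subtype.ext h2)

theorem exists_avoid (hgen : Algebra.adjoin R (𝒜 1 : Set A) = ⊤) (p : Ideal R) [p.IsPrime] :
    ∀ (d : ℕ) (x : Fin d → Proj 𝒜),
      (∀ i, ((x i).asHomogeneousIdeal.toIdeal).comap (algebraMap R A) = p) →
      (∃ t : Fin d → R, ∀ j j', j ≠ j' → t j - t j' ∉ p) →
      ∃ g ∈ 𝒜 1, ∀ i, g ∉ (x i).asHomogeneousIdeal.toIdeal := by
  intro d
  induction d with
  | zero =>
    intro x _ _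
    exact ⟨0, zero_mem _, fun i => i.elim0⟩
  | succ d ih =>
    rintro x hx ⟨t, ht⟩
    obtain ⟨u, hu1, hu⟩ := ih (fun i => x i.castSucc) (fun i => hx _)
      ⟨fun j => t j.castSucc, fun j j' hjj => ht _ _ (fun h => hjj (Fin.castSucc_injective _ h))⟩
    obtain ⟨v, hv1, hv⟩ := exists_notMem 𝒜 (𝒜 1 : Set A) hgen
      (fun s hs => HomogeneousIdeal.mem_irrelevant_of_mem 𝒜 one_pos hs) (x (Fin.last d))
    by_cases hul : u ∈ (x (Fin.last d)).asHomogeneousIdeal.toIdeal
    · by_contra hcon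
      push Not at hcon
      have hg1 : ∀ j, v + t j • u ∈ 𝒜 1 := fun j => add_mem hv1 ((𝒜 1).smul_mem _ hu1)
      choose bad hbad using fun j => hcon (v + t j • u) (hg1 j)
      have hne : ∀ j, bad j ≠ Fin.last d := by
        intro j h
        have h1 := hbad j
        rw [h] at h1
        apply hv
        have h2 : t j • u ∈ (x (Fin.last d)).asHomogeneousIdeal.toIdeal := by
          rw [Algebra.smul_def]
          exact Ideal.mul_mem_left _ _ hul
        have h3 := sub_mem h1 h2
        rwa [add_sub_cancel_right] at h3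
      let bad' : Fin (d + 1) → Fin d := fun j => (bad j).castPred (hne j)
      obtain ⟨j, j', hjj, hb⟩ := Fintype.exists_ne_map_eq_of_card_lt bad' (by simp)
      have hb' : bad j = bad j' := Fin.castPred_inj.mp hb
      have h1 := hbad j
      have h2 := hbad j'
      rw [← hb'] at h2
      have h3 : (t j - t j') • u ∈ (x (bad j)).asHomogeneousIdeal.toIdeal := by
        have h4 := sub_mem h1 h2
        have e : v + t j • u - (v + t j' • u) = (t j - t j') • u := by
          rw [sub_smul]; abel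
        rwa [e] at h4
      rw [Algebra.smul_def] at h3
      rcases (x (bad j)).isPrime.mem_or_mem h3 with h4 | h4
      · apply ht j j' hjj
        rw [← hx (bad j)]
        exact h4
      · have h5 := hu ((bad j).castPred (hne j))
        simp only [Fin.castSucc_castPred] at h5
        exact h5 h4
    · refine ⟨u, hu1, fun i => ?_⟩
      refine Fin.lastCases ?_ (fun i => ?_) i
      · exact hul
      · exact hu i

theorem exists_basicOpen (hgen : Algebra.adjoin R (𝒜 1 : Set A) = ⊤)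
    (p : Ideal R) [p.IsPrime] {d : ℕ} (x : Fin d → Proj 𝒜)
    (hx : ∀ i, ((x i).asHomogeneousIdeal.toIdeal).comap (algebraMap R A) = p)
    (hcard : (d : Cardinal) ≤ Cardinal.mk p.ResidueField) :
    ∃ g ∈ 𝒜 1, ∀ i, x i ∈ Proj.basicOpen 𝒜 g := by
  obtain ⟨g, hg1, hg⟩ := exists_avoid 𝒜 hgen p d x hx (exists_diff p d hcard)
  exact ⟨g, hg1, fun i => hg i⟩

end Groth.Agent.Helper25.ProjCover
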