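import Mathlib

namespace Groth.Agent.Helper25.ProjPlaneP

def vec3 {R : Type*} (a b c : R) : Fin 3 → R := ![a, b, c]

@[simp] lemma vec3_0 {R : Type*} (a b c : R) : vec3 a b c 0 = a := rfl
@[simp] lemma vec3_1 {R : Type*} (a b c : R) : vec3 a b c 1 = b := rfl
@[simp] lemma vec3_2 {R : Type*} (a b c : R) : vec3 a b c 2 = c := rfl

def det3 {R : Type*} [CommRing R] (x y z : Fin 3 → R) : R :=
  x 0 * (y 1 * z 2 - y 2 * z 1) - x 1 * (y 0 * z 2 - y 2 * z 0) + x 2 * (y 0 * z 1 - y 1 * z 0)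

lemma det_eq_det3 {R : Type*} [CommRing R] (x y z : Fin 3 → R) :
    Matrix.det (Matrix.of ![x, y, z]) = det3 x y z := by
  rw [Matrix.det_fin_three]
  simp [det3]
  ring

lemma ne0 {R : Type*} [MulZeroOneClass R] [Nontrivial R] {v : Fin 3 → R} (i : Fin 3)
    (h : v i = 1) : v ≠ 0 := by
  intro hv
  rw [hv] at h
  exact zero_ne_one h

section
variable {A : Type*} [CommRing A]

lemma eq_smul_vec3 (X : Fin 3 → A) (t a b c : A) (h0 : X 0 = t * a) (h1 : X 1 = t * b)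
    (h2 : X 2 = t * c) : X = t • vec3 a b c := by
  funext i
  fin_cases i
  · exact h0
  · exact h1
  · exact h2

lemma det3_smul_smul (α β : A) (a b X : Fin 3 → A) :
    det3 (α • a) (β • b) X = α * β * det3 a b X := by
  simp only [det3, Pi.smul_apply, smul_eq_mul]
  ring

lemma col_step {p : ℕ} [Fact p.Prime] (ρ : (Fin 3 → ZMod p) → (Fin 3 → A))
    (H : ∀ u v w : Fin 3 → ZMod p, u ≠ 0 → v ≠ 0 → w ≠ 0 → det3 u v w = 0 →
      det3 (ρ u) (ρ v) (ρ w) = 0)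
    {a b : Fin 3 → ZMod p} {a' b' : Fin 3 → A} {α β : A} (hα : IsUnit α) (hβ : IsUnit β)
    (ha : ρ a = α • a') (hb : ρ b = β • b') (ha0 : a ≠ 0) (hb0 : b ≠ 0)
    (x : Fin 3 → ZMod p) (hx0 : x ≠ 0) (hdet : det3 a b x = 0) :
    det3 a' b' (ρ x) = 0 := by
  have h := H a b x ha0 hb0 hx0 hdet
  rw [ha, hb, det3_smul_smul] at h
  exact ((hα.mul hβ).mul_right_eq_zero).mp h

theorem abstract {p : ℕ} [Fact p.Prime] (ρ : (Fin 3 → ZMod p) → (Fin 3 → A))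
    (H : ∀ u v w : Fin 3 → ZMod p, u ≠ 0 → v ≠ 0 → w ≠ 0 → det3 u v w = 0 →
      det3 (ρ u) (ρ v) (ρ w) = 0)
    (U : ∀ v : Fin 3 → ZMod p, v ≠ 0 → ∀ (a : A) (w : Fin 3 → A), ρ v = a • w → IsUnit a)
    (d0 d1 d2 : A)
    (h0 : ρ (vec3 1 0 0) = d0 • (vec3 1 0 0 : Fin 3 → A)) (h1 : ρ (vec3 0 1 0) = d1 • (vec3 0 1 0 : Fin 3 → A))
    (h2 : ρ (vec3 0 0 1) = d2 • (vec3 0 0 1 : Fin 3 → A)) (hU : ρ (vec3 1 1 1) = (1 : A) • (vec3 1 1 1 : Fin 3 → A)) :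
    (p : A) = 0 := by
  have hd0 : IsUnit d0 := U _ (ne0 0 rfl) _ _ h0
  have hd1 : IsUnit d1 := U _ (ne0 1 rfl) _ _ h1
  have hd2 : IsUnit d2 := U _ (ne0 2 rfl) _ _ h2
  have hone : IsUnit (1 : A) := isUnit_one
  -- Q = (1,0,1)
  obtain ⟨q, hq, hQ⟩ : ∃ q : A, IsUnit q ∧ ρ (vec3 1 0 1) = q • (vec3 1 0 1 : Fin 3 → A) := by
    have e1 := col_step ρ H hd0 hd2 h0 h2 (ne0 0 rfl) (ne0 2 rfl) (vec3 1 0 1) (ne0 0 rfl)
      (by simp [det3])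
    have e2 := col_step ρ H hd1 hone h1 hU (ne0 1 rfl) (ne0 0 rfl) (vec3 1 0 1) (ne0 0 rfl)
      (by simp [det3])
    simp only [det3, vec3_0, vec3_1, vec3_2] at e1 e2
    have hX : ρ (vec3 1 0 1) = (ρ (vec3 1 0 1) 0) • (vec3 1 0 1 : Fin 3 → A) :=
      eq_smul_vec3 _ _ _ _ _ (by ring) (by linear_combination (-1) * e1)
        (by linear_combination (-1) * e2)
    exact ⟨_, U _ (ne0 0 rfl) _ _ hX, hX⟩
  -- P1 = (1,1,0)
  obtain ⟨p1, hp1, hP1⟩ : ∃ q : A, IsUnit q ∧ ρ (vec3 1 1 0) = q • (vec3 1 1 0 : Fin 3 → A) := by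
    have e1 := col_step ρ H hd0 hd1 h0 h1 (ne0 0 rfl) (ne0 1 rfl) (vec3 1 1 0) (ne0 0 rfl)
      (by simp [det3])
    have e2 := col_step ρ H hd2 hone h2 hU (ne0 2 rfl) (ne0 0 rfl) (vec3 1 1 0) (ne0 0 rfl)
      (by simp [det3])
    simp only [det3, vec3_0, vec3_1, vec3_2] at e1 e2
    have hX : ρ (vec3 1 1 0) = (ρ (vec3 1 1 0) 0) • (vec3 1 1 0 : Fin 3 → A) :=
      eq_smul_vec3 _ _ _ _ _ (by ring) (by linear_combination e2)
        (by linear_combination e1)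
    exact ⟨_, U _ (ne0 0 rfl) _ _ hX, hX⟩
  -- R' = (0,1,-1)
  obtain ⟨r, hr, hR⟩ : ∃ q : A, IsUnit q ∧ ρ (vec3 0 1 (-1)) = q • (vec3 0 1 (-1) : Fin 3 → A) := by
    have e1 := col_step ρ H hd1 hd2 h1 h2 (ne0 1 rfl) (ne0 2 rfl) (vec3 0 1 (-1)) (ne0 1 rfl)
      (by simp [det3])
    have e2 := col_step ρ H hq hp1 hQ hP1 (ne0 0 rfl) (ne0 0 rfl) (vec3 0 1 (-1)) (ne0 1 rfl)
      (by simp [det3])
    simp only [det3, vec3_0, vec3_1, vec3_2] at e1 e2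
    have hX : ρ (vec3 0 1 (-1)) = (ρ (vec3 0 1 (-1)) 1) • (vec3 0 1 (-1) : Fin 3 → A) :=
      eq_smul_vec3 _ _ _ _ _ (by linear_combination e1) (by ring)
        (by linear_combination e2 + e1)
    exact ⟨_, U _ (ne0 1 rfl) _ _ hX, hX⟩
  -- induction
  have claim : ∀ n : ℕ, ∃ l : A, IsUnit l ∧
      ρ (vec3 1 (n : ZMod p) 0) = l • (vec3 1 (n : A) 0 : Fin 3 → A) := by
    intro n
    induction n with
    | zero =>
      simp only [Nat.cast_zero]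
      exact ⟨d0, hd0, h0⟩
    | succ n ih =>
      obtain ⟨l, hl, hP⟩ := ih
      obtain ⟨m, hm, hM⟩ : ∃ q : A, IsUnit q ∧
          ρ (vec3 1 (n : ZMod p) 1) = q • (vec3 1 (n : A) 1 : Fin 3 → A) := by
        have e1 := col_step ρ H hl hd2 hP h2 (ne0 0 rfl) (ne0 2 rfl) (vec3 1 (n : ZMod p) 1)
          (ne0 0 rfl) (by simp only [det3, vec3_0, vec3_1, vec3_2]; ring)
        have e2 := col_step ρ H hq hd1 hQ h1 (ne0 0 rfl) (ne0 1 rfl) (vec3 1 (n : ZMod p) 1)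
          (ne0 0 rfl) (by simp only [det3, vec3_0, vec3_1, vec3_2]; ring)
        simp only [det3, vec3_0, vec3_1, vec3_2] at e1 e2
        have hX : ρ (vec3 1 (n : ZMod p) 1) = (ρ (vec3 1 (n : ZMod p) 1) 0) • (vec3 1 (n : A) 1 : Fin 3 → A) :=
          eq_smul_vec3 _ _ _ _ _ (by ring) (by linear_combination (-1) * e1)
            (by linear_combination e2)
        exact ⟨_, U _ (ne0 0 rfl) _ _ hX, hX⟩
      have f1 := col_step ρ H hd0 hd1 h0 h1 (ne0 0 rfl) (ne0 1 rfl)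
        (vec3 1 ((n + 1 : ℕ) : ZMod p) 0) (ne0 0 rfl)
        (by simp only [det3, vec3_0, vec3_1, vec3_2]; ring)
      have f2 := col_step ρ H hm hr hM hR (ne0 0 rfl) (ne0 1 rfl)
        (vec3 1 ((n + 1 : ℕ) : ZMod p) 0) (ne0 0 rfl)
        (by simp only [det3, vec3_0, vec3_1, vec3_2]; push_cast; ring)
      simp only [det3, vec3_0, vec3_1, vec3_2] at f1 f2
      have hX : ρ (vec3 1 ((n + 1 : ℕ) : ZMod p) 0)
          = (ρ (vec3 1 ((n + 1 : ℕ) : ZMod p) 0) 0) • (vec3 1 ((n + 1 : ℕ) : A) 0 : Fin 3 → A) :=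
        eq_smul_vec3 _ _ _ _ _ (by ring)
          (by
            have hc : ((n + 1 : ℕ) : A) = (n : A) + 1 := by push_cast; ring
            rw [hc]; linear_combination f2 - f1)
          (by linear_combination f1)
      exact ⟨_, U _ (ne0 0 rfl) _ _ hX, hX⟩
  obtain ⟨l, hl, hP⟩ := claim p
  rw [ZMod.natCast_self, h0] at hP
  have h := congrFun hP 1
  simp only [Pi.smul_apply, vec3_1, smul_eq_mul, mul_zero] at h
  exact (hl.mul_right_eq_zero).mp h.symm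

lemma det3_mul_coord (x y z n : Fin 3 → A) (hx : x ⬝ᵥ n = 0) (hy : y ⬝ᵥ n = 0)
    (hz : z ⬝ᵥ n = 0) (i : Fin 3) : det3 x y z * n i = 0 := by
  simp only [dotProduct, Fin.sum_univ_three] at hx hy hz
  fin_cases i
  · show det3 x y z * n 0 = 0
    unfold det3
    linear_combination (y 1 * z 2 - y 2 * z 1) * hx - (x 1 * z 2 - x 2 * z 1) * hy
      + (x 1 * y 2 - x 2 * y 1) * hz
  · show det3 x y z * n 1 = 0
    unfold det3
    linear_combination (-(y 0 * z 2 - y 2 * z 0)) * hx + (x 0 * z 2 - x 2 * z 0) * hy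
      - (x 0 * y 2 - x 2 * y 0) * hz
  · show det3 x y z * n 2 = 0
    unfold det3
    linear_combination (y 0 * z 1 - y 1 * z 0) * hx - (x 0 * z 1 - x 1 * z 0) * hy
      + (x 0 * y 1 - x 1 * y 0) * hz

lemma det3_cofactor (a0 a1 a2 x y z : Fin 3 → A) (δ0 δ1 δ2 : A) :
    det3 (vec3 (det3 x a1 a2 * δ0) (det3 a0 x a2 * δ1) (det3 a0 a1 x * δ2))
        (vec3 (det3 y a1 a2 * δ0) (det3 a0 y a2 * δ1) (det3 a0 a1 y * δ2))
        (vec3 (det3 z a1 a2 * δ0) (det3 a0 z a2 * δ1) (det3 a0 a1 z * δ2))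
      = δ0 * δ1 * δ2 * (det3 a0 a1 a2) ^ 2 * det3 x y z := by
  simp only [det3, vec3_0, vec3_1, vec3_2]
  ring

lemma cramer (a0 a1 a2 X : Fin 3 → A) (j : Fin 3) :
    det3 a0 a1 a2 * X j = det3 X a1 a2 * a0 j + det3 a0 X a2 * a1 j + det3 a0 a1 X * a2 j := by
  fin_cases j
  · show det3 a0 a1 a2 * X 0 = det3 X a1 a2 * a0 0 + det3 a0 X a2 * a1 0 + det3 a0 a1 X * a2 0
    simp only [det3]; ring
  · show det3 a0 a1 a2 * X 1 = det3 X a1 a2 * a0 1 + det3 a0 X a2 * a1 1 + det3 a0 a1 X * a2 1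
    simp only [det3]; ring
  · show det3 a0 a1 a2 * X 2 = det3 X a1 a2 * a0 2 + det3 a0 X a2 * a1 2 + det3 a0 a1 X * a2 2
    simp only [det3]; ring

theorem main' {p : ℕ} [Fact p.Prime] (ρ : (Fin 3 → ZMod p) → (Fin 3 → A))
    (a0 a1 a2 u : Fin 3 → A)
    (h0 : ρ (vec3 1 0 0) = a0) (h1 : ρ (vec3 0 1 0) = a1) (h2 : ρ (vec3 0 0 1) = a2)
    (hu : ρ (vec3 1 1 1) = u)
    (hpt : ∀ v : Fin 3 → ZMod p, v ≠ 0 → ∃ i, IsUnit (ρ v i))
    (hcol : ∀ u v w : Fin 3 → ZMod p, u ≠ 0 → v ≠ 0 → w ≠ 0 → det3 u v w = 0 →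
      det3 (ρ u) (ρ v) (ρ w) = 0)
    (hD : IsUnit (det3 a0 a1 a2)) (δ0 δ1 δ2 : A) (hδ0 : det3 u a1 a2 * δ0 = 1)
    (hδ1 : det3 a0 u a2 * δ1 = 1) (hδ2 : det3 a0 a1 u * δ2 = 1) : (p : A) = 0 := by
  refine abstract (fun v => vec3 (det3 (ρ v) a1 a2 * δ0) (det3 a0 (ρ v) a2 * δ1)
    (det3 a0 a1 (ρ v) * δ2)) ?_ ?_ (det3 a0 a1 a2 * δ0) (det3 a0 a1 a2 * δ1)
    (det3 a0 a1 a2 * δ2) ?_ ?_ ?_ ?_
  · intro x y z hx hy hz hdet
    have h := hcol x y z hx hy hz hdet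
    beta_reduce
    rw [det3_cofactor, h, mul_zero]
  · intro v hv t w hw
    beta_reduce at hw
    have e0 := congrFun hw 0
    have e1 := congrFun hw 1
    have e2 := congrFun hw 2
    simp only [vec3_0, vec3_1, vec3_2, Pi.smul_apply, smul_eq_mul] at e0 e1 e2
    obtain ⟨j, hj⟩ := hpt v hv
    have key : det3 a0 a1 a2 * ρ v j = t * (w 0 * det3 u a1 a2 * a0 j
        + w 1 * det3 a0 u a2 * a1 j + w 2 * det3 a0 a1 u * a2 j) := by
      rw [cramer]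
      linear_combination (det3 u a1 a2 * a0 j) * e0 + (det3 a0 u a2 * a1 j) * e1
        + (det3 a0 a1 u * a2 j) * e2 - (det3 (ρ v) a1 a2 * a0 j) * hδ0
        - (det3 a0 (ρ v) a2 * a1 j) * hδ1 - (det3 a0 a1 (ρ v) * a2 j) * hδ2
    have hunit : IsUnit (det3 a0 a1 a2 * ρ v j) := hD.mul hj
    rw [key] at hunit
    exact isUnit_of_mul_isUnit_left hunit
  · beta_reduce
    rw [h0]
    apply eq_smul_vec3 <;> simp only [vec3_0, vec3_1, vec3_2, det3] <;> ring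
  · beta_reduce
    rw [h1]
    apply eq_smul_vec3 <;> simp only [vec3_0, vec3_1, vec3_2, det3] <;> ring
  · beta_reduce
    rw [h2]
    apply eq_smul_vec3 <;> simp only [vec3_0, vec3_1, vec3_2, det3] <;> ring
  · beta_reduce
    rw [hu]
    apply eq_smul_vec3
    · rw [vec3_0, hδ0, mul_one]
    · rw [vec3_1, hδ1, mul_one]
    · rw [vec3_2, hδ2, mul_one]

theorem main {p : ℕ} [Fact p.Prime] (ρ : (Fin 3 → ZMod p) → (Fin 3 → A))
    (hpt : ∀ v : Fin 3 → ZMod p, v ≠ 0 → ∃ i, IsUnit (ρ v i))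
    (hcol : ∀ u v w : Fin 3 → ZMod p, u ≠ 0 → v ≠ 0 → w ≠ 0 →
      Matrix.det (Matrix.of ![u, v, w]) = 0 →
      ∃ n : Fin 3 → A, (∃ i, IsUnit (n i)) ∧
        dotProduct (ρ u) n = 0 ∧ dotProduct (ρ v) n = 0 ∧ dotProduct (ρ w) n = 0)
    (hgen : IsUnit (Matrix.det (Matrix.of ![ρ (Pi.single 0 1), ρ (Pi.single 1 1), ρ (Pi.single 2 1)])) ∧
      IsUnit (Matrix.det (Matrix.of ![ρ (Pi.single 0 1), ρ (Pi.single 1 1), ρ (fun _ => 1)])) ∧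
      IsUnit (Matrix.det (Matrix.of ![ρ (Pi.single 0 1), ρ (Pi.single 2 1), ρ (fun _ => 1)])) ∧
      IsUnit (Matrix.det (Matrix.of ![ρ (Pi.single 1 1), ρ (Pi.single 2 1), ρ (fun _ => 1)]))) :
    (p : A) = 0 := by
  have E0 : (Pi.single 0 1 : Fin 3 → ZMod p) = vec3 1 0 0 := by
    funext i; fin_cases i <;> simp [vec3]
  have E1 : (Pi.single 1 1 : Fin 3 → ZMod p) = vec3 0 1 0 := by
    funext i; fin_cases i <;> simp [vec3]
  have E2 : (Pi.single 2 1 : Fin 3 → ZMod p) = vec3 0 0 1 := by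
    funext i; fin_cases i <;> simp [vec3]
  have EU : (fun _ => 1 : Fin 3 → ZMod p) = vec3 1 1 1 := by
    funext i; fin_cases i <;> simp [vec3]
  rw [E0, E1, E2, EU] at hgen
  simp only [det_eq_det3] at hgen
  obtain ⟨hD, hν2, hν1', hν0'⟩ := hgen
  have hν0 : IsUnit (det3 (ρ (vec3 1 1 1)) (ρ (vec3 0 1 0)) (ρ (vec3 0 0 1))) := by
    have : det3 (ρ (vec3 0 1 0)) (ρ (vec3 0 0 1)) (ρ (vec3 1 1 1))
        = det3 (ρ (vec3 1 1 1)) (ρ (vec3 0 1 0)) (ρ (vec3 0 0 1)) := by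
      unfold det3; ring
    rw [← this]; exact hν0'
  have hν1 : IsUnit (det3 (ρ (vec3 1 0 0)) (ρ (vec3 1 1 1)) (ρ (vec3 0 0 1))) := by
    have : -det3 (ρ (vec3 1 0 0)) (ρ (vec3 0 0 1)) (ρ (vec3 1 1 1))
        = det3 (ρ (vec3 1 0 0)) (ρ (vec3 1 1 1)) (ρ (vec3 0 0 1)) := by
      unfold det3; ring
    rw [← this]; exact hν1'.neg
  obtain ⟨δ0, hδ0⟩ := isUnit_iff_exists_inv.mp hν0
  obtain ⟨δ1, hδ1⟩ := isUnit_iff_exists_inv.mp hν1
  obtain ⟨δ2, hδ2⟩ := isUnit_iff_exists_inv.mp hν2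
  refine main' ρ _ _ _ _ rfl rfl rfl rfl hpt ?_ hD δ0 δ1 δ2 hδ0 hδ1 hδ2
  intro x y z hx hy hz hdet
  obtain ⟨n, ⟨i, hi⟩, k1, k2, k3⟩ := hcol x y z hx hy hz (by rw [det_eq_det3]; exact hdet)
  have := det3_mul_coord _ _ _ n k1 k2 k3 i
  exact (hi.mul_left_eq_zero).mp this

end

end Groth.Agent.Helper25.ProjPlaneP
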