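import Mathlib

/-!
# Deviations of functions on compact abelian groups (helper25)

Combinatorics of alternating sums over subsets and an averaging argument over a compact
abelian group, used for `S14297`.
-/

open MeasureTheory

namespace Groth.Agent.Helper25.PtDegA

section Combi

variable {G : Type*} [AddCommGroup G]

/-- full alternating sum over all subsets -/
noncomputable def S {n : ℕ} (f : G → ℝ) (x : Fin n → G) : ℝ :=
  ∑ I ∈ (Finset.univ : Finset (Fin n)).powerset, (-1 : ℝ) ^ I.card * f (∑ i ∈ I, x i)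

/-- translation of a function -/
def T (a : G) (f : G → ℝ) : G → ℝ := fun g => f (a + g)

lemma T_T (a b : G) (f : G → ℝ) : T a (T b f) = T (a + b) f := by
  funext g
  show f (b + (a + g)) = f (a + b + g)
  congr 1
  abel

lemma sum_powerset_succAbove {n : ℕ} (p : Fin (n + 1)) (F : Finset (Fin (n + 1)) → ℝ) :
    ∑ I ∈ (Finset.univ : Finset (Fin (n + 1))).powerset, F I =
      ∑ J ∈ (Finset.univ : Finset (Fin n)).powerset, F (J.map (Fin.succAboveEmb p)) +
      ∑ J ∈ (Finset.univ : Finset (Fin n)).powerset,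
        F (insert p (J.map (Fin.succAboveEmb p))) := by
  classical
  have hp : p ∉ (Finset.univ : Finset (Fin n)).map (Fin.succAboveEmb p) := by
    intro h
    obtain ⟨j, _, hj⟩ := Finset.mem_map.mp h
    exact Fin.succAbove_ne p j hj
  rw [Fin.univ_succAbove n p, Finset.cons_eq_insert, Finset.sum_powerset_insert hp]
  have key : ∀ H : Finset (Fin (n + 1)) → ℝ,
      ∑ t ∈ ((Finset.univ : Finset (Fin n)).map (Fin.succAboveEmb p)).powerset, H t =
      ∑ J ∈ (Finset.univ : Finset (Fin n)).powerset, H (J.map (Fin.succAboveEmb p)) := by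
    intro H
    symm
    apply Finset.sum_bij (fun J _ => J.map (Fin.succAboveEmb p))
    · intro J _
      rw [Finset.mem_powerset]
      exact Finset.map_subset_map.mpr (Finset.subset_univ _)
    · intro J₁ _ J₂ _ h
      exact Finset.map_injective _ h
    · intro t ht
      rw [Finset.mem_powerset] at ht
      refine ⟨t.preimage (Fin.succAboveEmb p)
        (fun _ _ _ _ h => (Fin.succAboveEmb p).injective h), by simp, ?_⟩
      ext i
      simp only [Finset.mem_map, Finset.mem_preimage]
      constructor
      · rintro ⟨j, hj, rfl⟩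
        exact hj
      · intro hi
        obtain ⟨j, _, rfl⟩ := Finset.mem_map.mp (ht hi)
        exact ⟨j, hi, rfl⟩
    · intro J _
      rfl
  rw [key F, key (fun t => F (insert p t))]

/-- insertion of a coordinate (non-dependent version) -/
def ins {n : ℕ} (p : Fin (n + 1)) (a : G) (z : Fin n → G) : Fin (n + 1) → G :=
  @Fin.insertNth n (fun _ => G) p a z

lemma ins_same {n : ℕ} (p : Fin (n + 1)) (a : G) (z : Fin n → G) : ins p a z p = a :=
  Fin.insertNth_apply_same (α := fun _ => G) p a z

lemma ins_succAbove {n : ℕ} (p : Fin (n + 1)) (a : G) (z : Fin n → G) (j : Fin n) :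
    ins p a z (Fin.succAboveEmb p j) = z j :=
  Fin.insertNth_apply_succAbove (α := fun _ => G) p a z j

lemma S_ins {n : ℕ} (p : Fin (n + 1)) (f : G → ℝ) (a : G) (z : Fin n → G) :
    S f (ins p a z) = S f z - S (T a f) z := by
  classical
  unfold S
  rw [sum_powerset_succAbove p, sub_eq_add_neg, ← Finset.sum_neg_distrib]
  congr 1
  · apply Finset.sum_congr rfl
    intro J _
    rw [Finset.card_map, Finset.sum_map]
    congr 2
    apply Finset.sum_congr rfl
    intro j _
    exact ins_succAbove p a z j
  · apply Finset.sum_congr rfl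
    intro J _
    have hp : p ∉ J.map (Fin.succAboveEmb p) := by
      intro h
      obtain ⟨j, _, hj⟩ := Finset.mem_map.mp h
      exact Fin.succAbove_ne p j hj
    have hs : ∑ j ∈ J, ins p a z (Fin.succAboveEmb p j) = ∑ j ∈ J, z j :=
      Finset.sum_congr rfl (fun j _ => ins_succAbove p a z j)
    rw [Finset.card_insert_of_notMem hp, Finset.sum_insert hp, Finset.card_map, Finset.sum_map,
      ins_same, hs, pow_succ]
    show _ = -((-1 : ℝ) ^ J.card * f (a + ∑ j ∈ J, z j))
    ring

lemma S_cons {n : ℕ} (f : G → ℝ) (a : G) (z : Fin n → G) :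
    S f (Fin.cons a z : Fin (n + 1) → G) = S f z - S (T a f) z := by
  have h : (Fin.cons a z : Fin (n + 1) → G) = ins 0 a z := (Fin.insertNth_zero' a z).symm
  rw [h]
  exact S_ins 0 f a z

lemma S_snoc {n : ℕ} (f : G → ℝ) (b : G) (y : Fin n → G) :
    S f (Fin.snoc y b : Fin (n + 1) → G) = S f y - S (T b f) y := by
  have h : (Fin.snoc y b : Fin (n + 1) → G) = ins (Fin.last n) b y :=
    (Fin.insertNth_last' b y).symm
  rw [h]
  exact S_ins (Fin.last n) f b y

/-- the deviation -/
noncomputable def D {n : ℕ} (f : G → ℝ) (x : Fin n → G) : ℝ :=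
  ∑ I ∈ ((Finset.univ : Finset (Fin n)).powerset.erase ∅),
    (-1 : ℝ) ^ (n + I.card) * f (∑ i ∈ I, x i)

lemma D_eq {n : ℕ} (f : G → ℝ) (x : Fin n → G) : D f x = (-1) ^ n * (S f x - f 0) := by
  classical
  unfold D S
  rw [Finset.sum_erase_eq_sub (Finset.empty_mem_powerset _), Finset.card_empty, Finset.sum_empty,
    add_zero, mul_sub, Finset.mul_sum]
  congr 1
  apply Finset.sum_congr rfl
  intro I _
  rw [pow_add]
  ring

lemma D_snoc_cons {m : ℕ} (f : G → ℝ) (a : G) (z : Fin m → G) (b : G) :
    D f (Fin.snoc (Fin.cons a z : Fin (m + 1) → G) b : Fin (m + 2) → G) =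
      D f (Fin.cons (a + b) z : Fin (m + 1) → G) - D f (Fin.cons a z : Fin (m + 1) → G) -
        D f (Fin.cons b z : Fin (m + 1) → G) := by
  rw [D_eq, D_eq, D_eq, D_eq, S_snoc, S_cons, S_cons, S_cons, S_cons, T_T]
  rw [show (-1 : ℝ) ^ (m + 2) = -(-1) ^ (m + 1) by rw [pow_succ]; ring]
  ring

lemma D_snoc {m : ℕ} (f : G → ℝ) (y : Fin (m + 1) → G) (b : G) :
    D f (Fin.snoc y b : Fin (m + 2) → G) =
      D f (Function.update y 0 (y 0 + b)) - D f y - D f (Function.update y 0 b) := by
  have h := D_snoc_cons f (y 0) (Fin.tail y) b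
  have e1 : ∀ v : G, Function.update y 0 v = Fin.cons v (Fin.tail y) := by
    intro v
    conv_lhs => rw [← Fin.cons_self_tail y]
    exact Fin.update_cons_zero _ _ _
  rw [Fin.cons_self_tail] at h
  rw [e1, e1]
  exact h

end Combi

section Analysis

variable {G : Type*} [AddCommGroup G] [TopologicalSpace G] [IsTopologicalAddGroup G]
  [CompactSpace G] [T2Space G] [MeasurableSpace G] [BorelSpace G]

/-- continuous real functions on a finite power of a compact Hausdorff Borel space are
measurable for the product σ-algebra (Stone–Weierstrass) -/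
lemma measurable_of_continuous_pi {n : ℕ} (f : (Fin n → G) → ℝ) (hf : Continuous f) :
    Measurable f := by
  classical
  let gen : Set C(Fin n → G, ℝ) :=
    {F | ∃ (i : Fin n) (g : C(G, ℝ)), F = g.comp ⟨fun u => u i, continuous_apply i⟩}
  let A : Subalgebra ℝ C(Fin n → G, ℝ) := Algebra.adjoin ℝ gen
  have hsep : A.SeparatesPoints := by
    intro x y hxy
    obtain ⟨i, hi⟩ := Function.ne_iff.mp hxy
    obtain ⟨g, hg0, hg1, -⟩ := exists_continuous_zero_one_of_isClosed
      (isClosed_singleton (x := x i)) (isClosed_singleton (x := y i))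
      (Set.disjoint_singleton.mpr hi)
    refine ⟨_, ⟨g.comp ⟨fun u => u i, continuous_apply i⟩,
      Algebra.subset_adjoin ⟨i, g, rfl⟩, rfl⟩, ?_⟩
    show g (x i) ≠ g (y i)
    rw [hg0 (Set.mem_singleton _), hg1 (Set.mem_singleton _)]
    simp
  have hmeas : ∀ F ∈ A, Measurable (fun u => (F : C(Fin n → G, ℝ)) u) := by
    intro F hF
    induction hF using Algebra.adjoin_induction with
    | mem F hF =>
      obtain ⟨i, g, rfl⟩ := hF
      exact g.continuous.measurable.comp (measurable_pi_apply i)
    | algebraMap r =>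
      have : (fun u => (algebraMap ℝ C(Fin n → G, ℝ) r) u) = fun _ => r := by
        funext u
        rw [_root_.algebraMap_apply]
        simp
      rw [this]
      exact measurable_const
    | add F₁ F₂ _ _ h₁ h₂ => exact h₁.add h₂
    | mul F₁ F₂ _ _ h₁ h₂ => exact h₁.mul h₂
  have happrox : ∀ k : ℕ, ∃ g : A, ∀ x, ‖(g : (Fin n → G) → ℝ) x - f x‖ < 1 / ((k : ℝ) + 1) :=
    fun k => ContinuousMap.exists_mem_subalgebra_near_continuous_of_separatesPoints A hsep f hf _
      (by positivity)
  choose g hg using happrox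
  refine measurable_of_tendsto_metrizable
    (f := fun k x => ((g k : C(Fin n → G, ℝ)) : (Fin n → G) → ℝ) x)
    (fun k => hmeas _ (g k).2) ?_
  rw [tendsto_pi_nhds]
  intro x
  rw [tendsto_iff_norm_sub_tendsto_zero]
  refine squeeze_zero (fun k => norm_nonneg _) (fun k => (hg k x).le) ?_
  exact tendsto_one_div_add_atTop_nhds_zero_nat

lemma exists_bound_of_continuous {X : Type*} [TopologicalSpace X] [CompactSpace X] (f : X → ℝ)
    (hf : Continuous f) : ∃ C : ℝ, ∀ x, ‖f x‖ ≤ C := by
  obtain ⟨C, hC⟩ := isCompact_univ.exists_bound_of_continuousOn hf.continuousOn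
  exact ⟨C, fun x => hC x (Set.mem_univ x)⟩

lemma integrable_of_bound' {α : Type*} [MeasurableSpace α] (ρ : Measure α) [IsFiniteMeasure ρ]
    (f : α → ℝ) (hf : Measurable f) (C : ℝ) (hC : ∀ x, ‖f x‖ ≤ C) : Integrable f ρ :=
  Integrable.of_bound hf.aestronglyMeasurable C (Filter.Eventually.of_forall hC)

/-- the product measure on `G^n` -/
noncomputable abbrev nu (μ : Measure G) (n : ℕ) : Measure (Fin n → G) :=
  Measure.pi (fun _ : Fin n => μ)

variable (μ : Measure G) [μ.IsAddHaarMeasure] [IsProbabilityMeasure μ]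

lemma integrable_of_continuous {n : ℕ} (f : (Fin n → G) → ℝ) (hf : Continuous f) :
    Integrable f (nu μ n) := by
  obtain ⟨C, hC⟩ := exists_bound_of_continuous f hf
  exact integrable_of_bound' _ f (measurable_of_continuous_pi f hf) C hC

lemma measurable_of_continuous_prod {n : ℕ} (H : G × (Fin n → G) → ℝ) (hH : Continuous H) :
    Measurable H := by
  have hc : Continuous (fun x : Fin (n + 1) → G =>
      H (MeasurableEquiv.piFinSuccAbove (fun _ : Fin (n + 1) => G) 0 x)) := by
    apply hH.comp
    exact (continuous_apply 0).prodMk (continuous_pi fun j => continuous_apply _)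
  have hm := measurable_of_continuous_pi _ hc
  have : H = (fun x : Fin (n + 1) → G =>
      H (MeasurableEquiv.piFinSuccAbove (fun _ : Fin (n + 1) => G) 0 x)) ∘
      (MeasurableEquiv.piFinSuccAbove (fun _ : Fin (n + 1) => G) 0).symm := by
    funext p
    show H p = H ((MeasurableEquiv.piFinSuccAbove (fun _ : Fin (n + 1) => G) 0)
      ((MeasurableEquiv.piFinSuccAbove (fun _ : Fin (n + 1) => G) 0).symm p))
    rw [MeasurableEquiv.apply_symm_apply]
  rw [this]
  exact hm.comp (MeasurableEquiv.measurable _)

lemma integrable_of_continuous_prod {n : ℕ} (H : G × (Fin n → G) → ℝ) (hH : Continuous H) :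
    Integrable H (μ.prod (nu μ n)) := by
  obtain ⟨C, hC⟩ := exists_bound_of_continuous H hH
  exact integrable_of_bound' _ H (measurable_of_continuous_prod H hH) C hC

lemma continuous_integral_param {n : ℕ} (F : G × (Fin n → G) → ℝ) (hF : Continuous F) :
    Continuous (fun g => ∫ u, F (g, u) ∂(nu μ n)) := by
  let Fc : C(G × (Fin n → G), ℝ) := ⟨F, hF⟩
  have hI : ∀ h h' : C(Fin n → G, ℝ),
      dist (∫ u, h u ∂(nu μ n)) (∫ u, h' u ∂(nu μ n)) ≤ dist h h' := by
    intro h h'
    have ih : Integrable (fun u => h u) (nu μ n) := integrable_of_continuous μ _ h.continuous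
    have ih' : Integrable (fun u => h' u) (nu μ n) := integrable_of_continuous μ _ h'.continuous
    rw [Real.dist_eq, ← integral_sub ih ih', ← Real.norm_eq_abs]
    have := norm_integral_le_of_norm_le_const (μ := nu μ n) (f := fun u => h u - h' u)
      (C := dist h h')
      (Filter.Eventually.of_forall (fun u => by
        rw [Real.norm_eq_abs, ← Real.dist_eq]
        exact ContinuousMap.dist_apply_le_dist u))
    simpa using this
  have hL : Continuous (fun h : C(Fin n → G, ℝ) => ∫ u, h u ∂(nu μ n)) := by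
    apply LipschitzWith.continuous (K := 1)
    apply LipschitzWith.of_dist_le_mul
    intro h h'
    simpa using hI h h'
  exact hL.comp Fc.curry.continuous

lemma continuous_cons {m : ℕ} :
    Continuous fun p : G × (Fin m → G) => (Fin.cons p.1 p.2 : Fin (m + 1) → G) := by
  refine continuous_pi (fun i => ?_)
  refine Fin.cases ?_ (fun k => ?_) i
  · simp only [Fin.cons_zero]
    exact continuous_fst
  · simp only [Fin.cons_succ]
    exact (continuous_apply k).comp continuous_snd

/-- averaging a continuous function of a nonempty sum of coordinates -/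
lemma integral_comp_sum {n : ℕ} (φ : G → ℝ) (hφ : Continuous φ) (a : G) (J : Finset (Fin n))
    (hJ : J.Nonempty) :
    ∫ u, φ (a + ∑ k ∈ J, u k) ∂(nu μ n) = ∫ t, φ t ∂μ := by
  classical
  obtain ⟨j, hj⟩ := hJ
  have h1 : ∀ t : G, ∫ u, φ (a + ∑ k ∈ J, u k) ∂(nu μ n) =
      ∫ u, φ (a + ∑ k ∈ J, u k + t) ∂(nu μ n) := by
    intro t
    have := integral_add_left_eq_self (μ := nu μ n)
      (fun u : Fin n → G => φ (a + ∑ k ∈ J, u k)) (Pi.single j t)
    rw [← this]
    congr 1
    funext u
    congr 1
    simp only [Pi.add_apply, Finset.sum_add_distrib]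
    rw [Finset.sum_pi_single' j t J, if_pos hj]
    abel
  have hint : Integrable (Function.uncurry fun (t : G) (u : Fin n → G) =>
      φ (a + ∑ k ∈ J, u k + t)) (μ.prod (nu μ n)) := by
    apply integrable_of_continuous_prod μ
    unfold Function.uncurry
    fun_prop
  calc ∫ u, φ (a + ∑ k ∈ J, u k) ∂(nu μ n)
      = ∫ _t, (∫ u, φ (a + ∑ k ∈ J, u k) ∂(nu μ n)) ∂μ := by simp
    _ = ∫ t, (∫ u, φ (a + ∑ k ∈ J, u k + t) ∂(nu μ n)) ∂μ := by
        apply integral_congr_ae
        exact Filter.Eventually.of_forall (fun t => h1 t)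
    _ = ∫ u, (∫ t, φ (a + ∑ k ∈ J, u k + t) ∂μ) ∂(nu μ n) := integral_integral_swap hint
    _ = ∫ _u, (∫ t, φ t ∂μ) ∂(nu μ n) := by
        congr 1
        funext u
        exact integral_add_left_eq_self φ (a + ∑ k ∈ J, u k)
    _ = ∫ t, φ t ∂μ := by simp

lemma sum_cons_split {m : ℕ} (I : Finset (Fin (m + 1))) (g : G) (u : Fin m → G) :
    ∑ i ∈ I, (Fin.cons g u : Fin (m + 1) → G) i =
      (if (0 : Fin (m + 1)) ∈ I then g else 0) +
        ∑ k ∈ Finset.univ.filter (fun k : Fin m => k.succ ∈ I), u k := by
  classical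
  have h : ∑ i ∈ I, (Fin.cons g u : Fin (m + 1) → G) i =
      ∑ i : Fin (m + 1), if i ∈ I then (Fin.cons g u : Fin (m + 1) → G) i else 0 := by
    rw [Finset.sum_ite_mem, Finset.univ_inter]
  rw [h, Fin.sum_univ_succ, Finset.sum_filter]
  simp only [Fin.cons_zero, Fin.cons_succ]

/-- uniqueness: a continuous function is recovered from its deviation by averaging -/
lemma uniq {m : ℕ} (ψ : (Fin (m + 1) → G) → ℝ) (φ : G → ℝ) (hφ : Continuous φ)
    (h : ∀ x, ψ x = ∑ I ∈ ((Finset.univ : Finset (Fin (m + 1))).powerset.erase ∅),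
      (-1 : ℝ) ^ (m + 1 + I.card) * φ (∑ i ∈ I, x i)) (g : G) :
    φ g = (-1 : ℝ) ^ m * ∫ u, ψ (Fin.cons g u) ∂(nu μ m) := by
  classical
  have key : ∀ I ∈ ((Finset.univ : Finset (Fin (m + 1))).powerset.erase ∅),
      ∫ u, φ (∑ i ∈ I, (Fin.cons g u : Fin (m + 1) → G) i) ∂(nu μ m) =
        (∫ t, φ t ∂μ) + (if I = {0} then φ g - ∫ t, φ t ∂μ else 0) := by
    intro I hI
    have hne : I ≠ ∅ := (Finset.mem_erase.mp hI).1
    by_cases hJ : (Finset.univ.filter (fun k : Fin m => k.succ ∈ I)).Nonempty
    · have hI0 : I ≠ {0} := by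
        rintro rfl
        obtain ⟨k, hk⟩ := hJ
        rw [Finset.mem_filter, Finset.mem_singleton] at hk
        exact Fin.succ_ne_zero k hk.2
      rw [if_neg hI0, add_zero]
      simp_rw [sum_cons_split]
      exact integral_comp_sum μ φ hφ _ _ hJ
    · rw [Finset.not_nonempty_iff_eq_empty] at hJ
      have hI0 : I = {0} := by
        ext i
        rw [Finset.mem_singleton]
        constructor
        · intro hi
          refine Fin.cases (fun _ => rfl) (fun k hk => ?_) i hi
          exfalso
          have : k ∈ Finset.univ.filter (fun k : Fin m => k.succ ∈ I) :=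
            Finset.mem_filter.mpr ⟨Finset.mem_univ _, hk⟩
          rw [hJ] at this
          exact absurd this (Finset.notMem_empty _)
        · rintro rfl
          obtain ⟨i, hi⟩ := Finset.nonempty_iff_ne_empty.mpr hne
          revert hi
          refine Fin.cases (fun h0 => h0) (fun k hk => ?_) i
          exfalso
          have : k ∈ Finset.univ.filter (fun k : Fin m => k.succ ∈ I) :=
            Finset.mem_filter.mpr ⟨Finset.mem_univ _, hk⟩
          rw [hJ] at this
          exact absurd this (Finset.notMem_empty _)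
      rw [if_pos hI0]
      simp_rw [sum_cons_split, hJ, Finset.sum_empty, add_zero]
      rw [hI0]
      simp
  have hint : ∀ I : Finset (Fin (m + 1)), Integrable
      (fun u : Fin m → G => φ (∑ i ∈ I, (Fin.cons g u : Fin (m + 1) → G) i)) (nu μ m) := by
    intro I
    apply integrable_of_continuous μ
    simp_rw [sum_cons_split]
    fun_prop
  have hzero : ∑ I ∈ (Finset.univ : Finset (Fin (m + 1))).powerset, (-1 : ℝ) ^ I.card = 0 := by
    have := Finset.sum_powerset_neg_one_pow_card_of_nonempty
      (x := (Finset.univ : Finset (Fin (m + 1)))) Finset.univ_nonempty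
    exact_mod_cast this
  have hs1 : ∑ I ∈ ((Finset.univ : Finset (Fin (m + 1))).powerset.erase ∅),
      (-1 : ℝ) ^ (m + 1 + I.card) = (-1) ^ m := by
    rw [Finset.sum_erase_eq_sub (Finset.empty_mem_powerset _)]
    simp_rw [pow_add]
    rw [← Finset.mul_sum, hzero]
    simp
  have h0mem : ({0} : Finset (Fin (m + 1))) ∈
      ((Finset.univ : Finset (Fin (m + 1))).powerset.erase ∅) := by
    rw [Finset.mem_erase]
    exact ⟨Finset.singleton_ne_empty _, Finset.mem_powerset.mpr (Finset.subset_univ _)⟩
  have e1 : ∫ u, ψ (Fin.cons g u) ∂(nu μ m) =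
      ∑ I ∈ ((Finset.univ : Finset (Fin (m + 1))).powerset.erase ∅),
        (-1 : ℝ) ^ (m + 1 + I.card) *
          ∫ u, φ (∑ i ∈ I, (Fin.cons g u : Fin (m + 1) → G) i) ∂(nu μ m) := by
    simp_rw [h]
    rw [integral_finsetSum _ (fun I _ => (hint I).const_mul _)]
    simp_rw [integral_const_mul]
  rw [e1, Finset.sum_congr rfl (fun I hI => by rw [key I hI])]
  simp_rw [mul_add, mul_ite, mul_zero]
  rw [Finset.sum_add_distrib, ← Finset.sum_mul, hs1, Finset.sum_ite_eq' _ _ _, if_pos h0mem,
    Finset.card_singleton]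
  have hp : (-1 : ℝ) ^ m * (-1 : ℝ) ^ m = 1 := by
    rw [← mul_pow]
    norm_num
  have hp2 : (-1 : ℝ) ^ (m + 1 + 1) = (-1) ^ m := by
    rw [pow_succ, pow_succ]
    ring
  rw [hp2]
  linear_combination (-(φ g)) * hp

/-- cocycle condition in every pair of variables -/
def Cocycle {n : ℕ} (ψ : (Fin n → G) → ℝ) : Prop :=
  ∀ (i j : Fin n), i ≠ j → ∀ (x : Fin n → G) (a b c : G),
    ψ (Function.update (Function.update x i (a + b)) j c) +
        ψ (Function.update (Function.update x i a) j b) =
      ψ (Function.update (Function.update x i a) j (b + c)) +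
        ψ (Function.update (Function.update x i b) j c)

theorem main_formula (m : ℕ) : ∀ (ψ : (Fin (m + 1) → G) → ℝ), Measurable ψ →
    (∃ C : ℝ, ∀ x, ‖ψ x‖ ≤ C) → Cocycle ψ →
    ∀ x, ψ x = D (fun g => (-1 : ℝ) ^ m * ∫ u, ψ (Fin.cons g u) ∂(nu μ m)) x := by
  induction m with
  | zero =>
    intro ψ _ _ _ x
    have hP : ((Finset.univ : Finset (Fin 1)).powerset.erase ∅) = {{0}} := by decide
    unfold D
    rw [hP, Finset.sum_singleton, Finset.card_singleton, Finset.sum_singleton]
    have hx : ∀ u : Fin 0 → G, (Fin.cons (x 0) u : Fin 1 → G) = x := by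
      intro u
      funext i
      fin_cases i
      simp
    simp_rw [hx]
    simp
  | succ m ih =>
    intro ψ hm hb hc x
    obtain ⟨C, hC⟩ := hb
    have hsn : Measurable (fun p : (Fin (m + 1) → G) × G =>
        (Fin.snoc p.1 p.2 : Fin (m + 2) → G)) := by
      rw [measurable_pi_iff]
      intro i
      refine Fin.lastCases ?_ (fun k => ?_) i
      · simp only [Fin.snoc_last]
        exact measurable_snd
      · simp only [Fin.snoc_castSucc]
        exact (measurable_pi_apply k).comp measurable_fst
    have hψsn : Measurable (fun p : (Fin (m + 1) → G) × G => ψ (Fin.snoc p.1 p.2)) :=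
      hm.comp hsn
    have hsn1 : ∀ y : Fin (m + 1) → G, Measurable (fun c : G => ψ (Fin.snoc y c)) := fun y =>
      hψsn.comp (measurable_const.prodMk measurable_id)
    have hint1 : ∀ y : Fin (m + 1) → G, Integrable (fun c : G => ψ (Fin.snoc y c)) μ := fun y =>
      integrable_of_bound' μ _ (hsn1 y) C (fun c => hC _)
    let Φ : (Fin (m + 1) → G) → ℝ := fun y => -∫ c, ψ (Fin.snoc y c) ∂μ
    have hΦm : Measurable Φ := by
      have := (hψsn.stronglyMeasurable.integral_prod_right' (ν := μ)).measurable
      exact this.neg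
    have hΦb : ∀ y, ‖Φ y‖ ≤ C := by
      intro y
      show ‖-∫ c, ψ (Fin.snoc y c) ∂μ‖ ≤ C
      rw [norm_neg]
      have := norm_integral_le_of_norm_le_const (μ := μ) (f := fun c => ψ (Fin.snoc y c))
        (C := C) (Filter.Eventually.of_forall fun c => hC _)
      simpa using this
    have hΦc : Cocycle Φ := by
      intro i j hij y a b c
      show -∫ t, ψ (Fin.snoc (Function.update (Function.update y i (a + b)) j c) t) ∂μ +
          -∫ t, ψ (Fin.snoc (Function.update (Function.update y i a) j b) t) ∂μ =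
        -∫ t, ψ (Fin.snoc (Function.update (Function.update y i a) j (b + c)) t) ∂μ +
          -∫ t, ψ (Fin.snoc (Function.update (Function.update y i b) j c) t) ∂μ
      rw [← neg_add, ← neg_add, ← integral_add (hint1 _) (hint1 _),
        ← integral_add (hint1 _) (hint1 _)]
      congr 2
      funext t
      simp only [Fin.snoc_update]
      exact hc i.castSucc j.castSucc (by simpa using hij) (Fin.snoc y t) a b c
    have hmerge : ∀ (y : Fin (m + 1) → G) (a b : G),
        ψ (Fin.snoc (Function.update y 0 a) b) =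
          Φ (Function.update y 0 (a + b)) - Φ (Function.update y 0 a) -
            Φ (Function.update y 0 b) := by
      intro y a b
      have hpt : ∀ c : G, ψ (Fin.snoc (Function.update y 0 (a + b)) c) +
          ψ (Fin.snoc (Function.update y 0 a) b) =
          ψ (Fin.snoc (Function.update y 0 a) (b + c)) +
            ψ (Fin.snoc (Function.update y 0 b) c) := by
        intro c
        have := hc 0 (Fin.last (m + 1)) (Fin.last_pos).ne (Fin.snoc y c) a b c
        have key : ∀ A B : G, Function.update (Function.update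
            (Fin.snoc y c : Fin (m + 1 + 1) → G) 0 A) (Fin.last (m + 1)) B =
            Fin.snoc (Function.update y 0 A) B := by
          intro A B
          have h0 : (0 : Fin (m + 1 + 1)) = Fin.castSucc (0 : Fin (m + 1)) := rfl
          rw [h0, ← Fin.snoc_update, Fin.update_snoc_last]
        rw [key, key, key, key] at this
        exact this
      have h2 : ∫ c, (ψ (Fin.snoc (Function.update y 0 (a + b)) c) +
          ψ (Fin.snoc (Function.update y 0 a) b)) ∂μ =
          ∫ c, (ψ (Fin.snoc (Function.update y 0 a) (b + c)) +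
            ψ (Fin.snoc (Function.update y 0 b) c)) ∂μ :=
        integral_congr_ae (Filter.Eventually.of_forall hpt)
      have hshift : Integrable (fun c => ψ (Fin.snoc (Function.update y 0 a) (b + c))) μ :=
        integrable_of_bound' μ _ ((hsn1 _).comp (measurable_const_add b)) C (fun c => hC _)
      rw [integral_add (hint1 _) (integrable_const _), integral_add hshift (hint1 _),
        integral_const,
        integral_add_left_eq_self (fun c => ψ (Fin.snoc (Function.update y 0 a) c)) b] at h2
      simp only [probReal_univ, one_smul] at h2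
      show _ = -(∫ c, ψ (Fin.snoc (Function.update y 0 (a + b)) c) ∂μ) -
        -(∫ c, ψ (Fin.snoc (Function.update y 0 a) c) ∂μ) -
        -(∫ c, ψ (Fin.snoc (Function.update y 0 b) c) ∂μ)
      linarith
    have hconsm : ∀ g : G, Measurable (fun u : Fin (m + 1) → G =>
        (Fin.cons g u : Fin (m + 2) → G)) := by
      intro g
      rw [measurable_pi_iff]
      intro i
      refine Fin.cases ?_ (fun k => ?_) i
      · simp only [Fin.cons_zero]
        exact measurable_const
      · simp only [Fin.cons_succ]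
        exact measurable_pi_apply k
    have hfub : ∀ g : G, ∫ u', Φ (Fin.cons g u') ∂(nu μ m) =
        -∫ u, ψ (Fin.cons g u) ∂(nu μ (m + 1)) := by
      intro g
      have mp : MeasurePreserving
          (MeasurableEquiv.piFinSuccAbove (fun _ : Fin (m + 1) => G) (Fin.last m)).symm
          (μ.prod (nu μ m)) (nu μ (m + 1)) :=
        (measurePreserving_piFinSuccAbove (fun _ : Fin (m + 1) => μ) (Fin.last m)).symm
      have h1 := mp.integral_comp' (fun u : Fin (m + 1) → G => ψ (Fin.cons g u))
      rw [← h1]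
      have hF : Integrable (fun p : G × (Fin m → G) => ψ (Fin.cons g
          ((MeasurableEquiv.piFinSuccAbove (fun _ : Fin (m + 1) => G) (Fin.last m)).symm p)))
          (μ.prod (nu μ m)) :=
        integrable_of_bound' _ _ (hm.comp ((hconsm g).comp (MeasurableEquiv.measurable _))) C
          (fun _ => hC _)
      rw [integral_prod_symm _ hF, ← integral_neg]
      congr 1
      funext u'
      show -∫ c, ψ (Fin.snoc (Fin.cons g u') c) ∂μ = -∫ c, ψ (Fin.cons g
          ((MeasurableEquiv.piFinSuccAbove (fun _ : Fin (m + 1) => G) (Fin.last m)).symm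
            (c, u'))) ∂μ
      congr 2
      funext c
      congr 1
      show (Fin.snoc (Fin.cons g u' : Fin (m + 1) → G) c : Fin (m + 2) → G) =
        (Fin.cons g (ins (Fin.last m) c u') : Fin (m + 2) → G)
      rw [show ins (Fin.last m) c u' = Fin.snoc u' c from Fin.insertNth_last' c u',
        Fin.cons_snoc_eq_snoc_cons]
    have hIH := ih Φ hΦm ⟨C, hΦb⟩ hΦc
    have hφ : (fun g => (-1 : ℝ) ^ m * ∫ u', Φ (Fin.cons g u') ∂(nu μ m)) =
        (fun g => (-1 : ℝ) ^ (m + 1) * ∫ u, ψ (Fin.cons g u) ∂(nu μ (m + 1))) := by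
      funext g
      rw [hfub g, pow_succ]
      ring
    rw [hφ] at hIH
    have e1 := hmerge (Fin.init x) (Fin.init x 0) (x (Fin.last (m + 1)))
    rw [Function.update_eq_self, Fin.snoc_init_self] at e1
    rw [e1, hIH (Function.update (Fin.init x) 0 (Fin.init x 0 + x (Fin.last (m + 1)))),
      hIH (Fin.init x), hIH (Function.update (Fin.init x) 0 (x (Fin.last (m + 1)))),
      ← D_snoc, Fin.snoc_init_self]

theorem main (m : ℕ) (ψ : (Fin (m + 1) → G) → ℝ) (hψc : Continuous ψ)
    (hψ : ∀ (i j : Fin (m + 1)), i ≠ j → ∀ (x : Fin (m + 1) → G) (a b c : G),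
      ψ (Function.update (Function.update x i (a + b)) j c) +
          ψ (Function.update (Function.update x i a) j b) =
        ψ (Function.update (Function.update x i a) j (b + c)) +
          ψ (Function.update (Function.update x i b) j c)) :
    (∀ x : Fin (m + 1) → G,
      ψ x = ∑ I ∈ ((Finset.univ : Finset (Fin (m + 1))).powerset.erase ∅),
        (-1 : ℝ) ^ (m + 1 + I.card) * ((-1 : ℝ) ^ m *
          ∫ u, ψ (Fin.cons (∑ i ∈ I, x i) u) ∂(MeasureTheory.Measure.pi (fun _ : Fin m => μ)))) ∧
    Continuous (fun g : G => (-1 : ℝ) ^ m *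
      ∫ u, ψ (Fin.cons g u) ∂(MeasureTheory.Measure.pi (fun _ : Fin m => μ))) ∧
    (∀ φ : G → ℝ, Continuous φ → (∀ x : Fin (m + 1) → G,
      ψ x = ∑ I ∈ ((Finset.univ : Finset (Fin (m + 1))).powerset.erase ∅),
        (-1 : ℝ) ^ (m + 1 + I.card) * φ (∑ i ∈ I, x i)) →
      φ = fun g => (-1 : ℝ) ^ m *
        ∫ u, ψ (Fin.cons g u) ∂(MeasureTheory.Measure.pi (fun _ : Fin m => μ))) := by
  refine ⟨?_, ?_, ?_⟩
  · intro x
    exact main_formula μ m ψ (measurable_of_continuous_pi ψ hψc)
      (exists_bound_of_continuous ψ hψc) hψ x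
  · exact continuous_const.mul (continuous_integral_param μ
      (fun p : G × (Fin m → G) => ψ (Fin.cons p.1 p.2)) (hψc.comp continuous_cons))
  · intro φ hφ h
    funext g
    exact uniq μ ψ φ hφ h g

end Analysis

end Groth.Agent.Helper25.PtDegA
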