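import Mathlib
import Groth.Prelude.Def_GLin6

/-!
# A configuration of at most `n` points of projective `n`-space is not stable (helper for S18263)
-/

namespace Groth.Agent.Helper25.PtStab

open CoordGrp TensorProduct

universe u

section PartK

variable {k : Type u} [Field k] {N d : ℕ}

/-- The coefficient function of a point of the space of forms, extended by zero to all exponents. -/
noncomputable def ext (a : FormIdx N d → k) (s : Fin N →₀ ℕ) : k :=
  if h : s.degree = d then a ⟨s, h⟩ else 0

theorem ext_of_deg (a : FormIdx N d → k) (m : FormIdx N d) : ext a m.1 = a m := by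
  unfold ext
  rw [dif_pos m.2]

theorem ext_of_ne (a : FormIdx N d → k) (s : Fin N →₀ ℕ) (h : s.degree ≠ d) : ext a s = 0 := by
  unfold ext
  rw [dif_neg h]

theorem coeff_formPoly_ext (a : FormIdx N d → k) (s : Fin N →₀ ℕ) :
    (formPoly a).coeff s = (s.multinomial : k) * ext a s := by
  classical
  by_cases h : s.degree = d
  · have e : ext a s = a ⟨s, h⟩ := ext_of_deg a ⟨s, h⟩
    rw [e]
    exact coeff_formPoly a ⟨s, h⟩
  · rw [ext_of_ne a s h, mul_zero, formPoly, MvPolynomial.coeff_sum]
    apply Finset.sum_eq_zero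
    intro m _
    rw [MvPolynomial.coeff_monomial, if_neg]
    intro hm
    exact h (hm ▸ m.2)

theorem prod_factorial_mul_multinomial (f : Fin N →₀ ℕ) :
    (∏ i, (f i).factorial) * f.multinomial = (f.degree).factorial := by
  rw [Finsupp.multinomial_eq_of_support_subset (Finset.subset_univ f.support),
    Nat.multinomial_spec Finset.univ f, Finsupp.degree_eq_sum]

theorem prod_factorial_add_single (s : Fin N →₀ ℕ) (j : Fin N) :
    (∏ i, ((s + Finsupp.single j 1 : Fin N →₀ ℕ) i).factorial) = (s j + 1) * ∏ i, (s i).factorial := by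
  classical
  have h : ∀ i, ((s + Finsupp.single j 1 : Fin N →₀ ℕ) i).factorial =
      (if i = j then s j + 1 else 1) * (s i).factorial := by
    intro i
    by_cases hij : i = j
    · subst hij
      rw [if_pos rfl, Finsupp.add_apply, Finsupp.single_eq_same, Nat.factorial_succ]
    · rw [if_neg hij, Finsupp.add_apply, Finsupp.single_eq_of_ne hij, add_zero, one_mul]
  rw [Finset.prod_congr rfl (fun i _ => h i), Finset.prod_mul_distrib, Finset.prod_ite_eq']
  simp

theorem multinomial_add_single (s : Fin N →₀ ℕ) (j : Fin N) :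
    (s j + 1) * (s + Finsupp.single j 1).multinomial = (s.degree + 1) * s.multinomial := by
  have h1 := prod_factorial_mul_multinomial (s + Finsupp.single j 1)
  have h2 := prod_factorial_mul_multinomial s
  rw [prod_factorial_add_single, map_add, Finsupp.degree_single, Nat.factorial_succ, ← h2] at h1
  have hP : 0 < ∏ i, (s i).factorial := Finset.prod_pos (fun i _ => Nat.factorial_pos _)
  apply Nat.eq_of_mul_eq_mul_left hP
  calc (∏ i, (s i).factorial) * ((s j + 1) * (s + Finsupp.single j 1).multinomial)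
      = (s j + 1) * (∏ i, (s i).factorial) * (s + Finsupp.single j 1).multinomial := by ring
    _ = (s.degree + 1) * ((∏ i, (s i).factorial) * s.multinomial) := h1
    _ = (∏ i, (s i).factorial) * ((s.degree + 1) * s.multinomial) := by ring

theorem multinomial_cast_ne_zero (s : Fin N →₀ ℕ) (hs : s.degree + 1 = d)
    (hd : (d.factorial : k) ≠ 0) : (((s.degree + 1) * s.multinomial : ℕ) : k) ≠ 0 := by
  have h2 := prod_factorial_mul_multinomial s
  have h3 : ((s.degree + 1) * s.multinomial) * (∏ i, (s i).factorial) = d.factorial := by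
    rw [← hs, Nat.factorial_succ, ← h2]; ring
  have h4 := congrArg (Nat.cast (R := k)) h3
  rw [Nat.cast_mul] at h4
  intro h0
  rw [h0, zero_mul] at h4
  exact hd h4.symm

theorem key_K (a : FormIdx N d → k) (p : Fin d → Fin N → k) (u : Fin N → k)
    (hpu : ∀ i, ∑ j, p i j * u j = 0)
    (ha : formPoly a = ∏ i, ∑ j, MvPolynomial.C (p i j) * MvPolynomial.X j)
    (hd : (d.factorial : k) ≠ 0) (s : Fin N →₀ ℕ) :
    ∑ j, u j * ext a (s + Finsupp.single j 1) = 0 := by
  classical
  by_cases hs : s.degree + 1 = d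
  · have hD : ∑ j, MvPolynomial.C (u j) * MvPolynomial.pderiv j (formPoly a) = 0 := by
      rw [ha]
      have hall : ∀ t : Finset (Fin d), ∑ j, MvPolynomial.C (u j) *
          MvPolynomial.pderiv j (∏ i ∈ t, ∑ j', MvPolynomial.C (p i j') * MvPolynomial.X j') = 0 := by
        intro t
        induction t using Finset.induction_on with
        | empty => simp
        | insert i t hi ih =>
          have h1 : ∀ j, MvPolynomial.pderiv j
              (∑ j', MvPolynomial.C (p i j') * (MvPolynomial.X j' : MvPolynomial (Fin N) k)) =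
              MvPolynomial.C (p i j) := by
            intro j
            rw [map_sum]
            simp only [MvPolynomial.pderiv_C_mul, MvPolynomial.pderiv_X, Pi.single_apply]
            simp
          have e : ∀ j, MvPolynomial.C (u j) * MvPolynomial.pderiv j
              ((∑ j', MvPolynomial.C (p i j') * MvPolynomial.X j') *
                ∏ i' ∈ t, ∑ j', MvPolynomial.C (p i' j') * (MvPolynomial.X j' : MvPolynomial (Fin N) k)) =
              MvPolynomial.C (p i j * u j) *
                  (∏ i' ∈ t, ∑ j', MvPolynomial.C (p i' j') * MvPolynomial.X j') +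
                (∑ j', MvPolynomial.C (p i j') * MvPolynomial.X j') *
                  (MvPolynomial.C (u j) * MvPolynomial.pderiv j
                    (∏ i' ∈ t, ∑ j', MvPolynomial.C (p i' j') * MvPolynomial.X j')) := by
            intro j
            rw [MvPolynomial.pderiv_mul, h1 j, MvPolynomial.C_mul]
            ring
          have hsum : ∑ j, MvPolynomial.C (p i j * u j) =
              (MvPolynomial.C (∑ j, p i j * u j) : MvPolynomial (Fin N) k) :=
            (map_sum MvPolynomial.C _ _).symm
          rw [Finset.prod_insert hi, Finset.sum_congr rfl (fun j _ => e j), Finset.sum_add_distrib,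
            ← Finset.sum_mul, ← Finset.mul_sum, ih, mul_zero, add_zero, hsum, hpu i, map_zero,
            zero_mul]
      exact hall Finset.univ
    have hcoef := congrArg (MvPolynomial.coeff s) hD
    rw [MvPolynomial.coeff_sum, MvPolynomial.coeff_zero] at hcoef
    simp only [MvPolynomial.coeff_C_mul, MvPolynomial.coeff_pderiv, coeff_formPoly_ext] at hcoef
    have hmul : ∀ j, ((s + Finsupp.single j 1).multinomial : k) * ((s j : k) + 1) =
        (((s.degree + 1) * s.multinomial : ℕ) : k) := by
      intro j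
      have h := congrArg (Nat.cast (R := k)) (multinomial_add_single s j)
      push_cast at h ⊢
      linear_combination h
    have hne := multinomial_cast_ne_zero (k := k) s hs hd
    have hfin : (((s.degree + 1) * s.multinomial : ℕ) : k) *
        ∑ j, u j * ext a (s + Finsupp.single j 1) = 0 := by
      rw [Finset.mul_sum, ← hcoef]
      apply Finset.sum_congr rfl
      intro j _
      rw [← hmul j]
      ring
    exact (mul_eq_zero.mp hfin).resolve_left hne
  · apply Finset.sum_eq_zero
    intro j _
    rw [ext_of_ne, mul_zero]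
    rw [map_add, Finsupp.degree_single]
    exact hs

end PartK

section PartA

variable {k : Type u} [Field k] {N d : ℕ} {B : Type u} [CommRing B] [Algebra k B]

/-- The linear form `Σ_j M j i x_j`. -/
noncomputable def Lform (M : Matrix (Fin N) (Fin N) B) (i : Fin N) : MvPolynomial (Fin N) B :=
  ∑ j, MvPolynomial.C (M j i) * MvPolynomial.X j

/-- The substitution `x_i ↦ Σ_j M j i x_j`. -/
noncomputable def sigma (M : Matrix (Fin N) (Fin N) B) :
    MvPolynomial (Fin N) k →ₐ[k] MvPolynomial (Fin N) B :=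
  MvPolynomial.aeval (Lform M)

/-- Evaluation of the matrix coordinates at `M`, on `k[x] ⊗ Mat`. -/
noncomputable def Emap (M : Matrix (Fin N) (Fin N) B) :
    MvPolynomial (Fin N) k ⊗[k] Mat N k →ₐ[k] MvPolynomial (Fin N) B :=
  Algebra.TensorProduct.lift (MvPolynomial.mapAlgHom (Algebra.ofId k B))
    ((IsScalarTower.toAlgHom k B (MvPolynomial (Fin N) B)).comp (Mat.aeval N k M))
    (fun _ _ => Commute.all _ _)

theorem Emap_tmul (M : Matrix (Fin N) (Fin N) B) (p : MvPolynomial (Fin N) k) (z : Mat N k) :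
    Emap M (p ⊗ₜ[k] z) = MvPolynomial.C (Mat.aeval N k M z) *
      MvPolynomial.map (algebraMap k B) p := by
  rw [Emap, Algebra.TensorProduct.lift_tmul, mul_comm]
  rfl

theorem coeff_Emap (M : Matrix (Fin N) (Fin N) B) (l : Fin N →₀ ℕ)
    (w : MvPolynomial (Fin N) k ⊗[k] Mat N k) :
    MvPolynomial.coeff l (Emap M w) = Mat.aeval N k M (coeffT (k := k) l w) := by
  induction w using TensorProduct.induction_on with
  | zero => simp
  | tmul p z =>
    rw [coeffT_tmul, Emap_tmul, MvPolynomial.coeff_C_mul, MvPolynomial.coeff_map, map_smul,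
      Algebra.smul_def, mul_comm]
  | add x y hx hy => simp only [map_add, MvPolynomial.coeff_add, hx, hy]

theorem Emap_comp_std (M : Matrix (Fin N) (Fin N) B) :
    (Emap M).comp (stdCoactAlg N k) = sigma (k := k) M := by
  apply MvPolynomial.algHom_ext
  intro i
  rw [AlgHom.comp_apply, stdCoactAlg_X, map_sum, sigma, MvPolynomial.aeval_X, Lform]
  apply Finset.sum_congr rfl
  intro j _
  rw [Emap_tmul, Mat.aeval_X, MvPolynomial.map_X]

theorem aeval_formCoeff (M : Matrix (Fin N) (Fin N) B) (l m : FormIdx N d) :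
    Mat.aeval N k M (formCoeff k N d l m) =
      MvPolynomial.coeff l.1 (sigma (k := k) M (MvPolynomial.monomial m.1 1)) := by
  rw [formCoeff_def, ← coeff_Emap, ← Emap_comp_std, AlgHom.comp_apply]

/-- The functional `f ↦ Σ_l a_l coeff_l f`. -/
noncomputable def alpha (a : FormIdx N d → k) : MvPolynomial (Fin N) B →ₗ[B] B :=
  ∑ l : FormIdx N d, (algebraMap k B (a l)) • (MvPolynomial.lcoeff B l.1)

theorem alpha_apply (a : FormIdx N d → k) (f : MvPolynomial (Fin N) B) :
    alpha a f = ∑ l : FormIdx N d, algebraMap k B (a l) * MvPolynomial.coeff l.1 f := by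
  simp only [alpha, LinearMap.sum_apply, LinearMap.smul_apply, MvPolynomial.lcoeff_apply, smul_eq_mul]

theorem alpha_monomial (a : FormIdx N d → k) (s : Fin N →₀ ℕ) (b : B) :
    alpha (B := B) a (MvPolynomial.monomial s b) = b * algebraMap k B (ext a s) := by
  classical
  rw [alpha_apply]
  by_cases h : s.degree = d
  · rw [Finset.sum_eq_single (⟨s, h⟩ : FormIdx N d)]
    · rw [MvPolynomial.coeff_monomial, if_pos rfl, ← ext_of_deg a ⟨s, h⟩, mul_comm]
    · intro l _ hl
      rw [MvPolynomial.coeff_monomial, if_neg, mul_zero]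
      intro e
      exact hl (Subtype.ext e.symm)
    · intro h'
      exact absurd (Finset.mem_univ _) h'
  · rw [ext_of_ne a s h, map_zero, mul_zero]
    apply Finset.sum_eq_zero
    intro l _
    rw [MvPolynomial.coeff_monomial, if_neg, mul_zero]
    intro e
    exact h (e ▸ l.2)

/-- The linear form `Σ_j u_j x_j` over `B`. -/
noncomputable def UB (u : Fin N → k) : MvPolynomial (Fin N) B :=
  ∑ j, MvPolynomial.C (algebraMap k B (u j)) * MvPolynomial.X j

theorem alpha_UB_mul (a : FormIdx N d → k) (u : Fin N → k)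
    (hK : ∀ s : Fin N →₀ ℕ, ∑ j, u j * ext a (s + Finsupp.single j 1) = 0)
    (f : MvPolynomial (Fin N) B) : alpha (B := B) a (UB u * f) = 0 := by
  induction f using MvPolynomial.induction_on' with
  | monomial s b =>
    rw [UB, Finset.sum_mul, map_sum]
    have e : ∀ j, alpha (B := B) a (MvPolynomial.C (algebraMap k B (u j)) * MvPolynomial.X j *
        MvPolynomial.monomial s b) =
        b * (algebraMap k B (u j) * algebraMap k B (ext a (s + Finsupp.single j 1))) := by
      intro j
      rw [MvPolynomial.X, MvPolynomial.C_mul_monomial, MvPolynomial.monomial_mul, alpha_monomial,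
        add_comm (Finsupp.single j 1) s]
      ring
    rw [Finset.sum_congr rfl (fun j _ => e j), ← Finset.mul_sum]
    have h := congrArg (algebraMap k B) (hK s)
    rw [map_sum, map_zero] at h
    simp only [map_mul] at h
    rw [h, mul_zero]
  | add p q hp hq => rw [mul_add, map_add, hp, hq, add_zero]

theorem Lform_eq (M : Matrix (Fin N) (Fin N) B) (u : Fin N → k) (τ : B) (ω : Fin N → B)
    (hM : ∀ j i, M j i = (if j = i then 1 else 0) + τ * algebraMap k B (u j) * ω i) (i : Fin N) :
    Lform M i = MvPolynomial.X i + MvPolynomial.C (τ * ω i) * UB u := by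
  classical
  unfold Lform UB
  rw [Finset.mul_sum]
  have e : ∀ j, MvPolynomial.C (M j i) * (MvPolynomial.X j : MvPolynomial (Fin N) B) =
      (if j = i then MvPolynomial.X j else 0) +
        MvPolynomial.C (τ * ω i) * (MvPolynomial.C (algebraMap k B (u j)) * MvPolynomial.X j) := by
    intro j
    rw [hM j i, map_add, add_mul]
    congr 1
    · by_cases h : j = i
      · rw [if_pos h, if_pos h, map_one, one_mul]
      · rw [if_neg h, if_neg h, map_zero, zero_mul]
    · rw [← mul_assoc, ← MvPolynomial.C_mul]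
      congr 2
      ring
  rw [Finset.sum_congr rfl (fun j _ => e j), Finset.sum_add_distrib, Finset.sum_ite_eq']
  simp

theorem sigma_sub_mem (M : Matrix (Fin N) (Fin N) B) (u : Fin N → k) (τ : B) (ω : Fin N → B)
    (hM : ∀ j i, M j i = (if j = i then 1 else 0) + τ * algebraMap k B (u j) * ω i)
    (q : MvPolynomial (Fin N) k) :
    ∃ f : MvPolynomial (Fin N) B,
      sigma (k := k) M q = MvPolynomial.map (algebraMap k B) q + UB u * f := by
  have hcomp : (Ideal.Quotient.mkₐ k (Ideal.span {UB (B := B) u})).comp (sigma (k := k) M) =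
      (Ideal.Quotient.mkₐ k (Ideal.span {UB (B := B) u})).comp
        (MvPolynomial.mapAlgHom (Algebra.ofId k B)) := by
    apply MvPolynomial.algHom_ext
    intro i
    rw [AlgHom.comp_apply, AlgHom.comp_apply, sigma, MvPolynomial.aeval_X,
      MvPolynomial.mapAlgHom_apply, MvPolynomial.map_X, Lform_eq M u τ ω hM i,
      Ideal.Quotient.mkₐ_eq_mk, Ideal.Quotient.eq]
    rw [add_sub_cancel_left]
    exact Ideal.mul_mem_left _ _ (Ideal.subset_span rfl)
  have h := congrArg (fun φ => φ q) hcomp
  simp only [AlgHom.comp_apply, Ideal.Quotient.mkₐ_eq_mk, MvPolynomial.mapAlgHom_apply] at h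
  rw [Ideal.Quotient.eq, Ideal.mem_span_singleton'] at h
  obtain ⟨f, hf⟩ := h
  refine ⟨f, ?_⟩
  have : sigma (k := k) M q = MvPolynomial.map (Algebra.ofId k B : k →+* B) q + f * UB u := by
    rw [hf]; ring
  rw [this, mul_comm]
  rfl

theorem claim_A (a : FormIdx N d → k) (p : Fin d → Fin N → k) (u : Fin N → k)
    (hpu : ∀ i, ∑ j, p i j * u j = 0)
    (ha : formPoly a = ∏ i, ∑ j, MvPolynomial.C (p i j) * MvPolynomial.X j)
    (hd : (d.factorial : k) ≠ 0)
    (M : Matrix (Fin N) (Fin N) B) (τ : B) (ω : Fin N → B)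
    (hM : ∀ j i, M j i = (if j = i then 1 else 0) + τ * algebraMap k B (u j) * ω i)
    (m : FormIdx N d) :
    ∑ l : FormIdx N d, algebraMap k B (a l) * Mat.aeval N k M (formCoeff k N d l m) =
      algebraMap k B (a m) := by
  have hK := key_K a p u hpu ha hd
  simp only [aeval_formCoeff]
  rw [← alpha_apply]
  obtain ⟨f, hf⟩ := sigma_sub_mem M u τ ω hM (MvPolynomial.monomial m.1 (1 : k))
  rw [hf, map_add, alpha_UB_mul a u hK f, add_zero, MvPolynomial.map_monomial, alpha_monomial,
    ext_of_deg, map_one, one_mul]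

end PartA

section Part3

theorem orbitHom_eq {k : Type u} [CommRing k] {A : Type u} [CommRing A] [Bialgebra k A]
    {R : Type u} [CommRing R] [Algebra k R] (c : HopfRep.Comod k A R)
    (hc : @GLin.IsCoactAlg k _ A _ _ R _ _ c) (x : R →ₐ[k] k) (r : R) :
    @GLin.orbitHom k _ A _ _ R _ _ c hc x r =
      (Algebra.TensorProduct.lid k A)
        ((Algebra.TensorProduct.map x (AlgHom.id k A)) (c.coact r)) := rfl

theorem not_hasFiniteStab {k : Type u} [Field k] {A : Type u} [CommRing A] [Bialgebra k A]
    {R : Type u} [CommRing R] [Algebra k R] (c : HopfRep.Comod k A R)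
    (hc : @GLin.IsCoactAlg k _ A _ _ R _ _ c) (x : R →ₐ[k] k)
    (ψ : A →ₐ[k] Polynomial k)
    (hψ : ψ.comp (@GLin.orbitHom k _ A _ _ R _ _ c hc x) =
      (Algebra.ofId k (Polynomial k)).comp x)
    (y : A) (hy : ¬ IsIntegral k (ψ y)) :
    ¬ @GLin.HasFiniteStab k _ A _ _ R _ _ c hc x := by
  intro hfin
  have hfin' : Module.Finite k (A ⧸ @GLin.stabIdeal k _ A _ _ R _ _ c hc x) := hfin
  have hker : ∀ z ∈ @GLin.stabIdeal k _ A _ _ R _ _ c hc x, ψ z = 0 := by
    intro z hz
    have hle : @GLin.stabIdeal k _ A _ _ R _ _ c hc x ≤ RingHom.ker ψ := by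
      unfold GLin.stabIdeal
      rw [Ideal.map_le_iff_le_comap]
      intro r hr
      have h1 := congrArg (fun f => f r) hψ
      simp only [AlgHom.comp_apply] at h1
      rw [Ideal.mem_comap, RingHom.mem_ker, h1, (RingHom.mem_ker).mp hr, map_zero]
    exact (RingHom.mem_ker).mp (hle hz)
  let ψbar : (A ⧸ @GLin.stabIdeal k _ A _ _ R _ _ c hc x) →ₐ[k] Polynomial k :=
    Ideal.Quotient.liftₐ _ ψ hker
  have hint : IsIntegral k (Ideal.Quotient.mk (@GLin.stabIdeal k _ A _ _ R _ _ c hc x) y) :=
    Algebra.IsIntegral.isIntegral _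
  have h2 : IsIntegral k (ψbar (Ideal.Quotient.mk _ y)) := hint.map ψbar
  exact hy h2

theorem orbitHom_forms_X {k : Type u} [Field k] {N d : ℕ} {A : Type u} [CommRing A]
    [Bialgebra k A] (φ : Mat N k →ₐc[k] A) (a : FormIdx N d → k) (l : FormIdx N d) :
    @GLin.orbitHom k _ A _ _ (FormRing k N d) _ _ (GLin.comodAlong φ (formsCoact k N d))
      (GLin.isCoactAlg_comodAlong φ (formsCoact k N d) (formsCoact_isCoactAlg k N d))
      (GLin.vecPt k (FormIdx N d) a) (MvPolynomial.X l) =
      ∑ l' : FormIdx N d, a l' • φ (formCoeff k N d l' l) := by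
  rw [orbitHom_eq, GLin.comodAlong_coact, formsCoact_coact, formsCoactAlg_X, map_sum, map_sum,
    map_sum]
  apply Finset.sum_congr rfl
  intro l' _
  rw [TensorProduct.map_tmul, Algebra.TensorProduct.map_tmul, Algebra.TensorProduct.lid_tmul]
  simp [GLin.vecPt]

theorem exists_kernel_vec {k : Type u} [Field k] {n m : ℕ} (hmn : m ≤ n)
    (p : Fin m → Fin (n + 1) → k) :
    ∃ u : Fin (n + 1) → k, u ≠ 0 ∧ ∀ i, ∑ j, p i j * u j = 0 := by
  have hlt : Module.finrank k (Fin m → k) < Module.finrank k (Fin (n + 1) → k) := by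
    rw [Module.finrank_fin_fun, Module.finrank_fin_fun]; omega
  have hker := LinearMap.ker_ne_bot_of_finrank_lt (f := Matrix.mulVecLin (Matrix.of p)) hlt
  obtain ⟨u, hu, hu0⟩ := Submodule.exists_mem_ne_zero_of_ne_bot hker
  refine ⟨u, hu0, fun i => ?_⟩
  have := congrFun (LinearMap.mem_ker.mp hu) i
  simpa [Matrix.mulVec, dotProduct] using this

theorem main18263 (k : Type u) [Field k] (n m : ℕ) (hn : 1 ≤ n) (hmn : m ≤ n)
    (hm : (Nat.factorial m : k) ≠ 0) (p : Fin m → Fin (n + 1) → k)
    (a : CoordGrp.FormIdx (n + 1) m → k)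
    (ha : CoordGrp.formPoly a = ∏ i, ∑ j, MvPolynomial.C (p i j) * MvPolynomial.X j) :
    ¬ @GLin.IsStableVec k _ (CoordGrp.SLn (n + 1) k) _ _ (CoordGrp.FormIdx (n + 1) m)
      (GLin.comodAlong ((CoordGrp.SLn.mkHom (n + 1) k).comp (CoordGrp.Mat.toGLn (n + 1) k)) (CoordGrp.formsCoact k (n + 1) m))
      (GLin.isCoactAlg_comodAlong ((CoordGrp.SLn.mkHom (n + 1) k).comp (CoordGrp.Mat.toGLn (n + 1) k)) (CoordGrp.formsCoact k (n + 1) m) (CoordGrp.formsCoact_isCoactAlg k (n + 1) m)) a := by
  classical
  obtain ⟨u, hu0, hpu⟩ := exists_kernel_vec hmn p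
  obtain ⟨j₀, hj₀⟩ : ∃ j₀, u j₀ ≠ 0 := by
    by_contra h
    apply hu0
    funext j
    by_contra hj
    exact h ⟨j, hj⟩
  have : Nontrivial (Fin (n + 1)) := Fin.nontrivial_iff_two_le.mpr (by omega)
  obtain ⟨t₀, ht₀⟩ := exists_ne j₀
  obtain ⟨w, hwu, hwt⟩ : ∃ w : Fin (n + 1) → k, (∑ t, w t * u t = 0) ∧ w t₀ = u j₀ := by
    refine ⟨Pi.single t₀ (u j₀) - Pi.single j₀ (u t₀), ?_, ?_⟩
    · simp only [Pi.sub_apply, sub_mul, Finset.sum_sub_distrib, Pi.single_apply, ite_mul,
        zero_mul, Finset.sum_ite_eq', Finset.mem_univ, if_true]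
      ring
    · simp [ht₀]
  obtain ⟨M, hdet, hMent⟩ : ∃ M : Matrix (Fin (n + 1)) (Fin (n + 1)) (Polynomial k),
      M.det = 1 ∧ ∀ j i, M j i = (if j = i then 1 else 0) +
        Polynomial.X * algebraMap k (Polynomial k) (u j) * Polynomial.C (w i) := by
    refine ⟨1 + Matrix.replicateCol (Fin 1) (fun j => Polynomial.X * Polynomial.C (u j)) *
      Matrix.replicateRow (Fin 1) (fun t => Polynomial.C (w t)), ?_, ?_⟩
    · refine (Matrix.det_one_add_replicateCol_mul_replicateRow _ _).trans ?_
      simp only [dotProduct]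
      have hs : ∑ t, Polynomial.C (w t) * (Polynomial.X * Polynomial.C (u t)) =
          Polynomial.X * Polynomial.C (∑ t, w t * u t) := by
        rw [map_sum, Finset.mul_sum]
        apply Finset.sum_congr rfl
        intro t _
        rw [map_mul]
        ring
      rw [hs, hwu, map_zero, mul_zero, add_zero]
    · intro j i
      simp [Matrix.add_apply, Matrix.one_apply, Matrix.mul_apply, Polynomial.C_eq_algebraMap]
  set φ := (CoordGrp.SLn.mkHom (n + 1) k).comp (CoordGrp.Mat.toGLn (n + 1) k) with hφ
  have hψφ : ∀ z : Mat (n + 1) k, SLn.pt (n + 1) k M hdet (φ z) = Mat.aeval (n + 1) k M z := by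
    intro z
    have hcomp : ((SLn.pt (n + 1) k M hdet).comp (φ : Mat (n + 1) k →ₐ[k] SLn (n + 1) k)) =
        Mat.aeval (n + 1) k M := by
      apply Mat.algHom_ext
      intro i j
      rw [Mat.aeval_X]
      show SLn.pt (n + 1) k M hdet (φ (Mat.X i j)) = M i j
      rw [hφ, BialgHom.comp_apply, Mat.toGLn_X]
      exact SLn.pt_X M hdet i j
    exact congrArg (fun f => f z) hcomp
  intro hst
  refine not_hasFiniteStab _ _ (GLin.vecPt k _ a) (SLn.pt (n + 1) k M hdet) ?_ (SLn.X j₀ t₀) ?_
    hst.2
  · apply MvPolynomial.algHom_ext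
    intro l
    rw [AlgHom.comp_apply, AlgHom.comp_apply, orbitHom_forms_X, map_sum]
    simp only [map_smul, hψφ]
    simp only [Algebra.smul_def]
    rw [claim_A a p u hpu ha hm M Polynomial.X (fun i => Polynomial.C (w i)) hMent l]
    simp [GLin.vecPt, Algebra.ofId_apply]
  · have hval : SLn.pt (n + 1) k M hdet (SLn.X j₀ t₀) =
        Polynomial.X * Polynomial.C (u j₀ * u j₀) := by
      rw [SLn.pt_X M hdet j₀ t₀, hMent, if_neg (Ne.symm ht₀), hwt, zero_add,
        ← Polynomial.C_eq_algebraMap, mul_assoc, ← Polynomial.C_mul]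
    rw [hval]
    intro hint
    have hc : u j₀ * u j₀ ≠ 0 := mul_ne_zero hj₀ hj₀
    have hX : IsIntegral k (Polynomial.X : Polynomial k) := by
      have h := hint.mul (isIntegral_algebraMap (x := (u j₀ * u j₀)⁻¹))
      have e : Polynomial.X * Polynomial.C (u j₀ * u j₀) *
          algebraMap k (Polynomial k) (u j₀ * u j₀)⁻¹ = Polynomial.X := by
        rw [← Polynomial.C_eq_algebraMap, mul_assoc, ← Polynomial.C_mul, mul_inv_cancel₀ hc,
          Polynomial.C_1, mul_one]
      rwa [e] at h
    exact (Polynomial.transcendental_X k) hX.isAlgebraic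

end Part3

end Groth.Agent.Helper25.PtStab
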