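import Mathlib

/-! Quasisymmetric power series of a fixed degree as a limit of polynomials in finitely many
ordered variables. -/

namespace Groth.Agent.Helper25.QSymLim

/-- quasisymmetry -/
def QS (F : MvPowerSeries ℕ ℤ) : Prop :=
  ∀ (ℓ : ℕ) (i j : Fin ℓ → ℕ) (a : Fin ℓ → ℕ), StrictMono i → StrictMono j → (∀ t, 0 < a t) →
    MvPowerSeries.coeff (∑ t : Fin ℓ, Finsupp.single (i t) (a t)) F =
      MvPowerSeries.coeff (∑ t : Fin ℓ, Finsupp.single (j t) (a t)) F

lemma finsupp_eq_sum_orderEmb {n : ℕ} (e : Fin n →₀ ℕ) :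
    e = ∑ t : Fin e.support.card, Finsupp.single (e.support.orderEmbOfFin rfl t)
      (e (e.support.orderEmbOfFin rfl t)) := by
  have h1 : e = ∑ x ∈ e.support, Finsupp.single x (e x) := (Finsupp.sum_single e).symm
  have h2 : ∑ t : Fin e.support.card, Finsupp.single (e.support.orderEmbOfFin rfl t)
      (e (e.support.orderEmbOfFin rfl t)) = ∑ x ∈ e.support, Finsupp.single x (e x) := by
    conv_rhs => rw [← Finset.map_orderEmbOfFin_univ e.support rfl]
    rw [Finset.sum_map]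
    rfl
  rw [h2]; exact h1

lemma mapDomain_eq_sum {n : ℕ} (e : Fin n →₀ ℕ) (g : Fin n → ℕ) :
    Finsupp.mapDomain g e = ∑ t : Fin e.support.card,
      Finsupp.single (g (e.support.orderEmbOfFin rfl t)) (e (e.support.orderEmbOfFin rfl t)) := by
  have h := congrArg (Finsupp.mapDomain g) (finsupp_eq_sum_orderEmb e)
  rw [Finsupp.mapDomain_finset_sum] at h
  simp only [Finsupp.mapDomain_single] at h
  exact h

lemma qs_key {F : MvPowerSeries ℕ ℤ} (hF : QS F) {n : ℕ} (g g' : Fin n → ℕ) (hg : StrictMono g)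
    (hg' : StrictMono g') (e : Fin n →₀ ℕ) :
    MvPowerSeries.coeff (Finsupp.mapDomain g e) F = MvPowerSeries.coeff (Finsupp.mapDomain g' e) F := by
  rw [mapDomain_eq_sum e g, mapDomain_eq_sum e g']
  apply hF _ (fun t => g (e.support.orderEmbOfFin rfl t)) (fun t => g' (e.support.orderEmbOfFin rfl t))
  · exact hg.comp (e.support.orderEmbOfFin rfl).strictMono
  · exact hg'.comp (e.support.orderEmbOfFin rfl).strictMono
  · intro t
    have hm := Finset.orderEmbOfFin_mem e.support rfl t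
    rw [Finsupp.mem_support_iff] at hm
    exact Nat.pos_of_ne_zero hm

theorem partA (F : MvPowerSeries ℕ ℤ) (hF : QS F) (n m : ℕ) (φ : Fin n ↪o Fin m) (e : Fin n →₀ ℕ) :
    MvPowerSeries.coeff (Finsupp.mapDomain Fin.val e) F =
      MvPowerSeries.coeff (Finsupp.mapDomain Fin.val (Finsupp.mapDomain φ e)) F := by
  rw [← Finsupp.mapDomain_comp]
  exact qs_key hF Fin.val (Fin.val ∘ φ) Fin.val_strictMono (Fin.val_strictMono.comp φ.strictMono) e

/-- bound for the support -/
def bnd (e : ℕ →₀ ℕ) : ℕ := e.support.sup id + 1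

lemma lt_bnd {e : ℕ →₀ ℕ} {x : ℕ} (hx : x ∈ e.support) : x < bnd e :=
  Nat.lt_succ_of_le (Finset.le_sup (f := id) hx)

/-- restriction of an exponent vector to `Fin n` -/
noncomputable def res (n : ℕ) (e : ℕ →₀ ℕ) : Fin n →₀ ℕ :=
  Finsupp.comapDomain Fin.val e (Fin.val_injective.injOn)

lemma map_res {n : ℕ} {e : ℕ →₀ ℕ} (h : ∀ x ∈ e.support, x < n) :
    Finsupp.mapDomain Fin.val (res n e) = e := by
  apply Finsupp.mapDomain_comapDomain _ Fin.val_injective
  intro x hx
  exact ⟨⟨x, h x hx⟩, rfl⟩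

/-- the limit power series -/
noncomputable def Flim (f : (n : ℕ) → MvPolynomial (Fin n) ℤ) : MvPowerSeries ℕ ℤ :=
  fun e => MvPolynomial.coeff (res (bnd e) e) (f (bnd e))

lemma coeff_Flim (f : (n : ℕ) → MvPolynomial (Fin n) ℤ)
    (hc : ∀ (n m : ℕ) (φ : Fin n ↪o Fin m) (e : Fin n →₀ ℕ),
      MvPolynomial.coeff e (f n) = MvPolynomial.coeff (Finsupp.mapDomain φ e) (f m))
    {n : ℕ} (e' : Fin n →₀ ℕ) :
    MvPowerSeries.coeff (Finsupp.mapDomain Fin.val e') (Flim f) = MvPolynomial.coeff e' (f n) := by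
  obtain ⟨e, he⟩ : ∃ e, e = Finsupp.mapDomain Fin.val e' := ⟨_, rfl⟩
  rw [← he, MvPowerSeries.coeff_apply]
  show MvPolynomial.coeff (res (bnd e) e) (f (bnd e)) = _
  rw [hc n (max n (bnd e)) (Fin.castLEOrderEmb (le_max_left _ _)) e',
    hc (bnd e) (max n (bnd e)) (Fin.castLEOrderEmb (le_max_right _ _)) (res (bnd e) e)]
  congr 1
  apply Finsupp.mapDomain_injective (Fin.val_injective (n := max n (bnd e)))
  rw [← Finsupp.mapDomain_comp, ← Finsupp.mapDomain_comp]
  have c1 : (Fin.val ∘ (Fin.castLEOrderEmb (le_max_left n (bnd e)))) = (Fin.val : Fin n → ℕ) := by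
    funext x; rfl
  have c2 : (Fin.val ∘ (Fin.castLEOrderEmb (le_max_right n (bnd e)))) =
      (Fin.val : Fin (bnd e) → ℕ) := by
    funext x; rfl
  rw [c1, c2, map_res (fun x hx => lt_bnd hx), he]

theorem partB (d : ℕ) (f : (n : ℕ) → MvPolynomial (Fin n) ℤ) (hh : ∀ n, (f n).IsHomogeneous d)
    (hc : ∀ (n m : ℕ) (φ : Fin n ↪o Fin m) (e : Fin n →₀ ℕ),
      MvPolynomial.coeff e (f n) = MvPolynomial.coeff (Finsupp.mapDomain φ e) (f m)) :
    ∃! F : MvPowerSeries ℕ ℤ, QS F ∧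
      (∀ e : ℕ →₀ ℕ, MvPowerSeries.coeff e F ≠ 0 → e.degree = d) ∧
      (∀ (n : ℕ) (e : Fin n →₀ ℕ),
        MvPowerSeries.coeff (Finsupp.mapDomain Fin.val e) F = MvPolynomial.coeff e (f n)) := by
  refine ⟨Flim f, ⟨?_, ?_, fun n e => coeff_Flim f hc e⟩, ?_⟩
  · -- quasisymmetry
    intro ℓ i j a hi hj ha
    obtain ⟨M, hM⟩ : ∃ M : ℕ, ∀ t, i t < M ∧ j t < M := by
      refine ⟨(Finset.univ.sup i) + (Finset.univ.sup j) + 1, fun t => ?_⟩
      have h1 : i t ≤ Finset.univ.sup i := Finset.le_sup (Finset.mem_univ t)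
      have h2 : j t ≤ Finset.univ.sup j := Finset.le_sup (Finset.mem_univ t)
      omega
    have hstep : ∀ (g : Fin ℓ → ℕ) (hg : StrictMono g) (hgM : ∀ t, g t < M),
        MvPowerSeries.coeff (∑ t : Fin ℓ, Finsupp.single (g t) (a t)) (Flim f) =
          MvPolynomial.coeff (∑ t : Fin ℓ, Finsupp.single t (a t)) (f ℓ) := by
      intro g hg hgM
      have hmono : StrictMono (fun t : Fin ℓ => (⟨g t, hgM t⟩ : Fin M)) := fun s t hst => hg hst
      have e1 : (∑ t : Fin ℓ, Finsupp.single (g t) (a t)) =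
          Finsupp.mapDomain Fin.val (Finsupp.mapDomain (OrderEmbedding.ofStrictMono _ hmono)
            (∑ t : Fin ℓ, Finsupp.single t (a t))) := by
        rw [Finsupp.mapDomain_finset_sum, Finsupp.mapDomain_finset_sum]
        simp only [Finsupp.mapDomain_single]
        rfl
      rw [e1, coeff_Flim f hc, ← hc]
    rw [hstep i hi (fun t => (hM t).1), hstep j hj (fun t => (hM t).2)]
  · -- degree
    intro e he
    rw [MvPowerSeries.coeff_apply] at he
    have h1 := hh (bnd e) he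
    have h2 : (res (bnd e) e).degree = d :=
      (DFunLike.congr_fun Finsupp.degree_eq_weight_one _).trans h1
    rw [← h2, ← Finsupp.degree_mapDomain Fin.val (res (bnd e) e), map_res (fun x hx => lt_bnd hx)]
  · -- uniqueness
    rintro F' ⟨-, -, h3⟩
    apply MvPowerSeries.ext
    intro e
    rw [← map_res (n := bnd e) (e := e) (fun x hx => lt_bnd hx), h3, coeff_Flim f hc]

end Groth.Agent.Helper25.QSymLim
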