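import Mathlib
import Groth.Prelude.Def_W4c4chowquasisplitPn
set_option autoImplicit false
open MvPolynomial

/-! The involution on the truncated algebra `QsChow.P n`: image of `1 + τ`. -/

namespace Groth.Agent.Helper25.QsTau
open QsChow

lemma add_self_P (n : ℕ) (x : P n) : x + x = 0 := by
  have h2 : (2 : P n) = 0 := by
    have h : (2 : ZMod 2) = 0 := by decide
    have h' : (2 : P n) = algebraMap (ZMod 2) (P n) (2 : ZMod 2) := (map_ofNat _ 2).symm
    rw [h', h, map_zero]
  calc x + x = 2 * x := (two_mul x).symm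
    _ = 0 := by rw [h2, zero_mul]

lemma add_self_F (n : ℕ) (x : FreeP n) : x + x = 0 := CharTwo.add_self_eq_zero x

/-- the index of `ε₁` -/
def z0 (n : ℕ) : Fin (numVars n) := ⟨0, by unfold numVars; omega⟩

lemma eps_succ (n : ℕ) (i : Fin (numVars n)) :
    eps n (i.val + 1) = Ideal.Quotient.mk (truncIdeal n) (X i) := by
  unfold eps
  rw [dif_pos ⟨Nat.succ_pos _, i.isLt⟩]
  congr 2

lemma eps_one (n : ℕ) : eps n 1 = Ideal.Quotient.mk (truncIdeal n) (X (z0 n)) := by
  have := eps_succ n (z0 n)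
  simpa [z0] using this

/-- the involution on the free algebra -/
noncomputable def tauF (n : ℕ) : FreeP n →ₐ[ZMod 2] FreeP n :=
  MvPolynomial.aeval (fun i : Fin (numVars n) =>
    if i.val = 0 then (X i : FreeP n) else X i + X (z0 n) ^ (2 * (i.val + 1) - 3))

lemma tauF_X (n : ℕ) (i : Fin (numVars n)) :
    tauF n (X i) = if i.val = 0 then (X i : FreeP n) else X i + X (z0 n) ^ (2 * (i.val + 1) - 3) := by
  unfold tauF
  rw [aeval_X]

lemma tauF_X0 (n : ℕ) : tauF n (X (z0 n)) = X (z0 n) := by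
  rw [tauF_X, if_pos (show (z0 n).val = 0 from rfl)]

lemma tau_mk (n : ℕ) (τ : P n →ₐ[ZMod 2] P n) (hτ1 : τ (eps n 1) = eps n 1)
    (hτ : ∀ j : ℕ, 2 ≤ j → j ≤ numVars n → τ (eps n j) = eps n j + eps n 1 ^ (2 * j - 3))
    (f : FreeP n) :
    τ (Ideal.Quotient.mk (truncIdeal n) f) = Ideal.Quotient.mk (truncIdeal n) (tauF n f) := by
  have key : τ.comp (Ideal.Quotient.mkₐ (ZMod 2) (truncIdeal n)) =
      (Ideal.Quotient.mkₐ (ZMod 2) (truncIdeal n)).comp (tauF n) := by
    apply MvPolynomial.algHom_ext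
    intro i
    rw [AlgHom.comp_apply, AlgHom.comp_apply, Ideal.Quotient.mkₐ_eq_mk, tauF_X]
    by_cases h0 : i.val = 0
    · rw [if_pos h0, ← eps_succ n i]
      have h1 : i.val + 1 = 1 := by omega
      rw [h1]
      exact hτ1
    · rw [if_neg h0, map_add, map_pow, ← eps_succ n i, ← eps_one n]
      exact hτ (i.val + 1) (by omega) i.isLt
  have := AlgHom.congr_fun key f
  rw [AlgHom.comp_apply, AlgHom.comp_apply, Ideal.Quotient.mkₐ_eq_mk] at this
  exact this

lemma tauF_tauF (n : ℕ) (f : FreeP n) : tauF n (tauF n f) = f := by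
  have key : (tauF n).comp (tauF n) = AlgHom.id (ZMod 2) (FreeP n) := by
    apply MvPolynomial.algHom_ext
    intro i
    rw [AlgHom.comp_apply, AlgHom.id_apply, tauF_X]
    by_cases h0 : i.val = 0
    · rw [if_pos h0, tauF_X, if_pos h0]
    · rw [if_neg h0, map_add, map_pow, tauF_X0, tauF_X, if_neg h0, add_assoc, add_self_F, add_zero]
  exact AlgHom.congr_fun key f

lemma exists_div (n : ℕ) (f : FreeP n) : ∃ g : FreeP n, tauF n f + f = X (z0 n) * g := by
  induction f using MvPolynomial.induction_on with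
  | C a =>
    refine ⟨0, ?_⟩
    have : tauF n (C a) = C a := by
      unfold tauF
      rw [aeval_C]
      rfl
    rw [this, add_self_F, mul_zero]
  | add p q hp hq =>
    obtain ⟨g₁, h₁⟩ := hp
    obtain ⟨g₂, h₂⟩ := hq
    refine ⟨g₁ + g₂, ?_⟩
    rw [map_add]
    linear_combination h₁ + h₂
  | mul_X p i hp =>
    obtain ⟨g, hg⟩ := hp
    rw [map_mul, tauF_X]
    by_cases h0 : i.val = 0
    · refine ⟨g * X i, ?_⟩
      rw [if_pos h0]
      linear_combination (X i) * hg
    · obtain ⟨e', he'⟩ : ∃ e', 2 * (i.val + 1) - 3 = e' + 1 := ⟨2 * i.val - 2, by omega⟩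
      refine ⟨g * X i + tauF n p * X (z0 n) ^ e', ?_⟩
      rw [if_neg h0, he', pow_succ']
      linear_combination (X i) * hg

theorem main17739 (n : ℕ) (hn : 2 ≤ n)
    (τ : QsChow.P n →ₐ[ZMod 2] QsChow.P n) (hτ1 : τ (QsChow.eps n 1) = QsChow.eps n 1)
    (hτ : ∀ j : ℕ, 2 ≤ j → j ≤ QsChow.numVars n →
      τ (QsChow.eps n j) = QsChow.eps n j + QsChow.eps n 1 ^ (2 * j - 3)) :
    Set.range (fun y : QsChow.P n => y + τ y) =
      (fun z : QsChow.P n => QsChow.eps n 1 * z) ''
        (AlgHom.equalizer τ (AlgHom.id (ZMod 2) (QsChow.P n)) : Set (QsChow.P n)) := by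
  have hF1 := tau_mk n τ hτ1 hτ
  apply Set.eq_of_subset_of_subset
  · rintro _ ⟨y, rfl⟩
    obtain ⟨f, rfl⟩ := Ideal.Quotient.mk_surjective y
    obtain ⟨g, hg⟩ := exists_div n f
    have hgfix : tauF n g = g := by
      have h1 : X (z0 n) * (tauF n g + g) = 0 := by
        have h2 : tauF n (tauF n f + f) = X (z0 n) * tauF n g := by
          rw [hg, map_mul, tauF_X0]
        rw [map_add, tauF_tauF] at h2
        have h3 : X (z0 n) * (tauF n g + g) = (f + tauF n f) + (tauF n f + f) := by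
          rw [mul_add, ← h2, ← hg]
        rw [h3, add_comm f (tauF n f), add_self_F]
      rcases mul_eq_zero.1 h1 with h4 | h4
      · exact absurd h4 (MvPolynomial.X_ne_zero _)
      · calc tauF n g = tauF n g + (g + g) := by rw [add_self_F, add_zero]
          _ = (tauF n g + g) + g := by rw [add_assoc]
          _ = g := by rw [h4, zero_add]
    refine ⟨Ideal.Quotient.mk _ g, ?_, ?_⟩
    · show Ideal.Quotient.mk _ g ∈ AlgHom.equalizer τ (AlgHom.id (ZMod 2) (QsChow.P n))
      rw [AlgHom.mem_equalizer, hF1, hgfix]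
      rfl
    · show eps n 1 * Ideal.Quotient.mk _ g = Ideal.Quotient.mk _ f + τ (Ideal.Quotient.mk _ f)
      rw [hF1, eps_one, ← map_mul, ← map_add, ← hg, add_comm]
  · rintro _ ⟨z, hz, rfl⟩
    have hz' : τ z = z := by
      have := (AlgHom.mem_equalizer τ (AlgHom.id (ZMod 2) (QsChow.P n)) z).1 hz
      simpa using this
    refine ⟨eps n 2 * z, ?_⟩
    show eps n 2 * z + τ (eps n 2 * z) = eps n 1 * z
    rw [map_mul, hz', hτ 2 le_rfl (by unfold numVars; omega)]
    have h21 : 2 * 2 - 3 = 1 := rfl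
    rw [h21, pow_one, add_mul, ← add_assoc, add_self_P, zero_add]

end Groth.Agent.Helper25.QsTau
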