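import Mathlib
import Groth.Prelude.Def_W4c4chowquasisplitPn
import Groth.Agent.Lib.Helper25.QsTau
set_option autoImplicit false
open MvPolynomial

/-! The fixed subalgebra of the involution on `QsChow.P n` is the range of `QsChow.phi n`. -/

namespace Groth.Agent.Helper25.QsFix
open QsChow Groth.Agent.Helper25.QsTau

/-- the index of `ε₂` -/
def z1 (n : ℕ) (hn : 2 ≤ n) : Fin (numVars n) := ⟨1, by unfold numVars; omega⟩

lemma eps_two (n : ℕ) (hn : 2 ≤ n) :
    eps n 2 = Ideal.Quotient.mk (truncIdeal n) (X (z1 n hn)) := by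
  have := eps_succ n (z1 n hn)
  simpa [z1] using this

lemma z0_ne_z1 (n : ℕ) (hn : 2 ≤ n) : z0 n ≠ z1 n hn := by
  intro h
  have := congrArg Fin.val h
  simp [z0, z1] at this

/-- free-level images of the generators -/
noncomputable def genF (n : ℕ) (hn : 2 ≤ n) : Option (Fin (numVars n)) → FreeP n
  | none => X (z0 n) ^ (n - 1) * X (z1 n hn)
  | some i =>
    if i.val = 0 then X (z0 n)
    else if i.val = 1 then X (z1 n hn) ^ 2 + X (z0 n) * X (z1 n hn)
    else X i + X (z0 n) ^ (2 * (i.val + 1) - 4) * X (z1 n hn)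

noncomputable def phiF (n : ℕ) (hn : 2 ≤ n) : FreeE n →ₐ[ZMod 2] FreeP n :=
  MvPolynomial.aeval (genF n hn)

lemma genF_some (n : ℕ) (hn : 2 ≤ n) (i : Fin (numVars n)) :
    genF n hn (some i) = if i.val = 0 then X (z0 n)
      else if i.val = 1 then X (z1 n hn) ^ 2 + X (z0 n) * X (z1 n hn)
      else X i + X (z0 n) ^ (2 * (i.val + 1) - 4) * X (z1 n hn) := rfl

lemma genImage_some (n : ℕ) (i : Fin (numVars n)) :
    genImage n (some i) = if i.val = 0 then eps n 1
      else if i.val = 1 then eps n 2 ^ 2 + eps n 1 * eps n 2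
      else eps n (i.val + 1) + eps n 1 ^ (2 * (i.val + 1) - 4) * eps n 2 := rfl

lemma mk_genF (n : ℕ) (hn : 2 ≤ n) (o : Option (Fin (numVars n))) :
    Ideal.Quotient.mk (truncIdeal n) (genF n hn o) = genImage n o := by
  have e1 := eps_one n
  have e2 := eps_two n hn
  cases o with
  | none =>
    show Ideal.Quotient.mk _ (X (z0 n) ^ (n - 1) * X (z1 n hn)) = eps n 1 ^ (n - 1) * eps n 2
    rw [map_mul, map_pow, e1, e2]
  | some i =>
    show Ideal.Quotient.mk _ (if i.val = 0 then X (z0 n)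
        else if i.val = 1 then X (z1 n hn) ^ 2 + X (z0 n) * X (z1 n hn)
        else X i + X (z0 n) ^ (2 * (i.val + 1) - 4) * X (z1 n hn)) =
      (if i.val = 0 then eps n 1
        else if i.val = 1 then eps n 2 ^ 2 + eps n 1 * eps n 2
        else eps n (i.val + 1) + eps n 1 ^ (2 * (i.val + 1) - 4) * eps n 2)
    split_ifs with h0 h1
    · exact e1.symm
    · rw [map_add, map_pow, map_mul, e1, e2]
    · rw [map_add, map_mul, map_pow, e1, e2, eps_succ n i]

lemma mk_phiF (n : ℕ) (hn : 2 ≤ n) (q : FreeE n) :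
    Ideal.Quotient.mk (truncIdeal n) (phiF n hn q) = phi n q := by
  have key : (Ideal.Quotient.mkₐ (ZMod 2) (truncIdeal n)).comp (phiF n hn) = phi n := by
    apply MvPolynomial.algHom_ext
    intro o
    rw [AlgHom.comp_apply, Ideal.Quotient.mkₐ_eq_mk]
    unfold phiF phi
    rw [aeval_X, aeval_X]
    exact mk_genF n hn o
  have := AlgHom.congr_fun key q
  rw [AlgHom.comp_apply, Ideal.Quotient.mkₐ_eq_mk] at this
  exact this

lemma phiF_e0 (n : ℕ) (hn : 2 ≤ n) : phiF n hn (X (some (z0 n))) = X (z0 n) := by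
  unfold phiF
  rw [aeval_X, genF_some, if_pos (show (z0 n).val = 0 from rfl)]

lemma phiF_e1 (n : ℕ) (hn : 2 ≤ n) :
    phiF n hn (X (some (z1 n hn))) = X (z1 n hn) ^ 2 + X (z0 n) * X (z1 n hn) := by
  unfold phiF
  rw [aeval_X, genF_some, if_neg (show ¬ (z1 n hn).val = 0 from by simp [z1]),
    if_pos (show (z1 n hn).val = 1 from rfl)]

lemma phiF_ei (n : ℕ) (hn : 2 ≤ n) (i : Fin (numVars n)) (h0 : ¬ i.val = 0) (h1 : ¬ i.val = 1) :
    phiF n hn (X (some i)) = X i + X (z0 n) ^ (2 * (i.val + 1) - 4) * X (z1 n hn) := by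
  unfold phiF
  rw [aeval_X, genF_some, if_neg h0, if_neg h1]

lemma decomp (n : ℕ) (hn : 2 ≤ n) (f : FreeP n) :
    ∃ a b : FreeE n, f = phiF n hn a + phiF n hn b * X (z1 n hn) := by
  induction f using MvPolynomial.induction_on with
  | C c =>
    refine ⟨C c, 0, ?_⟩
    rw [map_zero, zero_mul, add_zero]
    unfold phiF
    rw [aeval_C]
    rfl
  | add p q hp hq =>
    obtain ⟨a₁, b₁, h₁⟩ := hp
    obtain ⟨a₂, b₂, h₂⟩ := hq
    refine ⟨a₁ + a₂, b₁ + b₂, ?_⟩
    rw [map_add, map_add]
    linear_combination h₁ + h₂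
  | mul_X p i hp =>
    obtain ⟨a, b, hab⟩ := hp
    by_cases h0 : i.val = 0
    · have hi : i = z0 n := Fin.ext h0
      subst hi
      refine ⟨a * X (some (z0 n)), b * X (some (z0 n)), ?_⟩
      rw [map_mul, map_mul, phiF_e0]
      linear_combination (X (z0 n)) * hab
    · by_cases h1 : i.val = 1
      · have hi : i = z1 n hn := Fin.ext h1
        subst hi
        refine ⟨b * X (some (z1 n hn)), a + b * X (some (z0 n)), ?_⟩
        rw [map_mul, map_add, map_mul, phiF_e1, phiF_e0]
        linear_combination (X (z1 n hn)) * hab +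
          (-1 : FreeP n) * add_self_F n (phiF n hn b * X (z0 n) * X (z1 n hn))
      · refine ⟨a * X (some i) +
            b * X (some (z0 n)) ^ (2 * (i.val + 1) - 4) * X (some (z1 n hn)),
          a * X (some (z0 n)) ^ (2 * (i.val + 1) - 4) + b * X (some i) +
            b * X (some (z0 n)) ^ (2 * (i.val + 1) - 4) * X (some (z0 n)), ?_⟩
        simp only [map_add, map_mul, map_pow, phiF_ei n hn i h0 h1, phiF_e0, phiF_e1]
        linear_combination (X i) * hab +
          (-1 : FreeP n) * add_self_F n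
            (phiF n hn a * X (z0 n) ^ (2 * (i.val + 1) - 4) * X (z1 n hn) +
              phiF n hn b * X (z0 n) ^ (2 * (i.val + 1) - 4) * X (z1 n hn) ^ 2 +
              phiF n hn b * X (z0 n) ^ (2 * (i.val + 1) - 4) * X (z0 n) * X (z1 n hn))

lemma truncIdeal_eq (n : ℕ) : truncIdeal n = Ideal.span ((fun s => monomial s (1 : ZMod 2)) ''
    (Set.range fun i : Fin (numVars n) => Finsupp.single i (bound n i))) := by
  unfold truncIdeal
  rw [← Set.range_comp]
  congr 2
  funext i
  simp [X_pow_eq_monomial]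

lemma mem_trunc_iff (n : ℕ) (g : FreeP n) :
    g ∈ truncIdeal n ↔ ∀ μ ∈ g.support, ∃ i : Fin (numVars n), bound n i ≤ μ i := by
  rw [truncIdeal_eq, mem_ideal_span_monomial_image]
  refine forall₂_congr fun μ _ => ?_
  constructor
  · rintro ⟨_, ⟨i, rfl⟩, hle⟩
    refine ⟨i, ?_⟩
    have := hle i
    simpa using this
  · rintro ⟨i, hi⟩
    refine ⟨_, ⟨i, rfl⟩, ?_⟩
    intro j
    show (Finsupp.single i (bound n i)) j ≤ μ j
    rw [Finsupp.single_apply]
    split_ifs with hj
    · subst hj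
      exact hi
    · exact Nat.zero_le _

lemma bound_z0 (n : ℕ) : bound n (z0 n) = n := by
  unfold bound
  rw [if_pos (show (z0 n).val = 0 from rfl)]

lemma ann_t (n : ℕ) (hn : 2 ≤ n) (g : FreeP n) (hg : X (z0 n) * g ∈ truncIdeal n) :
    ∃ g' : FreeP n, g - X (z0 n) ^ (n - 1) * g' ∈ truncIdeal n := by
  classical
  have hmem : g ∈ Ideal.span {(X (z0 n) : FreeP n) ^ (n - 1)} ⊔ truncIdeal n := by
    rw [as_sum g]
    refine Ideal.sum_mem _ fun μ hμ => ?_
    have h1 : Finsupp.single (z0 n) 1 + μ ∈ (X (z0 n) * g).support := by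
      rw [support_X_mul]
      exact Finset.mem_map.2 ⟨μ, hμ, rfl⟩
    obtain ⟨i, hi⟩ := (mem_trunc_iff n _).1 hg _ h1
    by_cases hiz : i = z0 n
    · subst hiz
      rw [bound_z0] at hi
      have hi' : n - 1 ≤ μ (z0 n) := by
        rw [Finsupp.add_apply, Finsupp.single_eq_same] at hi
        omega
      refine Ideal.mem_sup_left (Ideal.mem_span_singleton.2 ?_)
      rw [X_pow_eq_monomial, monomial_dvd_monomial]
      refine ⟨Or.inr ?_, one_dvd _⟩
      intro j
      rw [Finsupp.single_apply]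
      split_ifs with hj
      · subst hj
        exact hi'
      · exact Nat.zero_le _
    · refine Ideal.mem_sup_right ((mem_trunc_iff n _).2 ?_)
      intro ν hν
      have hνμ : ν = μ := by
        have := support_monomial_subset hν
        simpa using this
      subst hνμ
      refine ⟨i, ?_⟩
      rw [Finsupp.add_apply, Finsupp.single_apply, if_neg (fun h => hiz h.symm), zero_add] at hi
      exact hi
  obtain ⟨y, hy, z, hz, hyz⟩ := Submodule.mem_sup.1 hmem
  obtain ⟨c, hc⟩ := Ideal.mem_span_singleton'.1 hy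
  refine ⟨c, ?_⟩
  have : g - X (z0 n) ^ (n - 1) * c = z := by
    rw [← hyz, ← hc]
    ring
  rw [this]
  exact hz

theorem main17741 (n : ℕ) (hn : 2 ≤ n)
    (τ : QsChow.P n →ₐ[ZMod 2] QsChow.P n) (hτ1 : τ (QsChow.eps n 1) = QsChow.eps n 1)
    (hτ : ∀ j : ℕ, 2 ≤ j → j ≤ QsChow.numVars n →
      τ (QsChow.eps n j) = QsChow.eps n j + QsChow.eps n 1 ^ (2 * j - 3)) :
    (QsChow.phi n).range = AlgHom.equalizer τ (AlgHom.id (ZMod 2) (QsChow.P n)) := by
  have he2 := eps_two n hn
  have hτ2 : τ (eps n 2) = eps n 2 + eps n 1 := by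
    have := hτ 2 le_rfl (by unfold numVars; omega)
    have h21 : 2 * 2 - 3 = 1 := rfl
    rw [h21, pow_one] at this
    exact this
  obtain ⟨m, hm⟩ : ∃ m, n = m + 1 := ⟨n - 1, by omega⟩
  have htn : eps n 1 ^ (m + 1) = 0 := by
    rw [eps_one, ← map_pow, ← hm]
    refine Ideal.Quotient.eq_zero_iff_mem.2 (Ideal.subset_span ⟨z0 n, ?_⟩)
    show X (z0 n) ^ bound n (z0 n) = X (z0 n) ^ n
    rw [bound_z0]
  have hnm : n - 1 = m := by omega
  -- generators are fixed
  have hsub : (phi n).range ≤ AlgHom.equalizer τ (AlgHom.id (ZMod 2) (P n)) := by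
    unfold phi
    rw [aeval_range]
    apply Algebra.adjoin_le
    rintro _ ⟨o, rfl⟩
    show genImage n o ∈ AlgHom.equalizer τ (AlgHom.id (ZMod 2) (P n))
    rw [AlgHom.mem_equalizer, AlgHom.id_apply]
    cases o with
    | none =>
      show τ (eps n 1 ^ (n - 1) * eps n 2) = eps n 1 ^ (n - 1) * eps n 2
      rw [map_mul, map_pow, hτ1, hτ2, hnm, mul_add, ← pow_succ, htn, add_zero]
    | some i =>
      show τ (if i.val = 0 then eps n 1
        else if i.val = 1 then eps n 2 ^ 2 + eps n 1 * eps n 2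
        else eps n (i.val + 1) + eps n 1 ^ (2 * (i.val + 1) - 4) * eps n 2) =
        (if i.val = 0 then eps n 1
        else if i.val = 1 then eps n 2 ^ 2 + eps n 1 * eps n 2
        else eps n (i.val + 1) + eps n 1 ^ (2 * (i.val + 1) - 4) * eps n 2)
      split_ifs with h0 h1
      · exact hτ1
      · rw [map_add, map_pow, map_mul, hτ1, hτ2]
        linear_combination add_self_P n (eps n 1 * eps n 2) + add_self_P n (eps n 1 ^ 2)
      · obtain ⟨e, he4, he3⟩ : ∃ e, 2 * (i.val + 1) - 4 = e ∧ 2 * (i.val + 1) - 3 = e + 1 :=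
          ⟨2 * (i.val + 1) - 4, rfl, by omega⟩
        rw [map_add, map_mul, map_pow, hτ1, hτ2, hτ (i.val + 1) (by omega) i.isLt, he4, he3]
        linear_combination add_self_P n (eps n 1 ^ (e + 1))
  apply le_antisymm hsub
  intro y hy
  rw [AlgHom.mem_equalizer, AlgHom.id_apply] at hy
  obtain ⟨f, rfl⟩ := Ideal.Quotient.mk_surjective y
  obtain ⟨a, b, hab⟩ := decomp n hn f
  have hfix : ∀ q : FreeE n, τ (phi n q) = phi n q := by
    intro q
    have := hsub (⟨q, rfl⟩ : phi n q ∈ (phi n).range)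
    rw [AlgHom.mem_equalizer, AlgHom.id_apply] at this
    exact this
  have hy1 : Ideal.Quotient.mk (truncIdeal n) f = phi n a + phi n b * eps n 2 := by
    rw [hab, map_add, map_mul, mk_phiF, mk_phiF, he2]
  have htb : phi n b * eps n 1 = 0 := by
    have h1 : τ (Ideal.Quotient.mk (truncIdeal n) f) = Ideal.Quotient.mk (truncIdeal n) f := hy
    rw [hy1, map_add, map_mul, hfix, hfix, hτ2, mul_add] at h1
    have h2 := add_left_cancel h1
    exact left_eq_add.1 h2.symm |> fun h => h
  -- annihilator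
  have hmem : X (z0 n) * phiF n hn b ∈ truncIdeal n := by
    rw [← Ideal.Quotient.eq_zero_iff_mem, map_mul, mk_phiF, ← eps_one, mul_comm]
    exact htb
  obtain ⟨g', hg'⟩ := ann_t n hn _ hmem
  have hb : phi n b = eps n 1 ^ m * Ideal.Quotient.mk (truncIdeal n) g' := by
    have := Ideal.Quotient.eq_zero_iff_mem.2 hg'
    rw [map_sub, map_mul, map_pow, mk_phiF, ← eps_one, hnm, sub_eq_zero] at this
    exact this
  obtain ⟨a', b', hab'⟩ := decomp n hn g'
  have hg1 : Ideal.Quotient.mk (truncIdeal n) g' = phi n a' + phi n b' * eps n 2 := by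
    rw [hab', map_add, map_mul, mk_phiF, mk_phiF, he2]
  have hx : phi n (X none) = eps n 1 ^ m * eps n 2 := by
    unfold phi
    rw [aeval_X]
    show eps n 1 ^ (n - 1) * eps n 2 = _
    rw [hnm]
  have h0 : phi n (X (some (z0 n))) = eps n 1 := by
    unfold phi
    rw [aeval_X, genImage_some, if_pos (show (z0 n).val = 0 from rfl)]
  have h1 : phi n (X (some (z1 n hn))) = eps n 2 ^ 2 + eps n 1 * eps n 2 := by
    unfold phi
    rw [aeval_X, genImage_some, if_neg (show ¬ (z1 n hn).val = 0 from by simp [z1]),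
      if_pos (show (z1 n hn).val = 1 from rfl)]
  refine ⟨a + a' * X none + b' * X (some (z0 n)) ^ m * X (some (z1 n hn)), ?_⟩
  show phi n _ = _
  rw [hy1, hb, hg1, map_add, map_add, map_mul, map_mul, map_mul, map_pow, hx, h0, h1]
  linear_combination (phi n b' * eps n 2) * htn

end Groth.Agent.Helper25.QsFix
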