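import Mathlib
import Groth.Prelude.Def_W4c4chowquasisplitPn
import Groth.Agent.Lib.Helper25.QsFix
set_option autoImplicit false
open MvPolynomial

/-! The kernel of `QsChow.phi n` is `QsChow.presIdeal n`. -/

namespace Groth.Agent.Helper25.QsKer
open QsChow Groth.Agent.Helper25.QsTau Groth.Agent.Helper25.QsFix

/-! ### unfolding lemmas -/

lemma evar_succ (n : ℕ) (i : Fin (numVars n)) : evar n (i.val + 1) = X (some i) := by
  unfold evar
  rw [dif_pos ⟨Nat.succ_pos _, i.isLt⟩]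
  rfl

lemma evar_one (n : ℕ) : evar n 1 = X (some (z0 n)) := evar_succ n (z0 n)

lemma evar_two (n : ℕ) (hn : 2 ≤ n) : evar n 2 = X (some (z1 n hn)) := evar_succ n (z1 n hn)

lemma phiF_none (n : ℕ) (hn : 2 ≤ n) :
    phiF n hn (X none) = X (z0 n) ^ (n - 1) * X (z1 n hn) := by
  unfold phiF
  rw [aeval_X]
  rfl

lemma phiF_x (n : ℕ) (hn : 2 ≤ n) :
    phiF n hn (xvar n) = X (z0 n) ^ (n - 1) * X (z1 n hn) := phiF_none n hn

lemma hrel_one_eq (n : ℕ) (i : Fin (numVars n)) (h0 : i.val = 0) : hrel n (i.val + 1) = 0 := by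
  unfold hrel
  rw [if_neg (by omega), if_neg (by omega)]

lemma hrel_two_eq (n : ℕ) :
    hrel n 2 = evar n 1 ^ (2 ^ klog n 2 - n) * xvar n + sPoly n 2 := by
  unfold hrel
  rw [if_pos rfl]

lemma hrel_ge3_eq (n : ℕ) (i : Fin (numVars n)) (h0 : ¬ i.val = 0) (h1 : ¬ i.val = 1) :
    hrel n (i.val + 1) = evar n (i.val + 1) ^ 2 ^ klog n (i.val + 1) +
      evar n 1 ^ ((2 * (i.val + 1) - 3) * 2 ^ klog n (i.val + 1) - n) * xvar n +
      evar n 1 ^ ((2 * (i.val + 1) - 4) * 2 ^ klog n (i.val + 1)) * sPoly n (i.val + 1) := by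
  unfold hrel
  rw [if_neg (by omega), if_pos ⟨by omega, i.isLt⟩]

/-! ### numerics -/

lemma klog_two_ge (n : ℕ) (hn : 2 ≤ n) : n ≤ 2 ^ klog n 2 := by
  unfold klog
  have h1 : (2 * n - 1) / (2 * 2 - 3) = 2 * n - 1 := by
    have : 2 * 2 - 3 = 1 := rfl
    rw [this, Nat.div_one]
  rw [h1]
  have h := Nat.lt_pow_succ_log_self (by norm_num : 1 < 2) (2 * n - 1)
  have h2 : 2 ^ (Nat.log 2 (2 * n - 1)).succ = 2 ^ Nat.log 2 (2 * n - 1) * 2 := pow_succ 2 _
  omega

lemma klog_two_pos (n : ℕ) (hn : 2 ≤ n) : 1 ≤ klog n 2 := by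
  unfold klog
  have h1 : (2 * n - 1) / (2 * 2 - 3) = 2 * n - 1 := by
    have : 2 * 2 - 3 = 1 := rfl
    rw [this, Nat.div_one]
  rw [h1]
  exact Nat.log_pos (by norm_num) (by omega)

lemma klog_bounds (n j : ℕ) (hj : 3 ≤ j) : n ≤ (2 * j - 3) * 2 ^ klog n j := by
  unfold klog
  have hpos : 0 < 2 * j - 3 := by omega
  have h := Nat.lt_pow_succ_log_self (by norm_num : 1 < 2) ((2 * n - 1) / (2 * j - 3))
  generalize Nat.log 2 ((2 * n - 1) / (2 * j - 3)) = k at h ⊢
  rw [Nat.div_lt_iff_lt_mul hpos] at h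
  have h3 : 2 ^ k.succ * (2 * j - 3) = 2 * ((2 * j - 3) * 2 ^ k) := by
    rw [pow_succ]; ring
  rw [h3] at h
  omega

lemma bound_z1 (n : ℕ) (hn : 2 ≤ n) : bound n (z1 n hn) = 2 ^ klog n 2 := by
  unfold bound
  rw [if_neg (show ¬ (z1 n hn).val = 0 by simp [z1])]
  rfl

lemma bound_ge1 (n : ℕ) (i : Fin (numVars n)) (h0 : ¬ i.val = 0) :
    bound n i = 2 ^ klog n (i.val + 1) := by
  unfold bound
  rw [if_neg h0]

/-! ### the basic identity in characteristic two -/

lemma I1 {R : Type*} [CommRing R] [CharP R 2] (t e : R) (k : ℕ) :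
    e ^ 2 ^ k = ∑ r ∈ Finset.range k, t ^ (2 ^ k - 2 ^ (r + 1)) * (e ^ 2 + t * e) ^ 2 ^ r
      + t ^ (2 ^ k - 1) * e := by
  induction k with
  | zero => simp
  | succ k ih =>
    have e1 : 2 ^ (k + 1) = 2 ^ k * 2 := pow_succ 2 k
    have hK : 1 ≤ 2 ^ k := Nat.one_le_two_pow
    have hsq : e ^ 2 ^ (k + 1) = (e ^ 2 ^ k) ^ 2 := by rw [← pow_mul, ← e1]
    have hterm : ∀ r ∈ Finset.range k,
        (t ^ (2 ^ k - 2 ^ (r + 1)) * (e ^ 2 + t * e) ^ 2 ^ r) ^ 2 =
          t ^ (2 ^ (k + 1) - 2 ^ (r + 1 + 1)) * (e ^ 2 + t * e) ^ 2 ^ (r + 1) := by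
      intro r _
      have e2 : 2 ^ (r + 1 + 1) = 2 ^ (r + 1) * 2 := pow_succ 2 (r + 1)
      have e3 : 2 ^ (r + 1) = 2 ^ r * 2 := pow_succ 2 r
      have ha : (2 ^ k - 2 ^ (r + 1)) * 2 = 2 ^ (k + 1) - 2 ^ (r + 1 + 1) := by omega
      rw [mul_pow, ← pow_mul, ← pow_mul, ha, ← e3]
    have h1 : (t ^ (2 ^ k - 1) * e) ^ 2 = t ^ (2 ^ (k + 1) - 2) * e ^ 2 := by
      have hc : (2 ^ k - 1) * 2 = 2 ^ (k + 1) - 2 := by omega
      rw [mul_pow, ← pow_mul, hc]
    have h2 : 2 ^ (k + 1) - 1 = (2 ^ (k + 1) - 2) + 1 := by omega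
    have hL : e ^ 2 ^ (k + 1) = ∑ r ∈ Finset.range k,
        t ^ (2 ^ (k + 1) - 2 ^ (r + 1 + 1)) * (e ^ 2 + t * e) ^ 2 ^ (r + 1) +
          t ^ (2 ^ (k + 1) - 2) * e ^ 2 := by
      rw [hsq, ih, CharTwo.add_sq, CharTwo.sum_sq, h1]
      congr 1
      exact Finset.sum_congr rfl hterm
    have hR : ∑ r ∈ Finset.range (k + 1), t ^ (2 ^ (k + 1) - 2 ^ (r + 1)) *
        (e ^ 2 + t * e) ^ 2 ^ r = ∑ r ∈ Finset.range k,
        t ^ (2 ^ (k + 1) - 2 ^ (r + 1 + 1)) * (e ^ 2 + t * e) ^ 2 ^ (r + 1) +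
          t ^ (2 ^ (k + 1) - 2) * (e ^ 2 + t * e) := by
      rw [Finset.sum_range_succ']
      simp only [zero_add, pow_zero, pow_one]
    rw [hL, hR, h2, pow_succ t (2 ^ (k + 1) - 2)]
    linear_combination (-1 : R) * CharTwo.add_self_eq_zero (t ^ (2 ^ (k + 1) - 2) * t * e)

/-! ### the relations lie in the kernel -/

lemma phiF_sPoly (n : ℕ) (hn : 2 ≤ n) (j : ℕ) :
    phiF n hn (sPoly n j) = ∑ r ∈ Finset.range (klog n j),
      X (z0 n) ^ (2 ^ klog n j - 2 ^ (r + 1)) *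
        (X (z1 n hn) ^ 2 + X (z0 n) * X (z1 n hn)) ^ 2 ^ r := by
  unfold sPoly
  rw [map_sum]
  refine Finset.sum_congr rfl fun r _ => ?_
  rw [map_mul, map_pow, map_pow, evar_one, evar_two n hn, phiF_e0, phiF_e1]

lemma phiF_sPoly' (n : ℕ) (hn : 2 ≤ n) (j : ℕ) :
    phiF n hn (sPoly n j) + X (z0 n) ^ (2 ^ klog n j - 1) * X (z1 n hn) =
      X (z1 n hn) ^ 2 ^ klog n j := by
  rw [phiF_sPoly]
  exact (I1 (X (z0 n)) (X (z1 n hn)) (klog n j)).symm

lemma X_pow_bound_mem (n : ℕ) (i : Fin (numVars n)) :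
    (X i : FreeP n) ^ bound n i ∈ truncIdeal n :=
  Ideal.subset_span ⟨i, rfl⟩

lemma t_pow_n_mem (n : ℕ) : (X (z0 n) : FreeP n) ^ n ∈ truncIdeal n := by
  have := X_pow_bound_mem n (z0 n)
  rwa [bound_z0] at this

lemma hrel_ge3_aux (n : ℕ) (hn : 2 ≤ n) (i : Fin (numVars n)) (k c : ℕ) (S : FreeP n)
    (hS : S + X (z0 n) ^ (2 ^ k - 1) * X (z1 n hn) = X (z1 n hn) ^ 2 ^ k)
    (hb : n ≤ (c + 1) * 2 ^ k) :
    (X i + X (z0 n) ^ c * X (z1 n hn)) ^ 2 ^ k +
      X (z0 n) ^ ((c + 1) * 2 ^ k - n) * (X (z0 n) ^ (n - 1) * X (z1 n hn)) +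
      X (z0 n) ^ (c * 2 ^ k) * S = X i ^ 2 ^ k := by
  have hK : 1 ≤ 2 ^ k := Nat.one_le_two_pow
  have hpow : ((X i : FreeP n) + X (z0 n) ^ c * X (z1 n hn)) ^ 2 ^ k =
      X i ^ 2 ^ k + X (z0 n) ^ (c * 2 ^ k) * X (z1 n hn) ^ 2 ^ k := by
    rw [add_pow_char_pow (X i : FreeP n) (X (z0 n) ^ c * X (z1 n hn)) 2 k, mul_pow, ← pow_mul]
  have hexp : (c + 1) * 2 ^ k = c * 2 ^ k + 2 ^ k := by ring
  have F1 : X (z0 n) ^ ((c + 1) * 2 ^ k - n) * X (z0 n) ^ (n - 1) =
      (X (z0 n) : FreeP n) ^ ((c + 1) * 2 ^ k - 1) := by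
    rw [← pow_add]
    congr 1
    omega
  have F2 : X (z0 n) ^ (c * 2 ^ k) * X (z0 n) ^ (2 ^ k - 1) =
      (X (z0 n) : FreeP n) ^ ((c + 1) * 2 ^ k - 1) := by
    rw [← pow_add]
    congr 1
    omega
  rw [hpow]
  linear_combination (-(X (z0 n) ^ (c * 2 ^ k))) * hS + X (z1 n hn) * F1 + X (z1 n hn) * F2 +
    add_self_F n (X (z0 n) ^ (c * 2 ^ k) * S) +
    add_self_F n (X (z0 n) ^ ((c + 1) * 2 ^ k - 1) * X (z1 n hn))

lemma pres_le_ker (n : ℕ) (hn : 2 ≤ n) :
    presIdeal n ≤ Ideal.comap (phiF n hn) (truncIdeal n) := by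
  unfold presIdeal
  rw [Ideal.span_le]
  rintro g (hg | ⟨i, rfl⟩)
  · simp only [Set.mem_insert_iff, Set.mem_singleton_iff] at hg
    rcases hg with rfl | rfl | rfl
    · show phiF n hn (evar n 1 ^ n) ∈ truncIdeal n
      rw [map_pow, evar_one, phiF_e0]
      exact t_pow_n_mem n
    · show phiF n hn (evar n 1 * xvar n) ∈ truncIdeal n
      rw [map_mul, evar_one, phiF_e0, phiF_x, ← mul_assoc, ← pow_succ',
        Nat.sub_add_cancel (by omega : 1 ≤ n)]
      exact Ideal.mul_mem_right _ _ (t_pow_n_mem n)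
    · show phiF n hn (xvar n ^ 2) ∈ truncIdeal n
      have h2 : (n - 1) * 2 = n + (n - 2) := by omega
      rw [map_pow, phiF_x, mul_pow, ← pow_mul, h2, pow_add, mul_assoc]
      exact Ideal.mul_mem_right _ _ (t_pow_n_mem n)
  · show phiF n hn (hrel n (i.val + 1)) ∈ truncIdeal n
    by_cases h0 : i.val = 0
    · rw [hrel_one_eq n i h0, map_zero]
      exact Ideal.zero_mem _
    · by_cases h1 : i.val = 1
      · have hi : i = z1 n hn := Fin.ext h1
        subst hi
        have hh : hrel n ((z1 n hn).val + 1) = hrel n 2 := rfl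
        have hK := klog_two_ge n hn
        have hexp : 2 ^ klog n 2 - n + (n - 1) = 2 ^ klog n 2 - 1 := by omega
        have key : phiF n hn (hrel n 2) = X (z1 n hn) ^ 2 ^ klog n 2 := by
          rw [hrel_two_eq, map_add, map_mul, map_pow, evar_one, phiF_e0, phiF_x,
            ← phiF_sPoly' n hn 2, ← mul_assoc, ← pow_add, hexp]
          ring
        rw [hh, key]
        have := X_pow_bound_mem n (z1 n hn)
        rwa [bound_z1] at this
      · have hj3 : 3 ≤ i.val + 1 := by omega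
        have hb := klog_bounds n (i.val + 1) hj3
        have hc : 2 * (i.val + 1) - 3 = (2 * (i.val + 1) - 4) + 1 := by omega
        rw [hc] at hb
        have key : phiF n hn (hrel n (i.val + 1)) = X i ^ 2 ^ klog n (i.val + 1) := by
          rw [hrel_ge3_eq n i h0 h1, map_add, map_add, map_mul, map_mul, map_pow, map_pow,
            map_pow, evar_succ, evar_one, phiF_e0, phiF_x, phiF_ei n hn i h0 h1, hc]
          exact hrel_ge3_aux n hn i (klog n (i.val + 1)) (2 * (i.val + 1) - 4) _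
            (phiF_sPoly' n hn (i.val + 1)) hb
        rw [key]
        have := X_pow_bound_mem n i
        rwa [bound_ge1 n i h0] at this

/-! ### annihilators of powers of `ε₁` -/

lemma ann_pow (n : ℕ) (m : ℕ) (hm : m ≤ n) (g : FreeP n)
    (hg : X (z0 n) ^ m * g ∈ truncIdeal n) :
    g ∈ Ideal.span {(X (z0 n) : FreeP n) ^ (n - m)} ⊔ truncIdeal n := by
  classical
  rw [as_sum g]
  refine Ideal.sum_mem _ fun μ hμ => ?_
  have h1 : Finsupp.single (z0 n) m + μ ∈ (X (z0 n) ^ m * g).support := by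
    rw [mem_support_iff, X_pow_eq_monomial, coeff_monomial_mul, one_mul]
    exact mem_support_iff.1 hμ
  obtain ⟨i, hi⟩ := (mem_trunc_iff n _).1 hg _ h1
  by_cases hiz : i = z0 n
  · subst hiz
    rw [bound_z0] at hi
    have hi' : n - m ≤ μ (z0 n) := by
      rw [Finsupp.add_apply, Finsupp.single_eq_same] at hi
      omega
    refine Ideal.mem_sup_left (Ideal.mem_span_singleton.2 ?_)
    rw [X_pow_eq_monomial, monomial_dvd_monomial]
    refine ⟨Or.inr ?_, one_dvd _⟩
    intro j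
    rw [Finsupp.single_apply]
    split_ifs with hj
    · subst hj
      exact hi'
    · exact Nat.zero_le _
  · refine Ideal.mem_sup_right ((mem_trunc_iff n _).2 ?_)
    intro ν hν
    have hνμ : ν = μ := by
      have := support_monomial_subset hν
      simpa using this
    subst hνμ
    refine ⟨i, ?_⟩
    rw [Finsupp.add_apply, Finsupp.single_apply, if_neg (fun h => hiz h.symm), zero_add] at hi
    exact hi

/-! ### partial doubling of exponents -/

/-- doubling the exponent of `ε₂` -/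
noncomputable def Tdbl (n : ℕ) (hn : 2 ≤ n) (μ : Fin (numVars n) →₀ ℕ) : Fin (numVars n) →₀ ℕ :=
  μ + Finsupp.single (z1 n hn) (μ (z1 n hn))

lemma Tdbl_z1 (n : ℕ) (hn : 2 ≤ n) (μ : Fin (numVars n) →₀ ℕ) :
    Tdbl n hn μ (z1 n hn) = 2 * μ (z1 n hn) := by
  unfold Tdbl
  rw [Finsupp.add_apply, Finsupp.single_eq_same]
  ring

lemma Tdbl_ne (n : ℕ) (hn : 2 ≤ n) (μ : Fin (numVars n) →₀ ℕ) (i : Fin (numVars n))
    (h : i ≠ z1 n hn) : Tdbl n hn μ i = μ i := by
  unfold Tdbl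
  rw [Finsupp.add_apply, Finsupp.single_apply, if_neg (fun h' => h h'.symm), add_zero]

lemma Tdbl_add (n : ℕ) (hn : 2 ≤ n) (μ ν : Fin (numVars n) →₀ ℕ) :
    Tdbl n hn (μ + ν) = Tdbl n hn μ + Tdbl n hn ν := by
  unfold Tdbl
  rw [Finsupp.add_apply, Finsupp.single_add]
  exact add_add_add_comm _ _ _ _

lemma Tdbl_inj (n : ℕ) (hn : 2 ≤ n) : Function.Injective (Tdbl n hn) := by
  intro μ ν h
  ext i
  have hz := DFunLike.congr_fun h (z1 n hn)
  rw [Tdbl_z1, Tdbl_z1] at hz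
  by_cases hi : i = z1 n hn
  · subst hi
    omega
  · have := DFunLike.congr_fun h i
    rwa [Tdbl_ne n hn μ i hi, Tdbl_ne n hn ν i hi] at this

/-- the substitution `ε₂ ↦ ε₂²` -/
noncomputable def xi (n : ℕ) (hn : 2 ≤ n) : FreeP n →ₐ[ZMod 2] FreeP n :=
  MvPolynomial.aeval (fun i : Fin (numVars n) =>
    if i = z1 n hn then (X i : FreeP n) ^ 2 else X i)

lemma xi_X (n : ℕ) (hn : 2 ≤ n) (i : Fin (numVars n)) :
    xi n hn (X i) = if i = z1 n hn then (X i : FreeP n) ^ 2 else X i := by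
  unfold xi
  rw [aeval_X]

lemma xi_C (n : ℕ) (hn : 2 ≤ n) (a : ZMod 2) : xi n hn (C a) = C a := by
  unfold xi
  rw [aeval_C]
  rfl

lemma xi_monomial_one (n : ℕ) (hn : 2 ≤ n) (μ : Fin (numVars n) →₀ ℕ) :
    xi n hn (monomial μ 1) = monomial (Tdbl n hn μ) 1 := by
  induction μ using Finsupp.induction_linear with
  | zero =>
    have h0 : Tdbl n hn 0 = 0 := by
      unfold Tdbl
      simp
    rw [h0]
    exact map_one _
  | add f g hf hg =>
    have h1 : (monomial (f + g) (1 : ZMod 2) : FreeP n) = monomial f 1 * monomial g 1 := by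
      rw [monomial_mul, one_mul]
    have h2 : (monomial (Tdbl n hn f + Tdbl n hn g) (1 : ZMod 2) : FreeP n) =
        monomial (Tdbl n hn f) 1 * monomial (Tdbl n hn g) 1 := by
      rw [monomial_mul, one_mul]
    rw [h1, map_mul, hf, hg, Tdbl_add, h2]
  | single a b =>
    rw [← X_pow_eq_monomial, map_pow, xi_X]
    by_cases ha : a = z1 n hn
    · subst ha
      rw [if_pos rfl, ← pow_mul, X_pow_eq_monomial]
      congr 1
      unfold Tdbl
      rw [Finsupp.single_eq_same, two_mul, Finsupp.single_add]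
    · rw [if_neg ha, X_pow_eq_monomial]
      congr 1
      unfold Tdbl
      rw [Finsupp.single_apply, if_neg ha, Finsupp.single_zero, add_zero]

lemma xi_monomial (n : ℕ) (hn : 2 ≤ n) (μ : Fin (numVars n) →₀ ℕ) (a : ZMod 2) :
    xi n hn (monomial μ a) = monomial (Tdbl n hn μ) a := by
  have h : (monomial μ a : FreeP n) = C a * monomial μ 1 := by
    rw [C_mul_monomial, mul_one]
  rw [h, map_mul, xi_monomial_one, xi_C, C_mul_monomial, mul_one]

lemma coeff_xi (n : ℕ) (hn : 2 ≤ n) (f : FreeP n) (μ : Fin (numVars n) →₀ ℕ) :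
    coeff (Tdbl n hn μ) (xi n hn f) = coeff μ f := by
  classical
  induction f using MvPolynomial.induction_on' with
  | monomial ν a =>
    rw [xi_monomial, coeff_monomial, coeff_monomial]
    by_cases h : ν = μ
    · subst h
      rw [if_pos rfl, if_pos rfl]
    · rw [if_neg h, if_neg (fun h' => h (Tdbl_inj n hn h'))]
  | add p q hp hq => rw [map_add, coeff_add, coeff_add, hp, hq]

/-! ### projection to the `ε`-variables -/

noncomputable def piGen (n : ℕ) : Option (Fin (numVars n)) → FreeP n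
  | none => 0
  | some i => X i

noncomputable def piE (n : ℕ) : FreeE n →ₐ[ZMod 2] FreeP n := MvPolynomial.aeval (piGen n)

lemma piE_none (n : ℕ) : piE n (X none) = 0 := by
  unfold piE
  rw [aeval_X]
  rfl

lemma piE_some (n : ℕ) (i : Fin (numVars n)) : piE n (X (some i)) = X i := by
  unfold piE
  rw [aeval_X]
  rfl

noncomputable def iotaE (n : ℕ) : FreeP n →ₐ[ZMod 2] FreeE n := MvPolynomial.rename some

lemma iotaE_X (n : ℕ) (i : Fin (numVars n)) : iotaE n (X i) = X (some i) := by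
  unfold iotaE
  rw [rename_X]

lemma sub_iota_pi (n : ℕ) (g : FreeE n) :
    g - iotaE n (piE n g) ∈ Ideal.span {(X none : FreeE n)} := by
  have key : (Ideal.Quotient.mkₐ (ZMod 2) (Ideal.span {(X none : FreeE n)})).comp
      (AlgHom.id (ZMod 2) (FreeE n)) =
      (Ideal.Quotient.mkₐ (ZMod 2) (Ideal.span {(X none : FreeE n)})).comp
        ((iotaE n).comp (piE n)) := by
    apply MvPolynomial.algHom_ext
    intro o
    rw [AlgHom.comp_apply, AlgHom.comp_apply, AlgHom.comp_apply, AlgHom.id_apply,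
      Ideal.Quotient.mkₐ_eq_mk, Ideal.Quotient.eq]
    cases o with
    | none =>
      rw [piE_none, map_zero, sub_zero]
      exact Ideal.subset_span (Set.mem_singleton _)
    | some i =>
      rw [piE_some, iotaE_X, sub_self]
      exact Ideal.zero_mem _
  have := AlgHom.congr_fun key g
  rw [AlgHom.comp_apply, AlgHom.comp_apply, AlgHom.comp_apply, AlgHom.id_apply,
    Ideal.Quotient.mkₐ_eq_mk, Ideal.Quotient.eq] at this
  exact this

lemma theta_sub_phiF (n : ℕ) (hn : 2 ≤ n) (q : FreeE n) :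
    xi n hn (piE n q) - phiF n hn q ∈ Ideal.span {(X (z0 n) : FreeP n)} := by
  have key : (Ideal.Quotient.mkₐ (ZMod 2) (Ideal.span {(X (z0 n) : FreeP n)})).comp
      ((xi n hn).comp (piE n)) =
      (Ideal.Quotient.mkₐ (ZMod 2) (Ideal.span {(X (z0 n) : FreeP n)})).comp (phiF n hn) := by
    apply MvPolynomial.algHom_ext
    intro o
    rw [AlgHom.comp_apply, AlgHom.comp_apply, AlgHom.comp_apply,
      Ideal.Quotient.mkₐ_eq_mk, Ideal.Quotient.eq, Ideal.mem_span_singleton]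
    cases o with
    | none =>
      rw [piE_none, map_zero, zero_sub, phiF_none]
      have h1 : n - 1 = (n - 2) + 1 := by omega
      rw [h1]
      exact ⟨-(X (z0 n) ^ (n - 2) * X (z1 n hn)), by ring⟩
    | some i =>
      rw [piE_some, xi_X]
      by_cases h0 : i.val = 0
      · have hi : i = z0 n := Fin.ext h0
        subst hi
        rw [if_neg (z0_ne_z1 n hn), phiF_e0, sub_self]
        exact dvd_zero _
      · by_cases h1 : i.val = 1
        · have hi : i = z1 n hn := Fin.ext h1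
          subst hi
          rw [if_pos rfl, phiF_e1]
          exact ⟨-X (z1 n hn), by ring⟩
        · have hne : i ≠ z1 n hn := fun h => h1 (by rw [h]; rfl)
          rw [if_neg hne, phiF_ei n hn i h0 h1]
          obtain ⟨e', he'⟩ : ∃ e', 2 * (i.val + 1) - 4 = e' + 1 :=
            ⟨2 * (i.val + 1) - 5, by omega⟩
          rw [he']
          exact ⟨-(X (z0 n) ^ e' * X (z1 n hn)), by ring⟩
  have := AlgHom.congr_fun key q
  rw [AlgHom.comp_apply, AlgHom.comp_apply, AlgHom.comp_apply,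
    Ideal.Quotient.mkₐ_eq_mk, Ideal.Quotient.eq] at this
  exact this

/-! ### the derivation trick -/

lemma pderiv_xi (n : ℕ) (hn : 2 ≤ n) (f : FreeP n) : pderiv (z1 n hn) (xi n hn f) = 0 := by
  induction f using MvPolynomial.induction_on with
  | C a => rw [xi_C, pderiv_C]
  | add p q hp hq => rw [map_add, map_add, hp, hq, add_zero]
  | mul_X p i hp =>
    rw [map_mul, Derivation.leibniz, hp, smul_zero, add_zero, xi_X]
    by_cases hi : i = z1 n hn
    · have h2 : pderiv (z1 n hn) ((X i : FreeP n) ^ 2) = 0 := by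
        rw [pow_two, Derivation.leibniz]
        exact CharTwo.add_self_eq_zero _
      rw [if_pos hi, h2, smul_zero]
    · rw [if_neg hi, pderiv_X_of_ne hi, smul_zero]

/-- the ideal `(ε₁) + truncIdeal` -/
noncomputable def Iprime (n : ℕ) : Ideal (FreeP n) :=
  Ideal.span {(X (z0 n) : FreeP n)} ⊔ truncIdeal n

lemma pderiv_Iprime (n : ℕ) (hn : 2 ≤ n) (f : FreeP n) (hf : f ∈ Iprime n) :
    pderiv (z1 n hn) f ∈ Iprime n := by
  have hgen : Iprime n = Ideal.span ({(X (z0 n) : FreeP n)} ∪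
      Set.range fun i : Fin (numVars n) => (X i : FreeP n) ^ bound n i) := by
    unfold Iprime truncIdeal
    rw [Ideal.span_union]
  rw [hgen] at hf ⊢
  change f ∈ Submodule.span (FreeP n) _ at hf
  induction hf using Submodule.span_induction with
  | mem x hx =>
    rcases hx with hx | ⟨i, rfl⟩
    · rw [Set.mem_singleton_iff] at hx
      subst hx
      rw [pderiv_X_of_ne (z0_ne_z1 n hn)]
      exact Ideal.zero_mem _
    · by_cases hi : i = z1 n hn
      · subst hi
        obtain ⟨k', hk'⟩ : ∃ k', klog n 2 = k' + 1 :=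
          ⟨klog n 2 - 1, by have := klog_two_pos n hn; omega⟩
        have h2k : 2 ^ (k' + 1) = 2 ^ k' * 2 := pow_succ 2 k'
        have h0 : pderiv (z1 n hn) ((X (z1 n hn) : FreeP n) ^ bound n (z1 n hn)) = 0 := by
          rw [bound_z1, hk', h2k, pow_mul, pow_two, Derivation.leibniz]
          exact CharTwo.add_self_eq_zero _
        rw [h0]
        exact Ideal.zero_mem _
      · have h0 : pderiv (z1 n hn) ((X i : FreeP n) ^ bound n i) = 0 := by
          rw [Derivation.leibniz_pow, pderiv_X_of_ne hi, smul_zero, smul_zero]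
        rw [h0]
        exact Ideal.zero_mem _
  | zero =>
    rw [map_zero]
    exact Ideal.zero_mem _
  | add x y _ _ hx hy =>
    rw [map_add]
    exact Ideal.add_mem _ hx hy
  | smul a x hx hD =>
    rw [smul_eq_mul, Derivation.leibniz, smul_eq_mul, smul_eq_mul]
    exact Ideal.add_mem _ (Ideal.mul_mem_left _ _ hD) (Ideal.mul_mem_right _ _ hx)

lemma split_Iprime (n : ℕ) (hn : 2 ≤ n) (a b : FreeP n)
    (h : xi n hn a + X (z1 n hn) * xi n hn b ∈ Iprime n) :
    xi n hn a ∈ Iprime n ∧ xi n hn b ∈ Iprime n := by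
  have hD := pderiv_Iprime n hn _ h
  rw [map_add, pderiv_xi, zero_add, Derivation.leibniz, pderiv_xi, smul_zero, zero_add,
    pderiv_X_self, smul_eq_mul, mul_one] at hD
  refine ⟨?_, hD⟩
  have : xi n hn a = (xi n hn a + X (z1 n hn) * xi n hn b) - X (z1 n hn) * xi n hn b := by
    ring
  rw [this]
  exact Ideal.sub_mem _ h (Ideal.mul_mem_left _ _ hD)

/-! ### membership criteria for monomial ideals -/

lemma mem_span_gen_iff (n : ℕ) (b : Fin (numVars n) → ℕ) (f : FreeP n) :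
    f ∈ Ideal.span ((fun s => monomial s (1 : ZMod 2)) ''
      ({Finsupp.single (z0 n) 1} ∪
        Set.range fun i : Fin (numVars n) => Finsupp.single i (b i))) ↔
    ∀ μ ∈ f.support, 1 ≤ μ (z0 n) ∨ ∃ i : Fin (numVars n), b i ≤ μ i := by
  rw [mem_ideal_span_monomial_image]
  refine forall₂_congr fun μ _ => ?_
  constructor
  · rintro ⟨s, hs | ⟨i, rfl⟩, hle⟩
    · rw [Set.mem_singleton_iff] at hs
      subst hs
      left
      have := hle (z0 n)
      rw [Finsupp.single_eq_same] at this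
      exact this
    · right
      refine ⟨i, ?_⟩
      have := hle i
      rw [Finsupp.single_eq_same] at this
      exact this
  · rintro (h | ⟨i, hi⟩)
    · refine ⟨_, Or.inl (Set.mem_singleton _), ?_⟩
      intro j
      rw [Finsupp.single_apply]
      split_ifs with hj
      · subst hj
        exact h
      · exact Nat.zero_le _
    · refine ⟨_, Or.inr ⟨i, rfl⟩, ?_⟩
      intro j
      show (Finsupp.single i (b i)) j ≤ μ j
      rw [Finsupp.single_apply]
      split_ifs with hj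
      · subst hj
        exact hi
      · exact Nat.zero_le _

lemma Iprime_eq (n : ℕ) : Iprime n = Ideal.span ((fun s => monomial s (1 : ZMod 2)) ''
    ({Finsupp.single (z0 n) 1} ∪
      Set.range fun i : Fin (numVars n) => Finsupp.single i (bound n i))) := by
  unfold Iprime
  rw [Set.image_union, Ideal.span_union, Set.image_singleton, ← truncIdeal_eq]
  rfl

lemma mem_Iprime_iff (n : ℕ) (f : FreeP n) :
    f ∈ Iprime n ↔ ∀ μ ∈ f.support, 1 ≤ μ (z0 n) ∨ ∃ i : Fin (numVars n), bound n i ≤ μ i := by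
  rw [Iprime_eq]
  exact mem_span_gen_iff n (bound n) f

/-- modified truncation exponents -/
noncomputable def bound' (n : ℕ) (hn : 2 ≤ n) (i : Fin (numVars n)) : ℕ :=
  if i = z1 n hn then 2 ^ (klog n 2 - 1) else bound n i

/-- the monomial ideal `(ε₁, ε₂^(2^(k₂-1)), ε_j^(2^(k_j)))` -/
noncomputable def J0P (n : ℕ) (hn : 2 ≤ n) : Ideal (FreeP n) :=
  Ideal.span ((fun s => monomial s (1 : ZMod 2)) ''
    ({Finsupp.single (z0 n) 1} ∪
      Set.range fun i : Fin (numVars n) => Finsupp.single i (bound' n hn i)))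

lemma mem_J0P_of_xi (n : ℕ) (hn : 2 ≤ n) (f : FreeP n) (h : xi n hn f ∈ Iprime n) :
    f ∈ J0P n hn := by
  unfold J0P
  rw [mem_span_gen_iff]
  intro μ hμ
  have hsupp : Tdbl n hn μ ∈ (xi n hn f).support := by
    rw [mem_support_iff, coeff_xi]
    exact mem_support_iff.1 hμ
  rcases (mem_Iprime_iff n _).1 h _ hsupp with h0 | ⟨i, hi⟩
  · left
    rwa [Tdbl_ne n hn μ _ (z0_ne_z1 n hn)] at h0
  · right
    refine ⟨i, ?_⟩
    by_cases hi1 : i = z1 n hn
    · subst hi1
      rw [Tdbl_z1, bound_z1] at hi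
      unfold bound'
      rw [if_pos rfl]
      obtain ⟨k', hk'⟩ : ∃ k', klog n 2 = k' + 1 :=
        ⟨klog n 2 - 1, by have := klog_two_pos n hn; omega⟩
      have h2k : 2 ^ (k' + 1) = 2 ^ k' * 2 := pow_succ 2 k'
      rw [hk'] at hi ⊢
      rw [Nat.add_sub_cancel]
      omega
    · rw [Tdbl_ne n hn μ i hi1] at hi
      unfold bound'
      rw [if_neg hi1]
      exact hi

/-! ### the filtration on the source -/

/-- `presIdeal + (e₁^m) + (x)` -/
noncomputable def Tm (n : ℕ) (m : ℕ) : Ideal (FreeE n) :=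
  presIdeal n ⊔ Ideal.span {(X (some (z0 n)) : FreeE n) ^ m} ⊔ Ideal.span {(X none : FreeE n)}

lemma pres_le_Tm (n m : ℕ) : presIdeal n ≤ Tm n m := le_sup_of_le_left le_sup_left

lemma e1pow_mem_Tm (n m : ℕ) : (X (some (z0 n)) : FreeE n) ^ m ∈ Tm n m :=
  Ideal.mem_sup_left (Ideal.mem_sup_right (Ideal.subset_span (Set.mem_singleton _)))

lemma x_mem_Tm (n m : ℕ) : (X none : FreeE n) ∈ Tm n m :=
  Ideal.mem_sup_right (Ideal.subset_span (Set.mem_singleton _))

/-- the pull-back of `J0P` -/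
noncomputable def J0 (n : ℕ) (hn : 2 ≤ n) : Ideal (FreeE n) := Ideal.comap (piE n) (J0P n hn)

lemma hrel_mem (n : ℕ) (i : Fin (numVars n)) : hrel n (i.val + 1) ∈ presIdeal n :=
  Ideal.subset_span (Or.inr ⟨i, rfl⟩)

lemma e2pow_mem_T1 (n : ℕ) (hn : 2 ≤ n) :
    (X (some (z1 n hn)) : FreeE n) ^ 2 ^ (klog n 2 - 1) ∈ Tm n 1 := by
  obtain ⟨k', hk'⟩ : ∃ k', klog n 2 = k' + 1 :=
    ⟨klog n 2 - 1, by have := klog_two_pos n hn; omega⟩
  have hmem : hrel n 2 ∈ presIdeal n := hrel_mem n (z1 n hn)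
  have hS : sPoly n 2 = ∑ r ∈ Finset.range k',
      evar n 1 ^ (2 ^ (k' + 1) - 2 ^ (r + 1)) * evar n 2 ^ 2 ^ r + evar n 2 ^ 2 ^ k' := by
    unfold sPoly
    rw [hk', Finset.sum_range_succ, Nat.sub_self, pow_zero, one_mul]
  have hsum : ∑ r ∈ Finset.range k',
      evar n 1 ^ (2 ^ (k' + 1) - 2 ^ (r + 1)) * evar n 2 ^ 2 ^ r ∈ Tm n 1 := by
    refine Ideal.sum_mem _ fun r hr => ?_
    rw [Finset.mem_range] at hr
    have hlt : 2 ^ (r + 1) < 2 ^ (k' + 1) := Nat.pow_lt_pow_right (by norm_num) (by omega)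
    obtain ⟨d, hd⟩ : ∃ d, 2 ^ (k' + 1) - 2 ^ (r + 1) = 1 + d :=
      ⟨2 ^ (k' + 1) - 2 ^ (r + 1) - 1, by omega⟩
    rw [hd, pow_add, evar_one, mul_assoc]
    exact Ideal.mul_mem_right _ _ (e1pow_mem_Tm n 1)
  have hx : evar n 1 ^ (2 ^ klog n 2 - n) * xvar n ∈ Tm n 1 :=
    Ideal.mul_mem_left _ _ (x_mem_Tm n 1)
  have key : (X (some (z1 n hn)) : FreeE n) ^ 2 ^ k' =
      hrel n 2 - evar n 1 ^ (2 ^ klog n 2 - n) * xvar n -
        ∑ r ∈ Finset.range k',
          evar n 1 ^ (2 ^ (k' + 1) - 2 ^ (r + 1)) * evar n 2 ^ 2 ^ r := by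
    rw [hrel_two_eq, hS, evar_two n hn]
    ring
  have hk1 : klog n 2 - 1 = k' := by omega
  rw [hk1, key]
  exact Ideal.sub_mem _ (Ideal.sub_mem _ (pres_le_Tm n 1 hmem) hx) hsum

lemma eipow_mem_T1 (n : ℕ) (hn : 2 ≤ n) (i : Fin (numVars n)) (h0 : ¬ i.val = 0)
    (h1 : ¬ i.val = 1) :
    (X (some i) : FreeE n) ^ 2 ^ klog n (i.val + 1) ∈ Tm n 1 := by
  have hmem := hrel_mem n i
  have hpos : 0 < (2 * (i.val + 1) - 4) * 2 ^ klog n (i.val + 1) :=
    Nat.mul_pos (by omega) (Nat.two_pow_pos _)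
  obtain ⟨d, hd⟩ : ∃ d, (2 * (i.val + 1) - 4) * 2 ^ klog n (i.val + 1) = 1 + d :=
    ⟨(2 * (i.val + 1) - 4) * 2 ^ klog n (i.val + 1) - 1, by omega⟩
  have h3 : evar n 1 ^ ((2 * (i.val + 1) - 4) * 2 ^ klog n (i.val + 1)) *
      sPoly n (i.val + 1) ∈ Tm n 1 := by
    rw [hd, pow_add, evar_one, mul_assoc]
    exact Ideal.mul_mem_right _ _ (e1pow_mem_Tm n 1)
  have h2 : evar n 1 ^ ((2 * (i.val + 1) - 3) * 2 ^ klog n (i.val + 1) - n) * xvar n ∈ Tm n 1 :=
    Ideal.mul_mem_left _ _ (x_mem_Tm n 1)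
  have key : (X (some i) : FreeE n) ^ 2 ^ klog n (i.val + 1) =
      hrel n (i.val + 1) -
        evar n 1 ^ ((2 * (i.val + 1) - 3) * 2 ^ klog n (i.val + 1) - n) * xvar n -
        evar n 1 ^ ((2 * (i.val + 1) - 4) * 2 ^ klog n (i.val + 1)) * sPoly n (i.val + 1) := by
    rw [hrel_ge3_eq n i h0 h1, evar_succ]
    ring
  rw [key]
  exact Ideal.sub_mem _ (Ideal.sub_mem _ (pres_le_Tm n 1 hmem) h2) h3

lemma iota_J0P_le (n : ℕ) (hn : 2 ≤ n) : Ideal.map (iotaE n) (J0P n hn) ≤ Tm n 1 := by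
  unfold J0P
  rw [Ideal.map_span, Ideal.span_le]
  rintro _ ⟨_, ⟨s, hs, rfl⟩, rfl⟩
  rcases hs with hs | ⟨i, rfl⟩
  · rw [Set.mem_singleton_iff] at hs
    subst hs
    show iotaE n (X (z0 n)) ∈ Tm n 1
    rw [iotaE_X]
    have := e1pow_mem_Tm n 1
    rwa [pow_one] at this
  · show iotaE n (monomial (Finsupp.single i (bound' n hn i)) (1 : ZMod 2)) ∈ Tm n 1
    rw [← X_pow_eq_monomial, map_pow, iotaE_X]
    by_cases h0 : i.val = 0
    · have hi : i = z0 n := Fin.ext h0
      subst hi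
      have hb : bound' n hn (z0 n) = n := by
        unfold bound'
        rw [if_neg (z0_ne_z1 n hn), bound_z0]
      have hp : (X (some (z0 n)) : FreeE n) ^ n =
          X (some (z0 n)) ^ 1 * X (some (z0 n)) ^ (n - 1) := by
        rw [← pow_add]
        congr 1
        omega
      rw [hb, hp]
      exact Ideal.mul_mem_right _ _ (e1pow_mem_Tm n 1)
    · by_cases h1 : i.val = 1
      · have hi : i = z1 n hn := Fin.ext h1
        subst hi
        have hb : bound' n hn (z1 n hn) = 2 ^ (klog n 2 - 1) := by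
          unfold bound'
          rw [if_pos rfl]
        rw [hb]
        exact e2pow_mem_T1 n hn
      · have hne : i ≠ z1 n hn := fun h => h1 (by rw [h]; rfl)
        have hb : bound' n hn i = 2 ^ klog n (i.val + 1) := by
          unfold bound'
          rw [if_neg hne, bound_ge1 n i h0]
        rw [hb]
        exact eipow_mem_T1 n hn i h0 h1

lemma J0_le_T1 (n : ℕ) (hn : 2 ≤ n) : J0 n hn ≤ Tm n 1 := by
  intro g hg
  have h1 := sub_iota_pi n g
  have h2 : iotaE n (piE n g) ∈ Tm n 1 :=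
    iota_J0P_le n hn (Ideal.mem_map_of_mem _ (Ideal.mem_comap.1 hg))
  have h3 : g = (g - iotaE n (piE n g)) + iotaE n (piE n g) := by ring
  rw [h3]
  exact Ideal.add_mem _ (Ideal.mem_sup_right h1) h2

/-! ### the key lemma -/

lemma L2 (n : ℕ) (hn : 2 ≤ n) (g g2 : FreeE n)
    (h : phiF n hn g + X (z1 n hn) * phiF n hn g2 ∈ Iprime n) :
    g ∈ J0 n hn ∧ g2 ∈ J0 n hn := by
  have hz : Ideal.span {(X (z0 n) : FreeP n)} ≤ Iprime n := le_sup_left
  have h1 := hz (theta_sub_phiF n hn g)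
  have h2 := hz (theta_sub_phiF n hn g2)
  have h3 : xi n hn (piE n g) + X (z1 n hn) * xi n hn (piE n g2) ∈ Iprime n := by
    have : xi n hn (piE n g) + X (z1 n hn) * xi n hn (piE n g2) =
        (phiF n hn g + X (z1 n hn) * phiF n hn g2) + (xi n hn (piE n g) - phiF n hn g) +
          X (z1 n hn) * (xi n hn (piE n g2) - phiF n hn g2) := by ring
    rw [this]
    exact Ideal.add_mem _ (Ideal.add_mem _ h h1) (Ideal.mul_mem_left _ _ h2)
  obtain ⟨ha, hb⟩ := split_Iprime n hn _ _ h3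
  exact ⟨Ideal.mem_comap.2 (mem_J0P_of_xi n hn _ ha), Ideal.mem_comap.2 (mem_J0P_of_xi n hn _ hb)⟩

lemma span_pow_le_Iprime (n m : ℕ) (hm : m < n) :
    Ideal.span {(X (z0 n) : FreeP n) ^ (n - m)} ⊔ truncIdeal n ≤ Iprime n := by
  refine sup_le ?_ le_sup_right
  rw [Ideal.span_singleton_le_iff_mem]
  refine Ideal.mem_sup_left (Ideal.mem_span_singleton.2 ?_)
  exact dvd_pow_self _ (by omega)

/-! ### the induction -/

lemma claim (n : ℕ) (hn : 2 ≤ n) :
    ∀ m, m ≤ n → ∀ q : FreeE n, phiF n hn q ∈ truncIdeal n → q ∈ Tm n m := by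
  intro m
  induction m with
  | zero =>
    intro _ q _
    have h0 : Tm n 0 = ⊤ := by
      unfold Tm
      rw [pow_zero, Ideal.span_singleton_one]
      simp
    rw [h0]
    trivial
  | succ m ih =>
    intro hm q hq
    have hqm := ih (by omega) q hq
    unfold Tm at hqm
    obtain ⟨y, hy, z, hz, rfl⟩ := Submodule.mem_sup.1 hqm
    obtain ⟨j, hj, w, hw, rfl⟩ := Submodule.mem_sup.1 hy
    obtain ⟨g, rfl⟩ := Ideal.mem_span_singleton'.1 hw
    obtain ⟨g2, rfl⟩ := Ideal.mem_span_singleton'.1 hz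
    have hj' : phiF n hn j ∈ truncIdeal n := Ideal.mem_comap.1 (pres_le_ker n hn hj)
    have hexp : X (z0 n) ^ (n - 1) = (X (z0 n) : FreeP n) ^ m * X (z0 n) ^ (n - 1 - m) := by
      rw [← pow_add]
      congr 1
      omega
    have hmem : X (z0 n) ^ m * (phiF n hn g + X (z0 n) ^ (n - 1 - m) *
        (X (z1 n hn) * phiF n hn g2)) ∈ truncIdeal n := by
      have h1 : X (z0 n) ^ m * (phiF n hn g + X (z0 n) ^ (n - 1 - m) *
          (X (z1 n hn) * phiF n hn g2)) =
          phiF n hn (j + g * X (some (z0 n)) ^ m + g2 * X none) - phiF n hn j := by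
        rw [map_add, map_add, map_mul, map_mul, map_pow, phiF_e0, phiF_none, hexp]
        ring
      rw [h1]
      exact Ideal.sub_mem _ hq hj'
    have h5 := ann_pow n m (by omega) _ hmem
    have h6 := span_pow_le_Iprime n m (by omega) h5
    have hg0 : g ∈ J0 n hn := by
      by_cases hlast : m + 1 = n
      · have hz0 : n - 1 - m = 0 := by omega
        rw [hz0, pow_zero, one_mul] at h6
        exact (L2 n hn g g2 h6).1
      · obtain ⟨d, hd⟩ : ∃ d, n - 1 - m = d + 1 := ⟨n - 1 - m - 1, by omega⟩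
        have h7 : phiF n hn g + X (z1 n hn) * phiF n hn 0 ∈ Iprime n := by
          rw [map_zero, mul_zero, add_zero]
          have h8 : phiF n hn g = (phiF n hn g + X (z0 n) ^ (n - 1 - m) *
              (X (z1 n hn) * phiF n hn g2)) -
              X (z0 n) * (X (z0 n) ^ d * (X (z1 n hn) * phiF n hn g2)) := by
            rw [hd]
            ring
          rw [h8]
          exact Ideal.sub_mem _ h6
            (Ideal.mem_sup_left (Ideal.mem_span_singleton.2 (dvd_mul_right _ _)))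
        exact (L2 n hn g 0 h7).1
    have hg1 := J0_le_T1 n hn hg0
    unfold Tm at hg1
    obtain ⟨y1, hy1, zz, hzz, hg_eq⟩ := Submodule.mem_sup.1 hg1
    obtain ⟨j1, hj1, w1, hw1, hy1_eq⟩ := Submodule.mem_sup.1 hy1
    obtain ⟨a, ha⟩ := Ideal.mem_span_singleton'.1 hw1
    obtain ⟨b, hb⟩ := Ideal.mem_span_singleton'.1 hzz
    have key : j + g * X (some (z0 n)) ^ m + g2 * X none =
        (j + j1 * X (some (z0 n)) ^ m) + a * X (some (z0 n)) ^ (m + 1) +
          (b * X (some (z0 n)) ^ m + g2) * X none := by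
      rw [← hg_eq, ← hy1_eq, ← ha, ← hb]
      ring
    rw [key]
    unfold Tm
    refine Ideal.add_mem _ (Ideal.add_mem _ (Ideal.mem_sup_left (Ideal.mem_sup_left ?_))
      (Ideal.mem_sup_left (Ideal.mem_sup_right ?_))) (Ideal.mem_sup_right ?_)
    · exact Ideal.add_mem _ hj (Ideal.mul_mem_right _ _ hj1)
    · exact Ideal.mul_mem_left _ _ (Ideal.subset_span (Set.mem_singleton _))
    · exact Ideal.mul_mem_left _ _ (Ideal.subset_span (Set.mem_singleton _))

theorem main17742 (n : ℕ) (hn : 2 ≤ n) :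
    RingHom.ker (QsChow.phi n) = QsChow.presIdeal n := by
  apply le_antisymm
  · intro q hq
    have hq' : phiF n hn q ∈ truncIdeal n := by
      rw [← Ideal.Quotient.eq_zero_iff_mem, mk_phiF]
      exact hq
    have hT := claim n hn n le_rfl q hq'
    unfold Tm at hT
    obtain ⟨y, hy, z, hz, rfl⟩ := Submodule.mem_sup.1 hT
    obtain ⟨j, hj, w, hw, rfl⟩ := Submodule.mem_sup.1 hy
    obtain ⟨g, rfl⟩ := Ideal.mem_span_singleton'.1 hw
    obtain ⟨g2, rfl⟩ := Ideal.mem_span_singleton'.1 hz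
    have hen : (X (some (z0 n)) : FreeE n) ^ n ∈ presIdeal n := by
      have h : evar n 1 ^ n ∈ presIdeal n := Ideal.subset_span (Or.inl (Or.inl rfl))
      rw [evar_one] at h
      exact h
    have hex : (X (some (z0 n)) : FreeE n) * X none ∈ presIdeal n := by
      have h : evar n 1 * xvar n ∈ presIdeal n :=
        Ideal.subset_span (Or.inl (Or.inr (Or.inl rfl)))
      rw [evar_one] at h
      exact h
    have hxx : (X none : FreeE n) ^ 2 ∈ presIdeal n := by
      have h : xvar n ^ 2 ∈ presIdeal n :=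
        Ideal.subset_span (Or.inl (Or.inr (Or.inr rfl)))
      exact h
    have hj' : phiF n hn j ∈ truncIdeal n := Ideal.mem_comap.1 (pres_le_ker n hn hj)
    have hw' : phiF n hn (g * X (some (z0 n)) ^ n) ∈ truncIdeal n :=
      Ideal.mem_comap.1 (pres_le_ker n hn (Ideal.mul_mem_left _ _ hen))
    have hmem : X (z0 n) ^ (n - 1) * (X (z1 n hn) * phiF n hn g2) ∈ truncIdeal n := by
      have h1 : X (z0 n) ^ (n - 1) * (X (z1 n hn) * phiF n hn g2) =
          phiF n hn (j + g * X (some (z0 n)) ^ n + g2 * X none) - phiF n hn j -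
            phiF n hn (g * X (some (z0 n)) ^ n) := by
        rw [map_add, map_add, map_mul (phiF n hn) g2, phiF_none]
        ring
      rw [h1]
      exact Ideal.sub_mem _ (Ideal.sub_mem _ hq' hj') hw'
    have h5 := ann_pow n (n - 1) (by omega) _ hmem
    have h6 := span_pow_le_Iprime n (n - 1) (by omega) h5
    have h7 : phiF n hn 0 + X (z1 n hn) * phiF n hn g2 ∈ Iprime n := by
      rw [map_zero, zero_add]
      exact h6
    have hg2 := J0_le_T1 n hn (L2 n hn 0 g2 h7).2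
    unfold Tm at hg2
    obtain ⟨y1, hy1, zz, hzz, hg_eq⟩ := Submodule.mem_sup.1 hg2
    obtain ⟨j1, hj1, w1, hw1, hy1_eq⟩ := Submodule.mem_sup.1 hy1
    obtain ⟨a, ha⟩ := Ideal.mem_span_singleton'.1 hw1
    obtain ⟨b, hb⟩ := Ideal.mem_span_singleton'.1 hzz
    have key : j + g * X (some (z0 n)) ^ n + g2 * X none =
        j + g * X (some (z0 n)) ^ n + j1 * X none + a * (X (some (z0 n)) * X none) +
          b * X none ^ 2 := by
      rw [← hg_eq, ← hy1_eq, ← ha, ← hb]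
      ring
    rw [key]
    exact Ideal.add_mem _ (Ideal.add_mem _ (Ideal.add_mem _ (Ideal.add_mem _ hj
      (Ideal.mul_mem_left _ _ hen)) (Ideal.mul_mem_right _ _ hj1)) (Ideal.mul_mem_left _ _ hex))
      (Ideal.mul_mem_left _ _ hxx)
  · intro q hq
    rw [RingHom.mem_ker, ← mk_phiF n hn, Ideal.Quotient.eq_zero_iff_mem]
    exact Ideal.mem_comap.1 (pres_le_ker n hn hq)

end Groth.Agent.Helper25.QsKer
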