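import Mathlib
import Groth.Prelude.Def_W4c4chowquasisplitPn
import Groth.Prelude.Def_W4c4chowquasisplitPn2
import Groth.Agent.Lib.Helper25.QsKer
set_option autoImplicit false
open MvPolynomial

/-! The preimage of `ε₁ · P^τ` under `QsChow.phi n` for odd `n`. -/

namespace Groth.Agent.Helper25.QsOdd
open QsChow Groth.Agent.Helper25.QsTau Groth.Agent.Helper25.QsFix Groth.Agent.Helper25.QsKer

/-! ### general decompositions -/

lemma sPoly_two_eq (n : ℕ) (k' : ℕ) (hk' : klog n 2 = k' + 1) :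
    sPoly n 2 = ∑ r ∈ Finset.range k',
      evar n 1 ^ (2 ^ (k' + 1) - 2 ^ (r + 1)) * evar n 2 ^ 2 ^ r + evar n 2 ^ 2 ^ k' := by
  unfold sPoly
  rw [hk', Finset.sum_range_succ, Nat.sub_self, pow_zero, one_mul]

lemma e2pow_eq (n : ℕ) (hn : 2 ≤ n) (k' : ℕ) (hk' : klog n 2 = k' + 1) :
    (X (some (z1 n hn)) : FreeE n) ^ 2 ^ k' =
      hrel n 2 - evar n 1 ^ (2 ^ klog n 2 - n) * xvar n -
        ∑ r ∈ Finset.range k', evar n 1 ^ (2 ^ (k' + 1) - 2 ^ (r + 1)) * evar n 2 ^ 2 ^ r := by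
  rw [hrel_two_eq, sPoly_two_eq n k' hk', evar_two n hn]
  ring

lemma eipow_eq (n : ℕ) (i : Fin (numVars n)) (h0 : ¬ i.val = 0) (h1 : ¬ i.val = 1) :
    (X (some i) : FreeE n) ^ 2 ^ klog n (i.val + 1) =
      hrel n (i.val + 1) -
        evar n 1 ^ ((2 * (i.val + 1) - 3) * 2 ^ klog n (i.val + 1) - n) * xvar n -
        evar n 1 ^ ((2 * (i.val + 1) - 4) * 2 ^ klog n (i.val + 1)) * sPoly n (i.val + 1) := by
  rw [hrel_ge3_eq n i h0 h1, evar_succ]
  ring

lemma e1_mul_mem (n : ℕ) (I : Ideal (FreeE n)) (hI : (X (some (z0 n)) : FreeE n) ∈ I)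
    (m : ℕ) (hm : 1 ≤ m) (y : FreeE n) : evar n 1 ^ m * y ∈ I := by
  obtain ⟨d, rfl⟩ : ∃ d, m = 1 + d := ⟨m - 1, by omega⟩
  rw [pow_add, pow_one, evar_one, mul_assoc]
  exact Ideal.mul_mem_right _ _ hI

lemma phi_e0 (n : ℕ) : phi n (X (some (z0 n))) = eps n 1 := by
  unfold phi
  rw [aeval_X, genImage_some, if_pos (show (z0 n).val = 0 from rfl)]

lemma kprime_two (n : ℕ) : kprime n 2 = Nat.log 2 n := by
  unfold kprime
  rw [if_neg (by omega), if_pos rfl]

lemma kprime_ge3 (n j : ℕ) (hj : 3 ≤ j) : kprime n j = Nat.log 2 (2 * n / (2 * j - 3)) := by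
  unfold kprime
  rw [if_neg (by omega), if_neg (by omega)]

/-- if `n < (2j-3) 2^(k_j)` then `k'_j = k_j` -/
lemma kprime_eq_klog (n j : ℕ) (hn : 2 ≤ n) (hj : 3 ≤ j) (hle : 2 * j - 3 ≤ 2 * n - 1)
    (hA : n < (2 * j - 3) * 2 ^ klog n j) : kprime n j = klog n j := by
  rw [kprime_ge3 n j hj]
  have hpos : 0 < 2 * j - 3 := by omega
  have hne : (2 * n - 1) / (2 * j - 3) ≠ 0 := (Nat.div_pos hle hpos).ne'
  have h1 : 2 ^ klog n j ≤ (2 * n - 1) / (2 * j - 3) := Nat.pow_log_le_self 2 hne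
  rw [Nat.le_div_iff_mul_le hpos] at h1
  have hne' : 2 * n / (2 * j - 3) ≠ 0 := (Nat.div_pos (by omega) hpos).ne'
  rw [Nat.log_eq_iff (Or.inr ⟨by norm_num, hne'⟩)]
  constructor
  · rw [Nat.le_div_iff_mul_le hpos]
    omega
  · rw [Nat.div_lt_iff_lt_mul hpos]
    have e1 : 2 ^ (klog n j + 1) * (2 * j - 3) = 2 * ((2 * j - 3) * 2 ^ klog n j) := by
      rw [pow_succ]
      ring
    rw [e1]
    omega

/-! ### numerics for odd `n` -/

lemma klog_two_odd (n : ℕ) (hn : 2 ≤ n) (hodd : Odd n) : klog n 2 = Nat.log 2 n + 1 := by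
  obtain ⟨r, hr⟩ := hodd
  have hpos : 1 ≤ Nat.log 2 n := Nat.log_pos (by norm_num) hn
  obtain ⟨k'', hk''⟩ : ∃ k'', Nat.log 2 n = k'' + 1 := ⟨Nat.log 2 n - 1, by omega⟩
  have h1 : 2 ^ Nat.log 2 n ≤ n := Nat.pow_log_le_self 2 (by omega)
  have h2 : n < 2 ^ (Nat.log 2 n).succ := Nat.lt_pow_succ_log_self (by norm_num) n
  unfold klog
  have hd : (2 * n - 1) / (2 * 2 - 3) = 2 * n - 1 := by
    have : 2 * 2 - 3 = 1 := rfl
    rw [this, Nat.div_one]
  rw [hd, Nat.log_eq_iff (Or.inl (by omega))]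
  rw [hk''] at h1 h2 ⊢
  have e1 : 2 ^ (k'' + 1) = 2 ^ k'' * 2 := pow_succ 2 k''
  have e2 : 2 ^ (k'' + 1 + 1) = 2 ^ (k'' + 1) * 2 := pow_succ 2 (k'' + 1)
  have e3 : 2 ^ (k'' + 1 + 1 + 1) = 2 ^ (k'' + 1 + 1) * 2 := pow_succ 2 (k'' + 1 + 1)
  have e4 : 2 ^ (k'' + 1).succ = 2 ^ (k'' + 1) * 2 := pow_succ 2 (k'' + 1)
  constructor <;> omega

lemma odd_numerics (n j : ℕ) (hn : 2 ≤ n) (hodd : Odd n) (hj : 3 ≤ j) (hjs : j ≤ numVars n) :
    n < (2 * j - 3) * 2 ^ klog n j ∧ kprime n j = klog n j := by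
  obtain ⟨r, hr⟩ := hodd
  have hc2 : 2 * j - 3 + 2 ≤ n := by
    unfold numVars at hjs
    omega
  have hA : n < (2 * j - 3) * 2 ^ klog n j := by
    have hb := klog_bounds n j hj
    rcases Nat.eq_zero_or_pos (klog n j) with hk0 | hkpos
    · rw [hk0, pow_zero, mul_one] at hb
      omega
    · obtain ⟨k', hk'⟩ : ∃ k', klog n j = k' + 1 := ⟨klog n j - 1, by omega⟩
      rw [hk'] at hb ⊢
      have e : (2 * j - 3) * 2 ^ (k' + 1) = 2 * ((2 * j - 3) * 2 ^ k') := by
        rw [pow_succ]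
        ring
      omega
  exact ⟨hA, kprime_eq_klog n j hn hj (by omega) hA⟩

/-! ### the ideal `(e₁) + presIdeal` -/

/-- `(e₁) + presIdeal` -/
noncomputable def Eo (n : ℕ) : Ideal (FreeE n) :=
  Ideal.span {(X (some (z0 n)) : FreeE n)} ⊔ presIdeal n

lemma odd_le (n : ℕ) (hn : 2 ≤ n) (hodd : Odd n) : oddIdeal n ≤ Eo n := by
  have he1 : (X (some (z0 n)) : FreeE n) ∈ Eo n :=
    Ideal.mem_sup_left (Ideal.subset_span (Set.mem_singleton _))
  have hpres : presIdeal n ≤ Eo n := le_sup_right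
  have hk2 := klog_two_odd n hn hodd
  unfold oddIdeal
  rw [Ideal.span_le]
  rintro g (hg | ⟨i, rfl⟩)
  · simp only [Set.mem_insert_iff, Set.mem_singleton_iff] at hg
    rcases hg with rfl | rfl
    · show evar n 1 ∈ Eo n
      rw [evar_one]
      exact he1
    · exact hpres (Ideal.subset_span (Or.inl (Or.inr (Or.inr rfl))))
  · show evar n (i.val + 1) ^ 2 ^ kprime n (i.val + 1) ∈ Eo n
    by_cases h0 : i.val = 0
    · have hi : i = z0 n := Fin.ext h0
      subst hi
      have h := e1_mul_mem n _ he1 (2 ^ kprime n 1) Nat.one_le_two_pow 1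
      rw [mul_one] at h
      exact h
    · by_cases h1 : i.val = 1
      · have hi : i = z1 n hn := Fin.ext h1
        subst hi
        have hkp : kprime n ((z1 n hn).val + 1) = Nat.log 2 n := kprime_two n
        rw [hkp, evar_succ, e2pow_eq n hn (Nat.log 2 n) hk2]
        refine Ideal.sub_mem _ (Ideal.sub_mem _ (hpres (hrel_mem n (z1 n hn))) ?_) ?_
        · have hK := klog_two_ge n hn
          have e : 2 ^ klog n 2 = 2 ^ Nat.log 2 n * 2 := by rw [hk2, pow_succ]
          obtain ⟨r, hr⟩ := hodd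
          exact e1_mul_mem n _ he1 _ (by omega) _
        · refine Ideal.sum_mem _ fun r hr => ?_
          rw [Finset.mem_range] at hr
          have hlt : 2 ^ (r + 1) < 2 ^ (Nat.log 2 n + 1) :=
            Nat.pow_lt_pow_right (by norm_num) (by omega)
          exact e1_mul_mem n _ he1 _ (by omega) _
      · have hnum := odd_numerics n (i.val + 1) hn hodd (by omega) i.isLt
        rw [hnum.2, evar_succ, eipow_eq n i h0 h1]
        refine Ideal.sub_mem _ (Ideal.sub_mem _ (hpres (hrel_mem n i)) ?_) ?_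
        · exact e1_mul_mem n _ he1 _ (by have := hnum.1; omega) _
        · have hpos : 0 < (2 * (i.val + 1) - 4) * 2 ^ klog n (i.val + 1) :=
            Nat.mul_pos (by omega) (Nat.two_pow_pos _)
          exact e1_mul_mem n _ he1 _ hpos _

lemma le_odd (n : ℕ) (hn : 2 ≤ n) (hodd : Odd n) : Eo n ≤ oddIdeal n := by
  have he1 : (X (some (z0 n)) : FreeE n) ∈ oddIdeal n := by
    have h : evar n 1 ∈ oddIdeal n := Ideal.subset_span (Or.inl (Or.inl rfl))
    rw [evar_one] at h
    exact h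
  have hgen : ∀ i : Fin (numVars n),
      evar n (i.val + 1) ^ 2 ^ kprime n (i.val + 1) ∈ oddIdeal n :=
    fun i => Ideal.subset_span (Or.inr ⟨i, rfl⟩)
  have hk2 := klog_two_odd n hn hodd
  refine sup_le ?_ ?_
  · rw [Ideal.span_singleton_le_iff_mem]
    exact he1
  · unfold presIdeal
    rw [Ideal.span_le]
    rintro g (hg | ⟨i, rfl⟩)
    · simp only [Set.mem_insert_iff, Set.mem_singleton_iff] at hg
      rcases hg with rfl | rfl | rfl
      · have h := e1_mul_mem n _ he1 n (by omega) 1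
        rw [mul_one] at h
        exact h
      · have h := e1_mul_mem n _ he1 1 le_rfl (xvar n)
        rw [pow_one] at h
        exact h
      · exact Ideal.subset_span (Or.inl (Or.inr rfl))
    · show hrel n (i.val + 1) ∈ oddIdeal n
      by_cases h0 : i.val = 0
      · rw [hrel_one_eq n i h0]
        exact Ideal.zero_mem _
      · by_cases h1 : i.val = 1
        · have hi : i = z1 n hn := Fin.ext h1
          subst hi
          have hg2 : evar n 2 ^ 2 ^ Nat.log 2 n ∈ oddIdeal n := by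
            have h := hgen (z1 n hn)
            have hkp : kprime n ((z1 n hn).val + 1) = Nat.log 2 n := kprime_two n
            rw [hkp] at h
            exact h
          have hh : hrel n ((z1 n hn).val + 1) = hrel n 2 := rfl
          rw [hh, hrel_two_eq, sPoly_two_eq n (Nat.log 2 n) hk2]
          refine Ideal.add_mem _ ?_ (Ideal.add_mem _ (Ideal.sum_mem _ fun r hr => ?_) hg2)
          · have hK := klog_two_ge n hn
            have e : 2 ^ klog n 2 = 2 ^ Nat.log 2 n * 2 := by rw [hk2, pow_succ]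
            obtain ⟨r, hr⟩ := hodd
            exact e1_mul_mem n _ he1 _ (by omega) _
          · rw [Finset.mem_range] at hr
            have hlt : 2 ^ (r + 1) < 2 ^ (Nat.log 2 n + 1) :=
              Nat.pow_lt_pow_right (by norm_num) (by omega)
            exact e1_mul_mem n _ he1 _ (by omega) _
        · have hnum := odd_numerics n (i.val + 1) hn hodd (by omega) i.isLt
          have hgi := hgen i
          rw [hnum.2] at hgi
          rw [hrel_ge3_eq n i h0 h1]
          refine Ideal.add_mem _ (Ideal.add_mem _ hgi ?_) ?_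
          · exact e1_mul_mem n _ he1 _ (by have := hnum.1; omega) _
          · have hpos : 0 < (2 * (i.val + 1) - 4) * 2 ^ klog n (i.val + 1) :=
              Nat.mul_pos (by omega) (Nat.two_pow_pos _)
            exact e1_mul_mem n _ he1 _ hpos _

theorem main17747 (n : ℕ) (hn : 2 ≤ n)
    (τ : QsChow.P n →ₐ[ZMod 2] QsChow.P n) (hτ1 : τ (QsChow.eps n 1) = QsChow.eps n 1)
    (hτ : ∀ j : ℕ, 2 ≤ j → j ≤ QsChow.numVars n →
      τ (QsChow.eps n j) = QsChow.eps n j + QsChow.eps n 1 ^ (2 * j - 3))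
    (hodd : Odd n) (q : QsChow.FreeE n) :
    (∃ w : QsChow.P n, τ w = w ∧ QsChow.phi n q = QsChow.eps n 1 * w) ↔
      q ∈ QsChow.oddIdeal n := by
  have hrange := main17741 n hn τ hτ1 hτ
  have hker := main17742 n hn
  have hE : Eo n = oddIdeal n := le_antisymm (le_odd n hn hodd) (odd_le n hn hodd)
  rw [← hE]
  constructor
  · rintro ⟨w, hw, hq⟩
    have hwr : w ∈ (phi n).range := by
      rw [hrange, AlgHom.mem_equalizer, AlgHom.id_apply]
      exact hw
    obtain ⟨q', rfl⟩ := (AlgHom.mem_range _).1 hwr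
    have hmem : q - X (some (z0 n)) * q' ∈ presIdeal n := by
      rw [← hker, RingHom.mem_ker, map_sub, map_mul, phi_e0, hq, sub_self]
    have hsplit : q = X (some (z0 n)) * q' + (q - X (some (z0 n)) * q') := by ring
    rw [hsplit]
    exact Ideal.add_mem _ (Ideal.mem_sup_left (Ideal.mul_mem_right _ _
      (Ideal.subset_span (Set.mem_singleton _)))) (Ideal.mem_sup_right hmem)
  · intro hq
    obtain ⟨y, hy, z, hz, rfl⟩ := Submodule.mem_sup.1 hq
    obtain ⟨c, rfl⟩ := Ideal.mem_span_singleton'.1 hy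
    refine ⟨phi n c, ?_, ?_⟩
    · have h : phi n c ∈ AlgHom.equalizer τ (AlgHom.id (ZMod 2) (P n)) := by
        rw [← hrange]
        exact (AlgHom.mem_range _).2 ⟨c, rfl⟩
      rw [AlgHom.mem_equalizer, AlgHom.id_apply] at h
      exact h
    · have hz' : phi n z = 0 := by
        have h : z ∈ RingHom.ker (phi n) := by
          rw [hker]
          exact hz
        exact h
      rw [map_add, map_mul, phi_e0, hz', add_zero, mul_comm]

end Groth.Agent.Helper25.QsOdd
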