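import Mathlib
import Groth.Prelude.Def_W4c4chowquasisplitPn
import Groth.Prelude.Def_W4c4chowquasisplitPn2
import Groth.Agent.Lib.Helper25.QsOdd
set_option autoImplicit false
open MvPolynomial

/-! Presentation of the fixed subalgebra via `QsChow.psi n` when `n` is a power of two. -/

namespace Groth.Agent.Helper25.QsPow
open QsChow Groth.Agent.Helper25.QsTau Groth.Agent.Helper25.QsFix Groth.Agent.Helper25.QsKer
  Groth.Agent.Helper25.QsOdd

/-! ### basics on `psi`, `evarE` -/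

lemma evarE_succ (n : ℕ) (i : Fin (numVars n)) : evarE n (i.val + 1) = X i := by
  unfold evarE
  rw [dif_pos ⟨Nat.succ_pos _, i.isLt⟩]
  rfl

lemma evarE_one (n : ℕ) : evarE n 1 = X (z0 n) := evarE_succ n (z0 n)

lemma evarE_two (n : ℕ) (hn : 2 ≤ n) : evarE n 2 = X (z1 n hn) := evarE_succ n (z1 n hn)

lemma psi_eq (n : ℕ) (f : FreeP n) : psi n f = phi n (iotaE n f) := by
  have key : psi n = (phi n).comp (iotaE n) := by
    apply MvPolynomial.algHom_ext
    intro i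
    rw [AlgHom.comp_apply, iotaE_X]
    unfold psi phi
    rw [aeval_X, aeval_X]
  exact AlgHom.congr_fun key f

/-- the sums `S_j` in the variables of `FreeP` -/
noncomputable def sE (n : ℕ) (j : ℕ) : FreeP n :=
  ∑ t ∈ Finset.range (klog n j), evarE n 1 ^ (2 ^ klog n j - 2 ^ (t + 1)) * evarE n 2 ^ 2 ^ t

noncomputable def rhoGen (n : ℕ) : Option (Fin (numVars n)) → FreeP n
  | none => sE n 2
  | some i => X i

/-- the substitution `x ↦ S₂` -/
noncomputable def rho (n : ℕ) : FreeE n →ₐ[ZMod 2] FreeP n := MvPolynomial.aeval (rhoGen n)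

lemma rho_none (n : ℕ) : rho n (X none) = sE n 2 := by
  unfold rho
  rw [aeval_X]
  rfl

lemma rho_x (n : ℕ) : rho n (xvar n) = sE n 2 := rho_none n

lemma rho_some (n : ℕ) (i : Fin (numVars n)) : rho n (X (some i)) = X i := by
  unfold rho
  rw [aeval_X]
  rfl

lemma rho_iota (n : ℕ) (f : FreeP n) : rho n (iotaE n f) = f := by
  have key : (rho n).comp (iotaE n) = AlgHom.id (ZMod 2) (FreeP n) := by
    apply MvPolynomial.algHom_ext
    intro i
    rw [AlgHom.comp_apply, iotaE_X, rho_some, AlgHom.id_apply]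
  exact AlgHom.congr_fun key f

lemma iota_sE (n : ℕ) (hn : 2 ≤ n) (j : ℕ) : iotaE n (sE n j) = sPoly n j := by
  unfold sE sPoly
  rw [map_sum]
  refine Finset.sum_congr rfl fun t _ => ?_
  rw [map_mul, map_pow, map_pow, evarE_one, evarE_two n hn, iotaE_X, iotaE_X, evar_one,
    evar_two n hn]

lemma rho_sPoly (n : ℕ) (hn : 2 ≤ n) (j : ℕ) : rho n (sPoly n j) = sE n j := by
  unfold sE sPoly
  rw [map_sum]
  refine Finset.sum_congr rfl fun t _ => ?_
  rw [map_mul, map_pow, map_pow, evarE_one, evarE_two n hn, evar_one, evar_two n hn, rho_some,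
    rho_some]

/-! ### numerics for `n = 2^b` -/

lemma klog_two_pow (n b : ℕ) (hnb : n = 2 ^ b) : klog n 2 = b := by
  unfold klog
  have hd : (2 * n - 1) / (2 * 2 - 3) = 2 * n - 1 := by
    have : 2 * 2 - 3 = 1 := rfl
    rw [this, Nat.div_one]
  have hK : 1 ≤ 2 ^ b := Nat.one_le_two_pow
  rw [hd, Nat.log_eq_iff (Or.inr ⟨by norm_num, by omega⟩)]
  have e : 2 ^ (b + 1) = 2 ^ b * 2 := pow_succ 2 b
  constructor <;> omega

lemma sub_zero_of_pow (n b : ℕ) (hnb : n = 2 ^ b) : 2 ^ klog n 2 - n = 0 := by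
  rw [klog_two_pow n b hnb, ← hnb]
  exact Nat.sub_self n

lemma kprime_one_pow (n b : ℕ) (hnb : n = 2 ^ b) : kprime n 1 = b := by
  unfold kprime
  rw [if_pos rfl]
  unfold twoExp
  rw [hnb, padicValNat.prime_pow]

lemma kprime_two_pow (n b : ℕ) (hnb : n = 2 ^ b) : kprime n 2 = b := by
  rw [kprime_two, hnb, Nat.log_pow (by norm_num)]

lemma pow_numerics (n b j : ℕ) (hn : 2 ≤ n) (hnb : n = 2 ^ b) (hj : 3 ≤ j)
    (hjs : j ≤ numVars n) :
    n < (2 * j - 3) * 2 ^ klog n j ∧ n ≤ (2 * j - 4) * 2 ^ klog n j ∧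
      kprime n j = klog n j := by
  have hb := klog_bounds n j hj
  have hle : 2 * j - 3 ≤ 2 * n - 1 := by
    unfold numVars at hjs
    omega
  have hA : n < (2 * j - 3) * 2 ^ klog n j := by
    refine lt_of_le_of_ne hb ?_
    intro h
    have hdvd : (2 * j - 3) ∣ 2 ^ b := ⟨2 ^ klog n j, by rw [← hnb]; exact h⟩
    obtain ⟨m, -, hm⟩ := (Nat.dvd_prime_pow Nat.prime_two).1 hdvd
    rcases Nat.eq_zero_or_pos m with h0 | hpos
    · rw [h0, pow_zero] at hm
      omega
    · obtain ⟨m', rfl⟩ : ∃ m', m = m' + 1 := ⟨m - 1, by omega⟩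
      rw [pow_succ] at hm
      omega
  refine ⟨hA, ?_, kprime_eq_klog n j hn hj hle hA⟩
  obtain ⟨k, hk⟩ : ∃ k, k = klog n j := ⟨_, rfl⟩
  rw [← hk] at hA ⊢
  rcases le_or_gt k b with hkb | hkb
  · have h2 : 2 ^ b = 2 ^ (b - k) * 2 ^ k := by
      rw [← pow_add]
      congr 1
      omega
    have hA' : 2 ^ (b - k) * 2 ^ k < (2 * j - 3) * 2 ^ k := by
      rw [← h2, ← hnb]
      exact hA
    have h3 : 2 ^ (b - k) < 2 * j - 3 := Nat.lt_of_mul_lt_mul_right hA'
    calc n = 2 ^ (b - k) * 2 ^ k := by rw [hnb, h2]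
      _ ≤ (2 * j - 4) * 2 ^ k := Nat.mul_le_mul_right _ (by omega)
  · have h2 : 2 ^ b ≤ 2 ^ k := Nat.pow_le_pow_right (by norm_num) (le_of_lt hkb)
    calc n = 2 ^ b := hnb
      _ ≤ 2 ^ k := h2
      _ = 1 * 2 ^ k := (one_mul _).symm
      _ ≤ (2 * j - 4) * 2 ^ k := Nat.mul_le_mul_right _ (by omega)

/-! ### generators of `powIdeal` -/

lemma gen0_mem (n b : ℕ) (hnb : n = 2 ^ b) : X (z0 n) * sE n 2 ∈ powIdeal n := by
  have h : evarE n 1 * ∑ t ∈ Finset.range (kprime n 2),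
      evarE n 1 ^ (2 ^ kprime n 2 - 2 ^ (t + 1)) * evarE n 2 ^ 2 ^ t ∈ powIdeal n :=
    Ideal.subset_span (Or.inl rfl)
  have hk : kprime n 2 = klog n 2 := by
    rw [kprime_two_pow n b hnb, klog_two_pow n b hnb]
  rw [hk, evarE_one] at h
  exact h

lemma gen_z0 (n b : ℕ) (hnb : n = 2 ^ b) : (X (z0 n) : FreeP n) ^ n ∈ powIdeal n := by
  have h : evarE n ((z0 n).val + 1) ^ 2 ^ kprime n ((z0 n).val + 1) ∈ powIdeal n :=
    Ideal.subset_span (Or.inr ⟨z0 n, rfl⟩)
  have hk : kprime n ((z0 n).val + 1) = b := kprime_one_pow n b hnb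
  rw [hk, evarE_succ, ← hnb] at h
  exact h

lemma gen_z1 (n b : ℕ) (hn : 2 ≤ n) (hnb : n = 2 ^ b) :
    (X (z1 n hn) : FreeP n) ^ n ∈ powIdeal n := by
  have h : evarE n ((z1 n hn).val + 1) ^ 2 ^ kprime n ((z1 n hn).val + 1) ∈ powIdeal n :=
    Ideal.subset_span (Or.inr ⟨z1 n hn, rfl⟩)
  have hk : kprime n ((z1 n hn).val + 1) = b := kprime_two_pow n b hnb
  rw [hk, evarE_succ, ← hnb] at h
  exact h

lemma gen_i (n b : ℕ) (hn : 2 ≤ n) (hnb : n = 2 ^ b) (i : Fin (numVars n))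
    (h0 : ¬ i.val = 0) (h1 : ¬ i.val = 1) :
    (X i : FreeP n) ^ 2 ^ klog n (i.val + 1) ∈ powIdeal n := by
  have h : evarE n (i.val + 1) ^ 2 ^ kprime n (i.val + 1) ∈ powIdeal n :=
    Ideal.subset_span (Or.inr ⟨i, rfl⟩)
  have hnum := pow_numerics n b (i.val + 1) hn hnb (by omega) i.isLt
  rw [hnum.2.2, evarE_succ] at h
  exact h

lemma sE_two_eq (n : ℕ) (hn : 2 ≤ n) (b' : ℕ) (hk : klog n 2 = b' + 1) :
    sE n 2 = ∑ r ∈ Finset.range b',
      X (z0 n) ^ (2 ^ (b' + 1) - 2 ^ (r + 1)) * X (z1 n hn) ^ 2 ^ r + X (z1 n hn) ^ 2 ^ b' := by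
  unfold sE
  rw [hk, Finset.sum_range_succ, Nat.sub_self, pow_zero, one_mul, evarE_one, evarE_two n hn]

lemma sE_two_sq_mem (n b : ℕ) (hn : 2 ≤ n) (hb : 1 ≤ b) (hnb : n = 2 ^ b) :
    (sE n 2) ^ 2 ∈ powIdeal n := by
  obtain ⟨b', rfl⟩ : ∃ b', b = b' + 1 := ⟨b - 1, by omega⟩
  have hk : klog n 2 = b' + 1 := klog_two_pow n (b' + 1) hnb
  rw [sE_two_eq n hn b' hk, CharTwo.add_sq, CharTwo.sum_sq]
  refine Ideal.add_mem _ (Ideal.sum_mem _ fun r hr => ?_) ?_
  · rw [Finset.mem_range] at hr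
    have hle : 2 ^ (r + 1 + 1) ≤ 2 ^ (b' + 1) := Nat.pow_le_pow_right (by norm_num) (by omega)
    have e2 : 2 ^ (r + 1 + 1) = 2 ^ (r + 1) * 2 := pow_succ 2 (r + 1)
    have hexp : (2 ^ (b' + 1) - 2 ^ (r + 1)) * 2 =
        n + ((2 ^ (b' + 1) - 2 ^ (r + 1)) * 2 - n) := by omega
    rw [mul_pow, ← pow_mul, hexp, pow_add, mul_assoc]
    exact Ideal.mul_mem_right _ _ (gen_z0 n (b' + 1) hnb)
  · have h := gen_z1 n (b' + 1) hn hnb
    have e : (X (z1 n hn) ^ 2 ^ b') ^ 2 = (X (z1 n hn) : FreeP n) ^ n := by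
      rw [← pow_mul, ← pow_succ, ← hnb]
    rw [e]
    exact h

/-! ### `rho` maps `presIdeal` into `powIdeal` -/

lemma map_rho_le (n b : ℕ) (hn : 2 ≤ n) (hb : 1 ≤ b) (hnb : n = 2 ^ b) :
    Ideal.map (rho n) (presIdeal n) ≤ powIdeal n := by
  have hz := sub_zero_of_pow n b hnb
  unfold presIdeal
  rw [Ideal.map_span, Ideal.span_le]
  rintro _ ⟨g, hg, rfl⟩
  rcases hg with hg | ⟨i, rfl⟩
  · simp only [Set.mem_insert_iff, Set.mem_singleton_iff] at hg
    rcases hg with rfl | rfl | rfl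
    · show rho n (evar n 1 ^ n) ∈ powIdeal n
      rw [map_pow, evar_one, rho_some]
      exact gen_z0 n b hnb
    · show rho n (evar n 1 * xvar n) ∈ powIdeal n
      rw [map_mul, evar_one, rho_some, rho_x]
      exact gen0_mem n b hnb
    · show rho n (xvar n ^ 2) ∈ powIdeal n
      rw [map_pow, rho_x]
      exact sE_two_sq_mem n b hn hb hnb
  · show rho n (hrel n (i.val + 1)) ∈ powIdeal n
    by_cases h0 : i.val = 0
    · rw [hrel_one_eq n i h0, map_zero]
      exact Ideal.zero_mem _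
    · by_cases h1 : i.val = 1
      · have hi : i = z1 n hn := Fin.ext h1
        subst hi
        have hh : hrel n ((z1 n hn).val + 1) = hrel n 2 := rfl
        rw [hh, hrel_two_eq, hz, pow_zero, one_mul, map_add, rho_x, rho_sPoly n hn 2,
          CharTwo.add_self_eq_zero]
        exact Ideal.zero_mem _
      · have hnum := pow_numerics n b (i.val + 1) hn hnb (by omega) i.isLt
        rw [hrel_ge3_eq n i h0 h1, map_add, map_add, map_mul, map_mul, map_pow, map_pow,
          map_pow, evar_succ, evar_one, rho_some, rho_some, rho_x, rho_sPoly n hn (i.val + 1)]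
        refine Ideal.add_mem _ (Ideal.add_mem _ (gen_i n b hn hnb i h0 h1) ?_) ?_
        · obtain ⟨d, hd⟩ : ∃ d,
              (2 * (i.val + 1) - 3) * 2 ^ klog n (i.val + 1) - n = d + 1 :=
            ⟨(2 * (i.val + 1) - 3) * 2 ^ klog n (i.val + 1) - n - 1, by
              have := hnum.1
              omega⟩
          rw [hd, pow_succ, mul_assoc]
          exact Ideal.mul_mem_left _ _ (gen0_mem n b hnb)
        · obtain ⟨d, hd⟩ : ∃ d, (2 * (i.val + 1) - 4) * 2 ^ klog n (i.val + 1) = n + d :=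
            ⟨(2 * (i.val + 1) - 4) * 2 ^ klog n (i.val + 1) - n, by
              have := hnum.2.1
              omega⟩
          rw [hd, pow_add, mul_assoc]
          exact Ideal.mul_mem_right _ _ (gen_z0 n b hnb)

/-! ### `powIdeal` pulls back into `presIdeal` -/

lemma e1n_mem (n : ℕ) : (X (some (z0 n)) : FreeE n) ^ n ∈ presIdeal n := by
  have h : evar n 1 ^ n ∈ presIdeal n := Ideal.subset_span (Or.inl (Or.inl rfl))
  rw [evar_one] at h
  exact h

lemma e1x_mem (n : ℕ) : (X (some (z0 n)) : FreeE n) * xvar n ∈ presIdeal n := by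
  have h : evar n 1 * xvar n ∈ presIdeal n := Ideal.subset_span (Or.inl (Or.inr (Or.inl rfl)))
  rw [evar_one] at h
  exact h

lemma xx_mem (n : ℕ) : xvar n ^ 2 ∈ presIdeal n :=
  Ideal.subset_span (Or.inl (Or.inr (Or.inr rfl)))

lemma e2pow_mem_pres (n b : ℕ) (hn : 2 ≤ n) (hb : 1 ≤ b) (hnb : n = 2 ^ b) :
    (X (some (z1 n hn)) : FreeE n) ^ n ∈ presIdeal n := by
  obtain ⟨b', rfl⟩ : ∃ b', b = b' + 1 := ⟨b - 1, by omega⟩
  have hk : klog n 2 = b' + 1 := klog_two_pow n (b' + 1) hnb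
  have hz := sub_zero_of_pow n (b' + 1) hnb
  have hh2 : hrel n 2 ∈ presIdeal n := hrel_mem n (z1 n hn)
  have hsq : sPoly n 2 ^ 2 ∈ presIdeal n := by
    have h : sPoly n 2 ^ 2 = hrel n 2 * (hrel n 2 - 2 * xvar n) + xvar n ^ 2 := by
      rw [hrel_two_eq, hz, pow_zero, one_mul]
      ring
    rw [h]
    exact Ideal.add_mem _ (Ideal.mul_mem_right _ _ hh2) (xx_mem n)
  rw [sPoly_two_eq n b' hk, CharTwo.add_sq, CharTwo.sum_sq] at hsq
  have hsum : ∑ r ∈ Finset.range b',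
      (evar n 1 ^ (2 ^ (b' + 1) - 2 ^ (r + 1)) * evar n 2 ^ 2 ^ r) ^ 2 ∈ presIdeal n := by
    refine Ideal.sum_mem _ fun r hr => ?_
    rw [Finset.mem_range] at hr
    have hle : 2 ^ (r + 1 + 1) ≤ 2 ^ (b' + 1) := Nat.pow_le_pow_right (by norm_num) (by omega)
    have e2 : 2 ^ (r + 1 + 1) = 2 ^ (r + 1) * 2 := pow_succ 2 (r + 1)
    have hexp : (2 ^ (b' + 1) - 2 ^ (r + 1)) * 2 =
        n + ((2 ^ (b' + 1) - 2 ^ (r + 1)) * 2 - n) := by omega
    rw [mul_pow, ← pow_mul, hexp, pow_add, evar_one, mul_assoc]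
    exact Ideal.mul_mem_right _ _ (e1n_mem n)
  have h3 := (Ideal.add_mem_iff_right _ hsum).1 hsq
  have e : (evar n 2 ^ 2 ^ b') ^ 2 = (X (some (z1 n hn)) : FreeE n) ^ n := by
    rw [← pow_mul, ← pow_succ, ← hnb, evar_two n hn]
  rw [e] at h3
  exact h3

lemma pow_le_comap (n b : ℕ) (hn : 2 ≤ n) (hb : 1 ≤ b) (hnb : n = 2 ^ b) :
    powIdeal n ≤ Ideal.comap (iotaE n) (presIdeal n) := by
  have hz := sub_zero_of_pow n b hnb
  have hh2 : hrel n 2 ∈ presIdeal n := hrel_mem n (z1 n hn)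
  have hS : sPoly n 2 = hrel n 2 - xvar n := by
    rw [hrel_two_eq, hz, pow_zero, one_mul]
    ring
  unfold powIdeal
  rw [Ideal.span_le]
  rintro g (hg | ⟨i, rfl⟩)
  · rw [Set.mem_singleton_iff] at hg
    subst hg
    show iotaE n (evarE n 1 * ∑ t ∈ Finset.range (kprime n 2),
      evarE n 1 ^ (2 ^ kprime n 2 - 2 ^ (t + 1)) * evarE n 2 ^ 2 ^ t) ∈ presIdeal n
    have hk : kprime n 2 = klog n 2 := by
      rw [kprime_two_pow n b hnb, klog_two_pow n b hnb]
    rw [hk]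
    have hs : (∑ t ∈ Finset.range (klog n 2),
        evarE n 1 ^ (2 ^ klog n 2 - 2 ^ (t + 1)) * evarE n 2 ^ 2 ^ t) = sE n 2 := rfl
    rw [hs, map_mul, iota_sE n hn 2, evarE_one, iotaE_X, hS, mul_sub]
    exact Ideal.sub_mem _ (Ideal.mul_mem_left _ _ hh2) (e1x_mem n)
  · show iotaE n (evarE n (i.val + 1) ^ 2 ^ kprime n (i.val + 1)) ∈ presIdeal n
    rw [map_pow, evarE_succ, iotaE_X]
    by_cases h0 : i.val = 0
    · have hi : i = z0 n := Fin.ext h0
      subst hi
      have hk : kprime n ((z0 n).val + 1) = b := kprime_one_pow n b hnb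
      rw [hk, ← hnb]
      exact e1n_mem n
    · by_cases h1 : i.val = 1
      · have hi : i = z1 n hn := Fin.ext h1
        subst hi
        have hk : kprime n ((z1 n hn).val + 1) = b := kprime_two_pow n b hnb
        rw [hk, ← hnb]
        exact e2pow_mem_pres n b hn hb hnb
      · have hnum := pow_numerics n b (i.val + 1) hn hnb (by omega) i.isLt
        rw [hnum.2.2, eipow_eq n i h0 h1]
        refine Ideal.sub_mem _ (Ideal.sub_mem _ (hrel_mem n i) ?_) ?_
        · obtain ⟨d, hd⟩ : ∃ d,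
              (2 * (i.val + 1) - 3) * 2 ^ klog n (i.val + 1) - n = d + 1 :=
            ⟨(2 * (i.val + 1) - 3) * 2 ^ klog n (i.val + 1) - n - 1, by
              have := hnum.1
              omega⟩
          rw [hd, pow_succ, evar_one, mul_assoc]
          exact Ideal.mul_mem_left _ _ (e1x_mem n)
        · obtain ⟨d, hd⟩ : ∃ d, (2 * (i.val + 1) - 4) * 2 ^ klog n (i.val + 1) = n + d :=
            ⟨(2 * (i.val + 1) - 4) * 2 ^ klog n (i.val + 1) - n, by
              have := hnum.2.1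
              omega⟩
          rw [hd, pow_add, evar_one, mul_assoc]
          exact Ideal.mul_mem_right _ _ (e1n_mem n)

/-! ### the range -/

lemma phi_iota_rho (n b : ℕ) (hn : 2 ≤ n) (hnb : n = 2 ^ b) (q : FreeE n) :
    phi n (iotaE n (rho n q)) = phi n q := by
  have hz := sub_zero_of_pow n b hnb
  have key : (phi n).comp ((iotaE n).comp (rho n)) = phi n := by
    apply MvPolynomial.algHom_ext
    intro o
    rw [AlgHom.comp_apply, AlgHom.comp_apply]
    cases o with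
    | none =>
      rw [rho_none, iota_sE n hn 2]
      have h0 : phi n (hrel n 2) = 0 := by
        have h : hrel n 2 ∈ RingHom.ker (phi n) := by
          rw [main17742 n hn]
          exact hrel_mem n (z1 n hn)
        exact h
      rw [hrel_two_eq, hz, pow_zero, one_mul, map_add] at h0
      show phi n (sPoly n 2) = phi n (xvar n)
      linear_combination h0 - add_self_P n (phi n (xvar n))
    | some i => rw [rho_some, iotaE_X]
  exact AlgHom.congr_fun key q

theorem main17749 (n : ℕ) (hn : 2 ≤ n)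
    (τ : QsChow.P n →ₐ[ZMod 2] QsChow.P n) (hτ1 : τ (QsChow.eps n 1) = QsChow.eps n 1)
    (hτ : ∀ j : ℕ, 2 ≤ j → j ≤ QsChow.numVars n →
      τ (QsChow.eps n j) = QsChow.eps n j + QsChow.eps n 1 ^ (2 * j - 3))
    (b : ℕ) (hb : 1 ≤ b) (hnb : n = 2 ^ b) :
    (QsChow.psi n).range = AlgHom.equalizer τ (AlgHom.id (ZMod 2) (QsChow.P n)) ∧
      RingHom.ker (QsChow.psi n) = QsChow.powIdeal n := by
  have hrange := main17741 n hn τ hτ1 hτ
  have hker := main17742 n hn
  constructor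
  · rw [← hrange]
    apply le_antisymm
    · intro y hy
      obtain ⟨f, rfl⟩ := (AlgHom.mem_range _).1 hy
      exact (AlgHom.mem_range _).2 ⟨iotaE n f, (psi_eq n f).symm⟩
    · intro y hy
      obtain ⟨q, rfl⟩ := (AlgHom.mem_range _).1 hy
      refine (AlgHom.mem_range _).2 ⟨rho n q, ?_⟩
      rw [psi_eq]
      exact phi_iota_rho n b hn hnb q
  · apply le_antisymm
    · intro f hf
      have h1 : iotaE n f ∈ presIdeal n := by
        rw [← hker, RingHom.mem_ker, ← psi_eq]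
        exact hf
      have h2 := Ideal.mem_map_of_mem (rho n) h1
      rw [rho_iota] at h2
      exact map_rho_le n b hn hb hnb h2
    · intro f hf
      rw [RingHom.mem_ker, psi_eq]
      have h1 : iotaE n f ∈ presIdeal n := Ideal.mem_comap.1 (pow_le_comap n b hn hb hnb hf)
      have h3 : iotaE n f ∈ RingHom.ker (phi n) := by
        rw [hker]
        exact h1
      exact h3

end Groth.Agent.Helper25.QsPow
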