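import Mathlib
import Groth.Prelude.Def_W4c4chowquasisplitPn
import Groth.Prelude.Def_W4c4chowquasisplitPn2
import Groth.Agent.Lib.Helper25.QsPow
set_option autoImplicit false
open MvPolynomial

/-! Presentation of the fixed subalgebra modulo `ε₁^(2^a)` via `QsChow.psi n` when `n` is even
and not a power of two. -/

namespace Groth.Agent.Helper25.QsEven
open QsChow Groth.Agent.Helper25.QsTau Groth.Agent.Helper25.QsFix Groth.Agent.Helper25.QsKer
  Groth.Agent.Helper25.QsOdd Groth.Agent.Helper25.QsPow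

/-- `n = 2^a (2r+1)` with `a, r ≥ 1` -/
structure EvenData (n a r : ℕ) : Prop where
  hn : 2 ≤ n
  ha : 1 ≤ a
  hr : 1 ≤ r
  hnm : n = 2 ^ a * (2 * r + 1)
  htwo : twoExp n = a

variable {n a r : ℕ}

/-! ### numerics -/

lemma n_ge (D : EvenData n a r) : 3 * 2 ^ a ≤ n ∧ 2 * (2 * r + 1) ≤ n := by
  have h1 : 2 ^ a * 3 ≤ 2 ^ a * (2 * r + 1) :=
    Nat.mul_le_mul_left _ (by have := D.hr; omega)
  have h2 : 2 ≤ 2 ^ a := by
    calc 2 = 2 ^ 1 := (pow_one 2).symm
      _ ≤ 2 ^ a := Nat.pow_le_pow_right (by norm_num) D.ha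
  have h3 : 2 * (2 * r + 1) ≤ 2 ^ a * (2 * r + 1) := Nat.mul_le_mul_right _ h2
  have := D.hnm
  omega

lemma lIdx_eq (D : EvenData n a r) : lIdx n = r + 2 := by
  unfold lIdx
  rw [D.htwo]
  have h : n / 2 ^ a = 2 * r + 1 :=
    Nat.div_eq_of_eq_mul_right (Nat.two_pow_pos a) D.hnm
  rw [h]
  omega

lemma klog_l (D : EvenData n a r) : klog n (r + 2) = a := by
  unfold klog
  have hc : 2 * (r + 2) - 3 = 2 * r + 1 := by omega
  rw [hc]
  have hpos : 0 < 2 * r + 1 := by omega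
  have hge := n_ge D
  have hnm := D.hnm
  have hne : (2 * n - 1) / (2 * r + 1) ≠ 0 := (Nat.div_pos (by omega) hpos).ne'
  rw [Nat.log_eq_iff (Or.inr ⟨by norm_num, hne⟩)]
  have e : 2 ^ (a + 1) * (2 * r + 1) = 2 * (2 ^ a * (2 * r + 1)) := by
    rw [pow_succ]
    ring
  constructor
  · rw [Nat.le_div_iff_mul_le hpos]
    omega
  · rw [Nat.div_lt_iff_lt_mul hpos]
    omega

lemma kprime_l (D : EvenData n a r) : kprime n (r + 2) = a + 1 := by
  rw [kprime_ge3 n (r + 2) (by have := D.hr; omega)]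
  have hc : 2 * (r + 2) - 3 = 2 * r + 1 := by omega
  rw [hc]
  have hpos : 0 < 2 * r + 1 := by omega
  have hge := n_ge D
  have hnm := D.hnm
  rw [Nat.log_eq_iff (Or.inl (by omega))]
  have e1 : 2 ^ (a + 1) * (2 * r + 1) = 2 * (2 ^ a * (2 * r + 1)) := by
    rw [pow_succ]
    ring
  have e2 : 2 ^ (a + 1 + 1) * (2 * r + 1) = 4 * (2 ^ a * (2 * r + 1)) := by
    rw [pow_succ, pow_succ]
    ring
  constructor
  · rw [Nat.le_div_iff_mul_le hpos]
    omega
  · rw [Nat.div_lt_iff_lt_mul hpos]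
    omega

lemma log_lt (D : EvenData n a r) : 2 ^ Nat.log 2 n < n := by
  have h1 : 2 ^ Nat.log 2 n ≤ n := Nat.pow_log_le_self 2 (by have := D.hn; omega)
  refine lt_of_le_of_ne h1 ?_
  intro h
  have hdvd : (2 * r + 1) ∣ 2 ^ Nat.log 2 n :=
    ⟨2 ^ a, by rw [h, mul_comm]; exact D.hnm⟩
  obtain ⟨i, -, hi⟩ := (Nat.dvd_prime_pow Nat.prime_two).1 hdvd
  rcases Nat.eq_zero_or_pos i with h0 | hpos
  · rw [h0, pow_zero] at hi
    have := D.hr
    omega
  · obtain ⟨i', rfl⟩ : ∃ i', i = i' + 1 := ⟨i - 1, by omega⟩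
    rw [pow_succ] at hi
    omega

lemma klog_two_even (D : EvenData n a r) : klog n 2 = Nat.log 2 n + 1 := by
  have hlt := log_lt D
  have h2 : n < 2 ^ (Nat.log 2 n).succ := Nat.lt_pow_succ_log_self (by norm_num) n
  unfold klog
  have hd : (2 * n - 1) / (2 * 2 - 3) = 2 * n - 1 := by
    have : 2 * 2 - 3 = 1 := rfl
    rw [this, Nat.div_one]
  rw [hd, Nat.log_eq_iff (Or.inl (by omega))]
  have e2 : 2 ^ (Nat.log 2 n + 1) = 2 ^ Nat.log 2 n * 2 := pow_succ 2 _
  have e3 : 2 ^ (Nat.log 2 n + 1 + 1) = 2 ^ (Nat.log 2 n + 1) * 2 := pow_succ 2 _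
  have e4 : 2 ^ (Nat.log 2 n).succ = 2 ^ Nat.log 2 n * 2 := pow_succ 2 _
  constructor <;> omega

lemma pow_sub_ge (D : EvenData n a r) : n + 2 ^ a ≤ 2 ^ klog n 2 := by
  have hk := klog_two_even D
  have h2 : n < 2 ^ (Nat.log 2 n).succ := Nat.lt_pow_succ_log_self (by norm_num) n
  have hlt : n < 2 ^ klog n 2 := by
    rw [hk]
    exact h2
  have hge := n_ge D
  have hak : a < klog n 2 := by
    rw [← Nat.pow_lt_pow_iff_right (by norm_num : 1 < 2)]
    omega
  have e : 2 ^ klog n 2 = 2 ^ a * 2 ^ (klog n 2 - a) := by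
    rw [← pow_add]
    congr 1
    omega
  have h3 : 2 ^ a * (2 * r + 1) < 2 ^ a * 2 ^ (klog n 2 - a) := by
    rw [← e, ← D.hnm]
    exact hlt
  have h4 : 2 * r + 1 < 2 ^ (klog n 2 - a) := Nat.lt_of_mul_lt_mul_left h3
  have h5 : 2 ^ a * (2 * r + 1 + 1) ≤ 2 ^ a * 2 ^ (klog n 2 - a) := Nat.mul_le_mul_left _ h4
  have h6 : 2 ^ a * (2 * r + 1 + 1) = 2 ^ a * (2 * r + 1) + 2 ^ a := by ring
  have hnm := D.hnm
  omega

lemma log_ge (D : EvenData n a r) : 2 ^ a ≤ 2 ^ Nat.log 2 n := by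
  have hge := n_ge D
  exact Nat.pow_le_pow_right (by norm_num) (Nat.le_log_of_pow_le (by norm_num) (by omega))

lemma num_j (D : EvenData n a r) (j : ℕ) (hj : 3 ≤ j) (hjs : j ≤ numVars n)
    (hjl : j ≠ r + 2) :
    n < (2 * j - 3) * 2 ^ klog n j ∧ 2 ^ a ≤ (2 * j - 4) * 2 ^ klog n j ∧
      kprime n j = klog n j := by
  have hb := klog_bounds n j hj
  have hge := n_ge D
  have hle : 2 * j - 3 ≤ 2 * n - 1 := by
    unfold numVars at hjs
    omega
  obtain ⟨k, hk⟩ : ∃ k, k = klog n j := ⟨_, rfl⟩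
  have hA : n < (2 * j - 3) * 2 ^ klog n j := by
    rw [← hk] at hb ⊢
    refine lt_of_le_of_ne hb ?_
    intro h
    have hco1 : Nat.Coprime (2 * r + 1) (2 ^ k) :=
      ((Nat.prime_two.coprime_iff_not_dvd).2 (by omega : ¬ 2 ∣ 2 * r + 1)).symm.pow_right k
    have hco2 : Nat.Coprime (2 * j - 3) (2 ^ a) :=
      ((Nat.prime_two.coprime_iff_not_dvd).2 (by omega : ¬ 2 ∣ 2 * j - 3)).symm.pow_right a
    have heq : 2 ^ a * (2 * r + 1) = (2 * j - 3) * 2 ^ k := by
      rw [← D.hnm]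
      exact h
    have hd1 : (2 * r + 1) ∣ (2 * j - 3) :=
      hco1.dvd_of_dvd_mul_right ⟨2 ^ a, by rw [← heq, mul_comm]⟩
    have hd2 : (2 * j - 3) ∣ (2 * r + 1) :=
      hco2.dvd_of_dvd_mul_right ⟨2 ^ k, by rw [mul_comm (2 * r + 1), heq]⟩
    have := Nat.dvd_antisymm hd1 hd2
    omega
  refine ⟨hA, ?_, kprime_eq_klog n j D.hn hj hle hA⟩
  rw [← hk] at hA ⊢
  obtain ⟨c', hc'⟩ : ∃ c', 2 * j - 4 = c' := ⟨_, rfl⟩
  have hc3 : 2 * j - 3 = c' + 1 := by omega
  have hc2 : 2 ≤ c' := by omega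
  rw [hc3] at hA
  rw [hc']
  have h1 : (c' + 1) * 2 ^ k = c' * 2 ^ k + 2 ^ k := by ring
  have h2 : 2 * 2 ^ k ≤ c' * 2 ^ k := Nat.mul_le_mul_right _ hc2
  omega

/-! ### the element replacing `x` -/

/-- the index of `e_l` -/
def il (D : EvenData n a r) : Fin (numVars n) :=
  ⟨r + 1, by
    have := n_ge D
    unfold numVars
    omega⟩

lemma il_ne0 (D : EvenData n a r) : ¬ (il D).val = 0 := by
  show ¬ r + 1 = 0
  omega

lemma il_ne1 (D : EvenData n a r) : ¬ (il D).val = 1 := by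
  show ¬ r + 1 = 1
  have := D.hr
  omega

/-- the image of `x` -/
noncomputable def Xl (D : EvenData n a r) : FreeP n :=
  X (il D) ^ 2 ^ a + X (z0 n) ^ (2 * r * 2 ^ a) * sE n (r + 2)

lemma hl_eq (D : EvenData n a r) :
    hrel n (r + 2) = X (some (il D)) ^ 2 ^ a + xvar n +
      X (some (z0 n)) ^ (2 * r * 2 ^ a) * sPoly n (r + 2) := by
  have h := hrel_ge3_eq n (il D) (il_ne0 D) (il_ne1 D)
  have hv : (il D).val + 1 = r + 2 := rfl
  have hev : evar n (r + 2) = X (some (il D)) := evar_succ n (il D)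
  rw [hv, klog_l D] at h
  have e0 : 2 * (r + 2) - 3 = 2 * r + 1 := by omega
  have e1 : (2 * (r + 2) - 3) * 2 ^ a - n = 0 := by
    rw [e0, mul_comm (2 * r + 1) (2 ^ a), ← D.hnm]
    exact Nat.sub_self n
  have e2 : 2 * (r + 2) - 4 = 2 * r := by omega
  rw [e1, e2, pow_zero, one_mul, evar_one, hev] at h
  exact h

lemma iota_Xl (D : EvenData n a r) : iotaE n (Xl D) = hrel n (r + 2) - xvar n := by
  unfold Xl
  rw [map_add, map_mul, map_pow, map_pow, iotaE_X, iotaE_X, iota_sE n D.hn (r + 2), hl_eq D]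
  ring

noncomputable def rhoGenL (D : EvenData n a r) : Option (Fin (numVars n)) → FreeP n
  | none => Xl D
  | some i => X i

/-- the substitution `x ↦ Xl` -/
noncomputable def rhoL (D : EvenData n a r) : FreeE n →ₐ[ZMod 2] FreeP n :=
  MvPolynomial.aeval (rhoGenL D)

lemma rhoL_none (D : EvenData n a r) : rhoL D (X none) = Xl D := by
  unfold rhoL
  rw [aeval_X]
  rfl

lemma rhoL_x (D : EvenData n a r) : rhoL D (xvar n) = Xl D := rhoL_none D

lemma rhoL_some (D : EvenData n a r) (i : Fin (numVars n)) : rhoL D (X (some i)) = X i := by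
  unfold rhoL
  rw [aeval_X]
  rfl

lemma rhoL_iota (D : EvenData n a r) (f : FreeP n) : rhoL D (iotaE n f) = f := by
  have key : (rhoL D).comp (iotaE n) = AlgHom.id (ZMod 2) (FreeP n) := by
    apply MvPolynomial.algHom_ext
    intro i
    rw [AlgHom.comp_apply, iotaE_X, rhoL_some, AlgHom.id_apply]
  exact AlgHom.congr_fun key f

lemma rhoL_sPoly (D : EvenData n a r) (j : ℕ) : rhoL D (sPoly n j) = sE n j := by
  unfold sE sPoly
  rw [map_sum]
  refine Finset.sum_congr rfl fun t _ => ?_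
  rw [map_mul, map_pow, map_pow, evarE_one, evarE_two n D.hn, evar_one, evar_two n D.hn,
    rhoL_some, rhoL_some]

lemma phi_iota_rhoL (D : EvenData n a r) (q : FreeE n) :
    phi n (iotaE n (rhoL D q)) = phi n q := by
  have key : (phi n).comp ((iotaE n).comp (rhoL D)) = phi n := by
    apply MvPolynomial.algHom_ext
    intro o
    rw [AlgHom.comp_apply, AlgHom.comp_apply]
    cases o with
    | none =>
      rw [rhoL_none, iota_Xl D]
      have h0 : phi n (hrel n (r + 2)) = 0 := by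
        have h : hrel n (r + 2) ∈ RingHom.ker (phi n) := by
          rw [main17742 n D.hn]
          exact hrel_mem n (il D)
        exact h
      show phi n (hrel n (r + 2) - xvar n) = phi n (xvar n)
      rw [map_sub, h0]
      linear_combination (-1 : P n) * add_self_P n (phi n (xvar n))
    | some i => rw [rhoL_some, iotaE_X]
  exact AlgHom.congr_fun key q

/-! ### generators of `evenIdeal` -/

lemma even_z0 (D : EvenData n a r) : (X (z0 n) : FreeP n) ^ 2 ^ a ∈ evenIdeal n := by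
  have h : evarE n ((z0 n).val + 1) ^ 2 ^ kprime n ((z0 n).val + 1) ∈ evenIdeal n :=
    Ideal.subset_span (Or.inr ⟨z0 n, rfl⟩)
  have hk : kprime n ((z0 n).val + 1) = a := by
    show kprime n 1 = a
    unfold kprime
    rw [if_pos rfl]
    exact D.htwo
  rw [hk, evarE_succ] at h
  exact h

lemma even_g0 (D : EvenData n a r) : X (z0 n) * X (il D) ^ 2 ^ a ∈ evenIdeal n := by
  have h : evarE n 1 * evarE n (lIdx n) ^ 2 ^ (kprime n (lIdx n) - 1) ∈ evenIdeal n :=
    Ideal.subset_span (Or.inl rfl)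
  have hev : evarE n (r + 2) = X (il D) := evarE_succ n (il D)
  rw [lIdx_eq D, kprime_l D, Nat.add_sub_cancel, evarE_one, hev] at h
  exact h

lemma even_l (D : EvenData n a r) : (X (il D) : FreeP n) ^ 2 ^ (a + 1) ∈ evenIdeal n := by
  have h : evarE n ((il D).val + 1) ^ 2 ^ kprime n ((il D).val + 1) ∈ evenIdeal n :=
    Ideal.subset_span (Or.inr ⟨il D, rfl⟩)
  have hk : kprime n ((il D).val + 1) = a + 1 := kprime_l D
  rw [hk, evarE_succ] at h
  exact h

lemma even_z1 (D : EvenData n a r) :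
    (X (z1 n D.hn) : FreeP n) ^ 2 ^ Nat.log 2 n ∈ evenIdeal n := by
  have h : evarE n ((z1 n D.hn).val + 1) ^ 2 ^ kprime n ((z1 n D.hn).val + 1) ∈ evenIdeal n :=
    Ideal.subset_span (Or.inr ⟨z1 n D.hn, rfl⟩)
  have hk : kprime n ((z1 n D.hn).val + 1) = Nat.log 2 n := kprime_two n
  rw [hk, evarE_succ] at h
  exact h

lemma ne_l_of_ne (D : EvenData n a r) (i : Fin (numVars n)) (hil : i ≠ il D) :
    i.val + 1 ≠ r + 2 := by
  intro h'
  apply hil
  apply Fin.ext
  show i.val = r + 1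
  omega

lemma even_i (D : EvenData n a r) (i : Fin (numVars n)) (h0 : ¬ i.val = 0) (h1 : ¬ i.val = 1)
    (hil : i ≠ il D) : (X i : FreeP n) ^ 2 ^ klog n (i.val + 1) ∈ evenIdeal n := by
  have h : evarE n (i.val + 1) ^ 2 ^ kprime n (i.val + 1) ∈ evenIdeal n :=
    Ideal.subset_span (Or.inr ⟨i, rfl⟩)
  have hnum := num_j D (i.val + 1) (by omega) i.isLt (ne_l_of_ne D i hil)
  rw [hnum.2.2, evarE_succ] at h
  exact h

lemma z0pow_mul_mem (I : Ideal (FreeP n)) (hI : (X (z0 n) : FreeP n) ^ 2 ^ a ∈ I) (m : ℕ)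
    (hm : 2 ^ a ≤ m) (y : FreeP n) : X (z0 n) ^ m * y ∈ I := by
  obtain ⟨d, rfl⟩ : ∃ d, m = 2 ^ a + d := ⟨m - 2 ^ a, by omega⟩
  rw [pow_add, mul_assoc]
  exact Ideal.mul_mem_right _ _ hI

lemma two_r_ge (D : EvenData n a r) : 2 ^ a ≤ 2 * r * 2 ^ a :=
  Nat.le_mul_of_pos_left _ (by have := D.hr; omega)

lemma e1pow_x_mem (n : ℕ) (m : ℕ) (hm : 1 ≤ m) : evar n 1 ^ m * xvar n ∈ presIdeal n := by
  obtain ⟨d, rfl⟩ : ∃ d, m = d + 1 := ⟨m - 1, by omega⟩
  rw [pow_succ, evar_one, mul_assoc]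
  exact Ideal.mul_mem_left _ _ (e1x_mem n)

/-! ### `rhoL` maps `presIdeal` into `evenIdeal` -/

lemma sum_mem_of_z0pow (D : EvenData n a r) (I : Ideal (FreeP n))
    (hI : (X (z0 n) : FreeP n) ^ 2 ^ a ∈ I) :
    ∑ t ∈ Finset.range (Nat.log 2 n),
      X (z0 n) ^ (2 ^ (Nat.log 2 n + 1) - 2 ^ (t + 1)) * X (z1 n D.hn) ^ 2 ^ t ∈ I := by
  refine Ideal.sum_mem _ fun t ht => ?_
  rw [Finset.mem_range] at ht
  have hle : 2 ^ (t + 1) ≤ 2 ^ Nat.log 2 n := Nat.pow_le_pow_right (by norm_num) (by omega)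
  have e : 2 ^ (Nat.log 2 n + 1) = 2 ^ Nat.log 2 n * 2 := pow_succ 2 _
  have hge := log_ge D
  exact z0pow_mul_mem I hI _ (by omega) _

lemma map_rhoL_le (D : EvenData n a r) : Ideal.map (rhoL D) (presIdeal n) ≤ evenIdeal n := by
  have hE0 := even_z0 D
  have hge := n_ge D
  unfold presIdeal
  rw [Ideal.map_span, Ideal.span_le]
  rintro _ ⟨g, hg, rfl⟩
  rcases hg with hg | ⟨i, rfl⟩
  · simp only [Set.mem_insert_iff, Set.mem_singleton_iff] at hg
    rcases hg with rfl | rfl | rfl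
    · show rhoL D (evar n 1 ^ n) ∈ evenIdeal n
      rw [map_pow, evar_one, rhoL_some]
      have h := z0pow_mul_mem _ hE0 n (by omega) 1
      rw [mul_one] at h
      exact h
    · show rhoL D (evar n 1 * xvar n) ∈ evenIdeal n
      rw [map_mul, evar_one, rhoL_some, rhoL_x]
      have hs : X (z0 n) * Xl D = X (z0 n) * X (il D) ^ 2 ^ a +
          X (z0 n) ^ (1 + 2 * r * 2 ^ a) * sE n (r + 2) := by
        unfold Xl
        ring
      rw [hs]
      have h2 := two_r_ge D
      exact Ideal.add_mem _ (even_g0 D) (z0pow_mul_mem _ hE0 _ (by omega) _)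
    · show rhoL D (xvar n ^ 2) ∈ evenIdeal n
      rw [map_pow, rhoL_x]
      have hs : Xl D ^ 2 = X (il D) ^ 2 ^ (a + 1) +
          X (z0 n) ^ (2 * r * 2 ^ a * 2) * sE n (r + 2) ^ 2 := by
        unfold Xl
        rw [CharTwo.add_sq, mul_pow, ← pow_mul, ← pow_mul, ← pow_succ]
      rw [hs]
      have h2 := two_r_ge D
      exact Ideal.add_mem _ (even_l D) (z0pow_mul_mem _ hE0 _ (by omega) _)
  · show rhoL D (hrel n (i.val + 1)) ∈ evenIdeal n
    by_cases h0 : i.val = 0
    · rw [hrel_one_eq n i h0, map_zero]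
      exact Ideal.zero_mem _
    · by_cases h1 : i.val = 1
      · have hi : i = z1 n D.hn := Fin.ext h1
        subst hi
        have hh : hrel n ((z1 n D.hn).val + 1) = hrel n 2 := rfl
        rw [hh, hrel_two_eq, map_add, map_mul, map_pow, evar_one, rhoL_some, rhoL_x,
          rhoL_sPoly, sE_two_eq n D.hn (Nat.log 2 n) (klog_two_even D)]
        have hp := pow_sub_ge D
        refine Ideal.add_mem _ (z0pow_mul_mem _ hE0 _ (by omega) _)
          (Ideal.add_mem _ (sum_mem_of_z0pow D _ hE0) (even_z1 D))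
      · by_cases hil : i = il D
        · subst hil
          have hh : hrel n ((il D).val + 1) = hrel n (r + 2) := rfl
          rw [hh, hl_eq D, map_add, map_add, map_mul, map_pow, map_pow, rhoL_some, rhoL_some,
            rhoL_x, rhoL_sPoly]
          have hz : X (il D) ^ 2 ^ a + Xl D + X (z0 n) ^ (2 * r * 2 ^ a) * sE n (r + 2) = 0 := by
            unfold Xl
            linear_combination add_self_F n (X (il D) ^ 2 ^ a) +
              add_self_F n (X (z0 n) ^ (2 * r * 2 ^ a) * sE n (r + 2))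
          rw [hz]
          exact Ideal.zero_mem _
        · have hnum := num_j D (i.val + 1) (by omega) i.isLt (ne_l_of_ne D i hil)
          rw [hrel_ge3_eq n i h0 h1, map_add, map_add, map_mul, map_mul, map_pow, map_pow,
            map_pow, evar_succ, evar_one, rhoL_some, rhoL_some, rhoL_x, rhoL_sPoly]
          refine Ideal.add_mem _ (Ideal.add_mem _ (even_i D i h0 h1 hil) ?_)
            (z0pow_mul_mem _ hE0 _ hnum.2.1 _)
          obtain ⟨d, hd⟩ : ∃ d,
              (2 * (i.val + 1) - 3) * 2 ^ klog n (i.val + 1) - n = d + 1 :=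
            ⟨(2 * (i.val + 1) - 3) * 2 ^ klog n (i.val + 1) - n - 1, by
              have := hnum.1
              omega⟩
          have hs : X (z0 n) ^ (d + 1) * Xl D = X (z0 n) ^ d * (X (z0 n) * X (il D) ^ 2 ^ a) +
              X (z0 n) ^ (d + 1 + 2 * r * 2 ^ a) * sE n (r + 2) := by
            unfold Xl
            ring
          rw [hd, hs]
          have h2 := two_r_ge D
          exact Ideal.add_mem _ (Ideal.mul_mem_left _ _ (even_g0 D))
            (z0pow_mul_mem _ hE0 _ (by omega) _)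

/-! ### the comparison of ideals -/

/-- `(e₁^(2^a)) + ker ψ` -/
noncomputable def Ee (D : EvenData n a r) : Ideal (FreeP n) :=
  Ideal.span {(X (z0 n) : FreeP n) ^ 2 ^ a} ⊔ Ideal.comap (iotaE n) (presIdeal n)

lemma Ee_le (D : EvenData n a r) : Ee D ≤ evenIdeal n := by
  refine sup_le ?_ ?_
  · rw [Ideal.span_singleton_le_iff_mem]
    exact even_z0 D
  · intro f hf
    have h2 := Ideal.mem_map_of_mem (rhoL D) (Ideal.mem_comap.1 hf)
    rw [rhoL_iota] at h2
    exact map_rhoL_le D h2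

lemma even_le (D : EvenData n a r) : evenIdeal n ≤ Ee D := by
  have hz : (X (z0 n) : FreeP n) ^ 2 ^ a ∈ Ee D :=
    Ideal.mem_sup_left (Ideal.subset_span (Set.mem_singleton _))
  have hc : ∀ f : FreeP n, iotaE n f ∈ presIdeal n → f ∈ Ee D :=
    fun f hf => Ideal.mem_sup_right (Ideal.mem_comap.2 hf)
  have h2r := two_r_ge D
  have hhl : hrel n (r + 2) ∈ presIdeal n := hrel_mem n (il D)
  unfold evenIdeal
  rw [Ideal.span_le]
  rintro g (hg | ⟨i, rfl⟩)
  · rw [Set.mem_singleton_iff] at hg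
    subst hg
    show evarE n 1 * evarE n (lIdx n) ^ 2 ^ (kprime n (lIdx n) - 1) ∈ Ee D
    have hev : evarE n (r + 2) = X (il D) := evarE_succ n (il D)
    rw [lIdx_eq D, kprime_l D, Nat.add_sub_cancel, evarE_one, hev]
    have hsplit : X (z0 n) * X (il D) ^ 2 ^ a =
        X (z0 n) * Xl D - X (z0 n) ^ (1 + 2 * r * 2 ^ a) * sE n (r + 2) := by
      unfold Xl
      ring
    rw [hsplit]
    refine Ideal.sub_mem _ (hc _ ?_) (z0pow_mul_mem _ hz _ (by omega) _)
    rw [map_mul, iotaE_X, iota_Xl D, mul_sub]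
    exact Ideal.sub_mem _ (Ideal.mul_mem_left _ _ hhl) (e1x_mem n)
  · show evarE n (i.val + 1) ^ 2 ^ kprime n (i.val + 1) ∈ Ee D
    rw [evarE_succ]
    by_cases h0 : i.val = 0
    · have hi : i = z0 n := Fin.ext h0
      subst hi
      have hk : kprime n ((z0 n).val + 1) = a := by
        show kprime n 1 = a
        unfold kprime
        rw [if_pos rfl]
        exact D.htwo
      rw [hk]
      exact hz
    · by_cases h1 : i.val = 1
      · have hi : i = z1 n D.hn := Fin.ext h1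
        subst hi
        have hk : kprime n ((z1 n D.hn).val + 1) = Nat.log 2 n := kprime_two n
        rw [hk]
        have hs := sE_two_eq n D.hn (Nat.log 2 n) (klog_two_even D)
        have hsplit : (X (z1 n D.hn) : FreeP n) ^ 2 ^ Nat.log 2 n = sE n 2 -
            ∑ t ∈ Finset.range (Nat.log 2 n),
              X (z0 n) ^ (2 ^ (Nat.log 2 n + 1) - 2 ^ (t + 1)) * X (z1 n D.hn) ^ 2 ^ t := by
          rw [hs]
          ring
        rw [hsplit]
        refine Ideal.sub_mem _ (hc _ ?_) (sum_mem_of_z0pow D _ hz)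
        rw [iota_sE n D.hn 2]
        have hp := pow_sub_ge D
        have hpos : 1 ≤ 2 ^ a := Nat.one_le_two_pow
        have hS : sPoly n 2 = hrel n 2 - evar n 1 ^ (2 ^ klog n 2 - n) * xvar n := by
          rw [hrel_two_eq]
          ring
        rw [hS]
        exact Ideal.sub_mem _ (hrel_mem n (z1 n D.hn)) (e1pow_x_mem n _ (by omega))
      · by_cases hil : i = il D
        · subst hil
          have hk : kprime n ((il D).val + 1) = a + 1 := kprime_l D
          rw [hk]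
          have hsplit : (X (il D) : FreeP n) ^ 2 ^ (a + 1) =
              Xl D ^ 2 - X (z0 n) ^ (2 * r * 2 ^ a * 2) * sE n (r + 2) ^ 2 := by
            unfold Xl
            rw [CharTwo.add_sq, mul_pow, ← pow_mul, ← pow_mul, ← pow_succ]
            ring
          rw [hsplit]
          refine Ideal.sub_mem _ (hc _ ?_) (z0pow_mul_mem _ hz _ (by omega) _)
          rw [map_pow, iota_Xl D]
          have hq : (hrel n (r + 2) - xvar n) ^ 2 =
              hrel n (r + 2) * (hrel n (r + 2) - 2 * xvar n) + xvar n ^ 2 := by ring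
          rw [hq]
          exact Ideal.add_mem _ (Ideal.mul_mem_right _ _ hhl) (xx_mem n)
        · have hnum := num_j D (i.val + 1) (by omega) i.isLt (ne_l_of_ne D i hil)
          rw [hnum.2.2]
          have hsplit : (X i : FreeP n) ^ 2 ^ klog n (i.val + 1) =
              (X i ^ 2 ^ klog n (i.val + 1) +
                X (z0 n) ^ ((2 * (i.val + 1) - 4) * 2 ^ klog n (i.val + 1)) *
                  sE n (i.val + 1)) -
              X (z0 n) ^ ((2 * (i.val + 1) - 4) * 2 ^ klog n (i.val + 1)) *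
                sE n (i.val + 1) := by ring
          rw [hsplit]
          refine Ideal.sub_mem _ (hc _ ?_) (z0pow_mul_mem _ hz _ hnum.2.1 _)
          rw [map_add, map_mul, map_pow, map_pow, iotaE_X, iotaE_X,
            iota_sE n D.hn (i.val + 1)]
          have hS : (X (some i) : FreeE n) ^ 2 ^ klog n (i.val + 1) +
              X (some (z0 n)) ^ ((2 * (i.val + 1) - 4) * 2 ^ klog n (i.val + 1)) *
                sPoly n (i.val + 1) = hrel n (i.val + 1) -
              evar n 1 ^ ((2 * (i.val + 1) - 3) * 2 ^ klog n (i.val + 1) - n) * xvar n := by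
            rw [hrel_ge3_eq n i h0 h1, evar_succ, evar_one]
            ring
          rw [hS]
          exact Ideal.sub_mem _ (hrel_mem n i)
            (e1pow_x_mem n _ (by have := hnum.1; omega))

lemma Ee_eq (D : EvenData n a r) : Ee D = evenIdeal n := le_antisymm (Ee_le D) (even_le D)

/-! ### the theorem -/

lemma psi_z0 (n : ℕ) : psi n (X (z0 n)) = eps n 1 := by
  rw [psi_eq, iotaE_X, phi_e0]

theorem main17748 (n : ℕ) (hn : 2 ≤ n)
    (τ : QsChow.P n →ₐ[ZMod 2] QsChow.P n) (hτ1 : τ (QsChow.eps n 1) = QsChow.eps n 1)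
    (hτ : ∀ j : ℕ, 2 ≤ j → j ≤ QsChow.numVars n →
      τ (QsChow.eps n j) = QsChow.eps n j + QsChow.eps n 1 ^ (2 * j - 3))
    (ha : 1 ≤ QsChow.twoExp n) (hne : n ≠ 2 ^ QsChow.twoExp n) :
    (∀ q : QsChow.FreeP n,
      (∃ w : QsChow.P n, τ w = w ∧ QsChow.psi n q = QsChow.eps n 1 ^ 2 ^ QsChow.twoExp n * w) ↔
        q ∈ QsChow.evenIdeal n) ∧
    (∀ z : QsChow.P n, τ z = z → ∃ q : QsChow.FreeP n, ∃ w : QsChow.P n,
      τ w = w ∧ z = QsChow.psi n q + QsChow.eps n 1 ^ 2 ^ QsChow.twoExp n * w) := by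
  have hn0 : n ≠ 0 := by omega
  have hdvd : 2 ^ twoExp n ∣ n := pow_padicValNat_dvd
  obtain ⟨m, hm⟩ := hdvd
  have hodd : ¬ 2 ∣ m := by
    intro h2
    obtain ⟨m', rfl⟩ := h2
    have h3 : 2 ^ (twoExp n + 1) ∣ n := ⟨m', hm.trans (by ring)⟩
    exact pow_succ_padicValNat_not_dvd hn0 h3
  have hm1 : m ≠ 1 := by
    intro h
    rw [h, mul_one] at hm
    exact hne hm
  have hm0 : m ≠ 0 := by
    intro h
    rw [h, mul_zero] at hm
    exact hn0 hm
  obtain ⟨r, hr⟩ : ∃ r, m = 2 * r + 1 := ⟨m / 2, by omega⟩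
  have hr1 : 1 ≤ r := by omega
  have D : EvenData n (twoExp n) r := ⟨hn, ha, hr1, hm.trans (by rw [hr]), rfl⟩
  have hrange := main17741 n hn τ hτ1 hτ
  have hker := main17742 n hn
  have hfix : ∀ z : P n, τ z = z ↔ z ∈ (phi n).range := by
    intro z
    rw [hrange, AlgHom.mem_equalizer, AlgHom.id_apply]
  have hψrange : ∀ z : P n, z ∈ (phi n).range → ∃ q : FreeP n, z = psi n q := by
    intro z hz
    obtain ⟨q', rfl⟩ := (AlgHom.mem_range _).1 hz
    exact ⟨rhoL D q', by rw [psi_eq]; exact (phi_iota_rhoL D q').symm⟩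
  have hψfix : ∀ q : FreeP n, τ (psi n q) = psi n q := by
    intro q
    rw [hfix, psi_eq]
    exact (AlgHom.mem_range _).2 ⟨_, rfl⟩
  constructor
  · intro q
    rw [← Ee_eq D]
    constructor
    · rintro ⟨w, hw, hq⟩
      obtain ⟨c, rfl⟩ := hψrange w ((hfix w).1 hw)
      have hmem : iotaE n (q - X (z0 n) ^ 2 ^ twoExp n * c) ∈ presIdeal n := by
        rw [← hker, RingHom.mem_ker, ← psi_eq, map_sub, map_mul, map_pow, psi_z0, hq, sub_self]
      have hsplit : q = X (z0 n) ^ 2 ^ twoExp n * c + (q - X (z0 n) ^ 2 ^ twoExp n * c) := by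
        ring
      rw [hsplit]
      exact Ideal.add_mem _ (Ideal.mem_sup_left (Ideal.mul_mem_right _ _
        (Ideal.subset_span (Set.mem_singleton _)))) (Ideal.mem_sup_right (Ideal.mem_comap.2 hmem))
    · intro hq
      obtain ⟨y, hy, f, hf, rfl⟩ := Submodule.mem_sup.1 hq
      obtain ⟨c, rfl⟩ := Ideal.mem_span_singleton'.1 hy
      refine ⟨psi n c, hψfix c, ?_⟩
      have hf' : psi n f = 0 := by
        rw [psi_eq]
        have h : iotaE n f ∈ RingHom.ker (phi n) := by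
          rw [hker]
          exact Ideal.mem_comap.1 hf
        exact h
      rw [map_add, map_mul, map_pow, psi_z0, hf', add_zero, mul_comm]
  · intro z hz
    obtain ⟨q, hq⟩ := hψrange z ((hfix z).1 hz)
    exact ⟨q, 0, map_zero τ, by rw [mul_zero, add_zero]; exact hq⟩

end Groth.Agent.Helper25.QsEven
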