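import Mathlib
import Groth.Prelude.Def_W4c4chowquasisplitPn
import Groth.Agent.Lib.Helper25.QsFix
set_option autoImplicit false
open MvPolynomial

/-! If `y + τ y ∈ ε₁^m P` then `y + τ y = ε₁^m z` with `z` fixed. -/

namespace Groth.Agent.Helper25.QsFix2
open QsChow Groth.Agent.Helper25.QsTau Groth.Agent.Helper25.QsFix

theorem main17740 (n : ℕ) (hn : 2 ≤ n)
    (τ : QsChow.P n →ₐ[ZMod 2] QsChow.P n) (hτ1 : τ (QsChow.eps n 1) = QsChow.eps n 1)
    (hτ : ∀ j : ℕ, 2 ≤ j → j ≤ QsChow.numVars n →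
      τ (QsChow.eps n j) = QsChow.eps n j + QsChow.eps n 1 ^ (2 * j - 3))
    (m : ℕ) (hm1 : 1 ≤ m) (hmn : m ≤ n) (y : QsChow.P n)
    (hy : y + τ y ∈ Ideal.span ({QsChow.eps n 1 ^ m} : Set (QsChow.P n))) :
    ∃ z : QsChow.P n, τ z = z ∧ y + τ y = QsChow.eps n 1 ^ m * z := by
  have he2 := eps_two n hn
  have hτ2 : τ (eps n 2) = eps n 2 + eps n 1 := by
    have := hτ 2 le_rfl (by unfold numVars; omega)
    have h21 : 2 * 2 - 3 = 1 := rfl
    rw [h21, pow_one] at this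
    exact this
  have hfix : ∀ q : FreeE n, τ (phi n q) = phi n q := by
    intro q
    have h := (main17741 n hn τ hτ1 hτ).le (⟨q, rfl⟩ : phi n q ∈ (phi n).range)
    rw [AlgHom.mem_equalizer, AlgHom.id_apply] at h
    exact h
  have hdec : ∀ w : P n, ∃ a b : FreeE n, w = phi n a + phi n b * eps n 2 := by
    intro w
    obtain ⟨f, rfl⟩ := Ideal.Quotient.mk_surjective w
    obtain ⟨a, b, hab⟩ := decomp n hn f
    exact ⟨a, b, by rw [hab, map_add, map_mul, mk_phiF, mk_phiF, he2]⟩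
  have hann : ∀ w : P n, eps n 1 * w = 0 → ∃ w' : P n, w = eps n 1 ^ (n - 1) * w' := by
    intro w hw
    obtain ⟨g, rfl⟩ := Ideal.Quotient.mk_surjective w
    have hmem : X (z0 n) * g ∈ truncIdeal n := by
      rw [← Ideal.Quotient.eq_zero_iff_mem, map_mul, ← eps_one]
      exact hw
    obtain ⟨g', hg'⟩ := ann_t n hn g hmem
    refine ⟨Ideal.Quotient.mk _ g', ?_⟩
    have := Ideal.Quotient.eq_zero_iff_mem.2 hg'
    rw [map_sub, map_mul, map_pow, ← eps_one, sub_eq_zero] at this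
    exact this
  obtain ⟨a, b, hab⟩ := hdec y
  have hv : y + τ y = eps n 1 * phi n b := by
    rw [hab, map_add, map_mul, hfix, hfix, hτ2]
    linear_combination add_self_P n (phi n a) + add_self_P n (phi n b * eps n 2)
  obtain ⟨p, hp⟩ := Ideal.mem_span_singleton'.1 hy
  obtain ⟨m', rfl⟩ : ∃ m', m = m' + 1 := ⟨m - 1, by omega⟩
  have h1 : eps n 1 * (phi n b - eps n 1 ^ m' * p) = 0 := by
    rw [mul_sub, ← hv, ← hp]
    ring
  obtain ⟨p', hp'⟩ := hann _ h1
  obtain ⟨d, hd⟩ : ∃ d, n - 1 = m' + d := ⟨n - 1 - m', by omega⟩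
  have hβ : phi n b = eps n 1 ^ m' * (p + eps n 1 ^ d * p') := by
    rw [hd, pow_add] at hp'
    linear_combination hp'
  obtain ⟨a'', b'', hab''⟩ := hdec (p + eps n 1 ^ d * p')
  have h2 : eps n 1 ^ (m' + 1) * phi n b'' = 0 := by
    have h3 := hfix b
    rw [hβ, hab'', map_mul, map_pow, hτ1, map_add, map_mul, hfix, hfix, hτ2] at h3
    have h4 := sub_eq_zero.2 h3
    linear_combination h4
  refine ⟨phi n a'', hfix a'', ?_⟩
  rw [hv, hβ, hab'']
  linear_combination (eps n 2) * h2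

end Groth.Agent.Helper25.QsFix2
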