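import Mathlib.Tactic
import Mathlib.LinearAlgebra.Matrix.Determinant.Basic
import Mathlib.GroupTheory.Perm.Cycle.Type
import Mathlib.Algebra.MvPolynomial.Eval
import Mathlib.Data.ZMod.Basic
import Mathlib.Data.Sym.Sym2

/-!
# Helper library (helper25): the discriminant of an odd-rank quadratic form is even
-/

set_option autoImplicit false

open scoped BigOperators

namespace Groth.Agent.Helper25.QuadDisc

/-- In characteristic two, a symmetric matrix of odd size with zero diagonal has determinant `0`. -/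
theorem det_eq_zero_of_symm_zero_diag_odd {S : Type*} [CommRing S] (h2 : (2 : S) = 0) {n : ℕ}
    (hn : Odd n) (M : Matrix (Fin n) (Fin n) S) (hsymm : ∀ i j, M i j = M j i)
    (hdiag : ∀ i, M i i = 0) : M.det = 0 := by
  have hadd : ∀ a : S, a + a = 0 := fun a => by rw [← two_mul, h2, zero_mul]
  rw [Matrix.det_apply]
  apply Finset.sum_ninvolution (fun σ => σ⁻¹)
  · intro σ
    have hprod : ∏ i, M (σ⁻¹ i) i = ∏ i, M (σ i) i := by
      rw [← Equiv.prod_comp σ (fun i => M (σ⁻¹ i) i)]
      refine Finset.prod_congr rfl fun i _ => ?_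
      rw [show σ⁻¹ (σ i) = i from σ.symm_apply_apply i, hsymm]
    rw [Equiv.Perm.sign_inv, hprod]
    exact hadd _
  · intro σ hne hinv
    apply hne
    have hsq : σ ^ 2 = 1 := by
      rw [pow_two]
      nth_rewrite 1 [← hinv]
      exact inv_mul_cancel σ
    have h2dvd := Equiv.Perm.two_dvd_card_support hsq
    have hex : ∃ i, i ∉ σ.support := by
      by_contra hall
      push Not at hall
      have : σ.support = Finset.univ := Finset.eq_univ_iff_forall.mpr hall
      rw [this, Finset.card_univ, Fintype.card_fin] at h2dvd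
      obtain ⟨k, hk⟩ := hn
      omega
    obtain ⟨i, hi⟩ := hex
    rw [Equiv.Perm.notMem_support] at hi
    rw [Finset.prod_eq_zero (Finset.mem_univ i) (by rw [hi, hdiag]), smul_zero]
  · intro σ
    exact Finset.mem_univ _
  · intro σ
    exact inv_inv σ

/-- The universal polar matrix of a quadratic form in `n` variables. -/
noncomputable def polarMat (n : ℕ) : Matrix (Fin n) (Fin n) (MvPolynomial (Sym2 (Fin n)) ℤ) :=
  Matrix.of fun i j : Fin n =>
    if i = j then 2 * MvPolynomial.X (R := ℤ) (σ := Sym2 (Fin n)) (Sym2.mk i j)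
    else MvPolynomial.X (R := ℤ) (σ := Sym2 (Fin n)) (Sym2.mk i j)

theorem two_dvd_det_polarMat (n : ℕ) (hn : Odd n) :
    (2 : MvPolynomial (Sym2 (Fin n)) ℤ) ∣ (polarMat n).det := by
  have hC : (2 : MvPolynomial (Sym2 (Fin n)) ℤ) = MvPolynomial.C (2 : ℤ) := by
    rw [map_ofNat]
  rw [hC, MvPolynomial.C_dvd_iff_map_hom_eq_zero (Int.castRingHom (ZMod 2)) 2
    (fun r' => by
      have := ZMod.intCast_zmod_eq_zero_iff_dvd r' 2
      simpa using this)]
  rw [RingHom.map_det]
  apply det_eq_zero_of_symm_zero_diag_odd _ hn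
  · intro i j
    simp only [polarMat, RingHom.mapMatrix_apply, Matrix.map_apply, Matrix.of_apply]
    by_cases h : i = j
    · subst h; rfl
    · rw [if_neg h, if_neg (Ne.symm h), Sym2.eq_swap]
  · intro i
    simp only [polarMat, RingHom.mapMatrix_apply, Matrix.map_apply, Matrix.of_apply, if_true]
    rw [map_mul]
    have : (MvPolynomial.map (Int.castRingHom (ZMod 2))) (2 : MvPolynomial (Sym2 (Fin n)) ℤ) = 0 := by
      rw [map_ofNat]
      have h2 : (2 : ZMod 2) = 0 := by decide
      have : (2 : MvPolynomial (Sym2 (Fin n)) (ZMod 2)) = MvPolynomial.C (2 : ZMod 2) := by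
        rw [map_ofNat]
      rw [this, h2, map_zero]
    rw [this, zero_mul]
  · have h2 : (2 : ZMod 2) = 0 := by decide
    have : (2 : MvPolynomial (Sym2 (Fin n)) (ZMod 2)) = MvPolynomial.C (2 : ZMod 2) := by
      rw [map_ofNat]
    rw [this, h2, map_zero]

end Groth.Agent.Helper25.QuadDisc
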