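import Groth.Prelude.Def_QuadGrp
import Groth.Agent.Lib.Helper25.QuadDisc
import Mathlib.RingTheory.MvPolynomial.Basic
import Mathlib.LinearAlgebra.Matrix.ToLin
import Mathlib.LinearAlgebra.Matrix.BilinearForm
import Mathlib.Tactic

/-!
# Helper library (helper25): transformation of the half-discriminant (odd rank)
-/

set_option autoImplicit false

open scoped BigOperators
open Matrix

namespace Groth.Agent.Helper25.QuadDisc

variable {R : Type*} [CommRing R] {n : ℕ}

/-- upper triangular coefficient matrix -/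
def Tmat (a : Sym2 (Fin n) → R) : Matrix (Fin n) (Fin n) R :=
  Matrix.of fun k l => if k = l then a s(k, l) else if k < l then a s(k, l) else 0

/-- polar matrix -/
def Pmat (a : Sym2 (Fin n) → R) : Matrix (Fin n) (Fin n) R :=
  Matrix.of fun k l => if k = l then 2 * a s(k, l) else a s(k, l)

theorem Pmat_eq (a : Sym2 (Fin n) → R) : Pmat a = Tmat a + (Tmat a)ᵀ := by
  ext k l
  simp only [Pmat, Tmat, Matrix.add_apply, Matrix.transpose_apply, Matrix.of_apply]
  rcases lt_trichotomy k l with h | h | h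
  · have hne : k ≠ l := h.ne
    have hne' : l ≠ k := h.ne'
    have h' : ¬ l < k := not_lt.mpr h.le
    simp [hne, hne', h, h']
  · subst h; simp [two_mul]
  · have hne : k ≠ l := h.ne'
    have hne' : l ≠ k := h.ne
    have h' : ¬ k < l := not_lt.mpr h.le
    simp only [hne, hne', h, h', if_false, if_true, zero_add]
    rw [Sym2.eq_swap]

theorem Pmat_transpose (a : Sym2 (Fin n) → R) : (Pmat a)ᵀ = Pmat a := by
  rw [Pmat_eq, Matrix.transpose_add, Matrix.transpose_transpose, add_comm]

theorem conj_symm (G : Matrix (Fin n) (Fin n) R) (a : Sym2 (Fin n) → R) (i j : Fin n) :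
    (Gᵀ * Pmat a * G) i j = (Gᵀ * Pmat a * G) j i := by
  have hs : (Gᵀ * Pmat a * G)ᵀ = Gᵀ * Pmat a * G := by
    rw [Matrix.transpose_mul, Matrix.transpose_mul, Matrix.transpose_transpose, Pmat_transpose,
      Matrix.mul_assoc]
  conv_lhs => rw [← hs]
  rfl

/-- the transformed coefficients -/
def act (G : Matrix (Fin n) (Fin n) R) (a : Sym2 (Fin n) → R) : Sym2 (Fin n) → R :=
  Sym2.lift ⟨fun i j => if i = j then (Gᵀ * Tmat a * G) i j else (Gᵀ * Pmat a * G) i j, by
    intro i j
    by_cases h : i = j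
    · subst h; rfl
    · show (if i = j then _ else _) = (if j = i then _ else _)
      rw [if_neg h, if_neg (Ne.symm h)]
      exact conj_symm G a i j⟩

theorem act_mk (G : Matrix (Fin n) (Fin n) R) (a : Sym2 (Fin n) → R) (i j : Fin n) :
    act G a s(i, j) = if i = j then (Gᵀ * Tmat a * G) i j else (Gᵀ * Pmat a * G) i j := rfl

theorem Pmat_act (G : Matrix (Fin n) (Fin n) R) (a : Sym2 (Fin n) → R) :
    Pmat (act G a) = Gᵀ * Pmat a * G := by
  ext i j
  by_cases h : i = j
  · subst h
    have h1 : Gᵀ * Pmat a * G = Gᵀ * Tmat a * G + (Gᵀ * Tmat a * G)ᵀ := by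
      rw [Pmat_eq, Matrix.mul_add, Matrix.add_mul, Matrix.transpose_mul, Matrix.transpose_mul,
        Matrix.transpose_transpose, Matrix.mul_assoc Gᵀ (Tmat a)ᵀ G]
    have h0 : Pmat (act G a) i i = 2 * act G a s(i, i) := by simp [Pmat]
    rw [h0, act_mk, if_pos rfl, h1, Matrix.add_apply, Matrix.transpose_apply, two_mul]
  · have h0 : Pmat (act G a) i j = act G a s(i, j) := by simp [Pmat, h]
    rw [h0, act_mk, if_neg h]

theorem eval_discUniv (a : Sym2 (Fin n) → R) :
    MvPolynomial.eval₂ (Int.castRingHom R) a (QuadGrp.discUniv n) = (Pmat a).det := by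
  unfold QuadGrp.discUniv
  have h := RingHom.map_det (MvPolynomial.eval₂Hom (Int.castRingHom R) a) (QuadGrp.univPolarMat n)
  rw [MvPolynomial.coe_eval₂Hom] at h
  rw [h]
  congr 1
  ext i j
  simp only [QuadGrp.univPolarMat, Pmat, RingHom.mapMatrix_apply, Matrix.map_apply, Matrix.of_apply,
    MvPolynomial.coe_eval₂Hom]
  split_ifs
  · rw [MvPolynomial.eval₂_mul, MvPolynomial.eval₂_X]
    congr 1
    have : (2 : MvPolynomial (Sym2 (Fin n)) ℤ) = MvPolynomial.C (2 : ℤ) := by rw [map_ofNat]
    rw [this, MvPolynomial.eval₂_C]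
    simp
  · rw [MvPolynomial.eval₂_X]

theorem two_mul_halfDiscUniv (hn : Odd n) : 2 * QuadGrp.halfDiscUniv n = QuadGrp.discUniv n := by
  obtain ⟨q, hq⟩ : (2 : MvPolynomial (Sym2 (Fin n)) ℤ) ∣ QuadGrp.discUniv n :=
    two_dvd_det_polarMat n hn
  have hC : (2 : MvPolynomial (Sym2 (Fin n)) ℤ) = MvPolynomial.C (2 : ℤ) := by rw [map_ofNat]
  ext s
  rw [hC, MvPolynomial.coeff_C_mul, QuadGrp.coeff_halfDiscUniv, hq, hC, MvPolynomial.coeff_C_mul]
  omega

theorem two_mul_eval_halfDiscUniv (hn : Odd n) (a : Sym2 (Fin n) → R) :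
    2 * MvPolynomial.eval₂ (Int.castRingHom R) a (QuadGrp.halfDiscUniv n) = (Pmat a).det := by
  rw [← eval_discUniv, ← two_mul_halfDiscUniv hn, MvPolynomial.eval₂_mul]
  congr 1
  have hC : (2 : MvPolynomial (Sym2 (Fin n)) ℤ) = MvPolynomial.C (2 : ℤ) := by rw [map_ofNat]
  rw [hC, MvPolynomial.eval₂_C]
  simp

theorem halfDisc_act_of_two_ne_zero [NoZeroDivisors R] (h2 : (2 : R) ≠ 0) (hn : Odd n)
    (G : Matrix (Fin n) (Fin n) R) (a : Sym2 (Fin n) → R) :
    MvPolynomial.eval₂ (Int.castRingHom R) (act G a) (QuadGrp.halfDiscUniv n) =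
      G.det ^ 2 * MvPolynomial.eval₂ (Int.castRingHom R) a (QuadGrp.halfDiscUniv n) := by
  apply mul_left_cancel₀ h2
  rw [two_mul_eval_halfDiscUniv hn, Pmat_act, Matrix.det_mul, Matrix.det_mul, Matrix.det_transpose,
    ← two_mul_eval_halfDiscUniv hn a]
  ring

/-! ### Naturality and the universal argument -/

theorem map_Tmat {R' : Type*} [CommRing R'] (φ : R →+* R') (a : Sym2 (Fin n) → R) :
    (Tmat a).map φ = Tmat (φ ∘ a) := by
  ext k l
  simp only [Tmat, Matrix.map_apply, Matrix.of_apply, Function.comp]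
  split_ifs <;> simp

theorem map_Pmat {R' : Type*} [CommRing R'] (φ : R →+* R') (a : Sym2 (Fin n) → R) :
    (Pmat a).map φ = Pmat (φ ∘ a) := by
  ext k l
  simp only [Pmat, Matrix.map_apply, Matrix.of_apply, Function.comp]
  split_ifs
  · rw [map_mul, map_ofNat]
  · rfl

theorem map_act {R' : Type*} [CommRing R'] (φ : R →+* R') (G : Matrix (Fin n) (Fin n) R)
    (a : Sym2 (Fin n) → R) (s : Sym2 (Fin n)) :
    φ (act G a s) = act (G.map φ) (φ ∘ a) s := by
  induction s using Sym2.ind with
  | _ i j =>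
    rw [act_mk, act_mk]
    by_cases h : i = j
    · rw [if_pos h, if_pos h, ← map_Tmat, ← Matrix.transpose_map, ← Matrix.map_mul,
        ← Matrix.map_mul]
      rfl
    · rw [if_neg h, if_neg h, ← map_Pmat, ← Matrix.transpose_map, ← Matrix.map_mul,
        ← Matrix.map_mul]
      rfl

theorem halfDisc_act (hn : Odd n) (G : Matrix (Fin n) (Fin n) R) (a : Sym2 (Fin n) → R) :
    MvPolynomial.eval₂ (Int.castRingHom R) (act G a) (QuadGrp.halfDiscUniv n) =
      G.det ^ 2 * MvPolynomial.eval₂ (Int.castRingHom R) a (QuadGrp.halfDiscUniv n) := by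
  let U := MvPolynomial (Sym2 (Fin n) ⊕ Fin n × Fin n) ℤ
  let aU : Sym2 (Fin n) → U := fun s => MvPolynomial.X (Sum.inl s)
  let GU : Matrix (Fin n) (Fin n) U := Matrix.of fun k l => MvPolynomial.X (Sum.inr (k, l))
  let φ : U →+* R := MvPolynomial.eval₂Hom (Int.castRingHom R) (Sum.elim a (fun p => G p.1 p.2))
  have hφa : ⇑φ ∘ aU = a := by
    ext s
    show (MvPolynomial.eval₂Hom (Int.castRingHom R)
      (Sum.elim a fun p : Fin n × Fin n => G p.1 p.2)) (MvPolynomial.X (Sum.inl s)) = a s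
    rw [MvPolynomial.coe_eval₂Hom, MvPolynomial.eval₂_X]
    rfl
  have hφG : GU.map φ = G := by
    ext k l
    show (MvPolynomial.eval₂Hom (Int.castRingHom R)
      (Sum.elim a fun p : Fin n × Fin n => G p.1 p.2)) (MvPolynomial.X (Sum.inr (k, l))) = G k l
    rw [MvPolynomial.coe_eval₂Hom, MvPolynomial.eval₂_X]
    rfl
  have h2 : (2 : U) ≠ 0 := two_ne_zero
  have hU := halfDisc_act_of_two_ne_zero h2 hn GU aU
  have hφ := congrArg φ hU
  have hcomp : φ.comp (Int.castRingHom U) = Int.castRingHom R := RingHom.ext_int _ _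
  have hact : ⇑φ ∘ act GU aU = act G a := by
    funext s
    rw [Function.comp_apply, map_act, hφG, hφa]
  rw [map_mul, map_pow, RingHom.map_det, RingHom.mapMatrix_apply, hφG,
    MvPolynomial.eval₂_comp_left φ, MvPolynomial.eval₂_comp_left φ, hcomp, hφa, hact] at hφ
  exact hφ

/-! ### Specialisation to a quadratic form in a basis -/

section Spec

variable {M : Type*} [AddCommGroup M] [Module R M]

theorem toMatrix_toBilin (b : Module.Basis (Fin n) R M) (Q : QuadraticForm R M) :
    LinearMap.BilinForm.toMatrix b (Q.toBilin b) =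
      Tmat (QuadGrp.coeffs b (LinearEquiv.refl R R) Q) := by
  ext k l
  rw [LinearMap.BilinForm.toMatrix_apply, QuadraticMap.toBilin_apply]
  simp only [Tmat, Matrix.of_apply, QuadGrp.coeffs_mk, LinearEquiv.refl_apply]
  by_cases h : k = l
  · subst h; simp
  · simp [h]

theorem toMatrix_polarBilin (b : Module.Basis (Fin n) R M) (Q : QuadraticForm R M) :
    LinearMap.BilinForm.toMatrix b (QuadraticMap.polarBilin Q) =
      Pmat (QuadGrp.coeffs b (LinearEquiv.refl R R) Q) := by
  ext k l
  rw [LinearMap.BilinForm.toMatrix_apply, QuadraticMap.polarBilin_apply_apply]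
  simp only [Pmat, Matrix.of_apply, QuadGrp.coeffs_mk, LinearEquiv.refl_apply]
  by_cases h : k = l
  · subst h
    simp [QuadraticMap.polar_self]
  · simp [h]

theorem coeffs_comp (b : Module.Basis (Fin n) R M) (Q : QuadraticForm R M) (g : M →ₗ[R] M) :
    QuadGrp.coeffs b (LinearEquiv.refl R R) (Q.comp g) =
      act (LinearMap.toMatrix b b g) (QuadGrp.coeffs b (LinearEquiv.refl R R) Q) := by
  funext s
  induction s using Sym2.ind with
  | _ i j =>
    rw [QuadGrp.coeffs_mk, act_mk]
    by_cases h : i = j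
    · subst h
      rw [if_pos rfl, if_pos rfl, ← toMatrix_toBilin, ← LinearMap.BilinForm.toMatrix_comp b b,
        LinearMap.BilinForm.toMatrix_apply, LinearMap.BilinForm.comp_apply,
        LinearEquiv.refl_apply, QuadraticMap.comp_apply]
      conv_lhs => rw [← QuadraticMap.toQuadraticMap_toBilin Q b]
      rfl
    · rw [if_neg h, if_neg h, ← toMatrix_polarBilin, ← LinearMap.BilinForm.toMatrix_comp b b,
        LinearMap.BilinForm.toMatrix_apply, LinearMap.BilinForm.comp_apply,
        LinearEquiv.refl_apply, QuadraticMap.polarBilin_apply_apply]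
      simp only [QuadraticMap.polar, QuadraticMap.comp_apply, map_add]

theorem halfDisc_comp (hn : Odd n) (b : Module.Basis (Fin n) R M) (Q : QuadraticForm R M)
    (g : M →ₗ[R] M) :
    QuadGrp.halfDisc b (LinearEquiv.refl R R) (Q.comp g) =
      LinearMap.det g ^ 2 * QuadGrp.halfDisc b (LinearEquiv.refl R R) Q := by
  unfold QuadGrp.halfDisc
  rw [coeffs_comp, halfDisc_act hn, LinearMap.det_toMatrix]

end Spec

end Groth.Agent.Helper25.QuadDisc
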