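import Groth.Prelude.Def_QuadGrp
import Groth.Agent.Lib.Helper25.QuadHalfDisc
import Mathlib.LinearAlgebra.QuadraticForm.Radical
import Mathlib.LinearAlgebra.Transvection.Basic
import Mathlib.RingTheory.LocalRing.ResidueField.Ideal
import Mathlib.RingTheory.TensorProduct.Free
import Mathlib.Tactic

/-!
# Helper library (helper25): the half-discriminant detects fibrewise nondegeneracy (odd rank)
-/

set_option autoImplicit false

open scoped BigOperators TensorProduct
open Matrix

namespace Groth.Agent.Helper25.QuadNondeg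

open Groth.Agent.Helper25.QuadDisc

section Laplace

variable {R : Type*} [CommRing R] {n : ℕ}

theorem det_Pmat_of_row (a : Sym2 (Fin (n + 1)) → R) (i₀ : Fin (n + 1))
    (h0 : ∀ j, j ≠ i₀ → a s(i₀, j) = 0) :
    (Pmat a).det =
      2 * (a s(i₀, i₀) * ((Pmat a).submatrix i₀.succAbove i₀.succAbove).det) := by
  rw [Matrix.det_succ_row (Pmat a) i₀, Finset.sum_eq_single i₀]
  · have h1 : (Pmat a) i₀ i₀ = 2 * a s(i₀, i₀) := by simp [Pmat]
    have h2 : ((-1 : R)) ^ ((i₀ : ℕ) + (i₀ : ℕ)) = 1 := Even.neg_one_pow ⟨_, rfl⟩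
    rw [h1, h2]; ring
  · intro j _ hj
    have h1 : (Pmat a) i₀ j = 0 := by
      have : (Pmat a) i₀ j = a s(i₀, j) := by simp [Pmat, Ne.symm hj]
      rw [this]; exact h0 j hj
    rw [h1]; ring
  · intro h; exact absurd (Finset.mem_univ _) h

theorem halfDisc_of_row_of_two_ne_zero [NoZeroDivisors R] (h2 : (2 : R) ≠ 0) (hn : Odd (n + 1))
    (a : Sym2 (Fin (n + 1)) → R) (i₀ : Fin (n + 1)) (h0 : ∀ j, j ≠ i₀ → a s(i₀, j) = 0) :
    MvPolynomial.eval₂ (Int.castRingHom R) a (QuadGrp.halfDiscUniv (n + 1)) =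
      a s(i₀, i₀) * ((Pmat a).submatrix i₀.succAbove i₀.succAbove).det := by
  apply mul_left_cancel₀ h2
  rw [two_mul_eval_halfDiscUniv hn, det_Pmat_of_row a i₀ h0]

theorem halfDisc_of_row (hn : Odd (n + 1)) (a : Sym2 (Fin (n + 1)) → R) (i₀ : Fin (n + 1))
    (h0 : ∀ j, j ≠ i₀ → a s(i₀, j) = 0) :
    MvPolynomial.eval₂ (Int.castRingHom R) a (QuadGrp.halfDiscUniv (n + 1)) =
      a s(i₀, i₀) * ((Pmat a).submatrix i₀.succAbove i₀.succAbove).det := by
  classical
  let U := MvPolynomial (Sym2 (Fin (n + 1))) ℤ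
  let aU : Sym2 (Fin (n + 1)) → U := fun s =>
    if i₀ ∈ s ∧ ¬ s.IsDiag then 0 else MvPolynomial.X s
  let φ : U →+* R := MvPolynomial.eval₂Hom (Int.castRingHom R) a
  have hφa : ⇑φ ∘ aU = a := by
    funext s
    show φ (aU s) = a s
    by_cases hs : i₀ ∈ s ∧ ¬ s.IsDiag
    · have h1 : aU s = 0 := if_pos hs
      rw [h1, map_zero]
      obtain ⟨hmem, hd⟩ := hs
      obtain ⟨j, rfl⟩ := Sym2.mem_iff_exists.mp hmem
      have hj : j ≠ i₀ := by
        intro h
        apply hd
        rw [h]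
        exact Sym2.mk_isDiag_iff.mpr rfl
      exact (h0 j hj).symm
    · have h1 : aU s = MvPolynomial.X s := if_neg hs
      rw [h1]
      show (MvPolynomial.eval₂Hom (Int.castRingHom R) a) (MvPolynomial.X s) = a s
      rw [MvPolynomial.coe_eval₂Hom, MvPolynomial.eval₂_X]
  have h0U : ∀ j, j ≠ i₀ → aU s(i₀, j) = 0 := by
    intro j hj
    apply if_pos
    refine ⟨Sym2.mem_mk_left _ _, ?_⟩
    rw [Sym2.mk_isDiag_iff]
    exact Ne.symm hj
  have h2 : (2 : U) ≠ 0 := two_ne_zero
  have hU := halfDisc_of_row_of_two_ne_zero h2 hn aU i₀ h0U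
  have hφ := congrArg φ hU
  have hcomp : φ.comp (Int.castRingHom U) = Int.castRingHom R := RingHom.ext_int _ _
  have e1 : φ (aU s(i₀, i₀)) = a s(i₀, i₀) := congrFun hφa _
  have e2 : φ.mapMatrix ((Pmat aU).submatrix i₀.succAbove i₀.succAbove) =
      (Pmat a).submatrix i₀.succAbove i₀.succAbove := by
    rw [RingHom.mapMatrix_apply, ← Matrix.submatrix_map, map_Pmat, hφa]
  rw [map_mul, RingHom.map_det, MvPolynomial.eval₂_comp_left φ, hcomp, hφa, e1, e2] at hφ
  exact hφ

end Laplace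

section Spec

variable {K : Type*} [Field K] {V : Type*} [AddCommGroup V] [Module K V] {n : ℕ}

/-- polar matrix of `Q` in the basis `b` -/
noncomputable def PM (b : Module.Basis (Fin n) K V) (Q : QuadraticForm K V) :
    Matrix (Fin n) (Fin n) K :=
  Pmat (QuadGrp.coeffs b (LinearEquiv.refl K K) Q)

theorem PM_apply (b : Module.Basis (Fin n) K V) (Q : QuadraticForm K V) (j k : Fin n) :
    PM b Q j k = QuadraticMap.polarBilin Q (b j) (b k) := by
  unfold PM
  rw [← toMatrix_polarBilin, LinearMap.BilinForm.toMatrix_apply]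

theorem polar_sum_left (b : Module.Basis (Fin n) K V) (Q : QuadraticForm K V) (c : Fin n → K)
    (k : Fin n) :
    QuadraticMap.polarBilin Q (∑ j, c j • b j) (b k) = (c ᵥ* PM b Q) k := by
  have h : (c ᵥ* PM b Q) k = ∑ j, c j * PM b Q j k := rfl
  rw [h, map_sum, LinearMap.sum_apply]
  refine Finset.sum_congr rfl fun j _ => ?_
  rw [map_smul, LinearMap.smul_apply, smul_eq_mul, PM_apply]

theorem polarBilin_eq_zero_iff (b : Module.Basis (Fin n) K V) (Q : QuadraticForm K V) (w : V) :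
    QuadraticMap.polarBilin Q w = 0 ↔ (⇑(b.repr w)) ᵥ* PM b Q = 0 := by
  constructor
  · intro h
    funext k
    rw [← polar_sum_left, b.sum_repr, h]
    rfl
  · intro h
    apply b.ext
    intro k
    have h1 := polar_sum_left b Q (⇑(b.repr w)) k
    rw [b.sum_repr, h] at h1
    rw [h1]
    rfl

theorem nondeg_of_det_ne_zero (b : Module.Basis (Fin n) K V) (Q : QuadraticForm K V)
    (hdet : (PM b Q).det ≠ 0) : Q.Nondegenerate := by
  have hker : LinearMap.ker (QuadraticMap.polarBilin Q) = ⊥ := by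
    rw [eq_bot_iff]
    intro w hw
    rw [LinearMap.mem_ker] at hw
    have h1 := (polarBilin_eq_zero_iff b Q w).mp hw
    have h2 := Matrix.eq_zero_of_vecMul_eq_zero hdet h1
    rw [Submodule.mem_bot]
    have h3 : b.repr w = 0 := by
      ext i
      exact congrFun h2 i
    exact (LinearEquiv.map_eq_zero_iff _).mp h3
  refine ⟨?_, ?_⟩
  · exact eq_bot_iff.mpr (hker ▸ QuadraticMap.radical_le_ker_polarBilin)
  · rw [hker, rank_bot]
    exact zero_le_one

theorem exists_ker_of_det_eq_zero (b : Module.Basis (Fin n) K V) (Q : QuadraticForm K V)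
    (hdet : (PM b Q).det = 0) : ∃ v₀ : V, v₀ ≠ 0 ∧ QuadraticMap.polarBilin Q v₀ = 0 := by
  obtain ⟨c, hc, hcP⟩ := Matrix.exists_vecMul_eq_zero_iff.mpr hdet
  refine ⟨∑ j, c j • b j, ?_, ?_⟩
  · intro h
    apply hc
    have h1 := b.repr_sum_self c
    rw [h] at h1
    rw [← h1]
    funext i
    simp
  · rw [polarBilin_eq_zero_iff b Q, b.repr_sum_self]
    exact hcP

end Spec

section LemmaB

variable {K : Type*} [Field K] {V : Type*} [AddCommGroup V] [Module K V] {n : ℕ}
  (b : Module.Basis (Fin (n + 1)) K V) (Q : QuadraticForm K V) (i₀ : Fin (n + 1))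

theorem PM_row_zero (h₀ : QuadraticMap.polarBilin Q (b i₀) = 0) (j : Fin (n + 1)) :
    PM b Q i₀ j = 0 := by
  rw [PM_apply, h₀]; rfl

theorem PM_col_zero (h₀ : QuadraticMap.polarBilin Q (b i₀) = 0) (j : Fin (n + 1)) :
    PM b Q j i₀ = 0 := by
  rw [PM_apply, QuadraticMap.polarBilin_apply_apply, QuadraticMap.polar_comm,
    ← QuadraticMap.polarBilin_apply_apply, h₀]; rfl

theorem vecMul_succAbove (h₀ : QuadraticMap.polarBilin Q (b i₀) = 0) (c : Fin (n + 1) → K)
    (k' : Fin n) :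
    (c ᵥ* PM b Q) (i₀.succAbove k') =
      ((c ∘ i₀.succAbove) ᵥ* (PM b Q).submatrix i₀.succAbove i₀.succAbove) k' := by
  have h1 : (c ᵥ* PM b Q) (i₀.succAbove k') = ∑ j, c j * PM b Q j (i₀.succAbove k') := rfl
  have h2 : ((c ∘ i₀.succAbove) ᵥ* (PM b Q).submatrix i₀.succAbove i₀.succAbove) k' =
      ∑ j', c (i₀.succAbove j') * PM b Q (i₀.succAbove j') (i₀.succAbove k') := rfl
  rw [h1, h2, Fin.sum_univ_succAbove _ i₀, PM_row_zero b Q i₀ h₀, mul_zero, zero_add]

theorem vecMul_self (h₀ : QuadraticMap.polarBilin Q (b i₀) = 0) (c : Fin (n + 1) → K) :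
    (c ᵥ* PM b Q) i₀ = 0 := by
  have h1 : (c ᵥ* PM b Q) i₀ = ∑ j, c j * PM b Q j i₀ := rfl
  rw [h1]
  refine Finset.sum_eq_zero fun j _ => ?_
  rw [PM_col_zero b Q i₀ h₀, mul_zero]

theorem halfDisc_eq_of_ker (hn : Odd (n + 1)) (h₀ : QuadraticMap.polarBilin Q (b i₀) = 0) :
    QuadGrp.halfDisc b (LinearEquiv.refl K K) Q =
      Q (b i₀) * ((PM b Q).submatrix i₀.succAbove i₀.succAbove).det := by
  have h0 : ∀ j, j ≠ i₀ → QuadGrp.coeffs b (LinearEquiv.refl K K) Q s(i₀, j) = 0 := by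
    intro j hj
    rw [QuadGrp.coeffs_mk, if_neg (Ne.symm hj), ← QuadraticMap.polarBilin_apply_apply, h₀]
    simp
  have h1 := halfDisc_of_row hn (QuadGrp.coeffs b (LinearEquiv.refl K K) Q) i₀ h0
  rw [QuadGrp.coeffs_mk, if_pos rfl] at h1
  exact h1

theorem eq_smul_of_ker (h₀ : QuadraticMap.polarBilin Q (b i₀) = 0)
    (hS : ((PM b Q).submatrix i₀.succAbove i₀.succAbove).det ≠ 0) (w : V)
    (hw : QuadraticMap.polarBilin Q w = 0) : w = (b.repr w i₀) • b i₀ := by
  have h1 : (⇑(b.repr w)) ᵥ* PM b Q = 0 := (polarBilin_eq_zero_iff b Q w).mp hw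
  have h2 : ((⇑(b.repr w)) ∘ i₀.succAbove) ᵥ*
      (PM b Q).submatrix i₀.succAbove i₀.succAbove = 0 := by
    funext k'
    rw [← vecMul_succAbove b Q i₀ h₀, h1]
    rfl
  have h3 := Matrix.eq_zero_of_vecMul_eq_zero hS h2
  have h4 : ∀ j', b.repr w (i₀.succAbove j') = 0 := fun j' => congrFun h3 j'
  have h5 : w = ∑ j, b.repr w j • b j := (b.sum_repr w).symm
  rw [Fin.sum_univ_succAbove _ i₀] at h5
  simp only [h4, zero_smul, Finset.sum_const_zero, add_zero] at h5
  exact h5

theorem nondeg_of_ne_zero (h₀ : QuadraticMap.polarBilin Q (b i₀) = 0) (hQ : Q (b i₀) ≠ 0)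
    (hS : ((PM b Q).submatrix i₀.succAbove i₀.succAbove).det ≠ 0) : Q.Nondegenerate := by
  refine ⟨?_, ?_⟩
  · rw [eq_bot_iff]
    intro w hw
    have hw' : Q w = 0 ∧ QuadraticMap.polarBilin Q w = 0 := hw
    have h1 := eq_smul_of_ker b Q i₀ h₀ hS w hw'.2
    have h2 : Q w = (b.repr w i₀ * b.repr w i₀) * Q (b i₀) := by
      conv_lhs => rw [h1]
      rw [QuadraticMap.map_smul, smul_eq_mul]
    rw [hw'.1] at h2
    have h3 : b.repr w i₀ = 0 := by
      rcases mul_eq_zero.mp h2.symm with h | h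
      · exact mul_self_eq_zero.mp h
      · exact absurd h hQ
    rw [Submodule.mem_bot]
    rw [h3, zero_smul] at h1
    exact h1
  · rw [rank_submodule_le_one_iff']
    refine ⟨b i₀, fun w hw => ?_⟩
    rw [Submodule.mem_span_singleton]
    exact ⟨b.repr w i₀, (eq_smul_of_ker b Q i₀ h₀ hS w (LinearMap.mem_ker.mp hw)).symm⟩

theorem ne_zero_of_nondeg (h₀ : QuadraticMap.polarBilin Q (b i₀) = 0) (hQ : Q.Nondegenerate) :
    Q (b i₀) ≠ 0 ∧ ((PM b Q).submatrix i₀.succAbove i₀.succAbove).det ≠ 0 := by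
  have hb : b i₀ ≠ 0 := b.ne_zero i₀
  constructor
  · intro h
    have hmem : b i₀ ∈ Q.radical :=
      show Q (b i₀) = 0 ∧ QuadraticMap.polarBilin Q (b i₀) = 0 from ⟨h, h₀⟩
    rw [hQ.radical_eq_bot, Submodule.mem_bot] at hmem
    exact hb hmem
  · intro hdet
    obtain ⟨c', hc', hc'S⟩ := Matrix.exists_vecMul_eq_zero_iff.mpr hdet
    obtain ⟨c, hci, hcs⟩ : ∃ c : Fin (n + 1) → K,
        c i₀ = 0 ∧ ∀ k', c (i₀.succAbove k') = c' k' :=
      ⟨Fin.insertNth (α := fun _ => K) i₀ 0 c', Fin.insertNth_apply_same _ _ _,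
        fun k' => Fin.insertNth_apply_succAbove _ _ _ _⟩
    have hcs' : c ∘ i₀.succAbove = c' := funext hcs
    obtain ⟨w, hw⟩ : ∃ w : V, w = ∑ j, c j • b j := ⟨_, rfl⟩
    have hrepr : ⇑(b.repr w) = c := by rw [hw]; exact b.repr_sum_self c
    have hwker : QuadraticMap.polarBilin Q w = 0 := by
      rw [polarBilin_eq_zero_iff b Q, hrepr]
      funext k
      obtain h | ⟨k', h⟩ := Fin.eq_self_or_eq_succAbove i₀ k
      · rw [h, vecMul_self b Q i₀ h₀]; rfl
      · rw [h, vecMul_succAbove b Q i₀ h₀, hcs', hc'S]; rfl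
    obtain ⟨u₀, hu₀⟩ := (rank_submodule_le_one_iff' _).mp hQ.rank_rad_polar_le
    have h1 : b i₀ ∈ Submodule.span K {u₀} := hu₀ (LinearMap.mem_ker.mpr h₀)
    have h2 : w ∈ Submodule.span K {u₀} := hu₀ (LinearMap.mem_ker.mpr hwker)
    obtain ⟨r₁, hr₁⟩ := Submodule.mem_span_singleton.mp h1
    obtain ⟨r₂, hr₂⟩ := Submodule.mem_span_singleton.mp h2
    have hr₁0 : r₁ ≠ 0 := by
      rintro rfl
      rw [zero_smul] at hr₁
      exact hb hr₁.symm
    have hw2 : w = (r₂ * r₁⁻¹) • b i₀ := by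
      rw [← hr₁, smul_smul, mul_assoc, inv_mul_cancel₀ hr₁0, mul_one, hr₂]
    apply hc'
    funext k'
    have h3 : c (i₀.succAbove k') = c' k' := hcs k'
    have h4 : b.repr w (i₀.succAbove k') = 0 := by
      rw [hw2, LinearEquiv.map_smul, Finsupp.smul_apply, Module.Basis.repr_self,
        Finsupp.single_apply, if_neg (Fin.succAbove_ne i₀ k').symm, smul_zero]
    rw [← h3, ← hrepr]
    exact h4

theorem lemmaB (hn : Odd (n + 1)) (h₀ : QuadraticMap.polarBilin Q (b i₀) = 0) :
    QuadGrp.halfDisc b (LinearEquiv.refl K K) Q ≠ 0 ↔ Q.Nondegenerate := by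
  rw [halfDisc_eq_of_ker b Q i₀ hn h₀]
  constructor
  · intro h
    exact nondeg_of_ne_zero b Q i₀ h₀ (left_ne_zero_of_mul h) (right_ne_zero_of_mul h)
  · intro h
    obtain ⟨h1, h2⟩ := ne_zero_of_nondeg b Q i₀ h₀ h
    exact mul_ne_zero h1 h2

end LemmaB

section BasisChange

variable {R : Type*} [CommRing R] {M : Type*} [AddCommGroup M] [Module R M] {n : ℕ}

theorem coeffs_map (b : Module.Basis (Fin n) R M) (Q : QuadraticForm R M) (e : M ≃ₗ[R] M) :
    QuadGrp.coeffs (b.map e) (LinearEquiv.refl R R) Q =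
      QuadGrp.coeffs b (LinearEquiv.refl R R) (Q.comp e.toLinearMap) := by
  funext s
  induction s using Sym2.ind with
  | _ i j =>
    rw [QuadGrp.coeffs_mk, QuadGrp.coeffs_mk]
    simp only [Module.Basis.map_apply, QuadraticMap.comp_apply, QuadraticMap.polar,
      LinearEquiv.coe_coe, map_add]

theorem halfDisc_map (hn : Odd n) (b : Module.Basis (Fin n) R M) (Q : QuadraticForm R M)
    (e : M ≃ₗ[R] M) :
    QuadGrp.halfDisc (b.map e) (LinearEquiv.refl R R) Q =
      LinearMap.det e.toLinearMap ^ 2 * QuadGrp.halfDisc b (LinearEquiv.refl R R) Q := by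
  rw [← halfDisc_comp hn b Q e.toLinearMap]
  unfold QuadGrp.halfDisc
  rw [coeffs_map]

end BasisChange

section FieldMain

variable {K : Type*} [Field K] {V : Type*} [AddCommGroup V] [Module K V]

theorem field_main (m : ℕ) (b : Module.Basis (Fin (2 * m + 1)) K V) (Q : QuadraticForm K V) :
    QuadGrp.halfDisc b (LinearEquiv.refl K K) Q ≠ 0 ↔ Q.Nondegenerate := by
  have hn : Odd (2 * m + 1) := ⟨m, rfl⟩
  by_cases hdet : (PM b Q).det = 0
  · obtain ⟨v₀, hv₀, hker⟩ := exists_ker_of_det_eq_zero b Q hdet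
    obtain ⟨i₀, hi₀⟩ : ∃ i₀, b.repr v₀ i₀ ≠ 0 := by
      by_contra hcon
      apply hv₀
      have h1 : b.repr v₀ = 0 := by
        ext i
        by_contra hi
        exact hcon ⟨i, hi⟩
      exact (LinearEquiv.map_eq_zero_iff _).mp h1
    have h1 : b.coord i₀ (v₀ - b i₀) = b.repr v₀ i₀ - 1 := by
      rw [Module.Basis.coord_apply, map_sub, Finsupp.sub_apply, Module.Basis.repr_self,
        Finsupp.single_eq_same]
    have hunit : IsUnit (1 + b.coord i₀ (v₀ - b i₀)) := by
      have h2 : 1 + b.coord i₀ (v₀ - b i₀) = b.repr v₀ i₀ := by rw [h1]; ring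
      rw [h2]
      exact isUnit_iff_ne_zero.mpr hi₀
    have he : (LinearEquiv.dilatransvection hunit) (b i₀) = v₀ := by
      rw [LinearEquiv.dilatransvection.apply, Module.Basis.coord_apply, Module.Basis.repr_self,
        Finsupp.single_eq_same, one_smul]
      abel
    have hB := lemmaB (b.map (LinearEquiv.dilatransvection hunit)) Q i₀ hn
      (by rw [Module.Basis.map_apply, he]; exact hker)
    rw [← hB, halfDisc_map hn b Q (LinearEquiv.dilatransvection hunit)]
    have hu : LinearMap.det (LinearEquiv.dilatransvection hunit).toLinearMap ≠ 0 :=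
      (LinearEquiv.isUnit_det' _).ne_zero
    constructor
    · intro h
      exact mul_ne_zero (pow_ne_zero 2 hu) h
    · intro h h'
      apply h
      rw [h', mul_zero]
  · have h1 : QuadGrp.halfDisc b (LinearEquiv.refl K K) Q ≠ 0 := by
      intro h
      apply hdet
      have h2 := two_mul_eval_halfDiscUniv hn (QuadGrp.coeffs b (LinearEquiv.refl K K) Q)
      have h3 : MvPolynomial.eval₂ (Int.castRingHom K) (QuadGrp.coeffs b (LinearEquiv.refl K K) Q)
          (QuadGrp.halfDiscUniv (2 * m + 1)) = 0 := h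
      rw [h3, mul_zero] at h2
      exact h2.symm
    exact ⟨fun _ => nondeg_of_det_ne_zero b Q hdet, fun _ => h1⟩

end FieldMain

section BaseChange

variable {R : Type*} [CommRing R] {M : Type*} [AddCommGroup M] [Module R M] [Module.Free R M]
  (A : Type*) [CommRing A] [Algebra R A] {n : ℕ}

theorem baseChangeForm_one_tmul (Q : QuadraticForm R M) (x : M) :
    QuadGrp.baseChangeForm A Q ((1 : A) ⊗ₜ[R] x) = algebraMap R A (Q x) := by
  show (TensorProduct.AlgebraTensorModule.rid R A A)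
    (QuadGrp.baseChange A Q ((1 : A) ⊗ₜ[R] x)) = _
  rw [QuadGrp.baseChange_tmul, TensorProduct.AlgebraTensorModule.rid_tmul, mul_one,
    Algebra.algebraMap_eq_smul_one]

theorem coeffs_baseChangeForm (b : Module.Basis (Fin n) R M) (Q : QuadraticForm R M)
    (s : Sym2 (Fin n)) :
    QuadGrp.coeffs (Algebra.TensorProduct.basis A b) (LinearEquiv.refl A A)
        (QuadGrp.baseChangeForm A Q) s =
      algebraMap R A (QuadGrp.coeffs b (LinearEquiv.refl R R) Q s) := by
  induction s using Sym2.ind with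
  | _ i j =>
    rw [QuadGrp.coeffs_mk, QuadGrp.coeffs_mk]
    by_cases h : i = j
    · rw [if_pos h, if_pos h, Algebra.TensorProduct.basis_apply, LinearEquiv.refl_apply,
        LinearEquiv.refl_apply, baseChangeForm_one_tmul]
    · rw [if_neg h, if_neg h, LinearEquiv.refl_apply, LinearEquiv.refl_apply]
      simp only [QuadraticMap.polar, Algebra.TensorProduct.basis_apply,
        ← TensorProduct.tmul_add, baseChangeForm_one_tmul, map_sub]

theorem halfDisc_baseChangeForm (b : Module.Basis (Fin n) R M) (Q : QuadraticForm R M) :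
    QuadGrp.halfDisc (Algebra.TensorProduct.basis A b) (LinearEquiv.refl A A)
        (QuadGrp.baseChangeForm A Q) =
      algebraMap R A (QuadGrp.halfDisc b (LinearEquiv.refl R R) Q) := by
  unfold QuadGrp.halfDisc
  rw [MvPolynomial.eval₂_comp_left (algebraMap R A)]
  have hcomp : (algebraMap R A).comp (Int.castRingHom R) = Int.castRingHom A :=
    RingHom.ext_int _ _
  rw [hcomp]
  congr 1
  funext s
  exact coeffs_baseChangeForm A b Q s

end BaseChange

theorem isUnit_iff_forall_residueField {R : Type*} [CommRing R] (x : R) :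
    IsUnit x ↔ ∀ (p : Ideal R) [p.IsPrime], algebraMap R p.ResidueField x ≠ 0 := by
  constructor
  · intro hx p hp h
    rw [Ideal.algebraMap_residueField_eq_zero] at h
    exact hp.ne_top (Ideal.eq_top_of_isUnit_mem _ h hx)
  · intro h
    by_contra hx
    obtain ⟨P, hP, hxP⟩ := exists_max_ideal_of_mem_nonunits (mem_nonunits_iff.mpr hx)
    have hPp := hP.isPrime
    exact h P ((Ideal.algebraMap_residueField_eq_zero).mpr hxP)

theorem main {R : Type*} [CommRing R] {M : Type*} [AddCommGroup M] [Module R M]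
    [Module.Free R M] (m : ℕ) (b : Module.Basis (Fin (2 * m + 1)) R M) (Q : QuadraticForm R M) :
    IsUnit (QuadGrp.halfDisc b (LinearEquiv.refl R R) Q) ↔
      ∀ (p : Ideal R) [p.IsPrime],
        QuadraticMap.Nondegenerate (Q := QuadGrp.baseChangeForm p.ResidueField Q) := by
  rw [isUnit_iff_forall_residueField]
  refine forall_congr' fun p => ?_
  refine forall_congr' fun hp => ?_
  rw [← halfDisc_baseChangeForm p.ResidueField b Q]
  exact field_main m _ _

end Groth.Agent.Helper25.QuadNondeg
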