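import Mathlib
import Groth.Prelude.Def_StabCat

/-!
# Transitivity of the reduced comparisons `StabCat.RedLE` / `StabCat.RedLT`

Mathlib-only (plus the prelude definitions).  Written for helper18 (S15199).
-/

set_option autoImplicit false

open Polynomial StabCat

namespace Groth.Agent.Helper25.RedTrans

/-- pointwise form of `RedLT d r q` -/
theorem redLT_iff (d : ℕ) (r q : ℚ[X]) :
    RedLT d r q ↔ ∃ N : ℕ, ∀ m : ℕ, N ≤ m →
      alpha d q * r.eval (m : ℚ) < alpha d r * q.eval (m : ℚ) := by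
  unfold RedLT PolyLT
  simp only [eval_smul, smul_eq_mul]

/-- pointwise form of `RedLE d r q` -/
theorem redLE_iff (d : ℕ) (r q : ℚ[X]) :
    RedLE d r q ↔ ∃ N : ℕ, ∀ m : ℕ, N ≤ m →
      alpha d q * r.eval (m : ℚ) ≤ alpha d r * q.eval (m : ℚ) := by
  unfold RedLE PolyLE
  simp only [eval_smul, smul_eq_mul]

/-- the arithmetic core: `b r < c q`, `a q < b p`, `a, b, c ≥ 0`, `r ≥ 0` give `a r < c p` -/
theorem core_lt_lt {a b c R Q P : ℚ} (ha : 0 ≤ a) (hb : 0 ≤ b) (hc : 0 ≤ c) (hR : 0 ≤ R)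
    (h1 : b * R < c * Q) (h2 : a * Q < b * P) : a * R < c * P := by
  rcases hb.eq_or_lt with hb0 | hb0
  · -- b = 0: 0 < c Q, a Q < 0: contradiction
    exfalso
    rw [← hb0] at h1 h2
    rw [zero_mul] at h1 h2
    have hQ : 0 < Q := by
      by_contra hq
      rw [not_lt] at hq
      have := mul_nonpos_of_nonneg_of_nonpos hc hq
      linarith
    have := mul_nonneg ha hQ.le
    linarith
  · have hc0 : 0 < c := by
      rcases hc.eq_or_lt with h | h
      · rw [← h, zero_mul] at h1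
        exact absurd h1 (not_lt.2 (mul_nonneg hb0.le hR))
      · exact h
    -- a b R ≤ a c Q, c a Q < c b P
    have e1 : a * (b * R) ≤ a * (c * Q) := mul_le_mul_of_nonneg_left h1.le ha
    have e2 : c * (a * Q) < c * (b * P) := mul_lt_mul_of_pos_left h2 hc0
    have e3 : b * (a * R) < b * (c * P) := by nlinarith
    exact lt_of_mul_lt_mul_left e3 hb0.le

/-- **Transitivity of `RedLT`** (helper18's signature): multiplicities `≥ 0` and `r` eventually
nonnegative suffice. -/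
theorem redLT_trans (d : ℕ) (p q r : ℚ[X]) (hp : 0 ≤ alpha d p) (hq : 0 ≤ alpha d q)
    (hr : 0 ≤ alpha d r) (hrn : ∃ N : ℕ, ∀ m : ℕ, N ≤ m → 0 ≤ r.eval (m : ℚ))
    (h1 : RedLT d r q) (h2 : RedLT d q p) : RedLT d r p := by
  rw [redLT_iff] at h1 h2 ⊢
  obtain ⟨N0, hN0⟩ := hrn
  obtain ⟨N1, hN1⟩ := h1
  obtain ⟨N2, hN2⟩ := h2
  refine ⟨max N0 (max N1 N2), fun m hm => ?_⟩
  have hm0 : N0 ≤ m := le_trans (le_max_left _ _) hm
  have hm1 : N1 ≤ m := le_trans (le_trans (le_max_left _ _) (le_max_right _ _)) hm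
  have hm2 : N2 ≤ m := le_trans (le_trans (le_max_right _ _) (le_max_right _ _)) hm
  exact core_lt_lt hp hq hr (hN0 m hm0) (hN1 m hm1) (hN2 m hm2)

/-- `RedLE` then `RedLT` (needs `alpha q > 0` and `alpha r > 0`) -/
theorem redLT_of_redLE_of_redLT (d : ℕ) (p q r : ℚ[X]) (hp : 0 ≤ alpha d p) (hq : 0 < alpha d q)
    (hr : 0 < alpha d r) (h1 : RedLE d r q) (h2 : RedLT d q p) : RedLT d r p := by
  rw [redLE_iff] at h1
  rw [redLT_iff] at h2 ⊢
  obtain ⟨N1, hN1⟩ := h1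
  obtain ⟨N2, hN2⟩ := h2
  refine ⟨max N1 N2, fun m hm => ?_⟩
  have e1 := hN1 m (le_trans (le_max_left _ _) hm)
  have e2 := hN2 m (le_trans (le_max_right _ _) hm)
  have f1 : alpha d p * (alpha d q * r.eval (m : ℚ)) ≤ alpha d p * (alpha d r * q.eval (m : ℚ)) :=
    mul_le_mul_of_nonneg_left e1 hp
  have f2 : alpha d r * (alpha d p * q.eval (m : ℚ)) < alpha d r * (alpha d q * p.eval (m : ℚ)) :=
    mul_lt_mul_of_pos_left e2 hr
  have f3 : alpha d q * (alpha d p * r.eval (m : ℚ)) < alpha d q * (alpha d r * p.eval (m : ℚ)) := by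
    nlinarith
  exact lt_of_mul_lt_mul_left f3 hq.le

/-- `RedLT` then `RedLE` (needs `alpha p > 0` and `alpha q > 0`) -/
theorem redLT_of_redLT_of_redLE (d : ℕ) (p q r : ℚ[X]) (hp : 0 < alpha d p) (hq : 0 < alpha d q)
    (hr : 0 ≤ alpha d r) (h1 : RedLT d r q) (h2 : RedLE d q p) : RedLT d r p := by
  rw [redLE_iff] at h2
  rw [redLT_iff] at h1 ⊢
  obtain ⟨N1, hN1⟩ := h1
  obtain ⟨N2, hN2⟩ := h2
  refine ⟨max N1 N2, fun m hm => ?_⟩
  have e1 := hN1 m (le_trans (le_max_left _ _) hm)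
  have e2 := hN2 m (le_trans (le_max_right _ _) hm)
  have f1 : alpha d p * (alpha d q * r.eval (m : ℚ)) < alpha d p * (alpha d r * q.eval (m : ℚ)) :=
    mul_lt_mul_of_pos_left e1 hp
  have f2 : alpha d r * (alpha d p * q.eval (m : ℚ)) ≤ alpha d r * (alpha d q * p.eval (m : ℚ)) :=
    mul_le_mul_of_nonneg_left e2 hr
  have f3 : alpha d q * (alpha d p * r.eval (m : ℚ)) < alpha d q * (alpha d r * p.eval (m : ℚ)) := by
    nlinarith
  exact lt_of_mul_lt_mul_left f3 hq.le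

/-- transitivity of `RedLE` (needs `alpha q > 0`) -/
theorem redLE_trans (d : ℕ) (p q r : ℚ[X]) (hp : 0 ≤ alpha d p) (hq : 0 < alpha d q)
    (hr : 0 ≤ alpha d r) (h1 : RedLE d r q) (h2 : RedLE d q p) : RedLE d r p := by
  rw [redLE_iff] at h1 h2 ⊢
  obtain ⟨N1, hN1⟩ := h1
  obtain ⟨N2, hN2⟩ := h2
  refine ⟨max N1 N2, fun m hm => ?_⟩
  have e1 := hN1 m (le_trans (le_max_left _ _) hm)
  have e2 := hN2 m (le_trans (le_max_right _ _) hm)
  have f1 : alpha d p * (alpha d q * r.eval (m : ℚ)) ≤ alpha d p * (alpha d r * q.eval (m : ℚ)) :=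
    mul_le_mul_of_nonneg_left e1 hp
  have f2 : alpha d r * (alpha d p * q.eval (m : ℚ)) ≤ alpha d r * (alpha d q * p.eval (m : ℚ)) :=
    mul_le_mul_of_nonneg_left e2 hr
  have f3 : alpha d q * (alpha d p * r.eval (m : ℚ)) ≤ alpha d q * (alpha d r * p.eval (m : ℚ)) := by
    nlinarith
  exact le_of_mul_le_mul_left f3 hq

/-- `RedLT` is irreflexive -/
theorem not_redLT_self (d : ℕ) (p : ℚ[X]) : ¬ RedLT d p p := by
  rw [redLT_iff]
  rintro ⟨N, hN⟩
  exact lt_irrefl _ (hN N le_rfl)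

/-- the image argument: `a ≤ i`, `g < a`, `i ≤ g` (reduced comparisons) is contradictory when
`alpha a, alpha g > 0` and `alpha i > 0` -/
theorem false_of_chain (d : ℕ) (a g i : ℚ[X]) (ha : 0 < alpha d a) (hg : 0 < alpha d g)
    (hi : 0 < alpha d i) (h1 : RedLE d a i) (h2 : RedLT d g a) (h3 : RedLE d i g) : False := by
  -- i ≤ g < a gives i < a; then a ≤ i < a
  have h4 : RedLT d i a := redLT_of_redLE_of_redLT d a g i ha.le hg hi h3 h2
  have h5 : RedLT d a a := redLT_of_redLE_of_redLT d a i a ha.le hi ha h1 h4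
  exact not_redLT_self d a h5

end Groth.Agent.Helper25.RedTrans
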