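import Mathlib

namespace Groth.Agent.Helper25.RegDescend

open IsLocalRing

universe u v

theorem li_cotangent_iff {R : Type u} [CommRing R] [IsLocalRing R] {n : Type*} [Fintype n]
    (v : n → maximalIdeal R) :
    LinearIndependent (ResidueField R) (⇑(maximalIdeal R).toCotangent ∘ v) ↔
      ∀ a : n → R, (∑ i, a i * (v i : R)) ∈ (maximalIdeal R) ^ 2 → ∀ i, a i ∈ maximalIdeal R := by
  have key : ∀ a : n → R, ∑ i, residue R (a i) • ((maximalIdeal R).toCotangent ∘ v) i =
      (maximalIdeal R).toCotangent (∑ i, a i • v i) := by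
    intro a
    rw [map_sum]
    refine Finset.sum_congr rfl fun i _ => ?_
    rw [map_smul]
    exact algebraMap_smul (ResidueField R) (a i) ((maximalIdeal R).toCotangent (v i))
  have key2 : ∀ a : n → R, ((∑ i, a i • v i : maximalIdeal R) : R) = ∑ i, a i * (v i : R) := by
    intro a
    rw [AddSubmonoidClass.coe_finset_sum]
    rfl
  rw [Fintype.linearIndependent_iff]
  constructor
  · intro h a ha i
    have h1 := h (fun i => residue R (a i)) (by
      rw [key, Ideal.toCotangent_eq_zero, key2]; exact ha) i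
    exact (residue_eq_zero_iff _).1 h1
  · intro h g hg i
    choose a ha using fun i => residue_surjective (g i)
    have hg' : ∑ i, residue R (a i) • ((maximalIdeal R).toCotangent ∘ v) i = 0 := by
      rw [← hg]
      exact Finset.sum_congr rfl fun i _ => by rw [ha]
    rw [key, Ideal.toCotangent_eq_zero, key2] at hg'
    rw [← ha i]
    exact (residue_eq_zero_iff _).2 (h a hg' i)

theorem main {A : Type u} [CommRing A] [IsLocalRing A]
    {ι : Type v} [Preorder ι] [Nonempty ι] [IsDirected ι (· ≤ ·)]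
    (B : ι → Type u) [∀ j, CommRing (B j)] [∀ j, IsLocalRing (B j)]
    (φ : ∀ i j, i ≤ j → (B i →+* B j)) (hφloc : ∀ i j (h : i ≤ j), IsLocalHom (φ i j h))
    (hφ : ∀ i j l (hij : i ≤ j) (hjl : j ≤ l), (φ j l hjl).comp (φ i j hij) = φ i l (hij.trans hjl))
    (ψ : ∀ j, B j →+* A) (hψ : ∀ i j (h : i ≤ j), (ψ j).comp (φ i j h) = ψ i)
    (hsurj : ∀ a : A, ∃ j, ∃ x : B j, ψ j x = a)
    (hker : ∀ j (x : B j), ψ j x = 0 → ∃ l, ∃ h : j ≤ l, φ j l h x = 0)
    (c d : ℕ) (f : Fin c → maximalIdeal A) (g : Fin d → maximalIdeal A)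
    (hind : LinearIndependent (ResidueField A) (⇑(maximalIdeal A).toCotangent ∘ Sum.elim f g)) :
    ∃ j₀ : ι, ∃ (P : ∀ j, j₀ ≤ j → Ideal (B j)) (Q : ∀ j, j₀ ≤ j → Ideal (B j)),
      (∀ j (hj : j₀ ≤ j), ∃ (F : Fin c → maximalIdeal (B j)) (E : Fin d → maximalIdeal (B j)),
        LinearIndependent (ResidueField (B j)) (⇑(maximalIdeal (B j)).toCotangent ∘ Sum.elim F E) ∧
        P j hj = Ideal.span (Set.range (fun s => (F s : B j))) ∧
        Q j hj = P j hj ⊔ Ideal.span (Set.range (fun t => (E t : B j)))) ∧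
      (∀ i j (hi : j₀ ≤ i) (hij : i ≤ j),
        (P i hi).map (φ i j hij) = P j (le_trans hi hij) ∧ (Q i hi).map (φ i j hij) = Q j (le_trans hi hij)) ∧
      (∀ j (hj : j₀ ≤ j),
        (P j hj).map (ψ j) = Ideal.span (Set.range (fun s => (f s : A))) ∧
        (Q j hj).map (ψ j) = Ideal.span (Set.range (fun s => (f s : A))) ⊔ Ideal.span (Set.range (fun t => (g t : A)))) := by
  classical
  have hψa : ∀ i j (h : i ≤ j) (x : B i), ψ j (φ i j h x) = ψ i x := fun i j h x =>
    RingHom.congr_fun (hψ i j h) x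
  have hφa : ∀ i j l (hij : i ≤ j) (hjl : j ≤ l) (x : B i),
      φ j l hjl (φ i j hij x) = φ i l (hij.trans hjl) x :=
    fun i j l hij hjl x => RingHom.congr_fun (hφ i j l hij hjl) x
  have hloc : ∀ j (x : B j), IsUnit (ψ j x) → IsUnit x := by
    intro j x hx
    obtain ⟨y', hy'⟩ := hx.exists_right_inv
    obtain ⟨l, y, rfl⟩ := hsurj y'
    obtain ⟨m, hjm, hlm⟩ := exists_ge_ge j l
    obtain ⟨n, hmn, hz⟩ := hker m (φ j m hjm x * φ l m hlm y - 1) (by
      rw [map_sub, map_mul, hψa, hψa, hy', map_one, sub_self])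
    rw [map_sub, map_mul, map_one, sub_eq_zero, hφa, hφa] at hz
    haveI := hφloc j n (hjm.trans hmn)
    exact isUnit_of_map_unit (φ j n (hjm.trans hmn)) x (IsUnit.of_mul_eq_one _ hz)
  have hmax : ∀ j (x : B j), x ∈ maximalIdeal (B j) → ψ j x ∈ maximalIdeal A := by
    intro j x hx
    rw [mem_maximalIdeal, mem_nonunits_iff] at hx ⊢
    exact fun h => hx (hloc j x h)
  have hmem : ∀ j (x : B j), ψ j x ∈ maximalIdeal A → x ∈ maximalIdeal (B j) := by
    intro j x hx
    rw [mem_maximalIdeal, mem_nonunits_iff] at hx ⊢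
    exact fun h => hx (h.map (ψ j))
  let w : Fin c ⊕ Fin d → A := fun i => ((Sum.elim f g i : maximalIdeal A) : A)
  have hw : ∀ i, w i ∈ maximalIdeal A := fun i => (Sum.elim f g i).2
  choose jj xx hxx using fun i => hsurj (w i)
  obtain ⟨j₀, hj₀⟩ := Finite.exists_le jj
  let W : Fin c ⊕ Fin d → B j₀ := fun i => φ (jj i) j₀ (hj₀ i) (xx i)
  have hW : ∀ i, ψ j₀ (W i) = w i := fun i => by
    show ψ j₀ (φ (jj i) j₀ (hj₀ i) (xx i)) = w i
    rw [hψa, hxx]
  let V : ∀ j, j₀ ≤ j → Fin c ⊕ Fin d → B j := fun j hj i => φ j₀ j hj (W i)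
  have hV : ∀ j hj i, ψ j (V j hj i) = w i := fun j hj i => by
    show ψ j (φ j₀ j hj (W i)) = w i
    rw [hψa, hW]
  have hVm : ∀ j hj i, V j hj i ∈ maximalIdeal (B j) := fun j hj i =>
    hmem j _ (by rw [hV]; exact hw i)
  have hVV : ∀ i j (hi : j₀ ≤ i) (hij : i ≤ j) k,
      φ i j hij (V i hi k) = V j (hi.trans hij) k :=
    fun i j hi hij k => hφa _ _ _ _ _ _
  refine ⟨j₀, fun j hj => Ideal.span (Set.range fun s => V j hj (Sum.inl s)),
    fun j hj => Ideal.span (Set.range fun s => V j hj (Sum.inl s)) ⊔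
      Ideal.span (Set.range fun t => V j hj (Sum.inr t)), ?_, ?_, ?_⟩
  · intro j hj
    refine ⟨fun s => ⟨V j hj (Sum.inl s), hVm j hj _⟩, fun t => ⟨V j hj (Sum.inr t), hVm j hj _⟩,
      ?_, rfl, rfl⟩
    rw [li_cotangent_iff]
    intro a ha i
    apply hmem
    refine (li_cotangent_iff (Sum.elim f g)).1 hind (fun i => ψ j (a i)) ?_ i
    have h2 := Ideal.mem_map_of_mem (ψ j) ha
    rw [Ideal.map_pow] at h2
    have h0 : Ideal.map (ψ j) (maximalIdeal (B j)) ≤ maximalIdeal A :=
      Ideal.map_le_iff_le_comap.2 (fun x hx => Ideal.mem_comap.2 (hmax j x hx))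
    have h1 := Ideal.pow_right_mono h0 2 h2
    rw [map_sum] at h1
    convert h1 using 2 with i
    rw [map_mul]
    congr 1
    cases i with
    | inl s => exact (hV j hj (Sum.inl s)).symm
    | inr t => exact (hV j hj (Sum.inr t)).symm
  · intro i j hi hij
    have hP : ∀ (ι' : Type) (e : ι' → Fin c ⊕ Fin d),
        (Ideal.span (Set.range fun s => V i hi (e s))).map (φ i j hij) =
          Ideal.span (Set.range fun s => V j (hi.trans hij) (e s)) := by
      intro ι' e
      rw [Ideal.map_span, ← Set.range_comp]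
      congr 2
      funext s
      exact hVV i j hi hij (e s)
    refine ⟨hP _ Sum.inl, ?_⟩
    rw [Ideal.map_sup, hP _ Sum.inl, hP _ Sum.inr]
  · intro j hj
    have hP : ∀ (ι' : Type) (e : ι' → Fin c ⊕ Fin d),
        (Ideal.span (Set.range fun s => V j hj (e s))).map (ψ j) =
          Ideal.span (Set.range fun s => w (e s)) := by
      intro ι' e
      rw [Ideal.map_span, ← Set.range_comp]
      congr 2
      funext s
      exact hV j hj (e s)
    refine ⟨hP _ Sum.inl, ?_⟩
    rw [Ideal.map_sup, hP _ Sum.inl, hP _ Sum.inr]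
    rfl

end Groth.Agent.Helper25.RegDescend
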