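import Mathlib

namespace Groth.Agent.Helper25.SLPath

open Matrix Polynomial

lemma six_prod_abstract {F M : Type*} [Field F] [Ring M] [Algebra F M] (e f h1 h2 : M)
    (ee : e * e = 0) (ff : f * f = 0) (ef : e * f = h1) (fe : f * e = h2) (h1e : h1 * e = e)
    (eh2 : e * h2 = e) (h2f : h2 * f = f) (fh1 : f * h1 = f)
    (h1f : h1 * f = 0) (eh1 : e * h1 = 0) (h2e : h2 * e = 0) (fh2 : f * h2 = 0)
    (h11 : h1 * h1 = h1) (h22 : h2 * h2 = h2) (h12 : h1 * h2 = 0) (h21 : h2 * h1 = 0)
    (a : F) (ha : a ≠ 0) :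
    (1 + a • e) * (1 + (-a⁻¹) • f) * (1 + a • e) * (1 + (-1 : F) • e) * (1 + f) *
      (1 + (-1 : F) • e) = 1 + (a - 1) • h1 + (a⁻¹ - 1) • h2 := by
  have s1 : (1 + a • e) * (1 + (-a⁻¹) • f) * (1 + a • e)
      = 1 + a • e + (-a⁻¹) • f + (-1 : F) • h1 + (-1 : F) • h2 := by
    simp only [mul_add, add_mul, mul_one, one_mul, smul_mul_smul_comm, ee, ff, ef, fe, h1e, eh2,
      h2f, fh1, h1f, eh1, h2e, fh2, h11, h22, h12, h21, smul_zero, add_zero, zero_add]
    match_scalars <;> field_simp <;> ring
  have s2 : (1 + (-1 : F) • e) * (1 + f) * (1 + (-1 : F) • e)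
      = 1 + (-1 : F) • e + f + (-1 : F) • h1 + (-1 : F) • h2 := by
    simp only [mul_add, add_mul, mul_one, one_mul, smul_mul_smul_comm, smul_mul_assoc, mul_smul_comm, smul_smul, ee, ff, ef, fe, h1e, eh2,
      h2f, fh1, h1f, eh1, h2e, fh2, h11, h22, h12, h21, smul_zero, add_zero, zero_add]
    match_scalars <;> ring
  have s3 : (1 + a • e) * (1 + (-a⁻¹) • f) * (1 + a • e) * (1 + (-1 : F) • e) * (1 + f) *
      (1 + (-1 : F) • e) = ((1 + a • e) * (1 + (-a⁻¹) • f) * (1 + a • e)) *
        ((1 + (-1 : F) • e) * (1 + f) * (1 + (-1 : F) • e)) := by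
    simp only [mul_assoc]
  rw [s3, s1, s2]
  simp only [mul_add, add_mul, mul_one, one_mul, smul_mul_smul_comm, smul_mul_assoc, mul_smul_comm, smul_smul, ee, ff, ef, fe, h1e, eh2,
    h2f, fh1, h1f, eh1, h2e, fh2, h11, h22, h12, h21, smul_zero, add_zero, zero_add]
  match_scalars <;> field_simp <;> ring

variable {ι : Type*} [Fintype ι] [DecidableEq ι]

lemma six_prod {F : Type*} [Field F] {i j : ι} (hij : i ≠ j) (a : F) (ha : a ≠ 0) :
    (1 + single i j a) * (1 + single j i (-a⁻¹)) * (1 + single i j a) * (1 + single i j (-1)) *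
      (1 + single j i 1) * (1 + single i j (-1) : Matrix ι ι F)
      = diagonal (fun k => if k = i then a else if k = j then a⁻¹ else 1) := by
  have hs : ∀ (x y : ι) (c : F), single x y c = c • (single x y 1 : Matrix ι ι F) := by
    intro x y c; rw [smul_single, smul_eq_mul, mul_one]
  rw [hs i j a, hs j i (-a⁻¹), hs i j (-1)]
  rw [six_prod_abstract (single i j 1 : Matrix ι ι F) (single j i 1) (single i i 1) (single j j 1)
    (single_mul_single_of_ne _ _ _ _ hij.symm _)
    (single_mul_single_of_ne _ _ _ _ hij _)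
    (by rw [single_mul_single_same, mul_one])
    (by rw [single_mul_single_same, mul_one])
    (by rw [single_mul_single_same, mul_one])
    (by rw [single_mul_single_same, mul_one])
    (by rw [single_mul_single_same, mul_one])
    (by rw [single_mul_single_same, mul_one])
    (single_mul_single_of_ne _ _ _ _ hij _)
    (single_mul_single_of_ne _ _ _ _ hij.symm _)
    (single_mul_single_of_ne _ _ _ _ hij.symm _)
    (single_mul_single_of_ne _ _ _ _ hij _)
    (by rw [single_mul_single_same, mul_one])
    (by rw [single_mul_single_same, mul_one])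
    (single_mul_single_of_ne _ _ _ _ hij _)
    (single_mul_single_of_ne _ _ _ _ hij.symm _) a ha]
  ext k l
  simp only [Matrix.add_apply, Matrix.smul_apply, Matrix.one_apply, Matrix.single_apply,
    Matrix.diagonal_apply, smul_eq_mul]
  by_cases hkl : k = l
  · subst hkl
    by_cases hki : k = i
    · subst hki
      have : ¬ j = k := fun h => hij h.symm
      simp [this]
    · by_cases hkj : k = j
      · subst hkj
        have : ¬ i = k := fun h => hki h.symm
        simp [this, hki]
      · have h1 : ¬ i = k := fun h => hki h.symm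
        have h2 : ¬ j = k := fun h => hkj h.symm
        simp [hki, hkj, h1, h2]
  · have h1 : ¬ (i = k ∧ i = l) := fun h => hkl (h.1.symm.trans h.2)
    have h2 : ¬ (j = k ∧ j = l) := fun h => hkl (h.1.symm.trans h.2)
    simp [hkl, h1, h2]

open Matrix.SpecialLinearGroup in
lemma map_transvection {R S : Type*} [CommRing R] [CommRing S] (f : R →+* S) {i j : ι}
    (hij : i ≠ j) (b : R) :
    SpecialLinearGroup.map f (transvection hij b) = transvection hij (f b) := by
  apply Subtype.ext
  ext k l
  simp only [SpecialLinearGroup.map_apply_coe, RingHom.mapMatrix_apply, transvection_coe,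
    Matrix.map_apply]
  simp only [Matrix.add_apply, Matrix.one_apply, Matrix.single_apply, map_add]
  split_ifs <;> simp

open Matrix.SpecialLinearGroup in
theorem s15083 (K : Type*) [Field K] (r : ℕ) (hr : 1 ≤ r)
    (A : Matrix.SpecialLinearGroup (Fin (r + 1)) K) :
    ∃ M : Matrix.SpecialLinearGroup (Fin (r + 1)) (Polynomial K),
      Matrix.SpecialLinearGroup.map (Polynomial.evalRingHom (0 : K)) M = 1 ∧
      Matrix.SpecialLinearGroup.map (Polynomial.evalRingHom (1 : K)) M = A := by
  haveI : Nontrivial (Fin (r + 1)) := Fin.nontrivial_iff_two_le.mpr (by omega)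
  have htr : ∀ (i j : Fin (r + 1)) (hij : i ≠ j) (a : K),
      ∃ M : Matrix.SpecialLinearGroup (Fin (r + 1)) (Polynomial K),
      Matrix.SpecialLinearGroup.map (Polynomial.evalRingHom (0 : K)) M = 1 ∧
      Matrix.SpecialLinearGroup.map (Polynomial.evalRingHom (1 : K)) M = transvection hij a := by
    intro i j hij a
    refine ⟨transvection hij (C a * X), ?_, ?_⟩
    · rw [map_transvection]
      simp [transvection_coeff_zero]
    · rw [map_transvection]
      simp
  have hmul : ∀ A B : Matrix.SpecialLinearGroup (Fin (r + 1)) K,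
      (∃ M : Matrix.SpecialLinearGroup (Fin (r + 1)) (Polynomial K),
      Matrix.SpecialLinearGroup.map (Polynomial.evalRingHom (0 : K)) M = 1 ∧
      Matrix.SpecialLinearGroup.map (Polynomial.evalRingHom (1 : K)) M = A) →
      (∃ M : Matrix.SpecialLinearGroup (Fin (r + 1)) (Polynomial K),
      Matrix.SpecialLinearGroup.map (Polynomial.evalRingHom (0 : K)) M = 1 ∧
      Matrix.SpecialLinearGroup.map (Polynomial.evalRingHom (1 : K)) M = B) →
      (∃ M : Matrix.SpecialLinearGroup (Fin (r + 1)) (Polynomial K),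
      Matrix.SpecialLinearGroup.map (Polynomial.evalRingHom (0 : K)) M = 1 ∧
      Matrix.SpecialLinearGroup.map (Polynomial.evalRingHom (1 : K)) M = A * B) := by
    rintro A B ⟨M, hM0, hM1⟩ ⟨N, hN0, hN1⟩
    exact ⟨M * N, by rw [map_mul, hM0, hN0, one_mul], by rw [map_mul, hM1, hN1]⟩
  refine diagonal_transvection_induction'
    (fun A => ∃ M : Matrix.SpecialLinearGroup (Fin (r + 1)) (Polynomial K),
      Matrix.SpecialLinearGroup.map (Polynomial.evalRingHom (0 : K)) M = 1 ∧
      Matrix.SpecialLinearGroup.map (Polynomial.evalRingHom (1 : K)) M = A) A ?_ htr hmul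
  intro i j hij c hc
  have hdec : diag2n hij c hc = transvection hij c * transvection hij.symm (-c⁻¹) *
      transvection hij c * transvection hij (-1) * transvection hij.symm 1 *
      transvection hij (-1) := by
    apply Subtype.ext
    simp only [Matrix.SpecialLinearGroup.coe_mul, transvection_coe, diag2n_coe]
    exact (six_prod hij c hc).symm
  rw [hdec]
  exact hmul _ _ (hmul _ _ (hmul _ _ (hmul _ _ (hmul _ _ (htr _ _ _ _) (htr _ _ _ _))
    (htr _ _ _ _)) (htr _ _ _ _)) (htr _ _ _ _)) (htr _ _ _ _)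

end Groth.Agent.Helper25.SLPath
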