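import Mathlib

namespace Groth.Agent.Helper25.SemiInt

open Polynomial Module UniqueFactorizationMonoid

universe u v w

variable {K : Type u} [Field K]

section Basic

variable {V : Type v} {W : Type w} [AddCommGroup V] [Module K V] [AddCommGroup W] [Module K W]

theorem pow_intertwine (π₁ : End K V) (π₂ : End K W) (h : V →ₗ[K] W)
    (hh : ∀ v, h (π₁ v) = π₂ (h v)) (n : ℕ) (v : V) : h ((π₁ ^ n) v) = (π₂ ^ n) (h v) := by
  induction n generalizing v with
  | zero => simp
  | succ n ih => rw [pow_succ, pow_succ, Module.End.mul_apply, Module.End.mul_apply, ih, hh]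

theorem aeval_intertwine (π₁ : End K V) (π₂ : End K W) (h : V →ₗ[K] W)
    (hh : ∀ v, h (π₁ v) = π₂ (h v)) (q : K[X]) (v : V) :
    h (aeval π₁ q v) = aeval π₂ q (h v) := by
  induction q using Polynomial.induction_on' with
  | add p q hp hq => simp only [map_add, LinearMap.add_apply, hp, hq]
  | monomial n a =>
    rw [aeval_monomial, aeval_monomial]
    simp only [Module.End.mul_apply, Module.algebraMap_end_apply, map_smul,
      pow_intertwine π₁ π₂ h hh]

/-- The operator `h ↦ h ∘ π₁ - π₂ ∘ h`. -/
noncomputable def Tmap (π₁ : End K V) (π₂ : End K W) : End K (V →ₗ[K] W) :=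
  LinearMap.lcomp K W π₁ - LinearMap.llcomp K V W W π₂

theorem Tmap_apply (π₁ : End K V) (π₂ : End K W) (h : V →ₗ[K] W) (x : V) :
    Tmap π₁ π₂ h x = h (π₁ x) - π₂ (h x) := rfl

theorem mem_ker_Tmap (π₁ : End K V) (π₂ : End K W) (h : V →ₗ[K] W) :
    h ∈ LinearMap.ker (Tmap π₁ π₂) ↔ ∀ x, h (π₁ x) = π₂ (h x) := by
  rw [LinearMap.mem_ker]
  constructor
  · intro hh x
    have := LinearMap.congr_fun hh x
    rw [Tmap_apply, LinearMap.zero_apply, sub_eq_zero] at this
    exact this
  · intro hh
    apply LinearMap.ext; intro x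
    rw [Tmap_apply, LinearMap.zero_apply, sub_eq_zero]; exact hh x

/-- simple: no nontrivial invariant subspaces -/
def Simple (π : End K V) : Prop :=
  ∀ r : Submodule K V, r ∈ π.invtSubmodule → r = ⊥ ∨ r = ⊤

noncomputable def evAt (π : End K V) (w : V) : K[X] →ₗ[K] V :=
  (LinearMap.applyₗ w) ∘ₗ (aeval π).toLinearMap

theorem evAt_apply (π : End K V) (w : V) (q : K[X]) : evAt π w q = aeval π q w := rfl

theorem ker_aeval_mem_invt (π : End K V) (A : K[X]) :
    LinearMap.ker (aeval π A) ∈ π.invtSubmodule := by
  rw [Module.End.mem_invtSubmodule]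
  intro v hv
  rw [Submodule.mem_comap, LinearMap.mem_ker]
  rw [LinearMap.mem_ker] at hv
  have := aeval_intertwine π π π (fun _ => rfl) A v
  rw [← this, hv, map_zero]

theorem evAt_surj (π : End K V) (hs : Simple π) (w : V) (hw : w ≠ 0) :
    Function.Surjective (evAt π w) := by
  have hinv : LinearMap.range (evAt π w) ∈ π.invtSubmodule := by
    rw [Module.End.mem_invtSubmodule]
    rintro _ ⟨q, rfl⟩
    show π (evAt π w q) ∈ LinearMap.range (evAt π w)
    refine ⟨X * q, ?_⟩
    simp [evAt_apply, Module.End.mul_apply]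
  rcases hs _ hinv with h | h
  · exfalso; apply hw
    have hmem : w ∈ LinearMap.range (evAt π w) := ⟨1, by simp [evAt_apply]⟩
    rw [h] at hmem
    exact (Submodule.mem_bot K).1 hmem
  · exact LinearMap.range_eq_top.1 h

theorem aeval_eq_zero_of_apply (π : End K V) (hs : Simple π) (w : V) (hw : w ≠ 0) (q : K[X])
    (h : aeval π q w = 0) : aeval π q = 0 := by
  apply LinearMap.ext; intro v
  obtain ⟨r, rfl⟩ := evAt_surj π hs w hw v
  rw [evAt_apply, ← Module.End.mul_apply, ← map_mul, mul_comm, map_mul, Module.End.mul_apply, h,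
    map_zero]
  rfl

theorem minpoly_irreducible [FiniteDimensional K V] [Nontrivial V] (π : End K V)
    (hs : Simple π) : Irreducible (minpoly K π) := by
  have hint : IsIntegral K π := LinearMap.isIntegral π
  have hne : minpoly K π ≠ 0 := minpoly.ne_zero hint
  rw [irreducible_iff]
  refine ⟨minpoly.not_isUnit K π, ?_⟩
  intro A B hAB
  have hzero : aeval π A * aeval π B = 0 := by rw [← map_mul, ← hAB, minpoly.aeval]
  have hzero' : aeval π B * aeval π A = 0 := by rw [← map_mul, mul_comm, ← hAB, minpoly.aeval]
  rcases hs _ (ker_aeval_mem_invt π A) with h | h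
  · left
    have hB : aeval π B = 0 := by
      apply LinearMap.ext; intro v
      have h1 : aeval π A (aeval π B v) = 0 := by
        rw [← Module.End.mul_apply, hzero]; rfl
      have h2 : aeval π B v ∈ LinearMap.ker (aeval π A) := h1
      rw [h] at h2
      exact (Submodule.mem_bot K).1 h2
    obtain ⟨C, hC⟩ := minpoly.dvd K π hB
    have h3 : minpoly K π * 1 = minpoly K π * (A * C) := by
      rw [mul_one]
      calc minpoly K π = A * B := hAB
        _ = minpoly K π * (A * C) := by rw [hC]; ring
    have h4 := mul_left_cancel₀ hne h3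
    exact IsUnit.of_mul_eq_one C h4.symm
  · right
    have hA : aeval π A = 0 := LinearMap.ker_eq_top.1 h
    obtain ⟨C, hC⟩ := minpoly.dvd K π hA
    have h3 : minpoly K π * 1 = minpoly K π * (B * C) := by
      rw [mul_one]
      calc minpoly K π = A * B := hAB
        _ = minpoly K π * (B * C) := by rw [hC]; ring
    have h4 := mul_left_cancel₀ hne h3
    exact IsUnit.of_mul_eq_one C h4.symm

theorem charpoly_eq_minpoly [FiniteDimensional K V] [Nontrivial V] (π : End K V)
    (hs : Simple π) : π.charpoly = minpoly K π := by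
  obtain ⟨w, hw⟩ := exists_ne (0 : V)
  have hmonic : (minpoly K π).Monic := minpoly.monic (LinearMap.isIntegral π)
  haveI : Module.Finite K (degreeLT K (minpoly K π).natDegree) :=
    Module.Finite.equiv (degreeLTEquiv K (minpoly K π).natDegree).symm
  let φ : degreeLT K (minpoly K π).natDegree →ₗ[K] V :=
    (evAt π w) ∘ₗ (degreeLT K (minpoly K π).natDegree).subtype
  have hφ : Function.Surjective φ := by
    intro v
    obtain ⟨q, rfl⟩ := evAt_surj π hs w hw v
    refine ⟨⟨q %ₘ minpoly K π, ?_⟩, ?_⟩
    · rw [mem_degreeLT]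
      calc (q %ₘ minpoly K π).degree < (minpoly K π).degree := degree_modByMonic_lt q hmonic
        _ = ((minpoly K π).natDegree : WithBot ℕ) := degree_eq_natDegree hmonic.ne_zero
    · show evAt π w (q %ₘ minpoly K π) = evAt π w q
      rw [evAt_apply, evAt_apply, aeval_modByMonic_eq_self_of_root (minpoly.aeval K π)]
  have hle : finrank K V ≤ (minpoly K π).natDegree := by
    have h1 := LinearMap.finrank_range_le φ
    rw [LinearMap.range_eq_top.2 hφ, finrank_top,
      LinearEquiv.finrank_eq (degreeLTEquiv K (minpoly K π).natDegree), Module.finrank_fin_fun] at h1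
    exact h1
  have hdvd : minpoly K π ∣ π.charpoly := LinearMap.minpoly_dvd_charpoly π
  have hdeg : π.charpoly.natDegree = finrank K V := LinearMap.charpoly_natDegree π
  exact Polynomial.eq_of_monic_of_dvd_of_natDegree_le hmonic (LinearMap.charpoly_monic π) hdvd
    (by omega)

theorem finrank_ker_simple [DecidableEq K] [DecidableEq K[X]] [FiniteDimensional K V] [Nontrivial V]
    (π : End K V) (hs : Simple π) (P : K[X]) (hP : P.Monic) (hPi : Irreducible P) :
    finrank K (LinearMap.ker (aeval π P)) =
      (normalizedFactors π.charpoly).count P * P.natDegree := by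
  have hμ := minpoly_irreducible π hs
  have hmonic : (minpoly K π).Monic := minpoly.monic (LinearMap.isIntegral π)
  have hdeg : π.charpoly.natDegree = finrank K V := LinearMap.charpoly_natDegree π
  rw [charpoly_eq_minpoly π hs] at hdeg
  rw [charpoly_eq_minpoly π hs, normalizedFactors_irreducible hμ, hmonic.normalize_eq_self,
    Multiset.count_singleton]
  by_cases hPQ : P = minpoly K π
  · rw [if_pos hPQ, one_mul]
    have htop : LinearMap.ker (aeval π P) = ⊤ := by
      rw [hPQ, minpoly.aeval]; exact LinearMap.ker_zero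
    rw [htop, finrank_top, hPQ, hdeg]
  · rw [if_neg hPQ, zero_mul]
    rcases hs _ (ker_aeval_mem_invt π P) with h | h
    · rw [h]; exact finrank_bot K V
    · exfalso; apply hPQ
      have h0 : aeval π P = 0 := LinearMap.ker_eq_top.1 h
      have hd := minpoly.dvd K π h0
      exact (Polynomial.eq_of_monic_of_associated hmonic hP (hμ.associated_of_dvd hPi hd)).symm

end Basic

section Split

theorem finrank_ker_split {X : Type*} {Y : Type*} {Z : Type*} [AddCommGroup X] [Module K X]
    [AddCommGroup Y] [Module K Y] [AddCommGroup Z] [Module K Z]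
    [FiniteDimensional K Y] [FiniteDimensional K Z]
    (T : End K X) (TY : End K Y) (TZ : End K Z) (e : X ≃ₗ[K] Y × Z)
    (h : ∀ x, e (T x) = (TY (e x).1, TZ (e x).2)) :
    finrank K (LinearMap.ker T) = finrank K (LinearMap.ker TY) + finrank K (LinearMap.ker TZ) := by
  have hsymm : ∀ y, T (e.symm y) = e.symm (TY y.1, TZ y.2) := by
    intro y
    rw [LinearEquiv.eq_symm_apply, h, LinearEquiv.apply_symm_apply]
  let Φ : LinearMap.ker T ≃ₗ[K] (LinearMap.ker TY × LinearMap.ker TZ) :=
    { toFun := fun x => (⟨(e x.1).1, by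
          have h1 := h x.1
          rw [LinearMap.mem_ker.1 x.2, map_zero] at h1
          exact (congrArg Prod.fst h1).symm⟩, ⟨(e x.1).2, by
          have h1 := h x.1
          rw [LinearMap.mem_ker.1 x.2, map_zero] at h1
          exact (congrArg Prod.snd h1).symm⟩)
      map_add' := by
        intro a b
        refine Prod.ext (Subtype.ext ?_) (Subtype.ext ?_) <;> simp
      map_smul' := by
        intro c a
        refine Prod.ext (Subtype.ext ?_) (Subtype.ext ?_) <;> simp
      invFun := fun y => ⟨e.symm (y.1.1, y.2.1), by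
          rw [LinearMap.mem_ker, hsymm]
          simp only
          rw [LinearMap.mem_ker.1 y.1.2, LinearMap.mem_ker.1 y.2.2]
          exact map_zero _⟩
      left_inv := by
        intro x
        apply Subtype.ext
        simp
      right_inv := by
        intro y
        refine Prod.ext (Subtype.ext ?_) (Subtype.ext ?_) <;> simp }
  rw [LinearEquiv.finrank_eq Φ, Module.finrank_prod]

variable {V : Type v} [AddCommGroup V] [Module K V]

theorem decomp_of_isCompl (π : End K V) (p q : Submodule K V)
    (hp : p ∈ π.invtSubmodule) (hq : q ∈ π.invtSubmodule) (hpq : IsCompl p q) :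
    ∃ e : V ≃ₗ[K] p × q, ∀ v, e (π v) = ((π.restrict hp) (e v).1, (π.restrict hq) (e v).2) := by
  refine ⟨(Submodule.prodEquivOfIsCompl p q hpq).symm, fun v => ?_⟩
  rw [LinearEquiv.symm_apply_eq, Submodule.coe_prodEquivOfIsCompl']
  simp only [LinearMap.restrict_coe_apply]
  have h1 := Submodule.coe_prodEquivOfIsCompl' p q hpq ((Submodule.prodEquivOfIsCompl p q hpq).symm v)
  rw [LinearEquiv.apply_symm_apply] at h1
  rw [← map_add, ← h1]

theorem charpoly_decomp {A : Type*} {B : Type*} [AddCommGroup A] [Module K A] [AddCommGroup B]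
    [Module K B] [FiniteDimensional K V] [FiniteDimensional K A] [FiniteDimensional K B]
    (π : End K V) (πA : End K A) (πB : End K B) (e : V ≃ₗ[K] A × B)
    (he : ∀ v, e (π v) = (πA (e v).1, πB (e v).2)) :
    π.charpoly = πA.charpoly * πB.charpoly := by
  have h1 : π = e.symm.conj (πA.prodMap πB) := by
    apply LinearMap.ext; intro v
    rw [LinearEquiv.conj_apply_apply, LinearEquiv.symm_symm, LinearEquiv.eq_symm_apply, he]
    rfl
  rw [h1, LinearEquiv.charpoly_conj, LinearMap.charpoly_prodMap]

theorem exists_split [FiniteDimensional K V] [Nontrivial V] (π : End K V)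
    (hss : π.IsSemisimple) :
    ∃ (p q : Submodule K V) (hp : p ∈ π.invtSubmodule) (hq : q ∈ π.invtSubmodule),
      IsCompl p q ∧ p ≠ ⊥ ∧ Simple (π.restrict hp) := by
  classical
  have hex : ∃ n, ∃ p : Submodule K V, p ∈ π.invtSubmodule ∧ p ≠ ⊥ ∧ finrank K p = n :=
    ⟨_, ⊤, Module.End.invtSubmodule.top_mem π, top_ne_bot, rfl⟩
  obtain ⟨p, hp, hp0, hpn⟩ := Nat.find_spec hex
  have hmin : ∀ r : Submodule K V, r ∈ π.invtSubmodule → r ≠ ⊥ → Nat.find hex ≤ finrank K r :=
    fun r hr hr0 => Nat.find_min' hex ⟨r, hr, hr0, rfl⟩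
  obtain ⟨q, hq, hpq⟩ := Module.End.isSemisimple_iff.1 hss p hp
  refine ⟨p, q, hp, hq, hpq, hp0, ?_⟩
  intro r hr
  by_cases hr0 : r = ⊥
  · left; exact hr0
  · right
    have h1 : r.map p.subtype ∈ π.invtSubmodule :=
      Module.End.invtSubmodule.map_subtype_mem_of_mem_invtSubmodule π hp hr
    have h2 : r.map p.subtype ≠ ⊥ := by
      intro h; apply hr0
      have h3 := Submodule.map_le_iff_le_comap.1 h.le
      rw [Submodule.comap_bot, Submodule.ker_subtype] at h3
      exact eq_bot_iff.2 h3
    have h3 : r.map p.subtype ≤ p := Submodule.map_subtype_le p r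
    have h4 := hmin _ h1 h2
    have h5 : r.map p.subtype = p := Submodule.eq_of_le_of_finrank_le h3 (by omega)
    have h6 : r.map p.subtype = (⊤ : Submodule K p).map p.subtype :=
      h5.trans (Submodule.map_subtype_top p).symm
    exact Submodule.map_injective_of_injective p.injective_subtype h6

end Split

section KerAeval

theorem finrank_ker_aeval_aux [DecidableEq K] [DecidableEq K[X]] :
    ∀ (n : ℕ) (V : Type v) [AddCommGroup V] [Module K V] [FiniteDimensional K V]
      (π : End K V), π.IsSemisimple → finrank K V = n →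
      ∀ P : K[X], P.Monic → Irreducible P →
        finrank K (LinearMap.ker (aeval π P)) =
          (normalizedFactors π.charpoly).count P * P.natDegree := by
  intro n
  induction n using Nat.strong_induction_on with
  | _ n ih =>
    intro V _ _ _ π hss hn P hP hPi
    rcases Nat.eq_zero_or_pos n with h0 | hpos
    · have hsub : Subsingleton V := Module.finrank_zero_iff.1 (hn.trans h0)
      have h1 : π.charpoly = 1 := by
        apply (LinearMap.charpoly_monic π).natDegree_eq_zero.1
        rw [LinearMap.charpoly_natDegree, hn, h0]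
      rw [h1, normalizedFactors_one, Multiset.count_zero, zero_mul]
      exact Module.finrank_zero_of_subsingleton
    · have hnt : Nontrivial V := Module.nontrivial_of_finrank_pos (R := K) (hn ▸ hpos)
      obtain ⟨p, q, hp, hq, hpq, hp0, hsimple⟩ := exists_split π hss
      obtain ⟨e, he⟩ := decomp_of_isCompl π p q hp hq hpq
      have hntp : Nontrivial p := Submodule.nontrivial_iff_ne_bot.2 hp0
      have hchar : π.charpoly = (π.restrict hp).charpoly * (π.restrict hq).charpoly :=
        charpoly_decomp π _ _ e he
      have hlt : finrank K q < n := by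
        have h1 := Submodule.finrank_add_eq_of_isCompl hpq
        have h2 : 0 < finrank K p := Module.finrank_pos
        omega
      have hker := finrank_ker_split (aeval π P) (aeval (π.restrict hp) P)
        (aeval (π.restrict hq) P) e (by
          intro v
          refine Prod.ext ?_ ?_
          · exact aeval_intertwine π (π.restrict hp) ((LinearMap.fst K p q) ∘ₗ e.toLinearMap)
              (fun v => by simp [he v]) P v
          · exact aeval_intertwine π (π.restrict hq) ((LinearMap.snd K p q) ∘ₗ e.toLinearMap)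
              (fun v => by simp [he v]) P v)
      rw [hker, hchar, normalizedFactors_mul (LinearMap.charpoly_monic _).ne_zero
        (LinearMap.charpoly_monic _).ne_zero, Multiset.count_add, add_mul,
        finrank_ker_simple (π.restrict hp) hsimple P hP hPi,
        ih (finrank K q) hlt q (π.restrict hq) (hss.restrict hq) rfl P hP hPi]

theorem finrank_ker_aeval [DecidableEq K] [DecidableEq K[X]] {V : Type v} [AddCommGroup V]
    [Module K V] [FiniteDimensional K V]
    (π : End K V) (hss : π.IsSemisimple) (P : K[X]) (hP : P.Monic) (hPi : Irreducible P) :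
    finrank K (LinearMap.ker (aeval π P)) =
      (normalizedFactors π.charpoly).count P * P.natDegree :=
  finrank_ker_aeval_aux _ V π hss rfl P hP hPi

end KerAeval

section Main

variable {V₁ : Type v} {V₂ : Type w} [AddCommGroup V₁] [Module K V₁] [AddCommGroup V₂]
  [Module K V₂]

noncomputable def homSplit {A : Type*} {B : Type*} [AddCommGroup A] [Module K A] [AddCommGroup B]
    [Module K B] (e : V₁ ≃ₗ[K] A × B) :
    (V₁ →ₗ[K] V₂) ≃ₗ[K] (A →ₗ[K] V₂) × (B →ₗ[K] V₂) :=
  (e.arrowCongr (LinearEquiv.refl K V₂)).trans (LinearMap.coprodEquiv K).symm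

theorem homSplit_fst {A : Type*} {B : Type*} [AddCommGroup A] [Module K A] [AddCommGroup B]
    [Module K B] (e : V₁ ≃ₗ[K] A × B) (h : V₁ →ₗ[K] V₂) (x : A) :
    (homSplit e h).1 x = h (e.symm (x, 0)) := rfl

theorem homSplit_snd {A : Type*} {B : Type*} [AddCommGroup A] [Module K A] [AddCommGroup B]
    [Module K B] (e : V₁ ≃ₗ[K] A × B) (h : V₁ →ₗ[K] V₂) (x : B) :
    (homSplit e h).2 x = h (e.symm (0, x)) := rfl

theorem finrank_intertwiners_simple {W : Type v} [AddCommGroup W] [Module K W]
    [FiniteDimensional K W] [Nontrivial W] (πW : End K W) (hs : Simple πW)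
    [FiniteDimensional K V₂] (π₂ : End K V₂) :
    finrank K (LinearMap.ker (Tmap πW π₂)) =
      finrank K (LinearMap.ker (aeval π₂ (minpoly K πW))) := by
  obtain ⟨w, hw⟩ := exists_ne (0 : W)
  let Ψ : LinearMap.ker (Tmap πW π₂) →ₗ[K] V₂ :=
    (LinearMap.applyₗ w) ∘ₗ (LinearMap.ker (Tmap πW π₂)).subtype
  have hΨ : ∀ h : LinearMap.ker (Tmap πW π₂), Ψ h = h.1 w := fun _ => rfl
  have hinj : Function.Injective Ψ := by
    rw [← LinearMap.ker_eq_bot, LinearMap.ker_eq_bot']
    intro h hh
    apply Subtype.ext; apply LinearMap.ext; intro x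
    obtain ⟨q, rfl⟩ := evAt_surj πW hs w hw x
    rw [evAt_apply, aeval_intertwine πW π₂ h.1 ((mem_ker_Tmap _ _ _).1 h.2) q w]
    have h0 : h.1 w = 0 := hh
    rw [h0, map_zero]; rfl
  have hrange : LinearMap.range Ψ = LinearMap.ker (aeval π₂ (minpoly K πW)) := by
    apply le_antisymm
    · rintro _ ⟨h, rfl⟩
      rw [LinearMap.mem_ker, hΨ,
        ← aeval_intertwine πW π₂ h.1 ((mem_ker_Tmap _ _ _).1 h.2) (minpoly K πW) w, minpoly.aeval]
      simp
    · intro v hv
      have hsurj := evAt_surj πW hs w hw
      have hle : LinearMap.ker (evAt πW w) ≤ LinearMap.ker (evAt π₂ v) := by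
        intro q hq
        rw [LinearMap.mem_ker, evAt_apply] at hq ⊢
        have h0 := aeval_eq_zero_of_apply πW hs w hw q hq
        obtain ⟨r, rfl⟩ := minpoly.dvd K πW h0
        rw [mul_comm, map_mul, Module.End.mul_apply, LinearMap.mem_ker.1 hv, map_zero]
      let E := (evAt πW w).quotKerEquivOfSurjective hsurj
      let h : W →ₗ[K] V₂ :=
        ((LinearMap.ker (evAt πW w)).liftQ (evAt π₂ v) hle) ∘ₗ E.symm.toLinearMap
      have hE : ∀ q, h (evAt πW w q) = evAt π₂ v q := by
        intro q
        have h1 : E.symm (evAt πW w q) = Submodule.Quotient.mk q := by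
          rw [LinearEquiv.symm_apply_eq]; rfl
        show ((LinearMap.ker (evAt πW w)).liftQ (evAt π₂ v) hle) (E.symm (evAt πW w q)) = _
        rw [h1, Submodule.liftQ_apply]
      have hint : h ∈ LinearMap.ker (Tmap πW π₂) := by
        rw [mem_ker_Tmap]; intro x
        obtain ⟨q, rfl⟩ := hsurj x
        have h1 : πW (evAt πW w q) = evAt πW w (X * q) := by
          simp [evAt_apply, Module.End.mul_apply]
        rw [h1, hE, hE]
        simp [evAt_apply, Module.End.mul_apply]
      refine ⟨⟨h, hint⟩, ?_⟩
      rw [hΨ]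
      have h1 := hE 1
      have hw1 : evAt πW w 1 = w := by simp [evAt_apply]
      rw [hw1] at h1
      show h w = v
      rw [h1]; simp [evAt_apply]
  rw [← hrange, LinearMap.finrank_range_of_inj hinj]

theorem main_aux [DecidableEq K] [DecidableEq K[X]] [FiniteDimensional K V₂] (π₂ : End K V₂)
    (h₂ : π₂.IsSemisimple) :
    ∀ (n : ℕ) (V₁ : Type v) [AddCommGroup V₁] [Module K V₁] [FiniteDimensional K V₁]
      (π₁ : End K V₁), π₁.IsSemisimple → finrank K V₁ = n →
      finrank K (LinearMap.ker (Tmap π₁ π₂)) =
        ((normalizedFactors π₁.charpoly).map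
          (fun P => (normalizedFactors π₂.charpoly).count P * P.natDegree)).sum := by
  intro n
  induction n using Nat.strong_induction_on with
  | _ n ih =>
    intro V₁ _ _ _ π₁ hss hn
    rcases Nat.eq_zero_or_pos n with h0 | hpos
    · have hsub : Subsingleton V₁ := Module.finrank_zero_iff.1 (hn.trans h0)
      have h1 : π₁.charpoly = 1 := by
        apply (LinearMap.charpoly_monic π₁).natDegree_eq_zero.1
        rw [LinearMap.charpoly_natDegree, hn, h0]
      rw [h1, normalizedFactors_one, Multiset.map_zero, Multiset.sum_zero]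
      haveI : Subsingleton (V₁ →ₗ[K] V₂) :=
        ⟨fun a b => LinearMap.ext fun x => by rw [Subsingleton.elim x 0, map_zero, map_zero]⟩
      exact Module.finrank_zero_of_subsingleton
    · have hnt : Nontrivial V₁ := Module.nontrivial_of_finrank_pos (R := K) (hn ▸ hpos)
      obtain ⟨p, q, hp, hq, hpq, hp0, hsimple⟩ := exists_split π₁ hss
      obtain ⟨e, he⟩ := decomp_of_isCompl π₁ p q hp hq hpq
      have hntp : Nontrivial p := Submodule.nontrivial_iff_ne_bot.2 hp0
      have hchar : π₁.charpoly = (π₁.restrict hp).charpoly * (π₁.restrict hq).charpoly :=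
        charpoly_decomp π₁ _ _ e he
      have hlt : finrank K q < n := by
        have h1 := Submodule.finrank_add_eq_of_isCompl hpq
        have h2 : 0 < finrank K p := Module.finrank_pos
        omega
      have hsymm : ∀ y, π₁ (e.symm y) = e.symm ((π₁.restrict hp) y.1, (π₁.restrict hq) y.2) := by
        intro y
        rw [LinearEquiv.eq_symm_apply, he, LinearEquiv.apply_symm_apply]
      have hΦ := finrank_ker_split (Tmap π₁ π₂) (Tmap (π₁.restrict hp) π₂)
        (Tmap (π₁.restrict hq) π₂) (homSplit e) (by
          intro h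
          refine Prod.ext ?_ ?_
          · apply LinearMap.ext; intro x
            simp only [homSplit_fst, Tmap_apply, hsymm, map_zero]
          · apply LinearMap.ext; intro x
            simp only [homSplit_snd, Tmap_apply, hsymm, map_zero])
      have hμ := minpoly_irreducible (π₁.restrict hp) hsimple
      have hmonic : (minpoly K (π₁.restrict hp)).Monic :=
        minpoly.monic (LinearMap.isIntegral _)
      rw [hΦ, finrank_intertwiners_simple (π₁.restrict hp) hsimple π₂,
        finrank_ker_aeval π₂ h₂ _ hmonic hμ,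
        ih (finrank K q) hlt q (π₁.restrict hq) (hss.restrict hq) rfl, hchar,
        normalizedFactors_mul (LinearMap.charpoly_monic _).ne_zero
          (LinearMap.charpoly_monic _).ne_zero, Multiset.map_add, Multiset.sum_add,
        charpoly_eq_minpoly (π₁.restrict hp) hsimple, normalizedFactors_irreducible hμ,
        hmonic.normalize_eq_self, Multiset.map_singleton, Multiset.sum_singleton]

theorem main [DecidableEq K] [DecidableEq K[X]] [FiniteDimensional K V₁] [FiniteDimensional K V₂]
    (π₁ : End K V₁) (π₂ : End K V₂) (h₁ : π₁.IsSemisimple) (h₂ : π₂.IsSemisimple) :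
    finrank K (LinearMap.ker (Tmap π₁ π₂)) =
      ∑ P ∈ (normalizedFactors π₁.charpoly).toFinset,
        (normalizedFactors π₁.charpoly).count P * (normalizedFactors π₂.charpoly).count P *
          P.natDegree := by
  rw [main_aux π₂ h₂ _ V₁ π₁ h₁ rfl, Finset.sum_multiset_map_count]
  simp only [smul_eq_mul, mul_assoc]

end Main

end Groth.Agent.Helper25.SemiInt
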