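import Mathlib

namespace Groth.Agent.Helper25.SemilinInj

theorem s13631
    {k : Type*} {R : Type*} {M : Type*} [Field k] [CommRing R] [IsDomain R] [Algebra k R]
    (hR : ¬ Module.Finite k R)
    [AddCommGroup M] [Module R M] [Module k M] [IsScalarTower k R M]
    [Module.Finite R M] [Module.Free R M]
    (σ : R ≃+* R)
    (φ : M →ₛₗ[(σ : R →+* R)] M)
    (hcoker : ∃ N : Submodule k M, N.FG ∧ ∀ m : M, ∃ n ∈ N, ∃ m' : M, m = n + φ m') :
    Function.Injective φ := by
  classical
  obtain ⟨N, hNfg, hN⟩ := hcoker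
  rw [injective_iff_map_eq_zero]
  intro m hm
  by_contra hm0
  obtain ⟨b⟩ : Nonempty (Module.Basis (Module.Free.ChooseBasisIndex R M) R M) :=
    ⟨Module.Free.chooseBasis R M⟩
  obtain ⟨P, hP⟩ : ∃ P : Matrix (Module.Free.ChooseBasisIndex R M)
      (Module.Free.ChooseBasisIndex R M) R, P = fun i j => b.repr (φ (b j)) i := ⟨_, rfl⟩
  -- formula for φ in coordinates
  have hφ : ∀ (m' : M) (i : Module.Free.ChooseBasisIndex R M),
      b.repr (φ m') i = ∑ j, P i j * σ (b.repr m' j) := by
    intro m' i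
    conv_lhs => rw [← b.sum_repr m']
    rw [map_sum, map_sum, Finsupp.finset_sum_apply]
    apply Finset.sum_congr rfl
    intro j _
    rw [map_smulₛₗ, map_smul, Finsupp.smul_apply, smul_eq_mul, hP, mul_comm]
    rfl
  -- kernel vector
  have hy : (fun j => σ (b.repr m j)) ≠ 0 := by
    intro h
    apply hm0
    apply b.repr.injective
    ext j
    have h2 := congrFun h j
    simp only [Pi.zero_apply] at h2
    rw [map_zero, Finsupp.zero_apply]
    exact (map_eq_zero_iff σ σ.injective).mp h2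
  have hPy : P.mulVec (fun j => σ (b.repr m j)) = 0 := by
    ext i
    rw [Matrix.mulVec, dotProduct, Pi.zero_apply, ← hφ m i, hm, map_zero, Finsupp.zero_apply]
  have hdet : P.det = 0 := Matrix.exists_mulVec_eq_zero_iff.mp ⟨_, hy, hPy⟩
  obtain ⟨w, hw0, hwP⟩ := Matrix.exists_vecMul_eq_zero_iff.mpr hdet
  obtain ⟨lam, hlam⟩ : ∃ lam : M →ₗ[R] R, ∀ m' : M, lam m' = ∑ i, w i * b.repr m' i := by
    refine ⟨∑ i, w i • b.coord i, fun m' => ?_⟩
    rw [LinearMap.sum_apply]
    apply Finset.sum_congr rfl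
    intro i _
    rw [LinearMap.smul_apply, Module.Basis.coord_apply, smul_eq_mul]
  have hlamφ : ∀ m' : M, lam (φ m') = 0 := by
    intro m'
    rw [hlam]
    simp only [hφ, Finset.mul_sum]
    rw [Finset.sum_comm]
    apply Finset.sum_eq_zero
    intro j _
    have h1 : ∑ i, w i * (P i j * σ (b.repr m' j)) = (Matrix.vecMul w P j) * σ (b.repr m' j) := by
      rw [Matrix.vecMul, dotProduct, Finset.sum_mul]
      apply Finset.sum_congr rfl
      intro i _
      ring
    rw [h1, hwP, Pi.zero_apply, zero_mul]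
  obtain ⟨i₀, hi₀⟩ := Function.ne_iff.mp hw0
  simp only [Pi.zero_apply] at hi₀
  have hlamb : ∀ r : R, lam (r • b i₀) = w i₀ * r := by
    intro r
    rw [hlam, Finset.sum_eq_single i₀]
    · rw [map_smul, Finsupp.smul_apply, Module.Basis.repr_self, Finsupp.single_eq_same, smul_eq_mul,
        mul_one]
    · intro j _ hj
      rw [map_smul, Finsupp.smul_apply, Module.Basis.repr_self, Finsupp.single_eq_of_ne hj,
        smul_zero, mul_zero]
    · intro h; exact absurd (Finset.mem_univ _) h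
  -- the k-linear map r ↦ lam (r • b i₀) lands in lam(N)
  obtain ⟨lamk, hlamk⟩ : ∃ lamk : M →ₗ[k] R, ∀ m' : M, lamk m' = lam m' :=
    ⟨lam.restrictScalars k, fun _ => rfl⟩
  have hfin : Module.Finite k (N.map lamk) := Module.Finite.iff_fg.mpr (hNfg.map lamk)
  have hmem : ∀ r : R, w i₀ * r ∈ N.map lamk := by
    intro r
    obtain ⟨n, hn, m', hm'⟩ := hN (r • b i₀)
    refine ⟨n, hn, ?_⟩
    rw [hlamk, ← hlamb r, hm', map_add, hlamφ, add_zero]
  obtain ⟨f, hf⟩ : ∃ f : R →ₗ[k] (N.map lamk), ∀ r : R, (f r : R) = w i₀ * r := by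
    refine ⟨LinearMap.codRestrict (N.map lamk)
      ((LinearMap.mulLeft R (w i₀)).restrictScalars k) (fun r => hmem r), fun r => rfl⟩
  have hfinj : Function.Injective f := by
    intro r₁ r₂ h
    have h2 : w i₀ * r₁ = w i₀ * r₂ := by rw [← hf, ← hf, h]
    exact mul_left_cancel₀ hi₀ h2
  exact hR (Module.Finite.of_injective f hfinj)

end Groth.Agent.Helper25.SemilinInj
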