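import Groth.Prelude.Def_QuadGrp
import Mathlib.Logic.Equiv.Fin.Basic
import Mathlib.Tactic

set_option autoImplicit false

namespace Groth.Agent.Helper25.SplitCliff

open QuadGrp CliffordAlgebra

variable (R : Type*) [CommRing R] (m : ℕ)

theorem splitForm_apply (x : Fin (m * 2) → R) :
    QuadGrp.splitForm R (m * 2) x =
      ∑ i : Fin m, x (finProdFinEquiv (i, 0)) * x (finProdFinEquiv (i, 1)) := by
  have hne : ¬ ((m * 2) % 2 = 1) := by omega
  unfold QuadGrp.splitForm
  rw [dif_neg hne, add_zero]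
  rw [sum_apply]
  refine Fintype.sum_equiv (finCongr (Nat.mul_div_cancel m two_pos)) _ _ ?_
  intro i
  simp only [QuadraticMap.linMulLin_apply, LinearMap.proj_apply]
  congr 2 <;> · apply Fin.ext; simp [finProdFinEquiv] <;> omega

theorem polar_splitForm (x y : Fin (m * 2) → R) :
    QuadraticMap.polar (QuadGrp.splitForm R (m * 2)) x y =
      ∑ i : Fin m, (x (finProdFinEquiv (i, 0)) * y (finProdFinEquiv (i, 1)) +
        y (finProdFinEquiv (i, 0)) * x (finProdFinEquiv (i, 1))) := by
  unfold QuadraticMap.polar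
  rw [splitForm_apply, splitForm_apply, splitForm_apply, ← Finset.sum_sub_distrib,
    ← Finset.sum_sub_distrib]
  refine Finset.sum_congr rfl fun i _ => ?_
  simp only [Pi.add_apply]
  ring


/-- generic: a product of pairwise commuting involutions is an involution -/
theorem list_sq_one {A : Type*} [Monoid A] (L : List A) (hsq : ∀ a ∈ L, a * a = 1)
    (hcomm : ∀ a ∈ L, ∀ b ∈ L, Commute a b) : L.prod * L.prod = 1 := by
  induction L with
  | nil => simp
  | cons a L ih =>
    have hP : Commute a L.prod :=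
      Commute.list_prod_right _ _ fun b hb => hcomm a (List.mem_cons_self) b (List.mem_cons_of_mem _ hb)
    have ih' := ih (fun b hb => hsq b (List.mem_cons_of_mem _ hb))
      (fun b hb c hc => hcomm b (List.mem_cons_of_mem _ hb) c (List.mem_cons_of_mem _ hc))
    rw [List.prod_cons]
    calc a * L.prod * (a * L.prod) = a * (L.prod * a) * L.prod := by simp only [mul_assoc]
      _ = a * (a * L.prod) * L.prod := by rw [hP.eq]
      _ = (a * a) * (L.prod * L.prod) := by simp only [mul_assoc]
      _ = 1 := by rw [hsq a List.mem_cons_self, ih', one_mul]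

/-- generic: commuting `x` past a list product, picking up a sign for each occurrence of `i0`. -/
theorem list_anticomm {A : Type*} [Ring A] {ι : Type*} [DecidableEq ι] (f : ι → A) (x : A) (i0 : ι)
    (hc : ∀ i, i ≠ i0 → x * f i = f i * x) (ha : x * f i0 = -(f i0 * x)) (L : List ι) :
    x * (L.map f).prod = ((-1 : ℤ) ^ (L.count i0)) • ((L.map f).prod * x) := by
  induction L with
  | nil => simp
  | cons a L ih =>
    rw [List.map_cons, List.prod_cons, ← mul_assoc]
    by_cases h : a = i0
    · subst h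
      rw [ha, neg_mul, mul_assoc, ih, List.count_cons_self, pow_succ, mul_smul_comm, mul_assoc]
      simp
    · rw [hc a h, mul_assoc, ih, List.count_cons_of_ne h, mul_smul_comm, mul_assoc]

variable {R m}

/-- the standard basis vectors in the Clifford algebra, indexed by pairs -/
noncomputable def E (i : Fin m) (t : Fin 2) : CliffordAlgebra (QuadGrp.splitForm R (m * 2)) :=
  CliffordAlgebra.ι _ (Pi.single (finProdFinEquiv (i, t)) 1)

theorem E_sq (i : Fin m) (t : Fin 2) : E (R := R) i t * E i t = 0 := by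
  unfold E
  rw [CliffordAlgebra.ι_sq_scalar, splitForm_apply]
  rw [Finset.sum_eq_zero, map_zero]
  intro l _
  simp only [Pi.single_apply, EmbeddingLike.apply_eq_iff_eq, Prod.mk.injEq]
  fin_cases t <;> simp

theorem E_anti (i i' : Fin m) (s t : Fin 2) (h : i ≠ i') :
    E (R := R) i s * E i' t = -(E i' t * E i s) := by
  rw [eq_neg_iff_add_eq_zero]
  unfold E
  rw [CliffordAlgebra.ι_mul_ι_add_swap, polar_splitForm]
  rw [Finset.sum_eq_zero, map_zero]
  intro l _
  simp only [Pi.single_apply, EmbeddingLike.apply_eq_iff_eq, Prod.mk.injEq]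
  by_cases h1 : l = i
  · subst h1
    simp [h]
  · simp [h1]

theorem E_pair (i : Fin m) : E (R := R) i 0 * E i 1 + E i 1 * E i 0 = 1 := by
  unfold E
  rw [CliffordAlgebra.ι_mul_ι_add_swap, polar_splitForm]
  rw [Finset.sum_eq_single i]
  · have : ((Pi.single (finProdFinEquiv (i, (0 : Fin 2))) (1 : R) : Fin (m * 2) → R)
            (finProdFinEquiv (i, 0)) *
          (Pi.single (finProdFinEquiv (i, (1 : Fin 2))) 1 : Fin (m * 2) → R)
            (finProdFinEquiv (i, 1)) +
        (Pi.single (finProdFinEquiv (i, (1 : Fin 2))) 1 : Fin (m * 2) → R)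
            (finProdFinEquiv (i, 0)) *
          (Pi.single (finProdFinEquiv (i, (0 : Fin 2))) 1 : Fin (m * 2) → R)
            (finProdFinEquiv (i, 1))) = 1 := by
      simp
    rw [this, map_one]
  · intro l _ hl
    simp [hl]
  · simp


theorem E_swap (i : Fin m) : E (R := R) i 1 * E i 0 = 1 - E i 0 * E i 1 := by
  rw [← E_pair (R := R) i]; abel

/-- `u_i = e_{2i} e_{2i+1}` is idempotent -/
theorem u_idem (i : Fin m) :
    (E (R := R) i 0 * E i 1) * (E i 0 * E i 1) = E i 0 * E i 1 := by
  calc (E (R := R) i 0 * E i 1) * (E i 0 * E i 1)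
      = E i 0 * (E i 1 * E i 0) * E i 1 := by simp only [mul_assoc]
    _ = E i 0 * E i 1 - (E i 0 * E i 0) * E i 1 * E i 1 := by
        rw [E_swap]; noncomm_ring
    _ = E i 0 * E i 1 := by rw [E_sq]; simp

/-- the factor `1 - 2 e_{2i} e_{2i+1}` -/
noncomputable def F (i : Fin m) : CliffordAlgebra (QuadGrp.splitForm R (m * 2)) :=
  1 - 2 * (E i 0 * E i 1)

theorem F_sq (i : Fin m) : F (R := R) i * F i = 1 := by
  unfold F
  have h := u_idem (R := R) i
  calc (1 - 2 * (E (R := R) i 0 * E i 1)) * (1 - 2 * (E i 0 * E i 1))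
      = 1 - 4 * (E i 0 * E i 1) + 4 * ((E i 0 * E i 1) * (E i 0 * E i 1)) := by noncomm_ring
    _ = 1 := by rw [h]; abel

theorem E_comm_u (i i' : Fin m) (t : Fin 2) (h : i ≠ i') :
    E (R := R) i' t * (E i 0 * E i 1) = (E i 0 * E i 1) * E i' t := by
  rw [← mul_assoc, E_anti i' i t 0 h.symm, neg_mul, mul_assoc, E_anti i' i t 1 h.symm]
  simp [mul_assoc]

theorem E_comm_F (i i' : Fin m) (t : Fin 2) (h : i ≠ i') :
    E (R := R) i' t * F i = F i * E i' t := by
  unfold F
  rw [mul_sub, sub_mul, mul_one, one_mul]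
  congr 1
  have h2 : Commute (2 : CliffordAlgebra (QuadGrp.splitForm R (m * 2))) (E i' t) :=
    Commute.ofNat_left 2 _
  rw [← mul_assoc, ← h2.eq, mul_assoc, E_comm_u i i' t h]
  simp only [mul_assoc]

theorem E_anti_F (i : Fin m) (t : Fin 2) :
    E (R := R) i t * F i = -(F i * E i t) := by
  unfold F
  have h2 : Commute (2 : CliffordAlgebra (QuadGrp.splitForm R (m * 2))) (E i t) :=
    Commute.ofNat_left 2 _
  rw [mul_sub, sub_mul, mul_one, one_mul, ← mul_assoc, ← h2.eq]
  fin_cases t
  · -- t = 0: E0 * (E0 E1) = 0 ; (E0 E1) E0 = E0 (1 - E0 E1) = E0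
    show E (R := R) i 0 - 2 * E i 0 * (E i 0 * E i 1) = -(E i 0 - 2 * (E i 0 * E i 1) * E i 0)
    have a1 : (2 : CliffordAlgebra (QuadGrp.splitForm R (m * 2))) * E i 0 * (E i 0 * E i 1) = 0 := by
      rw [mul_assoc, ← mul_assoc (E i 0), E_sq]; simp
    have a2 : (2 : CliffordAlgebra (QuadGrp.splitForm R (m * 2))) * (E i 0 * E i 1) * E i 0
        = 2 * E i 0 := by
      rw [mul_assoc, mul_assoc, E_swap, mul_sub, mul_one, ← mul_assoc (E i 0), E_sq]; simp
    rw [a1, a2]; noncomm_ring
  · show E (R := R) i 1 - 2 * E i 1 * (E i 0 * E i 1) = -(E i 1 - 2 * (E i 0 * E i 1) * E i 1)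
    have a1 : (2 : CliffordAlgebra (QuadGrp.splitForm R (m * 2))) * E i 1 * (E i 0 * E i 1)
        = 2 * E i 1 := by
      rw [mul_assoc, ← mul_assoc (E i 1), E_swap, sub_mul, one_mul, mul_assoc (E i 0), E_sq]; simp
    have a2 : (2 : CliffordAlgebra (QuadGrp.splitForm R (m * 2))) * (E i 0 * E i 1) * E i 1 = 0 := by
      rw [mul_assoc, mul_assoc, E_sq]; simp
    rw [a1, a2]; noncomm_ring

theorem F_comm (i i' : Fin m) : Commute (F (R := R) i) (F i') := by
  by_cases h : i = i'
  · subst h; exact Commute.refl _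
  · have h0 : Commute (E (R := R) i 0) (F i') := E_comm_F i' i 0 (Ne.symm h)
    have h1 : Commute (E (R := R) i 1) (F i') := E_comm_F i' i 1 (Ne.symm h)
    unfold F at h0 h1 ⊢
    exact ((Commute.one_left _).sub_left ((Commute.ofNat_left 2 _).mul_left (h0.mul_left h1)))

theorem main (R : Type*) [CommRing R] (m : ℕ) :
    ((List.finRange m).map (F (R := R))).prod * ((List.finRange m).map (F (R := R))).prod = 1 ∧
    ∀ (i : Fin m) (t : Fin 2), E (R := R) i t * ((List.finRange m).map (F (R := R))).prod =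
      -(((List.finRange m).map (F (R := R))).prod * E i t) := by
  constructor
  · apply list_sq_one
    · intro a ha
      obtain ⟨i, _, rfl⟩ := List.mem_map.1 ha
      exact F_sq i
    · intro a ha b hb
      obtain ⟨i, _, rfl⟩ := List.mem_map.1 ha
      obtain ⟨i', _, rfl⟩ := List.mem_map.1 hb
      exact F_comm i i'
  · intro i t
    rw [list_anticomm (F (R := R)) (E i t) i (fun i' h => E_comm_F i' i t h) (E_anti_F i t),
      List.count_eq_one_of_mem (List.nodup_finRange m) (List.mem_finRange i)]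
    simp

end Groth.Agent.Helper25.SplitCliff
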