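import Mathlib

/-!
# Splitting criterion: sections generating a direct summand near a closed point
-/

namespace Groth.Agent.Helper25.SplitCrit

universe u

variable {R : Type u} [CommRing R] {M : Type u} [AddCommGroup M] [Module R M]
variable (x : Ideal R) {r : ℕ}

/-- elements on which all linear forms take values in `x` -/
def NN : Submodule R M where
  carrier := {m : M | ∀ φ : M →ₗ[R] R, φ m ∈ x}
  add_mem' := fun {a b} ha hb φ => by rw [map_add]; exact x.add_mem (ha φ) (hb φ)
  zero_mem' := fun φ => by rw [map_zero]; exact x.zero_mem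
  smul_mem' := fun c a ha φ => by rw [map_smul]; exact x.mul_mem_left c (ha φ)

theorem mem_NN {m : M} : m ∈ NN (M := M) x ↔ ∀ φ : M →ₗ[R] R, φ m ∈ x := Iff.rfl

theorem smul_top_le_NN : (x • ⊤ : Submodule R M) ≤ NN x := by
  rw [Submodule.smul_le]
  intro a ha m _ φ
  rw [map_smul]
  exact x.mul_mem_right _ ha

/-- the subspace `B(x)` -/
def Bx : Submodule (R ⧸ x) (M ⧸ (x • ⊤ : Submodule R M)) :=
  Submodule.span (R ⧸ x) ((x • ⊤ : Submodule R M).mkQ '' {m : M | ∀ φ : M →ₗ[R] R, φ m ∈ x})

theorem mkQ_mem_Bx_iff (m : M) :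
    (x • ⊤ : Submodule R M).mkQ m ∈ Bx (M := M) x ↔ m ∈ NN x := by
  constructor
  · intro h
    have key : ∀ y ∈ Bx (M := M) x, ∀ m : M, (x • ⊤ : Submodule R M).mkQ m = y → m ∈ NN x := by
      intro y hy
      unfold Bx at hy
      induction hy using Submodule.span_induction with
      | mem y hy =>
        obtain ⟨n, hn, rfl⟩ := hy
        intro m hm
        have h1 : m - n ∈ (x • ⊤ : Submodule R M) := by
          rw [← Submodule.Quotient.mk_eq_zero, Submodule.Quotient.mk_sub, sub_eq_zero]
          exact hm
        have h2 : m = (m - n) + n := by abel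
        rw [h2]
        exact (NN x).add_mem (smul_top_le_NN x h1) hn
      | zero =>
        intro m hm
        exact smul_top_le_NN x ((Submodule.Quotient.mk_eq_zero _).mp hm)
      | add y1 y2 _ _ ih1 ih2 =>
        intro m hm
        obtain ⟨m1, rfl⟩ := Submodule.mkQ_surjective _ y1
        have h2 : (x • ⊤ : Submodule R M).mkQ (m - m1) = y2 := by
          rw [map_sub, hm]
          abel
        have := (NN x).add_mem (ih1 m1 rfl) (ih2 _ h2)
        rwa [add_sub_cancel] at this
      | smul a y _ ih =>
        intro m hm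
        obtain ⟨a', rfl⟩ := Ideal.Quotient.mk_surjective a
        obtain ⟨m', rfl⟩ := Submodule.mkQ_surjective _ y
        have h1 : m - a' • m' ∈ (x • ⊤ : Submodule R M) := by
          rw [← Submodule.Quotient.mk_eq_zero, Submodule.Quotient.mk_sub, sub_eq_zero]
          exact hm
        have h2 : m = (m - a' • m') + a' • m' := by abel
        rw [h2]
        exact (NN x).add_mem (smul_top_le_NN x h1) ((NN x).smul_mem a' (ih m' rfl))
    exact key _ h m rfl
  · intro h
    exact Submodule.subset_span ⟨m, h, rfl⟩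

theorem sum_eq (s : Fin r → M) (c : Fin r → R) :
    ∑ i, Ideal.Quotient.mk x (c i) • (Bx (M := M) x).mkQ ((x • ⊤ : Submodule R M).mkQ (s i)) =
    (Bx (M := M) x).mkQ ((x • ⊤ : Submodule R M).mkQ (∑ i, c i • s i)) := by
  rw [map_sum, map_sum]
  apply Finset.sum_congr rfl
  intro i _
  rw [← map_smul]
  rfl

theorem li_iff (s : Fin r → M) :
    LinearIndependent (R ⧸ x)
      (fun i => (Bx (M := M) x).mkQ ((x • ⊤ : Submodule R M).mkQ (s i))) ↔
    ∀ c : Fin r → R, (∑ i, c i • s i) ∈ NN x → ∀ i, c i ∈ x := by
  rw [Fintype.linearIndependent_iff]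
  constructor
  · intro h c hc i
    have h1 := h (fun i => Ideal.Quotient.mk x (c i)) (by
      rw [sum_eq, Submodule.mkQ_apply, Submodule.Quotient.mk_eq_zero]
      exact (mkQ_mem_Bx_iff x _).mpr hc) i
    exact Ideal.Quotient.eq_zero_iff_mem.mp h1
  · intro h g hg i
    choose c hc using fun i => Ideal.Quotient.mk_surjective (g i)
    have hg' : ∑ i, Ideal.Quotient.mk x (c i) •
        (Bx (M := M) x).mkQ ((x • ⊤ : Submodule R M).mkQ (s i)) = 0 := by
      simp_rw [hc]
      exact hg
    rw [sum_eq, Submodule.mkQ_apply, Submodule.Quotient.mk_eq_zero, mkQ_mem_Bx_iff] at hg'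
    rw [← hc i]
    exact Ideal.Quotient.eq_zero_iff_mem.mpr (h c hg' i)

theorem dir1 [Module.FinitePresentation R M] [x.IsPrime] (s : Fin r → M) (f : R) (hf : f ∉ x)
    (g : LocalizedModule (Submonoid.powers f) M →ₗ[Localization.Away f]
      (Fin r → Localization.Away f))
    (hg : g ∘ₗ Fintype.linearCombination (Localization.Away f)
            (fun i => LocalizedModule.mkLinearMap (Submonoid.powers f) M (s i)) = LinearMap.id)
    (c : Fin r → R) (hc : (∑ i, c i • s i) ∈ NN x) (j : Fin r) : c j ∈ x := by
  let gj : M →ₗ[R] Localization.Away f :=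
    (((LinearMap.proj j : (Fin r → Localization.Away f) →ₗ[Localization.Away f]
        Localization.Away f) ∘ₗ g).restrictScalars R) ∘ₗ
      LocalizedModule.mkLinearMap (Submonoid.powers f) M
  obtain ⟨φ, t, hφ⟩ := Module.FinitePresentation.exists_lift_of_isLocalizedModule
    (Submonoid.powers f) (Algebra.linearMap R (Localization.Away f)) gj
  have h1 : gj (∑ i, c i • s i) = algebraMap R (Localization.Away f) (c j) := by
    have h2 : LocalizedModule.mkLinearMap (Submonoid.powers f) M (∑ i, c i • s i) =
        Fintype.linearCombination (Localization.Away f)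
          (fun i => LocalizedModule.mkLinearMap (Submonoid.powers f) M (s i))
          (fun i => algebraMap R (Localization.Away f) (c i)) := by
      rw [Fintype.linearCombination_apply, map_sum]
      apply Finset.sum_congr rfl
      intro i _
      rw [map_smul, algebraMap_smul]
    change g (LocalizedModule.mkLinearMap (Submonoid.powers f) M (∑ i, c i • s i)) j = _
    rw [h2]
    have h3 := LinearMap.congr_fun hg (fun i => algebraMap R (Localization.Away f) (c i))
    rw [LinearMap.comp_apply] at h3
    rw [h3]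
    rfl
  have h4 : algebraMap R (Localization.Away f) (φ (∑ i, c i • s i)) =
      algebraMap R (Localization.Away f) ((t : R) * c j) := by
    have := LinearMap.congr_fun hφ (∑ i, c i • s i)
    rw [LinearMap.comp_apply, LinearMap.smul_apply, h1, Algebra.linearMap_apply] at this
    rw [this, Submonoid.smul_def, Algebra.smul_def, map_mul]
  obtain ⟨u, hu⟩ := (IsLocalization.eq_iff_exists (Submonoid.powers f) _).mp h4
  have hS : ∀ v : Submonoid.powers f, (v : R) ∉ x := by
    rintro ⟨_, n, rfl⟩ hv
    exact hf (Ideal.IsPrime.mem_of_pow_mem inferInstance n hv)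
  have h5 : (u : R) * ((t : R) * c j) ∈ x := by
    rw [← hu]
    exact x.mul_mem_left _ (hc φ)
  rcases Ideal.IsPrime.mem_or_mem inferInstance h5 with h | h
  · exact absurd h (hS u)
  rcases Ideal.IsPrime.mem_or_mem inferInstance h with h | h
  · exact absurd h (hS t)
  exact h

/-- evaluation subspace -/
def EE (s : Fin r → M) : Submodule (R ⧸ x) (Fin r → R ⧸ x) where
  carrier := Set.range (fun φ : M →ₗ[R] R => fun i => Ideal.Quotient.mk x (φ (s i)))
  add_mem' := by
    rintro _ _ ⟨φ, rfl⟩ ⟨ψ, rfl⟩
    exact ⟨φ + ψ, by ext i; simp⟩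
  zero_mem' := ⟨0, by ext i; simp⟩
  smul_mem' := by
    rintro a _ ⟨φ, rfl⟩
    obtain ⟨a', rfl⟩ := Ideal.Quotient.mk_surjective a
    exact ⟨a' • φ, by ext i; simp⟩

theorem EE_eq_top [x.IsMaximal] (s : Fin r → M)
    (h : ∀ c : Fin r → R, (∑ i, c i • s i) ∈ NN x → ∀ i, c i ∈ x) : EE x s = ⊤ := by
  classical
  letI := Ideal.Quotient.field x
  by_contra hne
  obtain ⟨F, hF0, hF⟩ := Submodule.exists_le_ker_of_lt_top (EE x s) (lt_top_iff_ne_top.mpr hne)
  apply hF0
  choose c hc using fun i => Ideal.Quotient.mk_surjective (F (Pi.single i 1))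
  have hF' : ∀ v : Fin r → R ⧸ x, F v = ∑ i, v i * Ideal.Quotient.mk x (c i) := by
    intro v
    conv_lhs => rw [← Finset.univ_sum_single v]
    rw [map_sum]
    apply Finset.sum_congr rfl
    intro i _
    have : (Pi.single i (v i) : Fin r → R ⧸ x) = v i • Pi.single i 1 := by
      rw [← Pi.single_smul, smul_eq_mul, mul_one]
    rw [this, map_smul, smul_eq_mul, hc]
  have hmem : (∑ i, c i • s i) ∈ NN x := by
    intro φ
    have h1 : (fun i => Ideal.Quotient.mk x (φ (s i))) ∈ EE x s := ⟨φ, rfl⟩
    have h2 := hF h1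
    rw [LinearMap.mem_ker, hF'] at h2
    rw [← Ideal.Quotient.eq_zero_iff_mem, map_sum, map_sum, ← h2]
    apply Finset.sum_congr rfl
    intro i _
    rw [map_smul, smul_eq_mul, map_mul, mul_comm]
  have hc0 := h c hmem
  refine LinearMap.ext fun v => ?_
  rw [hF', LinearMap.zero_apply]
  apply Finset.sum_eq_zero
  intro i _
  rw [Ideal.Quotient.eq_zero_iff_mem.mpr (hc0 i), mul_zero]

theorem dir2 [x.IsMaximal] (s : Fin r → M)
    (h : ∀ c : Fin r → R, (∑ i, c i • s i) ∈ NN x → ∀ i, c i ∈ x) :
    ∃ f : R, f ∉ x ∧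
      ∃ g : LocalizedModule (Submonoid.powers f) M →ₗ[Localization.Away f]
          (Fin r → Localization.Away f),
        g ∘ₗ Fintype.linearCombination (Localization.Away f)
            (fun i => LocalizedModule.mkLinearMap (Submonoid.powers f) M (s i)) =
          LinearMap.id := by
  classical
  have htop := EE_eq_top x s h
  have hφ : ∀ j : Fin r, ∃ φ : M →ₗ[R] R,
      ∀ i, Ideal.Quotient.mk x (φ (s i)) = if i = j then 1 else 0 := by
    intro j
    have : (fun i => if i = j then (1 : R ⧸ x) else 0) ∈ EE x s := by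
      rw [htop]
      trivial
    obtain ⟨φ, hφ⟩ := this
    exact ⟨φ, fun i => congrFun hφ i⟩
  choose φ hφ using hφ
  let A : Matrix (Fin r) (Fin r) R := Matrix.of fun i j => φ j (s i)
  have hA : (Ideal.Quotient.mk x).mapMatrix A = 1 := by
    ext i j
    rw [RingHom.mapMatrix_apply, Matrix.map_apply]
    change Ideal.Quotient.mk x (φ j (s i)) = _
    rw [hφ, Matrix.one_apply]
  have hdet : A.det ∉ x := by
    intro hd
    have h1 : Ideal.Quotient.mk x A.det = 1 := by
      rw [RingHom.map_det, hA, Matrix.det_one]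
    rw [Ideal.Quotient.eq_zero_iff_mem.mpr hd] at h1
    haveI : Nontrivial (R ⧸ x) := Ideal.Quotient.nontrivial_iff.mpr (Ideal.IsMaximal.ne_top inferInstance)
    exact zero_ne_one h1
  refine ⟨A.det, hdet, ?_⟩
  let A' : Matrix (Fin r) (Fin r) (Localization.Away A.det) :=
    (algebraMap R (Localization.Away A.det)).mapMatrix A
  have hA' : IsUnit A'.det := by
    have : A'.det = algebraMap R _ A.det := by
      rw [← RingHom.map_det]
    rw [this]
    exact IsLocalization.Away.algebraMap_isUnit A.det
  let Φ : LocalizedModule (Submonoid.powers A.det) M →ₗ[Localization.Away A.det]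
      (Fin r → Localization.Away A.det) :=
    LinearMap.pi fun j => LinearMap.extendScalarsOfIsLocalization (Submonoid.powers A.det)
      (Localization.Away A.det)
      (IsLocalizedModule.map (Submonoid.powers A.det)
        (LocalizedModule.mkLinearMap (Submonoid.powers A.det) M)
        (Algebra.linearMap R (Localization.Away A.det)) (φ j))
  have hΦ : ∀ i, Φ (LocalizedModule.mkLinearMap (Submonoid.powers A.det) M (s i)) = A' i := by
    intro i
    ext j
    change IsLocalizedModule.map (Submonoid.powers A.det)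
      (LocalizedModule.mkLinearMap (Submonoid.powers A.det) M)
      (Algebra.linearMap R (Localization.Away A.det)) (φ j)
      (LocalizedModule.mkLinearMap (Submonoid.powers A.det) M (s i)) = _
    rw [IsLocalizedModule.map_apply]
    rfl
  refine ⟨(Matrix.vecMulLinear A'⁻¹) ∘ₗ Φ, ?_⟩
  refine LinearMap.ext fun a => ?_
  rw [LinearMap.comp_apply, LinearMap.comp_apply, Fintype.linearCombination_apply, map_sum,
    LinearMap.id_apply]
  have h1 : ∑ i, Φ (a i • LocalizedModule.mkLinearMap (Submonoid.powers A.det) M (s i)) =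
      Matrix.vecMul a A' := by
    ext j
    rw [Finset.sum_apply]
    change _ = ∑ i, a i * A' i j
    apply Finset.sum_congr rfl
    intro i _
    rw [map_smul, hΦ, Pi.smul_apply, smul_eq_mul]
  rw [h1, Matrix.vecMulLinear_apply, Matrix.vecMul_vecMul, Matrix.mul_nonsing_inv _ hA',
    Matrix.vecMul_one]

theorem main [Module.FinitePresentation R M] [x.IsMaximal] (s : Fin r → M) :
    (∃ f : R, f ∉ x ∧
      ∃ g : LocalizedModule (Submonoid.powers f) M →ₗ[Localization.Away f]
          (Fin r → Localization.Away f),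
        g ∘ₗ Fintype.linearCombination (Localization.Away f)
            (fun i => LocalizedModule.mkLinearMap (Submonoid.powers f) M (s i)) =
          LinearMap.id) ↔
    LinearIndependent (R ⧸ x)
      (fun i => (Bx (M := M) x).mkQ ((x • ⊤ : Submodule R M).mkQ (s i))) := by
  rw [li_iff]
  constructor
  · rintro ⟨f, hf, g, hg⟩ c hc j
    exact dir1 x s f hf g hg c hc j
  · exact dir2 x s

end Groth.Agent.Helper25.SplitCrit
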