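import Mathlib

/-!
# Square-zero extensions of complete Noetherian local rings are complete (helper25)
-/

set_option autoImplicit false

open IsLocalRing

namespace Groth.Agent.Helper25.SqZeroComplete

variable {A : Type*} {E : Type*} [CommRing A] [CommRing E] (f : E →+* A)

theorem ker_mul_ker (hsq : RingHom.ker f ^ 2 = ⊥) {x y : E} (hx : x ∈ RingHom.ker f)
    (hy : y ∈ RingHom.ker f) : x * y = 0 := by
  have h : x * y ∈ RingHom.ker f ^ 2 := by
    rw [pow_two]; exact Ideal.mul_mem_mul hx hy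
  rwa [hsq, Ideal.mem_bot] at h

theorem isUnit_of_map (hf : Function.Surjective f) (hsq : RingHom.ker f ^ 2 = ⊥) (u : E)
    (hu : IsUnit (f u)) : IsUnit u := by
  obtain ⟨v, hv⟩ := hu.exists_right_inv
  obtain ⟨w, rfl⟩ := hf v
  have hk : u * w - 1 ∈ RingHom.ker f := by
    rw [RingHom.mem_ker, map_sub, map_mul, hv, map_one, sub_self]
  have hk2 : (u * w - 1) * (u * w - 1) = 0 := ker_mul_ker f hsq hk hk
  exact IsUnit.of_mul_eq_one (w * (2 - u * w)) (by linear_combination (-1 : E) * hk2)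

theorem noeth [IsNoetherianRing A] (hf : Function.Surjective f) (hsq : RingHom.ker f ^ 2 = ⊥)
    (hfg : (RingHom.ker f).FG) : IsNoetherianRing E := by
  apply IsNoetherianRing.of_prime
  intro P hP
  have hKP : RingHom.ker f ≤ P := by
    have hP' := hP
    apply Ideal.IsPrime.le_of_pow_le (n := 2)
    rw [hsq]; exact bot_le
  refine Ideal.fg_of_fg_map_of_fg_inf_ker_of_surjective (f := f) (IsNoetherian.noetherian _) ?_ hf
  rw [inf_eq_right.mpr hKP]
  exact hfg

theorem le_jacobson [IsLocalRing A] (hf : Function.Surjective f) (hsq : RingHom.ker f ^ 2 = ⊥) :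
    (maximalIdeal A).comap f ≤ Ideal.jacobson ⊥ := by
  intro x hx
  rw [Ideal.mem_jacobson_bot]
  intro y
  apply isUnit_of_map f hf hsq
  rw [map_add, map_mul, map_one]
  have h1 : f x ∈ Ideal.jacobson (⊥ : Ideal A) :=
    IsLocalRing.maximalIdeal_le_jacobson _ (Ideal.mem_comap.mp hx)
  exact Ideal.mem_jacobson_bot.mp h1 (f y)

theorem map_mem_pow (m : Ideal A) {n : ℕ} {x : E} (hx : x ∈ (m.comap f) ^ n) : f x ∈ m ^ n := by
  have h1 : f x ∈ Ideal.map f ((m.comap f) ^ n) := Ideal.mem_map_of_mem f hx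
  rw [Ideal.map_pow] at h1
  exact Ideal.pow_right_mono Ideal.map_comap_le n h1

theorem exists_lift (hf : Function.Surjective f) (m : Ideal A) (n : ℕ) {a : A} (ha : a ∈ m ^ n) :
    ∃ w ∈ (m.comap f) ^ n, f w = a := by
  have h1 : a ∈ Ideal.map f ((m.comap f) ^ n) := by
    rw [Ideal.map_pow, Ideal.map_comap_of_surjective f hf]; exact ha
  exact (Ideal.mem_map_iff_of_surjective f hf).mp h1

theorem smodEq_iff (I : Ideal A) (n : ℕ) (x y : A) :
    x ≡ y [SMOD (I ^ n • ⊤ : Submodule A A)] ↔ x - y ∈ I ^ n := by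
  rw [SModEq.sub_mem, smul_eq_mul, Ideal.mul_top]

theorem smodEq_iff' (I : Ideal E) (n : ℕ) (x y : E) :
    x ≡ y [SMOD (I ^ n • ⊤ : Submodule E E)] ↔ x - y ∈ I ^ n := by
  rw [SModEq.sub_mem, smul_eq_mul, Ideal.mul_top]

theorem ker_precomplete (hf : Function.Surjective f) (hsq : RingHom.ker f ^ 2 = ⊥) (m : Ideal A)
    [IsPrecomplete m A] {r : ℕ} (κ : Fin r → E)
    (hκ : Submodule.span E (Set.range κ) = RingHom.ker f)
    (k : ℕ → E) (hk : ∀ n, k n ∈ RingHom.ker f)
    (hc : ∀ n, k (n + 1) - k n ∈ (m.comap f) ^ n * RingHom.ker f) :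
    ∃ L ∈ RingHom.ker f, ∀ n, k n - L ∈ (m.comap f) ^ n * RingHom.ker f := by
  classical
  have hκmem : ∀ i, κ i ∈ RingHom.ker f := by
    intro i
    rw [← hκ]; exact Submodule.subset_span ⟨i, rfl⟩
  have hex : ∀ n, ∃ c : Fin r → E, (∀ i, c i ∈ (m.comap f) ^ n) ∧
      k (n + 1) - k n = ∑ i, c i * κ i := by
    intro n
    have h1 : k (n + 1) - k n ∈ ((m.comap f) ^ n) • Submodule.span E (Set.range κ) := by
      rw [hκ]; exact hc n
    rw [Submodule.mem_ideal_smul_span_iff_exists_sum] at h1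
    obtain ⟨a, ha, hsum⟩ := h1
    refine ⟨fun i => a i, ha, ?_⟩
    rw [← hsum, Finsupp.sum_fintype]
    · rfl
    · intro i; exact zero_smul _ _
  choose c hcmem hcsum using hex
  obtain ⟨s, hs⟩ : ∃ s : ℕ → Fin r → E, ∀ n i, s n i = ∑ j ∈ Finset.range n, c j i :=
    ⟨_, fun _ _ => rfl⟩
  have hkn : ∀ n, k n = k 0 + ∑ i, s n i * κ i := by
    intro n
    induction n with
    | zero => simp [hs]
    | succ n ih =>
      have h1 : k (n + 1) = k n + ∑ i, c n i * κ i := by rw [← hcsum n]; ring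
      rw [h1, ih, add_assoc, ← Finset.sum_add_distrib]
      congr 1
      refine Finset.sum_congr rfl fun i _ => ?_
      rw [hs, hs, Finset.sum_range_succ]; ring
  have hcauchy : ∀ i, ∀ {p q : ℕ}, p ≤ q →
      f (s p i) ≡ f (s q i) [SMOD (m ^ p • ⊤ : Submodule A A)] := by
    intro i p q hpq
    rw [smodEq_iff, ← map_sub]
    have h1 : s q i - s p i = ∑ j ∈ Finset.Ico p q, c j i := by
      rw [hs, hs, Finset.sum_Ico_eq_sub _ hpq]
    have hmem : s q i - s p i ∈ (m.comap f) ^ p := by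
      rw [h1]
      refine Ideal.sum_mem _ fun j hj => ?_
      exact Ideal.pow_le_pow_right (Finset.mem_Ico.mp hj).1 (hcmem j i)
    have h2 : f (s q i - s p i) ∈ m ^ p := map_mem_pow f m hmem
    have h3 : s p i - s q i = -(s q i - s p i) := by ring
    rw [h3, map_neg]
    exact (Ideal.neg_mem_iff _).mpr h2
  have hlim : ∀ i, ∃ α : A, ∀ n, f (s n i) ≡ α [SMOD (m ^ n • ⊤ : Submodule A A)] :=
    fun i => IsPrecomplete.prec' _ (hcauchy i)
  choose α hα using hlim
  choose β hβ using fun i => hf (α i)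
  refine ⟨k 0 + ∑ i, β i * κ i, ?_, ?_⟩
  · exact Ideal.add_mem _ (hk 0) (Ideal.sum_mem _ fun i _ => Ideal.mul_mem_left _ _ (hκmem i))
  · intro n
    have e : k n - (k 0 + ∑ i, β i * κ i) = ∑ i, (s n i - β i) * κ i := by
      rw [hkn n, add_sub_add_left_eq_sub, ← Finset.sum_sub_distrib]
      refine Finset.sum_congr rfl fun i _ => by ring
    rw [e]
    refine Ideal.sum_mem _ fun i _ => ?_
    have h1 : f (s n i - β i) ∈ m ^ n := by
      have h2 := hα i n
      rw [smodEq_iff] at h2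
      rwa [map_sub, hβ]
    obtain ⟨w, hw, hfw⟩ := exists_lift f hf m n h1
    have hker : s n i - β i - w ∈ RingHom.ker f := by
      rw [RingHom.mem_ker, map_sub, hfw, sub_self]
    have e2 : (s n i - β i) * κ i = w * κ i + (s n i - β i - w) * κ i := by ring
    rw [e2, ker_mul_ker f hsq hker (hκmem i), add_zero]
    exact Ideal.mul_mem_mul hw (hκmem i)

theorem precomplete [IsNoetherianRing A] (hf : Function.Surjective f)
    (hsq : RingHom.ker f ^ 2 = ⊥) (hfg : (RingHom.ker f).FG) (m : Ideal A) [IsPrecomplete m A] :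
    IsPrecomplete (m.comap f) E := by
  have hN : IsNoetherianRing E := noeth f hf hsq hfg
  obtain ⟨r, κ, hκ⟩ := Submodule.fg_iff_exists_fin_generating_family.mp hfg
  obtain ⟨c, hAR⟩ := Ideal.exists_pow_inf_eq_pow_smul (m.comap f) (RingHom.ker f : Submodule E E)
  have hAR' : ∀ n, c ≤ n → ∀ x, x ∈ (m.comap f) ^ n → x ∈ RingHom.ker f →
      x ∈ (m.comap f) ^ (n - c) * RingHom.ker f := by
    intro n hn x hx1 hx2
    have h0 : ((m.comap f) ^ n • (⊤ : Submodule E E)) = (m.comap f) ^ n := by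
      rw [smul_eq_mul, Ideal.mul_top]
    have h1 : x ∈ ((m.comap f) ^ n • (⊤ : Submodule E E)) ⊓ (RingHom.ker f : Submodule E E) := by
      refine Submodule.mem_inf.mpr ⟨?_, hx2⟩
      rw [h0]; exact hx1
    have h2 := (hAR n hn).le h1
    exact Submodule.smul_mono le_rfl inf_le_right h2
  constructor
  intro x hx
  have hx' : ∀ {p q : ℕ}, p ≤ q → x p - x q ∈ (m.comap f) ^ p := by
    intro p q hpq
    have h1 := hx hpq
    rwa [smodEq_iff'] at h1
  have hA : ∀ {p q : ℕ}, p ≤ q → f (x p) ≡ f (x q) [SMOD (m ^ p • ⊤ : Submodule A A)] := by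
    intro p q hpq
    rw [smodEq_iff, ← map_sub]
    exact map_mem_pow f m (hx' hpq)
  obtain ⟨a, ha⟩ := IsPrecomplete.prec' _ hA
  obtain ⟨y, rfl⟩ := hf a
  have hu : ∀ n, ∃ u ∈ (m.comap f) ^ n, f u = f (x n - y) := by
    intro n
    apply exists_lift f hf m n
    have h1 := ha n
    rwa [smodEq_iff, ← map_sub] at h1
  choose u hu1 hu2 using hu
  obtain ⟨k, hkdef⟩ : ∃ k : ℕ → E, ∀ n, k n = x (n + c) - y - u (n + c) := ⟨_, fun _ => rfl⟩
  have hkK : ∀ n, k n ∈ RingHom.ker f := by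
    intro n
    rw [RingHom.mem_ker, hkdef, map_sub, hu2, sub_self]
  have hkc : ∀ n, k (n + 1) - k n ∈ (m.comap f) ^ n * RingHom.ker f := by
    intro n
    have h1 : k (n + 1) - k n ∈ (m.comap f) ^ (n + c) := by
      have e : k (n + 1) - k n =
          -(x (n + c) - x (n + 1 + c)) - u (n + 1 + c) + u (n + c) := by
        rw [hkdef, hkdef]; ring
      rw [e]
      refine Ideal.add_mem _ (Ideal.sub_mem _ ((Ideal.neg_mem_iff _).mpr (hx' (by omega))) ?_)
        (hu1 _)
      exact Ideal.pow_le_pow_right (by omega) (hu1 (n + 1 + c))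
    have h2 := hAR' (n + c) (by omega) _ h1 (Ideal.sub_mem _ (hkK _) (hkK _))
    rwa [Nat.add_sub_cancel] at h2
  obtain ⟨L, hLK, hL⟩ := ker_precomplete f hf hsq m κ hκ k hkK hkc
  refine ⟨y + L, fun n => ?_⟩
  rw [smodEq_iff']
  have e : x n - (y + L) = (x n - x (n + c)) + u (n + c) + (k n - L) := by
    rw [hkdef]; ring
  rw [e]
  refine Ideal.add_mem _ (Ideal.add_mem _ (hx' (by omega)) ?_) ?_
  · exact Ideal.pow_le_pow_right (by omega) (hu1 (n + c))
  · exact Ideal.mul_le_left (hL n)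

theorem hausdorff [IsNoetherianRing A] [IsLocalRing A] (hf : Function.Surjective f)
    (hsq : RingHom.ker f ^ 2 = ⊥) (hfg : (RingHom.ker f).FG) :
    IsHausdorff ((maximalIdeal A).comap f) E := by
  have hN : IsNoetherianRing E := noeth f hf hsq hfg
  exact IsHausdorff.of_le_jacobson _ _ (le_jacobson f hf hsq)

theorem main [IsNoetherianRing A] [IsLocalRing A] [IsAdicComplete (maximalIdeal A) A]
    (hf : Function.Surjective f) (hsq : RingHom.ker f ^ 2 = ⊥) (hfg : (RingHom.ker f).FG) :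
    IsAdicComplete ((maximalIdeal A).comap f) E :=
  { toIsHausdorff := hausdorff f hf hsq hfg
    toIsPrecomplete := precomplete f hf hsq hfg (maximalIdeal A) }

end Groth.Agent.Helper25.SqZeroComplete
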