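import Mathlib

namespace Groth.Agent.Helper25.TangFormsA

open MvPolynomial

universe u
variable {k : Type u} [Field k] {N : ℕ}

theorem dual_apply_eq_sum (ℓ : Module.Dual k (Fin N → k)) (v : Fin N → k) :
    ℓ v = ∑ i, v i * ℓ (Pi.single i 1) := by
  conv_lhs => rw [← (Pi.basisFun k (Fin N)).sum_repr v]
  rw [map_sum]
  refine Finset.sum_congr rfl fun i _ => ?_
  rw [map_smul, Pi.basisFun_repr, Pi.basisFun_apply, smul_eq_mul]

/-- the linear polynomial of a functional -/
noncomputable def lp (ℓ : Module.Dual k (Fin N → k)) : MvPolynomial (Fin N) k :=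
  ∑ i, C (ℓ (Pi.single i 1)) * X i

theorem lp_homog (ℓ : Module.Dual k (Fin N → k)) : (lp ℓ).IsHomogeneous 1 :=
  IsHomogeneous.sum _ _ _ (fun i _ => isHomogeneous_C_mul_X (ℓ (Pi.single i 1)) i)

theorem aeval_lp (ℓ : Module.Dual k (Fin N → k)) (v : Fin N → k) : aeval v (lp ℓ) = ℓ v := by
  rw [dual_apply_eq_sum ℓ v]
  unfold lp
  rw [map_sum]
  refine Finset.sum_congr rfl fun i _ => ?_
  rw [map_mul, aeval_C, aeval_X, mul_comm]
  rfl

/-- directional derivative at `v` along `w` -/
noncomputable def dd (v w : Fin N → k) (G : MvPolynomial (Fin N) k) : k :=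
  ∑ j, w j * aeval v (pderiv j G)

theorem dd_add (v w : Fin N → k) (G H : MvPolynomial (Fin N) k) :
    dd v w (G + H) = dd v w G + dd v w H := by
  unfold dd
  simp only [map_add, mul_add, Finset.sum_add_distrib]

theorem dd_mul (v w : Fin N → k) (G H : MvPolynomial (Fin N) k) :
    dd v w (G * H) = aeval v G * dd v w H + aeval v H * dd v w G := by
  unfold dd
  rw [Finset.mul_sum, Finset.mul_sum, ← Finset.sum_add_distrib]
  refine Finset.sum_congr rfl fun j _ => ?_
  rw [Derivation.leibniz, map_add, smul_eq_mul, smul_eq_mul, map_mul, map_mul]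
  ring

theorem dd_pow (v w : Fin N → k) (G : MvPolynomial (Fin N) k) (e : ℕ) :
    dd v w (G ^ (e + 1)) = ((e + 1 : ℕ) : k) * aeval v G ^ e * dd v w G := by
  induction e with
  | zero => simp
  | succ e ih =>
    rw [pow_succ, dd_mul, ih, map_pow]
    push_cast
    ring

theorem dd_lp (v w : Fin N → k) (ℓ : Module.Dual k (Fin N → k)) : dd v w (lp ℓ) = ℓ w := by
  classical
  rw [dual_apply_eq_sum ℓ w]
  unfold dd lp
  refine Finset.sum_congr rfl fun j _ => ?_
  congr 1
  rw [map_sum, map_sum]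
  rw [Finset.sum_eq_single j]
  · rw [pderiv_C_mul, pderiv_X_self, mul_one, aeval_C]
    rfl
  · intro i _ hij
    rw [pderiv_C_mul, pderiv_X_of_ne hij, mul_zero, map_zero]
  · intro h
    exact absurd (Finset.mem_univ j) h

/-- the form `ℓ^e * m` -/
noncomputable def Gf (ℓ m : Module.Dual k (Fin N → k)) (e : ℕ) : MvPolynomial (Fin N) k :=
  lp ℓ ^ e * lp m

theorem Gf_homog (ℓ m : Module.Dual k (Fin N → k)) (e : ℕ) : (Gf ℓ m e).IsHomogeneous (e + 1) := by
  unfold Gf
  have h := ((lp_homog ℓ).pow e).mul (lp_homog m)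
  rwa [one_mul] at h

theorem aeval_Gf (ℓ m : Module.Dual k (Fin N → k)) (e : ℕ) (v : Fin N → k) :
    aeval v (Gf ℓ m e) = ℓ v ^ e * m v := by
  unfold Gf
  rw [map_mul, map_pow, aeval_lp, aeval_lp]

theorem dd_Gf (ℓ m : Module.Dual k (Fin N → k)) (e : ℕ) (v w : Fin N → k) :
    dd v w (Gf ℓ m (e + 1)) =
      ℓ v ^ (e + 1) * m w + m v * (((e + 1 : ℕ) : k) * ℓ v ^ e * ℓ w) := by
  unfold Gf
  rw [dd_mul, dd_pow, dd_lp, dd_lp, map_pow, aeval_lp, aeval_lp]

/-- Euler identity -/
theorem dd_self (v : Fin N → k) (G : MvPolynomial (Fin N) k) (d : ℕ) (hG : G.IsHomogeneous d) :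
    dd v v G = (d : k) * aeval v G := by
  have h := congrArg (aeval v) hG.sum_X_mul_pderiv
  rw [map_sum, map_nsmul, nsmul_eq_mul] at h
  rw [← h]
  unfold dd
  refine Finset.sum_congr rfl fun j _ => ?_
  rw [map_mul, aeval_X]

theorem pderiv_comm (i j : Fin N) (G : MvPolynomial (Fin N) k) :
    pderiv i (pderiv j G) = pderiv j (pderiv i G) := by
  classical
  induction G using MvPolynomial.induction_on with
  | C a => simp
  | add p q hp hq => simp only [map_add, hp, hq]
  | mul_X p l hp =>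
    simp only [Derivation.leibniz, map_add, smul_eq_mul, hp, pderiv_X, Pi.single_apply]
    split_ifs <;> simp <;> ring

/-- symmetry of the second derivative for quadratic forms -/
theorem dd_symm (v w : Fin N → k) (G : MvPolynomial (Fin N) k) (hG : G.IsHomogeneous 2) :
    dd v w G = dd w v G := by
  have h1 : ∀ j, (pderiv j G).IsHomogeneous 1 := fun j => hG.pderiv
  have h0 : ∀ i j, (pderiv i (pderiv j G)).IsHomogeneous 0 := fun i j => (h1 j).pderiv
  have hc : ∀ i j (u : Fin N → k), aeval u (pderiv i (pderiv j G)) =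
      (pderiv i (pderiv j G)).coeff 0 := by
    intro i j u
    have := (totalDegree_eq_zero_iff_eq_C.1 ((totalDegree_zero_iff_isHomogeneous (Fin N)).2 (h0 i j)))
    rw [this, aeval_C, coeff_C, if_pos rfl]
    rfl
  have hE : ∀ (u : Fin N → k) j, aeval u (pderiv j G) =
      ∑ i, u i * (pderiv i (pderiv j G)).coeff 0 := by
    intro u j
    have h := congrArg (aeval u) (h1 j).sum_X_mul_pderiv
    rw [map_sum, one_smul] at h
    rw [← h]
    refine Finset.sum_congr rfl fun i _ => ?_
    rw [map_mul, aeval_X, hc]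
  unfold dd
  simp only [hE, Finset.mul_sum]
  rw [Finset.sum_comm]
  refine Finset.sum_congr rfl fun i _ => Finset.sum_congr rfl fun j _ => ?_
  rw [pderiv_comm i j]
  ring

end Groth.Agent.Helper25.TangFormsA
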