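import Mathlib
import Groth.Prelude.Def_LefPen
import Groth.Agent.Lib.Helper25.TangFormsA

namespace Groth.Agent.Helper25.TangFormsB

open MvPolynomial Groth.Agent.Helper25.TangFormsA

universe u
variable {k : Type u} [Field k] {N : ℕ}

instance finite_homog (d : ℕ) : Module.Finite k (homogeneousSubmodule (Fin N) k d) := by
  classical
  rw [homogeneousSubmodule_eq_finsupp_supported]
  have hS : {e : Fin N →₀ ℕ | e.degree = d} =
      ↑((Finset.univ : Finset (Fin N)).finsuppAntidiag d) := by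
    ext e
    simp [Finset.mem_finsuppAntidiag, Finsupp.degree_eq_sum]
  rw [hS]
  exact Module.Finite.equiv (AddMonoidAlgebra.supportedEquivFinsupp _).symm

/-- derivative part -/
noncomputable def ddW (W : Submodule k (Fin N → k)) (v : Fin N → k) :
    MvPolynomial (Fin N) k →ₗ[k] Module.Dual k W :=
  ∑ j, ((aeval v).toLinearMap ∘ₗ (pderiv j).toLinearMap).smulRight
    ((LinearMap.proj j : (Fin N → k) →ₗ[k] k) ∘ₗ W.subtype)

theorem ddW_apply (W : Submodule k (Fin N → k)) (v : Fin N → k) (G : MvPolynomial (Fin N) k)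
    (w : W) : ddW W v G w = dd v (w : Fin N → k) G := by
  unfold ddW dd
  rw [LinearMap.sum_apply, LinearMap.sum_apply]
  refine Finset.sum_congr rfl fun j _ => ?_
  rw [LinearMap.smulRight_apply, LinearMap.smul_apply, smul_eq_mul, mul_comm]
  rfl

noncomputable def Tp (W : Submodule k (Fin N → k)) (v : Fin N → k) :
    MvPolynomial (Fin N) k →ₗ[k] k × Module.Dual k W :=
  LinearMap.prod (aeval v).toLinearMap (ddW W v)

theorem Tp_apply (W : Submodule k (Fin N → k)) (v : Fin N → k) (G : MvPolynomial (Fin N) k) :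
    Tp W v G = (aeval v G, ddW W v G) := rfl

theorem tangLin_eq_zero_iff {r d : ℕ} (W : Submodule k (Fin (r + 1) → k)) (v : Fin (r + 1) → k)
    (G : LefPen.Form r k d) :
    LefPen.tangLin k W v G = 0 ↔ Tp W v (G : MvPolynomial (Fin (r + 1)) k) = 0 := by
  rw [Tp_apply, Prod.mk_eq_zero]
  unfold LefPen.tangLin
  simp only [LinearMap.prod_apply, Pi.prod, Prod.mk_eq_zero]
  refine and_congr Iff.rfl ?_
  constructor
  · intro h
    refine LinearMap.ext fun w => ?_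
    have := congrFun h w
    rw [ddW_apply]
    simpa [dd, LinearMap.pi_apply, LinearMap.sum_apply] using this
  · intro h
    funext w
    have := LinearMap.congr_fun h w
    rw [ddW_apply] at this
    simpa [dd, LinearMap.pi_apply, LinearMap.sum_apply] using this

theorem exists_sep (W : Submodule k (Fin N → k)) (v : Fin N → k) :
    ∃ g : Module.Dual k (Fin N → k), (∀ w ∈ W, g w = 0) ∧ (v ∉ W → g v = 1) := by
  by_cases hv : v ∈ W
  · exact ⟨0, fun _ _ => rfl, fun h => absurd hv h⟩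
  · obtain ⟨f, hf, hf'⟩ := Submodule.exists_dual_map_eq_bot_of_notMem hv inferInstance
    refine ⟨(f v)⁻¹ • f, fun w hw => ?_, fun _ => ?_⟩
    · have : f w ∈ W.map f := Submodule.mem_map_of_mem hw
      rw [hf'] at this
      rw [LinearMap.smul_apply, (Submodule.mem_bot k).1 this, smul_zero]
    · rw [LinearMap.smul_apply, smul_eq_mul, inv_mul_cancel₀ hf]

theorem exists_dual_pair (v₁ v₂ : Fin N → k) (hv : LinearIndependent k ![v₁, v₂]) :
    ∃ l₁ l₂ : Module.Dual k (Fin N → k), l₁ v₁ = 1 ∧ l₁ v₂ = 0 ∧ l₂ v₁ = 0 ∧ l₂ v₂ = 1 := by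
  let f : k × k →ₗ[k] (Fin N → k) :=
    (LinearMap.toSpanSingleton k _ v₁).coprod (LinearMap.toSpanSingleton k _ v₂)
  have hf : ∀ a b, f (a, b) = a • v₁ + b • v₂ := fun a b => by simp [f]
  have hker : LinearMap.ker f = ⊥ := by
    rw [LinearMap.ker_eq_bot']
    rintro ⟨a, b⟩ h
    rw [hf] at h
    obtain ⟨ha, hb⟩ := (LinearIndependent.pair_iff.1 hv) a b h
    rw [ha, hb]
    rfl
  obtain ⟨g, hg⟩ := f.exists_leftInverse_of_injective hker
  have h1 : g v₁ = (1, 0) := by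
    have := LinearMap.congr_fun hg (1, 0)
    rw [LinearMap.comp_apply, hf, one_smul, zero_smul, add_zero] at this
    exact this
  have h2 : g v₂ = (0, 1) := by
    have := LinearMap.congr_fun hg (0, 1)
    rw [LinearMap.comp_apply, hf, one_smul, zero_smul, zero_add] at this
    exact this
  refine ⟨(LinearMap.fst k k k) ∘ₗ g, (LinearMap.snd k k k) ∘ₗ g, ?_, ?_, ?_, ?_⟩ <;>
    simp [h1, h2]

theorem solve (W₁ W₂ : Submodule k (Fin N → k)) (v₁ v₂ : Fin N → k) (h₁ : v₁ ∈ W₁) (h₂ : v₂ ∈ W₂)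
    (l₁ l₂ : Module.Dual k (Fin N → k)) (h11 : l₁ v₁ = 1) (h12 : l₁ v₂ = 0) (h21 : l₂ v₁ = 0)
    (h22 : l₂ v₂ = 1) (e : ℕ) (c₁ c₂ : k) (μ₁ μ₂ : Module.Dual k (Fin N → k))
    (hμ₁ : μ₁ v₁ = ((e + 2 : ℕ) : k) * c₁) (hμ₂ : μ₂ v₂ = ((e + 2 : ℕ) : k) * c₂)
    (hcompat : e = 0 → v₂ ∈ W₁ → v₁ ∈ W₂ → μ₁ v₂ = μ₂ v₁) :
    ∃ m₁ m₂ : Module.Dual k (Fin N → k), m₁ v₁ = c₁ ∧ m₂ v₂ = c₂ ∧
      (∀ w ∈ W₁, m₁ w + c₁ * (((e + 1 : ℕ) : k) * l₁ w) +
          m₂ v₁ * (((e + 1 : ℕ) : k) * (0 : k) ^ e * l₂ w) = μ₁ w) ∧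
      (∀ w ∈ W₂, m₂ w + c₂ * (((e + 1 : ℕ) : k) * l₂ w) +
          m₁ v₂ * (((e + 1 : ℕ) : k) * (0 : k) ^ e * l₁ w) = μ₂ w) := by
  by_cases he : e = 0
  · subst he
    obtain ⟨g₁, hg₁, hg₁'⟩ := exists_sep W₁ v₂
    obtain ⟨g₂, hg₂, hg₂'⟩ := exists_sep W₂ v₁
    obtain ⟨s₁, s₂, hs⟩ : ∃ s₁ s₂ : k, μ₂ v₁ - (μ₁ v₂ + s₁ * g₁ v₂) + s₂ * g₂ v₁ = 0 := by
      by_cases hA : v₁ ∈ W₂
      · by_cases hB : v₂ ∈ W₁
        · refine ⟨0, 0, ?_⟩
          rw [hcompat rfl hB hA]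
          ring
        · refine ⟨μ₂ v₁ - μ₁ v₂, 0, ?_⟩
          rw [hg₁' hB]
          ring
      · refine ⟨0, μ₁ v₂ - μ₂ v₁, ?_⟩
        rw [hg₂' hA]
        ring
    obtain ⟨β, hβ⟩ : ∃ β : k, β = μ₁ v₂ + s₁ * g₁ v₂ := ⟨_, rfl⟩
    rw [← hβ] at hs
    have hm2 : (μ₂ - c₂ • l₂ - β • l₁ + s₂ • g₂) v₁ = 0 := by
      simp only [LinearMap.add_apply, LinearMap.sub_apply, LinearMap.smul_apply, smul_eq_mul,
        h21, h11]
      linear_combination hs
    have hm1 : (μ₁ - c₁ • l₁ + s₁ • g₁) v₂ = β := by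
      simp only [LinearMap.add_apply, LinearMap.sub_apply, LinearMap.smul_apply, smul_eq_mul,
        h12]
      rw [hβ]
      ring
    refine ⟨μ₁ - c₁ • l₁ + s₁ • g₁, μ₂ - c₂ • l₂ - β • l₁ + s₂ • g₂, ?_, ?_, ?_, ?_⟩
    · simp only [LinearMap.add_apply, LinearMap.sub_apply, LinearMap.smul_apply, smul_eq_mul,
        h11, hg₁ v₁ h₁, hμ₁]
      push_cast
      ring
    · simp only [LinearMap.add_apply, LinearMap.sub_apply, LinearMap.smul_apply, smul_eq_mul,
        h22, h12, hg₂ v₂ h₂, hμ₂]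
      push_cast
      ring
    · intro w hw
      rw [hm2]
      simp only [LinearMap.add_apply, LinearMap.sub_apply, LinearMap.smul_apply, smul_eq_mul,
        hg₁ w hw]
      push_cast
      ring
    · intro w hw
      rw [hm1]
      simp only [LinearMap.add_apply, LinearMap.sub_apply, LinearMap.smul_apply, smul_eq_mul,
        hg₂ w hw]
      push_cast
      ring
  · have h0 : (0 : k) ^ e = 0 := zero_pow he
    refine ⟨μ₁ - (((e + 1 : ℕ) : k) * c₁) • l₁, μ₂ - (((e + 1 : ℕ) : k) * c₂) • l₂,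
      ?_, ?_, ?_, ?_⟩
    · simp only [LinearMap.sub_apply, LinearMap.smul_apply, smul_eq_mul, h11, hμ₁]
      push_cast
      ring
    · simp only [LinearMap.sub_apply, LinearMap.smul_apply, smul_eq_mul, h22, hμ₂]
      push_cast
      ring
    · intro w _
      simp only [LinearMap.sub_apply, LinearMap.smul_apply, smul_eq_mul, h0]
      push_cast
      ring
    · intro w _
      simp only [LinearMap.sub_apply, LinearMap.smul_apply, smul_eq_mul, h0]
      push_cast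
      ring

end Groth.Agent.Helper25.TangFormsB
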