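import Mathlib
import Groth.Prelude.Def_LefPen
import Groth.Agent.Lib.Helper25.TangFormsA
import Groth.Agent.Lib.Helper25.TangFormsB

namespace Groth.Agent.Helper25.TangFormsC

open MvPolynomial Groth.Agent.Helper25.TangFormsA Groth.Agent.Helper25.TangFormsB

universe u
variable {k : Type u} [Field k] {N : ℕ}
variable (W₁ W₂ : Submodule k (Fin N → k)) (v₁ v₂ : Fin N → k)

/-- the combined map on all polynomials -/
noncomputable def TT :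
    MvPolynomial (Fin N) k →ₗ[k] (k × Module.Dual k W₁) × (k × Module.Dual k W₂) :=
  (Tp W₁ v₁).prod (Tp W₂ v₂)

theorem TT_apply (G : MvPolynomial (Fin N) k) :
    TT W₁ W₂ v₁ v₂ G = ((aeval v₁ G, ddW W₁ v₁ G), (aeval v₂ G, ddW W₂ v₂ G)) := rfl

/-- constraints, case A -/
noncomputable def ThA (d : ℕ) (h₁ : v₁ ∈ W₁) (h₂ : v₂ ∈ W₂) :
    (k × Module.Dual k W₁) × (k × Module.Dual k W₂) →ₗ[k] k × k where
  toFun x := (x.1.2 ⟨v₁, h₁⟩ - (d : k) * x.1.1, x.2.2 ⟨v₂, h₂⟩ - (d : k) * x.2.1)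
  map_add' x y := by
    refine Prod.ext ?_ ?_
    · simp only [Prod.fst_add, Prod.snd_add, LinearMap.add_apply]
      ring
    · simp only [Prod.fst_add, Prod.snd_add, LinearMap.add_apply]
      ring
  map_smul' a x := by
    refine Prod.ext ?_ ?_
    · simp only [Prod.smul_fst, Prod.smul_snd, LinearMap.smul_apply, smul_eq_mul, RingHom.id_apply]
      ring
    · simp only [Prod.smul_fst, Prod.smul_snd, LinearMap.smul_apply, smul_eq_mul, RingHom.id_apply]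
      ring

/-- constraints, case B -/
noncomputable def ThB (d : ℕ) (h₁ : v₁ ∈ W₁) (h₂ : v₂ ∈ W₂) (m₁ : v₂ ∈ W₁) (m₂ : v₁ ∈ W₂) :
    (k × Module.Dual k W₁) × (k × Module.Dual k W₂) →ₗ[k] (k × k) × k where
  toFun x := ((x.1.2 ⟨v₁, h₁⟩ - (d : k) * x.1.1, x.2.2 ⟨v₂, h₂⟩ - (d : k) * x.2.1),
    x.1.2 ⟨v₂, m₁⟩ - x.2.2 ⟨v₁, m₂⟩)
  map_add' x y := by
    refine Prod.ext (Prod.ext ?_ ?_) ?_
    · simp only [Prod.fst_add, Prod.snd_add, LinearMap.add_apply]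
      ring
    · simp only [Prod.fst_add, Prod.snd_add, LinearMap.add_apply]
      ring
    · simp only [Prod.fst_add, Prod.snd_add, LinearMap.add_apply]
      ring
  map_smul' a x := by
    refine Prod.ext (Prod.ext ?_ ?_) ?_
    · simp only [Prod.smul_fst, Prod.smul_snd, LinearMap.smul_apply, smul_eq_mul, RingHom.id_apply]
      ring
    · simp only [Prod.smul_fst, Prod.smul_snd, LinearMap.smul_apply, smul_eq_mul, RingHom.id_apply]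
      ring
    · simp only [Prod.smul_fst, Prod.smul_snd, LinearMap.smul_apply, smul_eq_mul, RingHom.id_apply]
      ring

variable {W₁ W₂ v₁ v₂}

theorem exists_form (e : ℕ) (h₁ : v₁ ∈ W₁) (h₂ : v₂ ∈ W₂) (hv : LinearIndependent k ![v₁, v₂])
    (x : (k × Module.Dual k W₁) × (k × Module.Dual k W₂))
    (hx1 : x.1.2 ⟨v₁, h₁⟩ = ((e + 2 : ℕ) : k) * x.1.1)
    (hx2 : x.2.2 ⟨v₂, h₂⟩ = ((e + 2 : ℕ) : k) * x.2.1)
    (hx3 : e = 0 → ∀ (m₁ : v₂ ∈ W₁) (m₂ : v₁ ∈ W₂), x.1.2 ⟨v₂, m₁⟩ = x.2.2 ⟨v₁, m₂⟩) :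
    ∃ G : MvPolynomial (Fin N) k, G.IsHomogeneous (e + 2) ∧ TT W₁ W₂ v₁ v₂ G = x := by
  obtain ⟨l₁, l₂, h11, h12, h21, h22⟩ := exists_dual_pair v₁ v₂ hv
  obtain ⟨⟨c₁, φ₁⟩, ⟨c₂, φ₂⟩⟩ := x
  obtain ⟨μ₁, hμ₁⟩ := LinearMap.exists_extend φ₁
  obtain ⟨μ₂, hμ₂⟩ := LinearMap.exists_extend φ₂
  have hμ₁' : ∀ w : W₁, μ₁ w = φ₁ w := fun w => LinearMap.congr_fun hμ₁ w
  have hμ₂' : ∀ w : W₂, μ₂ w = φ₂ w := fun w => LinearMap.congr_fun hμ₂ w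
  obtain ⟨m₁, m₂, hm1, hm2, hm3, hm4⟩ := solve W₁ W₂ v₁ v₂ h₁ h₂ l₁ l₂ h11 h12 h21 h22 e c₁ c₂
    μ₁ μ₂ (by rw [hμ₁' ⟨v₁, h₁⟩]; exact hx1) (by rw [hμ₂' ⟨v₂, h₂⟩]; exact hx2)
    (fun he m₁ m₂ => by rw [hμ₁' ⟨v₂, m₁⟩, hμ₂' ⟨v₁, m₂⟩]; exact hx3 he m₁ m₂)
  refine ⟨Gf l₁ m₁ (e + 1) + Gf l₂ m₂ (e + 1), (Gf_homog _ _ _).add (Gf_homog _ _ _), ?_⟩
  have hz : (0 : k) ^ (e + 1) = 0 := zero_pow (Nat.succ_ne_zero e)
  have ha1 : aeval v₁ (Gf l₁ m₁ (e + 1) + Gf l₂ m₂ (e + 1)) = c₁ := by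
    rw [map_add, aeval_Gf, aeval_Gf, h11, h21, one_pow, one_mul, hz, zero_mul, add_zero, hm1]
  have ha2 : aeval v₂ (Gf l₁ m₁ (e + 1) + Gf l₂ m₂ (e + 1)) = c₂ := by
    rw [map_add, aeval_Gf, aeval_Gf, h12, h22, one_pow, one_mul, hz, zero_mul, zero_add, hm2]
  have hd1 : ddW W₁ v₁ (Gf l₁ m₁ (e + 1) + Gf l₂ m₂ (e + 1)) = φ₁ := by
    refine LinearMap.ext fun w => ?_
    rw [ddW_apply, dd_add, dd_Gf, dd_Gf, h11, h21, hm1, ← hμ₁' w, one_pow, one_pow, hz]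
    have := hm3 w w.2
    linear_combination this
  have hd2 : ddW W₂ v₂ (Gf l₁ m₁ (e + 1) + Gf l₂ m₂ (e + 1)) = φ₂ := by
    refine LinearMap.ext fun w => ?_
    rw [ddW_apply, dd_add, dd_Gf, dd_Gf, h12, h22, hm2, ← hμ₂' w, one_pow, one_pow, hz]
    have := hm4 w w.2
    linear_combination this
  rw [TT_apply, ha1, ha2, hd1, hd2]

theorem finrank_ker_ThA (d : ℕ) (h₁ : v₁ ∈ W₁) (h₂ : v₂ ∈ W₂)
    (hv : LinearIndependent k ![v₁, v₂]) :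
    Module.finrank k (LinearMap.ker (ThA W₁ W₂ v₁ v₂ d h₁ h₂)) =
      Module.finrank k W₁ + Module.finrank k W₂ := by
  obtain ⟨l₁, l₂, h11, h12, h21, h22⟩ := exists_dual_pair v₁ v₂ hv
  have hsurj : Function.Surjective (ThA W₁ W₂ v₁ v₂ d h₁ h₂) := by
    rintro ⟨a, b⟩
    refine ⟨((0, (a • l₁) ∘ₗ W₁.subtype), (0, (b • l₂) ∘ₗ W₂.subtype)), ?_⟩
    show ((a • l₁) v₁ - (d : k) * 0, (b • l₂) v₂ - (d : k) * 0) = (a, b)
    simp [h11, h22]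
  have h := LinearMap.finrank_range_add_finrank_ker (ThA W₁ W₂ v₁ v₂ d h₁ h₂)
  rw [LinearMap.range_eq_top.2 hsurj, finrank_top] at h
  simp only [Module.finrank_prod, Module.finrank_self, Subspace.dual_finrank_eq] at h
  omega

theorem finrank_ker_ThB (d : ℕ) (h₁ : v₁ ∈ W₁) (h₂ : v₂ ∈ W₂) (m₁ : v₂ ∈ W₁) (m₂ : v₁ ∈ W₂)
    (hv : LinearIndependent k ![v₁, v₂]) :
    Module.finrank k (LinearMap.ker (ThB W₁ W₂ v₁ v₂ d h₁ h₂ m₁ m₂)) + 1 =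
      Module.finrank k W₁ + Module.finrank k W₂ := by
  obtain ⟨l₁, l₂, h11, h12, h21, h22⟩ := exists_dual_pair v₁ v₂ hv
  have hsurj : Function.Surjective (ThB W₁ W₂ v₁ v₂ d h₁ h₂ m₁ m₂) := by
    rintro ⟨⟨a, b⟩, c⟩
    refine ⟨((0, (a • l₁ + c • l₂) ∘ₗ W₁.subtype), (0, (b • l₂) ∘ₗ W₂.subtype)), ?_⟩
    show (((a • l₁ + c • l₂) v₁ - (d : k) * 0, (b • l₂) v₂ - (d : k) * 0),
      (a • l₁ + c • l₂) v₂ - (b • l₂) v₁) = ((a, b), c)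
    simp [h11, h12, h21, h22]
  have h := LinearMap.finrank_range_add_finrank_ker (ThB W₁ W₂ v₁ v₂ d h₁ h₂ m₁ m₂)
  rw [LinearMap.range_eq_top.2 hsurj, finrank_top] at h
  simp only [Module.finrank_prod, Module.finrank_self, Subspace.dual_finrank_eq] at h
  omega

theorem main (r d : ℕ) (hd : 2 ≤ d)
    (W₁ W₂ : Submodule k (Fin (r + 1) → k)) (v₁ v₂ : Fin (r + 1) → k) (h₁ : v₁ ∈ W₁) (h₂ : v₂ ∈ W₂)
    (hv : LinearIndependent k ![v₁, v₂]) :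
    ((3 ≤ d ∨ ¬ (v₂ ∈ W₁ ∧ v₁ ∈ W₂)) →
      Module.finrank k (LefPen.Form r k d) =
        Module.finrank k ↥(LefPen.tangentForms k d W₁ v₁ W₂ v₂) +
          (Module.finrank k ↥W₁ + Module.finrank k ↥W₂)) ∧
    ((d = 2 ∧ v₂ ∈ W₁ ∧ v₁ ∈ W₂) →
      Module.finrank k (LefPen.Form r k d) + 1 =
        Module.finrank k ↥(LefPen.tangentForms k d W₁ v₁ W₂ v₂) +
          (Module.finrank k ↥W₁ + Module.finrank k ↥W₂)) := by
  obtain ⟨e, rfl⟩ : ∃ e, d = e + 2 := ⟨d - 2, by omega⟩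
  let T : LefPen.Form r k (e + 2) →ₗ[k] (k × Module.Dual k W₁) × (k × Module.Dual k W₂) :=
    (TT W₁ W₂ v₁ v₂) ∘ₗ (homogeneousSubmodule (Fin (r + 1)) k (e + 2)).subtype
  have hker : LinearMap.ker T = LefPen.tangentForms k (e + 2) W₁ v₁ W₂ v₂ := by
    ext G
    unfold LefPen.tangentForms
    rw [Submodule.mem_inf, LinearMap.mem_ker, LinearMap.mem_ker, LinearMap.mem_ker,
      tangLin_eq_zero_iff, tangLin_eq_zero_iff]
    show ((Tp W₁ v₁ G.1, Tp W₂ v₂ G.1) : (k × Module.Dual k W₁) × (k × Module.Dual k W₂)) = 0 ↔ _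
    rw [Prod.mk_eq_zero]
  have hrn : Module.finrank k (LinearMap.range T) +
      Module.finrank k ↥(LefPen.tangentForms k (e + 2) W₁ v₁ W₂ v₂) =
      Module.finrank k (LefPen.Form r k (e + 2)) := by
    rw [← hker]
    exact LinearMap.finrank_range_add_finrank_ker T
  constructor
  · intro hA
    have hrange : LinearMap.range T = LinearMap.ker (ThA W₁ W₂ v₁ v₂ (e + 2) h₁ h₂) := by
      apply le_antisymm
      · rintro _ ⟨G, rfl⟩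
        rw [LinearMap.mem_ker]
        have hG : (G : MvPolynomial (Fin (r + 1)) k).IsHomogeneous (e + 2) :=
          (mem_homogeneousSubmodule _ _).1 G.2
        show ((ddW W₁ v₁ G.1 ⟨v₁, h₁⟩ - ((e + 2 : ℕ) : k) * aeval v₁ G.1,
          ddW W₂ v₂ G.1 ⟨v₂, h₂⟩ - ((e + 2 : ℕ) : k) * aeval v₂ G.1) : k × k) = 0
        rw [ddW_apply, ddW_apply, dd_self v₁ G.1 (e + 2) hG, dd_self v₂ G.1 (e + 2) hG,
          sub_self, sub_self]
        rfl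
      · intro x hx
        rw [LinearMap.mem_ker] at hx
        have hx' : (x.1.2 ⟨v₁, h₁⟩ - ((e + 2 : ℕ) : k) * x.1.1,
          x.2.2 ⟨v₂, h₂⟩ - ((e + 2 : ℕ) : k) * x.2.1) = (0 : k × k) := hx
        rw [Prod.mk_eq_zero, sub_eq_zero, sub_eq_zero] at hx'
        obtain ⟨G, hG, hGx⟩ := exists_form e h₁ h₂ hv x hx'.1 hx'.2 (fun he m₁ m₂ => by
          rcases hA with h3 | hn
          · omega
          · exact absurd ⟨m₁, m₂⟩ hn)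
        exact ⟨⟨G, (mem_homogeneousSubmodule _ _).2 hG⟩, hGx⟩
    rw [hrange, finrank_ker_ThA (e + 2) h₁ h₂ hv] at hrn
    omega
  · rintro ⟨he2, m₁, m₂⟩
    have he : e = 0 := by omega
    have hrange : LinearMap.range T =
        LinearMap.ker (ThB W₁ W₂ v₁ v₂ (e + 2) h₁ h₂ m₁ m₂) := by
      apply le_antisymm
      · rintro _ ⟨G, rfl⟩
        rw [LinearMap.mem_ker]
        have hG : (G : MvPolynomial (Fin (r + 1)) k).IsHomogeneous (e + 2) :=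
          (mem_homogeneousSubmodule _ _).1 G.2
        have hG2 : (G : MvPolynomial (Fin (r + 1)) k).IsHomogeneous 2 := by
          have h02 : e + 2 = 2 := by omega
          intro dd hdd
          exact (hG hdd).trans h02
        show (((ddW W₁ v₁ G.1 ⟨v₁, h₁⟩ - ((e + 2 : ℕ) : k) * aeval v₁ G.1,
          ddW W₂ v₂ G.1 ⟨v₂, h₂⟩ - ((e + 2 : ℕ) : k) * aeval v₂ G.1),
          ddW W₁ v₁ G.1 ⟨v₂, m₁⟩ - ddW W₂ v₂ G.1 ⟨v₁, m₂⟩) : (k × k) × k) = 0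
        rw [ddW_apply, ddW_apply, ddW_apply, ddW_apply, dd_self v₁ G.1 (e + 2) hG,
          dd_self v₂ G.1 (e + 2) hG, sub_self, sub_self, dd_symm v₁ v₂ G.1 hG2, sub_self]
        rfl
      · intro x hx
        rw [LinearMap.mem_ker] at hx
        have hx' : ((x.1.2 ⟨v₁, h₁⟩ - ((e + 2 : ℕ) : k) * x.1.1,
          x.2.2 ⟨v₂, h₂⟩ - ((e + 2 : ℕ) : k) * x.2.1),
          x.1.2 ⟨v₂, m₁⟩ - x.2.2 ⟨v₁, m₂⟩) = (0 : (k × k) × k) := hx
        rw [Prod.mk_eq_zero, Prod.mk_eq_zero, sub_eq_zero, sub_eq_zero, sub_eq_zero] at hx'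
        obtain ⟨G, hG, hGx⟩ := exists_form e h₁ h₂ hv x hx'.1.1 hx'.1.2
          (fun _ _ _ => hx'.2)
        exact ⟨⟨G, (mem_homogeneousSubmodule _ _).2 hG⟩, hGx⟩
    have hB := finrank_ker_ThB (e + 2) h₁ h₂ m₁ m₂ hv
    rw [hrange] at hrn
    omega

end Groth.Agent.Helper25.TangFormsC
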