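import Mathlib.LinearAlgebra.TensorProduct.Basis
import Mathlib.LinearAlgebra.FreeModule.Basic
import Mathlib.LinearAlgebra.TensorProduct.Tower

/-! Joint injectivity of the evaluation maps on `Hom(E, X) ⊗ Ω` for a free module `Ω`. -/

set_option autoImplicit false
universe u₁ u₂ u₃ u₄

open TensorProduct

namespace Groth.Agent.Helper25

section

variable {B : Type u₁} [CommRing B] {M : Type u₂} {M' : Type u₃} {Ω : Type u₄}
  [AddCommGroup M] [Module B M] [AddCommGroup M'] [Module B M'] [AddCommGroup Ω] [Module B Ω]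

theorem equivFinsupp_map_apply {κ : Type*} [DecidableEq κ] (b : Module.Basis κ B Ω) (l : M →ₗ[B] M') (t : M ⊗[B] Ω) (i : κ) :
    TensorProduct.equivFinsuppOfBasisRight b (TensorProduct.map l LinearMap.id t) i =
      l (TensorProduct.equivFinsuppOfBasisRight b t i) := by
  induction t using TensorProduct.induction_on with
  | zero => simp
  | add x y hx hy => simp only [map_add, Finsupp.add_apply, hx, hy]
  | tmul m w =>
    rw [TensorProduct.map_tmul, LinearMap.id_apply, TensorProduct.equivFinsuppOfBasisRight_apply_tmul_apply,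
      TensorProduct.equivFinsuppOfBasisRight_apply_tmul_apply, map_smul]

/-- If `Ω` is free, an element of `M ⊗ Ω` killed by `l ⊗ id` for a jointly injective family of
linear maps `l` is zero. -/
theorem tensor_eq_zero_of_forall_map_eq_zero [Module.Free B Ω] {ι : Type*} {N : ι → Type*}
    [∀ j, AddCommGroup (N j)] [∀ j, Module B (N j)] (l : ∀ j, M →ₗ[B] N j)
    (hl : ∀ m : M, (∀ j, l j m = 0) → m = 0) (t : M ⊗[B] Ω)
    (ht : ∀ j, TensorProduct.map (l j) LinearMap.id t = 0) : t = 0 := by
  classical
  let b := Module.Free.chooseBasis B Ω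
  apply (TensorProduct.equivFinsuppOfBasisRight b).injective
  rw [map_zero]
  ext i
  rw [Finsupp.zero_apply]
  apply hl
  intro j
  rw [← equivFinsupp_map_apply, ht j, map_zero, Finsupp.zero_apply]

end

section

variable {B : Type u₁} [CommRing B] {E : Type u₂} {X : Type u₃} {Ω : Type u₄}
  [AddCommGroup E] [Module B E] [AddCommGroup X] [Module B X] [AddCommGroup Ω] [Module B Ω]

/-- Elements of `Hom(E, X) ⊗ Ω` with `Ω` free are determined by their evaluations. -/
theorem hom_tensor_ext [Module.Free B Ω] (t₁ t₂ : (E →ₗ[B] X) ⊗[B] Ω)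
    (h : ∀ e : E, TensorProduct.map (LinearMap.applyₗ e) LinearMap.id t₁ =
      TensorProduct.map (LinearMap.applyₗ e) LinearMap.id t₂) : t₁ = t₂ := by
  rw [← sub_eq_zero]
  apply tensor_eq_zero_of_forall_map_eq_zero (fun e : E => (LinearMap.applyₗ e : (E →ₗ[B] X) →ₗ[B] X))
  · intro φ hφ
    ext e
    exact hφ e
  · intro e
    rw [map_sub, h e, sub_self]

end

end Groth.Agent.Helper25
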