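import Mathlib

namespace Groth.Agent.Helper25.ToddSeries

open PowerSeries

/-- `e^{-t}` -/
noncomputable def En : PowerSeries ℚ := rescale (-1 : ℚ) (exp ℚ)

theorem exp_mul_En : exp ℚ * En = 1 := exp_mul_exp_neg_eq_one

theorem coeff_En (n : ℕ) : coeff n En = (-1) ^ n * (1 / (n.factorial : ℚ)) := by
  rw [En, coeff_rescale, coeff_exp]
  simp

theorem deriv_En : d⁄dX ℚ En = -En := by
  ext n
  rw [coeff_derivative, map_neg, coeff_En, coeff_En, Nat.factorial_succ]
  push_cast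
  have h1 : ((n : ℚ) + 1) ≠ 0 := by positivity
  have h2 : (n.factorial : ℚ) ≠ 0 := by positivity
  field_simp
  ring

theorem f_mul (f : PowerSeries ℚ) (hf : f * (exp ℚ - 1) = X * exp ℚ) : f * (1 - En) = X := by
  calc f * (1 - En) = f * (exp ℚ * En - En) := by rw [exp_mul_En]
    _ = f * (exp ℚ - 1) * En := by ring
    _ = X * exp ℚ * En := by rw [hf]
    _ = X * (exp ℚ * En) := by ring
    _ = X := by rw [exp_mul_En, mul_one]

noncomputable def g : PowerSeries ℚ := PowerSeries.mk fun p => coeff (p + 1) (1 - En)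

theorem one_sub_En : (1 : PowerSeries ℚ) - En = X * g := by
  ext n
  cases n with
  | zero =>
    rw [coeff_zero_X_mul, map_sub, coeff_En]
    simp
  | succ n =>
    rw [coeff_succ_X_mul, g, coeff_mk]

theorem constantCoeff_g : constantCoeff g = 1 := by
  rw [← coeff_zero_eq_constantCoeff_apply, g, coeff_mk, map_sub, coeff_En]
  simp

theorem X_mul_cancel' {a b : PowerSeries ℚ} (h : X * a = X * b) : a = b := by
  ext n
  have h2 := congrArg (coeff (n + 1)) h
  rwa [coeff_succ_X_mul, coeff_succ_X_mul] at h2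

theorem f_mul_g (f : PowerSeries ℚ) (hf : f * (1 - En) = X) : f * g = 1 := by
  apply X_mul_cancel'
  rw [mul_one]
  calc X * (f * g) = f * (X * g) := by ring
    _ = X := by rw [← one_sub_En, hf]

theorem constantCoeff_f (f : PowerSeries ℚ) (hfg : f * g = 1) : constantCoeff f = 1 := by
  have h := congrArg constantCoeff hfg
  rw [map_mul, constantCoeff_g, mul_one, map_one] at h
  exact h

theorem X_mul_deriv (f : PowerSeries ℚ) (hf : f * (1 - En) = X) :
    X * d⁄dX ℚ f = f - En * f ^ 2 := by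
  have h := congrArg (d⁄dX ℚ) hf
  rw [Derivation.leibniz, derivative_X, map_sub, derivative_one, deriv_En, smul_eq_mul,
    smul_eq_mul] at h
  have h' : (1 - En) * d⁄dX ℚ f = 1 - f * En := by linear_combination h
  calc X * d⁄dX ℚ f = f * ((1 - En) * d⁄dX ℚ f) := by rw [← hf]; ring
    _ = f * (1 - f * En) := by rw [h']
    _ = f - En * f ^ 2 := by ring

theorem boundary (f : PowerSeries ℚ) (hf : f * (1 - En) = X) (k : ℕ) :
    coeff (k + 1) (En * f ^ (k + 1 + 1)) = 0 := by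
  have h1 := X_mul_deriv f hf
  have h2 : X * d⁄dX ℚ (f ^ (k + 1)) =
      C ((k : ℚ) + 1) * (f ^ (k + 1) - En * f ^ (k + 1 + 1)) := by
    rw [derivative_pow, Nat.add_sub_cancel]
    have hC : (C ((k : ℚ) + 1) : PowerSeries ℚ) = ((k + 1 : ℕ) : PowerSeries ℚ) := by
      rw [Nat.cast_add, Nat.cast_one, map_add, map_one, map_natCast]
    rw [hC]
    calc X * (((k + 1 : ℕ) : PowerSeries ℚ) * f ^ k * d⁄dX ℚ f)
        = ((k + 1 : ℕ) : PowerSeries ℚ) * f ^ k * (X * d⁄dX ℚ f) := by ring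
      _ = _ := by rw [h1]; ring
  have h3 := congrArg (coeff (k + 1)) h2
  rw [coeff_succ_X_mul, coeff_derivative, coeff_C_mul, map_sub] at h3
  have h4 : ((k : ℚ) + 1) ≠ 0 := by positivity
  have h5 : ((k : ℚ) + 1) * coeff (k + 1) (En * f ^ (k + 1 + 1)) = 0 := by
    linear_combination h3
  rcases mul_eq_zero.mp h5 with h | h
  · exact absurd h h4
  · exact h

theorem rescale_pred (m : ℤ) :
    rescale (((m - 1 : ℤ)) : ℚ) (exp ℚ) = rescale (m : ℚ) (exp ℚ) * En := by
  rw [En, exp_mul_exp_eq_exp_add,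
    show (((m - 1 : ℤ)) : ℚ) = (m : ℚ) + -1 by push_cast; ring]

theorem recursion (f : PowerSeries ℚ) (hf : f * (1 - En) = X) (m : ℤ) (n : ℕ) :
    rescale (m : ℚ) (exp ℚ) * f ^ (n + 1 + 1) -
        rescale (((m - 1 : ℤ)) : ℚ) (exp ℚ) * f ^ (n + 1 + 1) =
      X * (rescale (m : ℚ) (exp ℚ) * f ^ (n + 1)) := by
  rw [rescale_pred]
  calc rescale (m : ℚ) (exp ℚ) * f ^ (n + 1 + 1) -
        rescale (m : ℚ) (exp ℚ) * En * f ^ (n + 1 + 1)
      = rescale (m : ℚ) (exp ℚ) * f ^ (n + 1) * (f * (1 - En)) := by ring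
    _ = _ := by rw [hf]; ring

theorem coeff_zero_mul' (a b : PowerSeries ℚ) : coeff 0 (a * b) = coeff 0 a * coeff 0 b := by
  rw [coeff_mul, Finset.Nat.antidiagonal_zero, Finset.sum_singleton]

theorem main_zero (f : PowerSeries ℚ) (hf0 : constantCoeff f = 1) (m : ℤ) :
    coeff 0 (rescale (m : ℚ) (exp ℚ) * f ^ (0 + 1)) =
      ((Ring.choose (m + ((0 : ℕ) : ℤ)) 0 : ℤ) : ℚ) := by
  rw [Ring.choose_zero_right, coeff_zero_mul', coeff_rescale, pow_zero, one_mul, zero_add, pow_one,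
    coeff_zero_eq_constantCoeff_apply, coeff_zero_eq_constantCoeff_apply, hf0, constantCoeff_exp]
  simp

/-- the difference between the coefficient and the binomial value -/
noncomputable def G (f : PowerSeries ℚ) (n : ℕ) (m : ℤ) : ℚ :=
  coeff (n + 1) (rescale (m : ℚ) (exp ℚ) * f ^ (n + 1 + 1)) -
    ((Ring.choose (m + ((n + 1 : ℕ) : ℤ)) (n + 1) : ℤ) : ℚ)

theorem G_step (f : PowerSeries ℚ) (hf1 : f * (1 - En) = X) (n : ℕ)
    (ih : ∀ m : ℤ, coeff n (rescale (m : ℚ) (exp ℚ) * f ^ (n + 1)) =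
      ((Ring.choose (m + (n : ℤ)) n : ℤ) : ℚ)) (m : ℤ) :
    G f n m = G f n (m - 1) := by
  unfold G
  have h1 := congrArg (coeff (n + 1)) (recursion f hf1 m n)
  rw [map_sub, coeff_succ_X_mul, ih m] at h1
  have h2 : Ring.choose (m + ((n + 1 : ℕ) : ℤ)) (n + 1) =
      Ring.choose (m + (n : ℤ)) n + Ring.choose ((m - 1) + ((n + 1 : ℕ) : ℤ)) (n + 1) := by
    have h3 := Ring.choose_succ_succ (m + (n : ℤ)) n
    rw [show m + ((n + 1 : ℕ) : ℤ) = m + (n : ℤ) + 1 by push_cast; ring,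
      show (m - 1) + ((n + 1 : ℕ) : ℤ) = m + (n : ℤ) by push_cast; ring]
    exact h3
  rw [h2, Int.cast_add]
  linarith

theorem G_shift (f : PowerSeries ℚ) (n : ℕ)
    (hstep : ∀ m : ℤ, G f n m = G f n (m - 1)) (k : ℕ) : ∀ m : ℤ, G f n (m + k) = G f n m := by
  induction k with
  | zero => intro m; simp
  | succ k ihk =>
    intro m
    rw [hstep (m + ((k + 1 : ℕ) : ℤ)),
      show m + ((k + 1 : ℕ) : ℤ) - 1 = m + (k : ℤ) by push_cast; ring]
    exact ihk m

theorem G_base (f : PowerSeries ℚ) (hf1 : f * (1 - En) = X) (n : ℕ) : G f n (-1) = 0 := by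
  unfold G
  have hb := boundary f hf1 n
  have hT : Ring.choose ((-1 : ℤ) + ((n + 1 : ℕ) : ℤ)) (n + 1) = 0 := by
    rw [show (-1 : ℤ) + ((n + 1 : ℕ) : ℤ) = ((n : ℕ) : ℤ) by push_cast; ring,
      Ring.choose_natCast, Nat.choose_succ_self, Nat.cast_zero]
  have hE : rescale (((-1 : ℤ)) : ℚ) (exp ℚ) = En := by
    rw [En]; norm_num
  rw [hT, hE, hb]
  simp

theorem main_step (f : PowerSeries ℚ) (hf1 : f * (1 - En) = X) (n : ℕ)
    (ih : ∀ m : ℤ, coeff n (rescale (m : ℚ) (exp ℚ) * f ^ (n + 1)) =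
      ((Ring.choose (m + (n : ℤ)) n : ℤ) : ℚ)) (m : ℤ) :
    coeff (n + 1) (rescale (m : ℚ) (exp ℚ) * f ^ (n + 1 + 1)) =
      ((Ring.choose (m + ((n + 1 : ℕ) : ℤ)) (n + 1) : ℤ) : ℚ) := by
  have hstep := G_step f hf1 n ih
  have hshift := G_shift f n hstep
  have hbase := G_base f hf1 n
  have hG0 : G f n m = 0 := by
    rcases le_total (-1) m with h | h
    · obtain ⟨k, hk⟩ := Int.le.dest h
      have h2 := hshift k (-1)
      rw [hk] at h2
      rw [h2]; exact hbase
    · obtain ⟨k, hk⟩ := Int.le.dest h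
      have h2 := hshift k m
      rw [hk] at h2
      rw [← h2]; exact hbase
  unfold G at hG0
  linarith

theorem s14509 (f : PowerSeries ℚ)
    (hf : f * (PowerSeries.exp ℚ - 1) = PowerSeries.X * PowerSeries.exp ℚ) (m : ℤ) (n : ℕ) :
    PowerSeries.coeff n (PowerSeries.rescale (m : ℚ) (PowerSeries.exp ℚ) * f ^ (n + 1)) =
      ((Ring.choose (m + n : ℤ) n : ℤ) : ℚ) := by
  have hf1 := f_mul f hf
  have hf0 := constantCoeff_f f (f_mul_g f hf1)
  revert m
  induction n with
  | zero => intro m; exact main_zero f hf0 m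
  | succ n ih => intro m; exact main_step f hf1 n ih m

theorem todd_exists : ∃ T : PowerSeries ℚ, T * (exp ℚ - 1) = X * exp ℚ := by
  refine ⟨g⁻¹, ?_⟩
  have hg : g * g⁻¹ = 1 :=
    PowerSeries.mul_inv_cancel g (by rw [constantCoeff_g]; exact one_ne_zero)
  have h1 : (1 - En) * exp ℚ = exp ℚ - 1 := by
    have h := exp_mul_En
    calc (1 - En) * exp ℚ = exp ℚ - exp ℚ * En := by ring
      _ = _ := by rw [h]
  rw [← h1, one_sub_En]
  calc g⁻¹ * (X * g * exp ℚ) = X * (g * g⁻¹) * exp ℚ := by ring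
    _ = _ := by rw [hg, mul_one]

theorem coeff_of_todd (f : PowerSeries ℚ) (hf : f * (exp ℚ - 1) = X * exp ℚ) (n : ℕ) :
    coeff n (f ^ (n + 1)) = 1 := by
  have h := s14509 f hf 0 n
  rw [Int.cast_zero, rescale_zero_apply, constantCoeff_exp, map_one, one_mul, zero_add,
    Ring.choose_natCast, Nat.choose_self, Nat.cast_one, Int.cast_one] at h
  exact h

theorem todd_unique (f T : PowerSeries ℚ) (hf : ∀ n, coeff n (f ^ (n + 1)) = 1)
    (hT : ∀ n, coeff n (T ^ (n + 1)) = 1) : f = T := by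
  have hf0 : coeff 0 f = 1 := by have h := hf 0; rwa [zero_add, pow_one] at h
  have hT0 : coeff 0 T = 1 := by have h := hT 0; rwa [zero_add, pow_one] at h
  have hf0c : constantCoeff f = 1 := by rw [← coeff_zero_eq_constantCoeff_apply]; exact hf0
  have hT0c : constantCoeff T = 1 := by rw [← coeff_zero_eq_constantCoeff_apply]; exact hT0
  ext n
  induction n using Nat.strong_induction_on with
  | _ n ih =>
    have hdvd : (X : PowerSeries ℚ) ^ n ∣ f - T := by
      rw [X_pow_dvd_iff]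
      intro m hm
      rw [map_sub, ih m hm, sub_self]
    obtain ⟨h, hh⟩ := hdvd
    have hgeom := geom_sum₂_mul f T (n + 1)
    have hc := congrArg (coeff n) hgeom
    rw [map_sub, hf n, hT n, sub_self, hh] at hc
    have hsum : constantCoeff (∑ i ∈ Finset.range (n + 1), f ^ i * T ^ (n + 1 - 1 - i)) =
        (n : ℚ) + 1 := by
      rw [map_sum]
      simp only [map_mul, map_pow, hf0c, hT0c, one_pow, mul_one]
      rw [Finset.sum_const, Finset.card_range, nsmul_eq_mul, mul_one]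
      push_cast; rfl
    have hS : coeff n ((∑ i ∈ Finset.range (n + 1), f ^ i * T ^ (n + 1 - 1 - i)) * (X ^ n * h)) =
        ((n : ℚ) + 1) * coeff 0 h := by
      rw [show (∑ i ∈ Finset.range (n + 1), f ^ i * T ^ (n + 1 - 1 - i)) * (X ^ n * h) =
        X ^ n * ((∑ i ∈ Finset.range (n + 1), f ^ i * T ^ (n + 1 - 1 - i)) * h) by ring]
      rw [coeff_X_pow_mul', if_pos le_rfl, Nat.sub_self, coeff_zero_mul',
        coeff_zero_eq_constantCoeff_apply, hsum]
    have hh0 : coeff n (f - T) = coeff 0 h := by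
      rw [hh, coeff_X_pow_mul', if_pos le_rfl, Nat.sub_self]
    rw [hS] at hc
    have h0 : coeff 0 h = 0 := by
      rcases mul_eq_zero.mp hc with h' | h'
      · exfalso
        have hn : (0 : ℚ) ≤ n := Nat.cast_nonneg n
        linarith
      · exact h'
    rw [map_sub, h0] at hh0
    linarith

theorem s14506 (f : PowerSeries ℚ) :
    (∀ n : ℕ, PowerSeries.coeff n (f ^ (n + 1)) = 1) ↔
      f * (PowerSeries.exp ℚ - 1) = PowerSeries.X * PowerSeries.exp ℚ := by
  constructor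
  · intro h
    obtain ⟨T, hT⟩ := todd_exists
    have h2 := todd_unique f T h (coeff_of_todd T hT)
    rw [h2]; exact hT
  · intro h n; exact coeff_of_todd f h n

end Groth.Agent.Helper25.ToddSeries
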