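import Mathlib

/-!
# Torsion-free modules over reduced Noetherian rings are nonzero at some minimal prime
(algebra core of helper6's lemma (GEN) for S19311/S19312)
-/

set_option autoImplicit false
universe u

namespace Groth.Agent.Helper25.TorsionFreeMinimal

/-- in a reduced ring an element lying in no minimal prime is regular -/
theorem isRegular_of_forall_notMem_minimalPrimes {R : Type u} [CommRing R] [IsReduced R] (r : R)
    (hr : ∀ p ∈ minimalPrimes R, r ∉ p) : IsRegular r := by
  have hinj : ∀ a : R, r * a = 0 → a = 0 := by
    intro a ha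
    have hmem : a ∈ sInf (minimalPrimes R) := by
      rw [Ideal.mem_sInf]
      intro p hp
      haveI : p.IsPrime := hp.1.1
      have : r * a ∈ p := by rw [ha]; exact p.zero_mem
      exact (Ideal.IsPrime.mem_or_mem inferInstance this).resolve_left (hr p hp)
    have h2 : sInf (minimalPrimes R) = (⊥ : Ideal R).radical := Ideal.sInf_minimalPrimes
    rw [h2] at hmem
    have h3 : (⊥ : Ideal R).radical = ⊥ := by
      have := nilradical_eq_zero R
      simpa [nilradical] using this
    rw [h3] at hmem
    exact hmem
  refine ⟨?_, ?_⟩
  · intro a b hab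
    have : r * (a - b) = 0 := by
      have h' : r * a = r * b := hab
      rw [mul_sub, h', sub_self]
    exact sub_eq_zero.1 (hinj _ this)
  · intro a b hab
    have : r * (a - b) = 0 := by
      have h' : a * r = b * r := hab
      rw [mul_sub, mul_comm r a, mul_comm r b, h', sub_self]
    exact sub_eq_zero.1 (hinj _ this)

/-- a nonzero torsion-free module over a reduced Noetherian ring is nonzero after localizing at some
minimal prime -/
theorem exists_minimalPrime_nontrivial_localizedModule {R M : Type u} [CommRing R] [IsReduced R]
    [IsNoetherianRing R] [AddCommGroup M] [Module R M] [Module.IsTorsionFree R M] [Nontrivial M] :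
    ∃ (p : Ideal R) (_ : p.IsPrime), p ∈ minimalPrimes R ∧
      Nontrivial (LocalizedModule (Ideal.primeCompl p) M) := by
  classical
  obtain ⟨m, hm⟩ := exists_ne (0 : M)
  by_contra hcon0
  have hcon : ∀ (p : Ideal R) (_ : p.IsPrime), p ∈ minimalPrimes R →
      ¬ Nontrivial (LocalizedModule (Ideal.primeCompl p) M) := by
    intro p hpp hp hn
    exact hcon0 ⟨p, hpp, hp, hn⟩
  -- every minimal prime fails to contain the annihilator of `m`
  set I : Ideal R := LinearMap.ker (LinearMap.toSpanSingleton R M m) with hI
  have hmemI : ∀ r : R, r ∈ I ↔ r • m = 0 := by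
    intro r
    rw [hI, LinearMap.mem_ker, LinearMap.toSpanSingleton_apply]
  have hnot : ∀ p ∈ minimalPrimes R, ¬ I ≤ p := by
    intro p hp hle
    haveI hpp : p.IsPrime := hp.1.1
    have hsub := hcon p hpp hp
    rw [not_nontrivial_iff_subsingleton] at hsub
    have h0 : LocalizedModule.mkLinearMap (Ideal.primeCompl p) M m = 0 := Subsingleton.elim _ _
    rw [LocalizedModule.mkLinearMap_apply, ← LocalizedModule.zero_mk (1 : Ideal.primeCompl p),
      LocalizedModule.mk_eq] at h0
    obtain ⟨s, hs⟩ := h0
    have hs0 : s • m = 0 := by
      simpa using hs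
    have hs' : (s : R) • m = 0 := (Submonoid.smul_def s m).symm.trans hs0
    exact s.2 (hle ((hmemI _).2 hs'))
  have hfin := minimalPrimes.finite_of_isNoetherianRing R
  have hunion : ¬ ((I : Set R) ⊆ ⋃ p ∈ (↑hfin.toFinset : Set (Ideal R)), (id p : Ideal R)) := by
    intro hsub
    have := (Ideal.subset_union_prime (R := R) (s := hfin.toFinset) (f := id) ⊥ ⊥
      (fun p hp _ _ => ((hfin.mem_toFinset).1 hp).1.1)).1 hsub
    obtain ⟨p, hp, hle⟩ := this
    exact hnot p ((hfin.mem_toFinset).1 hp) hle
  rw [Set.not_subset] at hunion
  obtain ⟨r, hrI, hrn⟩ := hunion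
  have hreg : IsRegular r := by
    apply isRegular_of_forall_notMem_minimalPrimes
    intro p hp hrp
    apply hrn
    simp only [Set.mem_iUnion]
    exact ⟨p, by simpa using hp, hrp⟩
  have h1 : r • m = 0 := (hmemI r).1 hrI
  have h2 := Module.IsTorsionFree.isSMulRegular (M := M) hreg
  exact hm (h2 (by show r • m = r • (0 : M); rw [h1, smul_zero]))

/-- over a field, a nontrivial finite module has finite nonzero length -/
theorem length_toNat_ne_zero_of_isField {K N : Type u} [CommRing K] (hK : IsField K)
    [AddCommGroup N] [Module K N] [Module.Finite K N] [Nontrivial N] :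
    (Module.length K N).toNat ≠ 0 := by
  letI : Field K := hK.toField
  have h1 : Module.length K N ≠ ⊤ := Module.length_ne_top
  have h2 : Module.length K N ≠ 0 := by
    rw [ne_eq, Module.length_eq_zero_iff, not_subsingleton_iff_nontrivial]
    infer_instance
  intro h
  rcases (ENat.toNat_eq_zero.1 h) with h0 | h0
  · exact h2 h0
  · exact h1 h0

/-- a reduced local ring all of whose primes are maximal... concretely: reduced with a unique prime
ideal is a field -/
theorem isField_of_isReduced_of_unique_prime {R : Type u} [CommRing R] [IsReduced R] [IsLocalRing R]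
    (h : ∀ p : Ideal R, p.IsPrime → p = IsLocalRing.maximalIdeal R) : IsField R := by
  rw [IsLocalRing.isField_iff_maximalIdeal_eq]
  have h1 : nilradical R = IsLocalRing.maximalIdeal R := by
    rw [nilradical_eq_sInf]
    apply le_antisymm
    · exact sInf_le (inferInstance : (IsLocalRing.maximalIdeal R).IsPrime)
    · refine le_sInf fun p hp => ?_
      rw [h p hp]
  rw [← h1]
  exact nilradical_eq_zero R

end Groth.Agent.Helper25.TorsionFreeMinimal
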