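import Mathlib

/-!
# Trace of residue algebras and the formula `Tr(y) mod p = ∑ e(Q|p) Tr_{(B/Q)/(A/p)}(y mod Q)`
-/

namespace Groth.Agent.Helper25.TraceRes

open Ideal

section LinAlg

/-- Additivity of the trace along a short exact sequence of finite-dimensional vector spaces
with compatible endomorphisms. -/
theorem trace_eq_add_of_exact {K V U W : Type*} [Field K] [AddCommGroup V] [Module K V]
    [AddCommGroup U] [Module K U] [AddCommGroup W] [Module K W]
    [Module.Finite K V] [Module.Finite K U] [Module.Finite K W]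
    (T : V →ₗ[K] V) (S : U →ₗ[K] U) (T₀ : W →ₗ[K] W) (ι : W →ₗ[K] V) (π : V →ₗ[K] U)
    (hι : Function.Injective ι) (hπ : Function.Surjective π)
    (hex : LinearMap.range ι = LinearMap.ker π)
    (h₀ : ∀ w, ι (T₀ w) = T (ι w)) (h₁ : ∀ v, π (T v) = S (π v)) :
    LinearMap.trace K V T = LinearMap.trace K W T₀ + LinearMap.trace K U S := by
  obtain ⟨s, hs⟩ := LinearMap.exists_rightInverse_of_surjective π (LinearMap.range_eq_top.2 hπ)
  obtain ⟨r, hr⟩ := LinearMap.exists_leftInverse_of_injective ι (LinearMap.ker_eq_bot.2 hι)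
  have hs' : ∀ u, π (s u) = u := fun u => LinearMap.congr_fun hs u
  have hr' : ∀ w, r (ι w) = w := fun w => LinearMap.congr_fun hr w
  have hπι : ∀ w, π (ι w) = 0 := by
    intro w
    have : ι w ∈ LinearMap.ker π := hex ▸ LinearMap.mem_range_self ι w
    exact this
  let ρ : V →ₗ[K] W := r ∘ₗ (LinearMap.id - s ∘ₗ π)
  have hιρ : ∀ v, ι (ρ v) = v - s (π v) := by
    intro v
    have hmem : v - s (π v) ∈ LinearMap.range ι := by
      rw [hex, LinearMap.mem_ker, map_sub, hs', sub_self]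
    obtain ⟨w, hw⟩ := hmem
    show ι (r (v - s (π v))) = v - s (π v)
    rw [← hw, hr']
  have hT : T = (T ∘ₗ ι) ∘ₗ ρ + (T ∘ₗ s) ∘ₗ π := by
    ext v
    simp only [LinearMap.add_apply, LinearMap.comp_apply]
    rw [hιρ, map_sub, sub_add_cancel]
  have h1 : LinearMap.trace K V ((T ∘ₗ ι) ∘ₗ ρ) = LinearMap.trace K W T₀ := by
    rw [LinearMap.trace_comp_comm']
    congr 1
    ext w
    simp only [LinearMap.comp_apply]
    apply hι
    rw [hιρ, h₁, hπι, map_zero, map_zero, sub_zero, h₀]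
  have h2 : LinearMap.trace K V ((T ∘ₗ s) ∘ₗ π) = LinearMap.trace K U S := by
    rw [LinearMap.trace_comp_comm']
    congr 1
    ext u
    simp only [LinearMap.comp_apply]
    rw [h₁, hs']
  rw [← h1, ← h2, ← map_add, ← hT]

end LinAlg

section Quot

variable {A B : Type*} [CommRing A] [CommRing B] [Algebra A B]

/-- The trace of the class of `y` in `B ⧸ I` over `A ⧸ p`, when `p` maps into `I`. -/
noncomputable def tau (p : Ideal A) (I : Ideal B) (h : p ≤ I.comap (algebraMap A B)) (y : B) :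
    A ⧸ p :=
  letI := Ideal.Quotient.algebraQuotientOfLEComap h
  Algebra.trace (A ⧸ p) (B ⧸ I) (Ideal.Quotient.mk I y)

theorem tau_congr {p : Ideal A} {I I' : Ideal B} (e : I = I')
    (h : p ≤ I.comap (algebraMap A B)) (y : B) :
    tau p I h y = tau p I' (e ▸ h) y := by
  subst e; rfl

/-- Multiplication by `a ∈ J` as a map `B ⧸ Q → B ⧸ J * Q`. -/
noncomputable def iotaB (J Q : Ideal B) (a : B) (ha : a ∈ J) :=
  Submodule.mapQ Q (J * Q) (LinearMap.lsmul B B a) (by
    intro b hb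
    simp only [Submodule.mem_comap, LinearMap.lsmul_apply, smul_eq_mul]
    exact Ideal.mul_mem_mul ha hb)

theorem iotaB_mk (J Q : Ideal B) (a : B) (ha : a ∈ J) (b : B) :
    iotaB J Q a ha (Ideal.Quotient.mk Q b) = Ideal.Quotient.mk (J * Q) (a * b) := rfl

theorem tau_top (p : Ideal A) (I : Ideal B) (hI : I = ⊤) (h : p ≤ I.comap (algebraMap A B))
    (y : B) : tau p I h y = 0 := by
  subst hI
  letI := Ideal.Quotient.algebraQuotientOfLEComap h
  show Algebra.trace (A ⧸ p) (B ⧸ (⊤ : Ideal B)) (Ideal.Quotient.mk ⊤ y) = 0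
  haveI : Subsingleton (B ⧸ (⊤ : Ideal B)) := Ideal.Quotient.subsingleton_iff.2 rfl
  rw [Subsingleton.elim (Ideal.Quotient.mk ⊤ y) 0, map_zero]

theorem tau_mul [IsDedekindDomain B] [Module.Finite A B] (p : Ideal A) [hpm : p.IsMaximal]
    (J Q : Ideal B) (hQ : Q.IsMaximal) (hJ : J ≠ ⊥)
    (h : p ≤ (J * Q).comap (algebraMap A B)) (y : B) :
    tau p (J * Q) h y = tau p Q (h.trans (Ideal.comap_mono Ideal.mul_le_right)) y
      + tau p J (h.trans (Ideal.comap_mono Ideal.mul_le_left)) y := by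
  have hJQlt : J * Q < J := by
    refine lt_of_le_of_ne Ideal.mul_le_left ?_
    intro e
    have h1 : J * Q = J * ⊤ := by rw [e, Ideal.mul_top]
    have hQtop : Q = ⊤ := mul_left_cancel₀ hJ h1
    exact hQ.ne_top hQtop
  obtain ⟨a, haJ, haJQ⟩ := SetLike.exists_of_lt hJQlt
  have hsup : J ≤ Ideal.span {a} ⊔ J * Q := by
    have hIJ : Ideal.span {a} ⊔ J * Q ≤ J :=
      sup_le ((Ideal.span_singleton_le_iff_mem _).2 haJ) Ideal.mul_le_left
    obtain ⟨I', hI'⟩ := Ideal.dvd_iff_le.2 hIJ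
    have hJQI : J * Q ≤ Ideal.span {a} ⊔ J * Q := le_sup_right
    have hdvd : J * I' ∣ J * Q := by rw [← hI']; exact Ideal.dvd_iff_le.2 hJQI
    have hdvd' : I' ∣ Q := (mul_dvd_mul_iff_left hJ).1 hdvd
    have hQI' : Q ≤ I' := Ideal.dvd_iff_le.1 hdvd'
    by_cases htop : I' = ⊤
    · rw [hI', htop, Ideal.mul_top]
    · exfalso
      have hQe : Q = I' := hQ.eq_of_le htop hQI'
      apply haJQ
      rw [hQe, ← hI']
      exact (le_sup_left : Ideal.span {a} ≤ Ideal.span {a} ⊔ J * Q)
        (Ideal.mem_span_singleton_self a)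
  letI algV : Algebra (A ⧸ p) (B ⧸ (J * Q)) := Ideal.Quotient.algebraQuotientOfLEComap h
  letI algU : Algebra (A ⧸ p) (B ⧸ J) :=
    Ideal.Quotient.algebraQuotientOfLEComap (h.trans (Ideal.comap_mono Ideal.mul_le_left))
  letI algW : Algebra (A ⧸ p) (B ⧸ Q) :=
    Ideal.Quotient.algebraQuotientOfLEComap (h.trans (Ideal.comap_mono Ideal.mul_le_right))
  haveI : IsScalarTower A (A ⧸ p) (B ⧸ (J * Q)) := .of_algebraMap_eq' rfl
  haveI : IsScalarTower A (A ⧸ p) (B ⧸ J) := .of_algebraMap_eq' rfl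
  haveI : IsScalarTower A (A ⧸ p) (B ⧸ Q) := .of_algebraMap_eq' rfl
  haveI : Module.Finite (A ⧸ p) (B ⧸ (J * Q)) := Module.Finite.of_restrictScalars_finite A _ _
  haveI : Module.Finite (A ⧸ p) (B ⧸ J) := Module.Finite.of_restrictScalars_finite A _ _
  haveI : Module.Finite (A ⧸ p) (B ⧸ Q) := Module.Finite.of_restrictScalars_finite A _ _
  letI : Field (A ⧸ p) := Ideal.Quotient.field p
  let π : (B ⧸ (J * Q)) →ₗ[A ⧸ p] (B ⧸ J) :=
    { toFun := fun x => Ideal.Quotient.factor (Ideal.mul_le_left : J * Q ≤ J) x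
      map_add' := fun x y => map_add _ x y
      map_smul' := by
        intro c x
        obtain ⟨c, rfl⟩ := Ideal.Quotient.mk_surjective c
        obtain ⟨x, rfl⟩ := Ideal.Quotient.mk_surjective x
        rfl }
  let ι : (B ⧸ Q) →ₗ[A ⧸ p] (B ⧸ (J * Q)) :=
    { toFun := fun x => iotaB J Q a haJ x
      map_add' := fun x y => map_add (iotaB J Q a haJ) x y
      map_smul' := by
        intro c x
        obtain ⟨c, rfl⟩ := Ideal.Quotient.mk_surjective c
        obtain ⟨x, rfl⟩ := Ideal.Quotient.mk_surjective x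
        show iotaB J Q a haJ (Ideal.Quotient.mk Q (c • x))
          = Ideal.Quotient.mk (J * Q) (c • (a * x))
        rw [iotaB_mk, mul_smul_comm] }
  have hιmk : ∀ b : B, ι (Ideal.Quotient.mk Q b) = Ideal.Quotient.mk (J * Q) (a * b) :=
    fun b => rfl
  have hπmk : ∀ b : B, π (Ideal.Quotient.mk (J * Q) b) = Ideal.Quotient.mk J b :=
    fun b => rfl
  have hι : Function.Injective ι := by
    rw [injective_iff_map_eq_zero]
    intro x hx
    obtain ⟨b, rfl⟩ := Ideal.Quotient.mk_surjective x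
    rw [hιmk, Ideal.Quotient.eq_zero_iff_mem] at hx
    rw [Ideal.Quotient.eq_zero_iff_mem]
    by_contra hb
    obtain ⟨c, i, hi, hci⟩ := hQ.exists_inv hb
    apply haJQ
    have hae : a = c * (a * b) + a * i := by linear_combination (-a) * hci
    rw [hae]
    exact Ideal.add_mem _ (Ideal.mul_mem_left _ c hx) (Ideal.mul_mem_mul haJ hi)
  have hπ : Function.Surjective π := by
    intro u
    obtain ⟨b, rfl⟩ := Ideal.Quotient.mk_surjective u
    exact ⟨Ideal.Quotient.mk (J * Q) b, hπmk b⟩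
  have hex : LinearMap.range ι = LinearMap.ker π := by
    ext v
    obtain ⟨c, rfl⟩ := Ideal.Quotient.mk_surjective v
    rw [LinearMap.mem_range, LinearMap.mem_ker]
    constructor
    · rintro ⟨w, hw⟩
      obtain ⟨b, rfl⟩ := Ideal.Quotient.mk_surjective w
      rw [← hw, hιmk, hπmk]
      exact Ideal.Quotient.eq_zero_iff_mem.2 (J.mul_mem_right b haJ)
    · intro hc
      rw [hπmk] at hc
      have hcJ : c ∈ J := Ideal.Quotient.eq_zero_iff_mem.1 hc
      obtain ⟨r, j, hj, hrj⟩ := Ideal.mem_span_singleton_sup.1 (hsup hcJ)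
      refine ⟨Ideal.Quotient.mk Q r, ?_⟩
      rw [hιmk, Ideal.Quotient.eq, ← hrj]
      have hneg : a * r - (r * a + j) = -j := by ring
      rw [hneg]
      exact (J * Q).neg_mem hj
  have h₀ : ∀ w, ι (Algebra.lmul (A ⧸ p) (B ⧸ Q) (Ideal.Quotient.mk Q y) w)
      = Algebra.lmul (A ⧸ p) (B ⧸ (J * Q)) (Ideal.Quotient.mk (J * Q) y) (ι w) := by
    intro w
    obtain ⟨b, rfl⟩ := Ideal.Quotient.mk_surjective w
    show ι (Ideal.Quotient.mk Q (y * b)) =
      Ideal.Quotient.mk (J * Q) y * ι (Ideal.Quotient.mk Q b)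
    rw [hιmk, hιmk, ← map_mul, mul_left_comm]
  have h₁ : ∀ v, π (Algebra.lmul (A ⧸ p) (B ⧸ (J * Q)) (Ideal.Quotient.mk (J * Q) y) v)
      = Algebra.lmul (A ⧸ p) (B ⧸ J) (Ideal.Quotient.mk J y) (π v) := by
    intro v
    obtain ⟨b, rfl⟩ := Ideal.Quotient.mk_surjective v
    show π (Ideal.Quotient.mk (J * Q) (y * b)) =
      Ideal.Quotient.mk J y * π (Ideal.Quotient.mk (J * Q) b)
    rw [hπmk, hπmk, ← map_mul]
  show Algebra.trace (A ⧸ p) (B ⧸ (J * Q)) (Ideal.Quotient.mk (J * Q) y)
    = Algebra.trace (A ⧸ p) (B ⧸ Q) (Ideal.Quotient.mk Q y)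
      + Algebra.trace (A ⧸ p) (B ⧸ J) (Ideal.Quotient.mk J y)
  rw [Algebra.trace_apply, Algebra.trace_apply, Algebra.trace_apply]
  exact trace_eq_add_of_exact _ _ _ ι π hι hπ hex h₀ h₁

open Classical in
/-- The trace of the class of `y` in `B ⧸ Q` over `A ⧸ p` (zero if `p` does not map into `Q`). -/
noncomputable def trQ (p : Ideal A) (y : B) (Q : Ideal B) : A ⧸ p :=
  if h : p ≤ Q.comap (algebraMap A B) then tau p Q h y else 0

theorem trQ_eq (p : Ideal A) (y : B) (Q : Ideal B) (h : p ≤ Q.comap (algebraMap A B)) :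
    trQ p y Q = tau p Q h y := dif_pos h

theorem tau_prod [IsDedekindDomain B] [Module.Finite A B] (p : Ideal A) [hpm : p.IsMaximal]
    (y : B) : ∀ s : Multiset (Ideal B), (∀ Q ∈ s, Q.IsMaximal) →
      ∀ h : p ≤ (s.prod).comap (algebraMap A B), s.prod ≠ ⊥ →
        tau p s.prod h y = (s.map (trQ p y)).sum := by
  intro s
  induction s using Multiset.induction_on with
  | empty =>
    intro _ h _
    rw [Multiset.map_zero, Multiset.sum_zero]
    exact tau_top p _ (by rw [Multiset.prod_zero, Ideal.one_eq_top]) h y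
  | cons Q s ih =>
    intro hmax h hne
    have e : (Q ::ₘ s).prod = s.prod * Q := by rw [Multiset.prod_cons, mul_comm]
    have hs0 : s.prod ≠ ⊥ := by
      intro h0
      apply hne
      rw [e, h0, Ideal.bot_mul]
    have hQ : Q.IsMaximal := hmax Q (Multiset.mem_cons_self Q s)
    rw [tau_congr e h y, tau_mul p s.prod Q hQ hs0 (e ▸ h) y, Multiset.map_cons,
      Multiset.sum_cons, ← trQ_eq,
      ih (fun Q' hQ' => hmax Q' (Multiset.mem_cons_of_mem hQ')) _ hs0]

end Quot

section Main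

universe u

theorem main (A B : Type u) [CommRing A] [CommRing B]
    [IsDedekindDomain A] [IsDedekindDomain B] [Algebra A B] [Module.Finite A B]
    [Module.IsTorsionFree A B]
    (p : Ideal A) [p.IsMaximal] (hp : p ≠ ⊥) (y : B) :
    Ideal.Quotient.mk p (Algebra.intTrace A B y) =
      ∑ᶠ Q : p.primesOver B,
        Q.1.ramificationIdx A •
          Algebra.trace (A ⧸ p) (B ⧸ Q.1) (Ideal.Quotient.mk Q.1 y) := by
  classical
  have hpB : p.map (algebraMap A B) ≠ ⊥ := Ideal.map_ne_bot_of_ne_bot hp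
  have hsprod : (UniqueFactorizationMonoid.factors (p.map (algebraMap A B))).prod
      = p.map (algebraMap A B) :=
    associated_iff_eq.1 (UniqueFactorizationMonoid.factors_prod hpB)
  have hsmax : ∀ Q ∈ UniqueFactorizationMonoid.factors (p.map (algebraMap A B)),
      Q.IsMaximal := by
    intro Q hQ
    have hprime : Prime Q := UniqueFactorizationMonoid.prime_of_factor Q hQ
    exact (Ideal.isPrime_of_prime hprime).isMaximal hprime.ne_zero
  have h0 : p ≤ ((UniqueFactorizationMonoid.factors (p.map (algebraMap A B))).prod).comap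
      (algebraMap A B) := by
    rw [hsprod]; exact Ideal.le_comap_map
  have key := tau_prod p y (UniqueFactorizationMonoid.factors (p.map (algebraMap A B)))
    hsmax h0 (by rw [hsprod]; exact hpB)
  have key2 : tau p (p.map (algebraMap A B)) Ideal.le_comap_map y
      = Ideal.Quotient.mk p (Algebra.intTrace A B y) :=
    Algebra.trace_quotient_eq_of_isDedekindDomain B p y
  rw [tau_congr hsprod h0 y] at key
  rw [← key2, key, Finset.sum_multiset_map_count]
  have hf : ∀ Q : p.primesOver B,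
      Q.1.ramificationIdx A •
          Algebra.trace (A ⧸ p) (B ⧸ Q.1) (Ideal.Quotient.mk Q.1 y)
      = (fun Q' : Ideal B => Q'.ramificationIdx A • trQ p y Q') Q.1 := by
    intro Q
    have hle : p ≤ Q.1.comap (algebraMap A B) := le_of_eq (Q.1.over_def p)
    show _ = Q.1.ramificationIdx A • trQ p y Q.1
    rw [trQ_eq p y Q.1 hle]
    rfl
  rw [finsum_congr hf, finsum_set_coe_eq_finsum_mem
    (f := fun Q' : Ideal B => Q'.ramificationIdx A • trQ p y Q') (p.primesOver B),
    ← IsDedekindDomain.coe_primesOverFinset hp B, finsum_mem_coe_finset]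
  refine Finset.sum_congr ?_ ?_
  · ext m
    simp only [Multiset.mem_toFinset]
  · intro Q hQ
    have hQ' : Q ∈ IsDedekindDomain.primesOverFinset p B := by
      simpa only [Multiset.mem_toFinset] using hQ
    have hmem := (IsDedekindDomain.mem_primesOverFinset_iff hp B).1 hQ'
    haveI : Q.LiesOver p := hmem.2
    show _ = Q.ramificationIdx A • trQ p y Q
    rw [IsDedekindDomain.ramificationIdx_eq_factors_count p Q hpB]

end Main

end Groth.Agent.Helper25.TraceRes
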