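import Mathlib
import Groth.Agent.Lib.Helper25.BinForm
import Groth.Agent.Lib.Helper25.CubicLinesA

/-!
# Trisecant lines of a rational quintic in `P^3` via binary forms
-/

namespace Groth.Agent.Helper25.TrisecantQ

open MvPolynomial

universe u

variable {K : Type u} [Field K]

section Dim

theorem setOf_degree_eq (e : ℕ) :
    {d : Fin 2 →₀ ℕ | d.degree = e} =
      ↑((Finset.univ : Finset (Fin 2)).finsuppAntidiag e) := by
  ext α
  rw [Set.mem_setOf_eq, Finset.mem_coe, Finset.mem_finsuppAntidiag, Finsupp.degree_eq_sum]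
  exact ⟨fun h => ⟨h, Finset.subset_univ _⟩, fun h => h.1⟩

theorem S_eq (e : ℕ) : homogeneousSubmodule (Fin 2) K e =
    restrictSupport K
      (↑((Finset.univ : Finset (Fin 2)).finsuppAntidiag e) : Set (Fin 2 →₀ ℕ)) := by
  rw [← setOf_degree_eq]
  exact homogeneousSubmodule_eq_finsupp_supported (Fin 2) K e

instance finite_S (e : ℕ) : Module.Finite K (homogeneousSubmodule (Fin 2) K e) := by
  rw [S_eq]
  exact Module.Finite.of_basis (basisRestrictSupport K _)

theorem finrank_S (e : ℕ) :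
    Module.finrank K (homogeneousSubmodule (Fin 2) K e) = e + 1 := by
  rw [S_eq, Module.finrank_eq_nat_card_basis (basisRestrictSupport K _), Nat.card_coe_set_eq,
    Set.ncard_coe_finset, Finset.card_finsuppAntidiag_nat_eq_choose, Finset.card_univ,
    Fintype.card_fin, show 2 + e - 1 = e + 1 by omega, Nat.choose_succ_self_right]

theorem mulLeft_injective {g : MvPolynomial (Fin 2) K} (hg : g ≠ 0) :
    Function.Injective (LinearMap.mulLeft K g) :=
  fun _ _ h => mul_left_cancel₀ hg h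

theorem finrank_map_mulLeft {g : MvPolynomial (Fin 2) K} (hg : g ≠ 0)
    (W : Submodule K (MvPolynomial (Fin 2) K)) :
    Module.finrank K (W.map (LinearMap.mulLeft K g)) = Module.finrank K W :=
  (Submodule.equivMapOfInjective _ (mulLeft_injective hg) W).finrank_eq.symm

theorem map_mulLeft_le {g : MvPolynomial (Fin 2) K} {a b : ℕ} (hg : g.IsHomogeneous a) :
    (homogeneousSubmodule (Fin 2) K b).map (LinearMap.mulLeft K g) ≤
      homogeneousSubmodule (Fin 2) K (a + b) := by
  rintro _ ⟨e, he, rfl⟩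
  exact hg.mul ((mem_homogeneousSubmodule _ _).mp he)

theorem finrank_ker_inf {E : Type*} [AddCommGroup E] [Module K E] (W : Submodule K E)
    [FiniteDimensional K W] (ν : E →ₗ[K] K) (x : E) (hx : x ∈ W) (hν : ν x ≠ 0) :
    Module.finrank K ↥(LinearMap.ker ν ⊓ W) + 1 = Module.finrank K W := by
  have hf : ν.domRestrict W ≠ 0 := by
    intro h
    apply hν
    have := LinearMap.congr_fun h ⟨x, hx⟩
    simpa using this
  have h1 := Module.Dual.finrank_ker_add_one_of_ne_zero hf
  have h2 : (LinearMap.ker (ν.domRestrict W)).map W.subtype = LinearMap.ker ν ⊓ W := by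
    ext y
    constructor
    · rintro ⟨z, hz, rfl⟩
      have hz' : ν.domRestrict W z = 0 := LinearMap.mem_ker.mp hz
      refine ⟨?_, z.2⟩
      exact LinearMap.mem_ker.mpr hz'
    · rintro ⟨h1, h2⟩
      have h1' : ν y = 0 := LinearMap.mem_ker.mp h1
      refine ⟨⟨y, h2⟩, ?_, rfl⟩
      exact LinearMap.mem_ker.mpr h1'
  rw [← h2, Submodule.finrank_map_subtype_eq]
  exact h1

end Dim

section Main

variable [IsAlgClosed K]

theorem exists_zero {g : MvPolynomial (Fin 2) K} {n : ℕ} (hg : g.IsHomogeneous n) (hn : 1 ≤ n) :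
    ∃ a : Fin 2 → K, a ≠ 0 ∧ eval a g = 0 := by
  by_cases h1 : eval (![1, 0] : Fin 2 → K) g = 0
  · refine ⟨![1, 0], ?_, h1⟩
    intro h
    have := congrFun h 0
    simp at this
  · have hc : (CubicLinesA.LP ![0, 1] ![1, 0] g).coeff n = eval (![1, 0] : Fin 2 → K) g :=
      CubicLinesA.LP_coeff_top hg _ _
    have hdeg : (CubicLinesA.LP (![0, 1] : Fin 2 → K) ![1, 0] g).degree ≠ 0 := by
      intro h0
      have h2 : (CubicLinesA.LP (![0, 1] : Fin 2 → K) ![1, 0] g).natDegree = 0 :=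
        Polynomial.natDegree_eq_of_degree_eq_some h0
      have h3 : (CubicLinesA.LP (![0, 1] : Fin 2 → K) ![1, 0] g).coeff n = 0 :=
        Polynomial.coeff_eq_zero_of_natDegree_lt (by omega)
      rw [hc] at h3
      exact h1 h3
    obtain ⟨t0, ht0⟩ := IsAlgClosed.exists_root _ hdeg
    rw [Polynomial.IsRoot.def, CubicLinesA.LP_eval] at ht0
    refine ⟨![0, 1] + t0 • ![1, 0], ?_, ht0⟩
    intro h
    have := congrFun h 1
    simp at this

variable (V : Submodule K (MvPolynomial (Fin 2) K))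

theorem two_le_finrank (hV : V ≤ homogeneousSubmodule (Fin 2) K 5)
    (hdim : Module.finrank K ↥V = 4)
    (ν : MvPolynomial (Fin 2) K →ₗ[K] K) (hνV : V ≤ LinearMap.ker ν)
    (y : MvPolynomial (Fin 2) K) (hy : y ∈ homogeneousSubmodule (Fin 2) K 5) (hνy : ν y ≠ 0)
    (g : MvPolynomial (Fin 2) K) (hg : g ∈ homogeneousSubmodule (Fin 2) K 3) (hg0 : g ≠ 0)
    (hgν : ∀ e ∈ homogeneousSubmodule (Fin 2) K 2, ν (g * e) = 0) :
    2 ≤ Module.finrank K
      ↥(V ⊓ (homogeneousSubmodule (Fin 2) K 2).map (LinearMap.mulLeft K g)) := by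
  haveI : FiniteDimensional K V := Submodule.finiteDimensional_of_le hV
  have hH := finrank_ker_inf (homogeneousSubmodule (Fin 2) K 5) ν y hy hνy
  rw [finrank_S] at hH
  have hG : Module.finrank K
      ↥((homogeneousSubmodule (Fin 2) K 2).map (LinearMap.mulLeft K g)) = 3 := by
    rw [finrank_map_mulLeft hg0, finrank_S]
  have hle : V ⊔ (homogeneousSubmodule (Fin 2) K 2).map (LinearMap.mulLeft K g) ≤
      LinearMap.ker ν ⊓ homogeneousSubmodule (Fin 2) K 5 := by
    apply sup_le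
    · exact le_inf hνV hV
    · rintro _ ⟨e, he, rfl⟩
      refine ⟨?_, ?_⟩
      · rw [SetLike.mem_coe, LinearMap.mem_ker]
        exact hgν e he
      · exact ((mem_homogeneousSubmodule _ _).mp hg).mul ((mem_homogeneousSubmodule _ _).mp he)
  have h1 := Submodule.finrank_mono hle
  have h2 := Submodule.finrank_sup_add_finrank_inf_eq V
    ((homogeneousSubmodule (Fin 2) K 2).map (LinearMap.mulLeft K g))
  omega

theorem no_Z (hV : V ≤ homogeneousSubmodule (Fin 2) K 5)
    (hdim : Module.finrank K ↥V = 4)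
    (hsep : ∀ e ∈ homogeneousSubmodule (Fin 2) K 2, e ≠ 0 →
      ∀ F ∈ homogeneousSubmodule (Fin 2) K 5, ∃ v ∈ V,
        ∃ h ∈ homogeneousSubmodule (Fin 2) K 3, F = v + e * h)
    (g0 : MvPolynomial (Fin 2) K) (hg : g0 ∈ homogeneousSubmodule (Fin 2) K 3) (hg0 : g0 ≠ 0)
    (hZ : ∀ e ∈ homogeneousSubmodule (Fin 2) K 2, g0 * e ∈ V) : False := by
  haveI : FiniteDimensional K V := Submodule.finiteDimensional_of_le hV
  have hg' : g0.IsHomogeneous 3 := (mem_homogeneousSubmodule _ _).mp hg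
  obtain ⟨a, ha, hz⟩ := exists_zero hg' (by norm_num)
  obtain ⟨e', he'⟩ := BinForm.lin_dvd hg' a ha hz
  have hlin : (BinForm.lin a).IsHomogeneous 1 := by
    unfold BinForm.lin
    exact (isHomogeneous_C_mul_X _ _).sub (isHomogeneous_C_mul_X _ _)
  have hge : g0 = BinForm.lin a * homogeneousComponent 2 e' := by
    have h := BinForm.homogeneousComponent_mul_of_left hlin (by norm_num : 1 ≤ 3) e'
    rw [← he', homogeneousComponent_eq_self hg'] at h
    exact h
  have he2 : homogeneousComponent 2 e' ∈ homogeneousSubmodule (Fin 2) K 2 :=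
    (mem_homogeneousSubmodule _ _).mpr (homogeneousComponent_isHomogeneous 2 e')
  have he0 : homogeneousComponent 2 e' ≠ 0 := by
    intro h0
    rw [h0, mul_zero] at hge
    exact hg0 hge
  -- E = e * S_3
  have hE : Module.finrank K ↥((homogeneousSubmodule (Fin 2) K 3).map
      (LinearMap.mulLeft K (homogeneousComponent 2 e'))) = 4 := by
    rw [finrank_map_mulLeft he0, finrank_S]
  have hElE : (homogeneousSubmodule (Fin 2) K 3).map
      (LinearMap.mulLeft K (homogeneousComponent 2 e')) ≤ homogeneousSubmodule (Fin 2) K 5 :=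
    map_mulLeft_le (homogeneousComponent_isHomogeneous 2 e')
  have hsup : V ⊔ (homogeneousSubmodule (Fin 2) K 3).map
      (LinearMap.mulLeft K (homogeneousComponent 2 e')) = homogeneousSubmodule (Fin 2) K 5 := by
    apply le_antisymm (sup_le hV hElE)
    intro F hF
    obtain ⟨v, hv, h, hh, rfl⟩ := hsep _ he2 he0 F hF
    exact Submodule.add_mem_sup hv ⟨h, hh, rfl⟩
  have h2 := Submodule.finrank_sup_add_finrank_inf_eq V
    ((homogeneousSubmodule (Fin 2) K 3).map (LinearMap.mulLeft K (homogeneousComponent 2 e')))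
  rw [hsup, finrank_S, hdim, hE] at h2
  -- G0 = g0 * S_2
  have hG0 : Module.finrank K ↥((homogeneousSubmodule (Fin 2) K 2).map
      (LinearMap.mulLeft K g0)) = 3 := by
    rw [finrank_map_mulLeft hg0, finrank_S]
  have hle : (homogeneousSubmodule (Fin 2) K 2).map (LinearMap.mulLeft K g0) ≤
      V ⊓ (homogeneousSubmodule (Fin 2) K 3).map
        (LinearMap.mulLeft K (homogeneousComponent 2 e')) := by
    rintro _ ⟨e'', he'', rfl⟩
    refine ⟨hZ e'' he'', ⟨BinForm.lin a * e'', ?_, ?_⟩⟩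
    · exact hlin.mul ((mem_homogeneousSubmodule _ _).mp he'')
    · rw [LinearMap.mulLeft_apply, LinearMap.mulLeft_apply]
      conv_rhs => rw [hge]
      ring
  haveI : FiniteDimensional K ↥(V ⊓ (homogeneousSubmodule (Fin 2) K 3).map
      (LinearMap.mulLeft K (homogeneousComponent 2 e'))) :=
    Submodule.finiteDimensional_inf_left _ _
  have h3 := Submodule.finrank_mono hle
  omega

theorem exists_g (ν : MvPolynomial (Fin 2) K →ₗ[K] K) :
    ∃ g ∈ homogeneousSubmodule (Fin 2) K 3, g ≠ 0 ∧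
      ∀ e ∈ homogeneousSubmodule (Fin 2) K 2, ν (g * e) = 0 := by
  let Φ : ↥(homogeneousSubmodule (Fin 2) K 3) →ₗ[K]
      (↥(homogeneousSubmodule (Fin 2) K 2) →ₗ[K] K) :=
    ((LinearMap.mul K (MvPolynomial (Fin 2) K)).compr₂ ν).domRestrict₁₂ _ _
  have hlt : Module.finrank K (↥(homogeneousSubmodule (Fin 2) K 2) →ₗ[K] K) <
      Module.finrank K ↥(homogeneousSubmodule (Fin 2) K 3) := by
    have := Subspace.dual_finrank_eq (K := K) (V := ↥(homogeneousSubmodule (Fin 2) K 2))
    rw [finrank_S] at this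
    change Module.finrank K (↥(homogeneousSubmodule (Fin 2) K 2) →ₗ[K] K) = 3 at this
    rw [this, finrank_S]
    norm_num
  have hker := LinearMap.ker_ne_bot_of_finrank_lt (f := Φ) hlt
  obtain ⟨g, hgker, hg0⟩ := Submodule.exists_mem_ne_zero_of_ne_bot hker
  refine ⟨g.1, g.2, fun h => hg0 (Subtype.ext h), fun e he => ?_⟩
  have := LinearMap.congr_fun (LinearMap.mem_ker.mp hgker) ⟨e, he⟩
  exact this

theorem main (hV : V ≤ homogeneousSubmodule (Fin 2) K 5)
    (hdim : Module.finrank K ↥V = 4)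
    (hsep : ∀ e ∈ homogeneousSubmodule (Fin 2) K 2, e ≠ 0 →
      ∀ F ∈ homogeneousSubmodule (Fin 2) K 5, ∃ v ∈ V,
        ∃ h ∈ homogeneousSubmodule (Fin 2) K 3, F = v + e * h)
    (F : Finset (MvPolynomial (Fin 2) K)) :
    ∃ g ∈ homogeneousSubmodule (Fin 2) K 3, g ≠ 0 ∧
      2 ≤ Module.finrank K
        ↥(V ⊓ (homogeneousSubmodule (Fin 2) K 2).map (LinearMap.mulLeft K g)) ∧
      ∀ g' ∈ F, ∀ c : K, g ≠ c • g' := by
  haveI : FiniteDimensional K V := Submodule.finiteDimensional_of_le hV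
  -- first functional
  have hlt : V < homogeneousSubmodule (Fin 2) K 5 := by
    refine lt_of_le_of_ne hV ?_
    intro h
    have := finrank_S (K := K) 5
    rw [← h, hdim] at this
    omega
  obtain ⟨x0, hx0S, hx0V⟩ := SetLike.exists_of_lt hlt
  obtain ⟨ν1, hν1x, hν1V⟩ := Submodule.exists_le_ker_of_notMem hx0V
  have hH1 := finrank_ker_inf (homogeneousSubmodule (Fin 2) K 5) ν1 x0 hx0S hν1x
  rw [finrank_S] at hH1
  haveI : FiniteDimensional K ↥(LinearMap.ker ν1 ⊓ homogeneousSubmodule (Fin 2) K 5) :=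
    Submodule.finiteDimensional_inf_right _ _
  have hlt1 : V < LinearMap.ker ν1 ⊓ homogeneousSubmodule (Fin 2) K 5 := by
    refine lt_of_le_of_ne (le_inf hν1V hV) ?_
    intro h
    rw [← h, hdim] at hH1
    omega
  obtain ⟨x1, hx1H, hx1V⟩ := SetLike.exists_of_lt hlt1
  obtain ⟨ν2, hν2x, hν2V⟩ := Submodule.exists_le_ker_of_notMem hx1V
  have hν1x1 : ν1 x1 = 0 := LinearMap.mem_ker.mp hx1H.1
  have hH12 := finrank_ker_inf (LinearMap.ker ν1 ⊓ homogeneousSubmodule (Fin 2) K 5)
    ν2 x1 hx1H hν2x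
  have hVeq : V = LinearMap.ker ν2 ⊓ (LinearMap.ker ν1 ⊓ homogeneousSubmodule (Fin 2) K 5) := by
    haveI : FiniteDimensional K ↥(LinearMap.ker ν2 ⊓
        (LinearMap.ker ν1 ⊓ homogeneousSubmodule (Fin 2) K 5)) :=
      Submodule.finiteDimensional_inf_right _ _
    apply Submodule.eq_of_le_of_finrank_eq (le_inf hν2V (le_inf hν1V hV))
    omega
  -- the family of functionals
  have hνc : ∀ c : K, V ≤ LinearMap.ker (ν1 + c • ν2) := by
    intro c v hv
    rw [LinearMap.mem_ker, LinearMap.add_apply, LinearMap.smul_apply,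
      LinearMap.mem_ker.mp (hν1V hv), LinearMap.mem_ker.mp (hν2V hv), smul_zero, add_zero]
  have hνc_ne : ∀ c : K, ∃ y ∈ homogeneousSubmodule (Fin 2) K 5, (ν1 + c • ν2) y ≠ 0 := by
    intro c
    by_cases hc : c = 0
    · refine ⟨x0, hx0S, ?_⟩
      rw [hc, zero_smul, add_zero]
      exact hν1x
    · refine ⟨x1, hx1H.2, ?_⟩
      rw [LinearMap.add_apply, LinearMap.smul_apply, hν1x1, zero_add, smul_eq_mul]
      exact mul_ne_zero hc hν2x
  have hinter : ∀ c c' : K, c ≠ c' → ∀ x ∈ homogeneousSubmodule (Fin 2) K 5,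
      (ν1 + c • ν2) x = 0 → (ν1 + c' • ν2) x = 0 → x ∈ V := by
    intro c c' hcc x hx h1 h2
    rw [LinearMap.add_apply, LinearMap.smul_apply, smul_eq_mul] at h1 h2
    have h3 : (c - c') * ν2 x = 0 := by linear_combination h1 - h2
    have h4 : ν2 x = 0 := by
      rcases mul_eq_zero.mp h3 with h | h
      · exact absurd (sub_eq_zero.mp h) hcc
      · exact h
    have h5 : ν1 x = 0 := by
      rw [h4, mul_zero, add_zero] at h1
      exact h1
    rw [hVeq]
    exact ⟨LinearMap.mem_ker.mpr h4, LinearMap.mem_ker.mpr h5, hx⟩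
  -- choose g for each c
  have hgc : ∀ c : K, ∃ g ∈ homogeneousSubmodule (Fin 2) K 3, g ≠ 0 ∧
      ∀ e ∈ homogeneousSubmodule (Fin 2) K 2, (ν1 + c • ν2) (g * e) = 0 :=
    fun c => exists_g (ν1 + c • ν2)
  choose gg hggS hgg0 hggν using hgc
  by_contra hcon
  push Not at hcon
  have hbad : ∀ c : K, ∃ g' ∈ F, ∃ a : K, gg c = a • g' := by
    intro c
    obtain ⟨y, hyS, hy⟩ := hνc_ne c
    exact hcon (gg c) (hggS c) (hgg0 c)
      (two_le_finrank V hV hdim _ (hνc c) y hyS hy (gg c) (hggS c) (hgg0 c) (hggν c))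
  choose g' hg'F aa hgg' using hbad
  let cc : Fin (F.card + 1) → K := fun i => Infinite.natEmbedding K i
  have hcc_inj : Function.Injective cc := by
    intro i j hij
    exact Fin.ext ((Infinite.natEmbedding K).injective hij)
  obtain ⟨i, j, hij, hfij⟩ := Fintype.exists_ne_map_eq_of_card_lt
    (fun i : Fin (F.card + 1) => (⟨g' (cc i), hg'F (cc i)⟩ : F)) (by simp)
  have hg'eq : g' (cc i) = g' (cc j) := congrArg Subtype.val hfij
  have hai : aa (cc i) ≠ 0 := by
    intro h0
    apply hgg0 (cc i)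
    rw [hgg' (cc i), h0, zero_smul]
  have hrel : gg (cc j) = (aa (cc j) / aa (cc i)) • gg (cc i) := by
    rw [hgg' (cc j), hgg' (cc i), hg'eq, smul_smul, div_mul_cancel₀ _ hai]
  apply no_Z V hV hdim hsep (gg (cc i)) (hggS _) (hgg0 _)
  intro e he
  have hS5 : gg (cc i) * e ∈ homogeneousSubmodule (Fin 2) K 5 :=
    ((mem_homogeneousSubmodule _ _).mp (hggS (cc i))).mul ((mem_homogeneousSubmodule _ _).mp he)
  apply hinter (cc i) (cc j) (fun h => hij (hcc_inj h)) _ hS5 (hggν (cc i) e he)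
  have h1 := hggν (cc j) e he
  rw [hrel, smul_mul_assoc, map_smul, smul_eq_mul] at h1
  have haj : aa (cc j) / aa (cc i) ≠ 0 := by
    apply div_ne_zero _ hai
    intro h0
    apply hgg0 (cc j)
    rw [hgg' (cc j), h0, zero_smul]
  exact (mul_eq_zero.mp h1).resolve_left haj

end Main

end Groth.Agent.Helper25.TrisecantQ
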