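import Mathlib
import Groth.Agent.Lib.Helper25.TrisecantQ

/-!
# The unique trisecant line of a rational quintic in `P^4` via binary forms
-/

namespace Groth.Agent.Helper25.TrisecantQ5

open MvPolynomial

universe u

variable {K : Type u} [Field K]

theorem main (V : Submodule K (MvPolynomial (Fin 2) K))
    (hV : V ≤ homogeneousSubmodule (Fin 2) K 5) (hdim : Module.finrank K ↥V = 5)
    (hsep : ∀ e ∈ homogeneousSubmodule (Fin 2) K 2, e ≠ 0 →
      ∀ F ∈ homogeneousSubmodule (Fin 2) K 5, ∃ v ∈ V,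
        ∃ h ∈ homogeneousSubmodule (Fin 2) K 3, F = v + e * h) :
    ∃ g ∈ homogeneousSubmodule (Fin 2) K 3, g ≠ 0 ∧
      (∀ h ∈ homogeneousSubmodule (Fin 2) K 2, g * h ∈ V) ∧
      ∀ g' ∈ homogeneousSubmodule (Fin 2) K 3,
        (∀ h ∈ homogeneousSubmodule (Fin 2) K 2, g' * h ∈ V) → ∃ c : K, g' = c • g := by
  haveI : FiniteDimensional K V := Submodule.finiteDimensional_of_le hV
  have hlt : V < homogeneousSubmodule (Fin 2) K 5 := by
    refine lt_of_le_of_ne hV ?_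
    intro h
    have := TrisecantQ.finrank_S (K := K) 5
    rw [← h, hdim] at this
    omega
  obtain ⟨x0, hx0S, hx0V⟩ := SetLike.exists_of_lt hlt
  obtain ⟨ν, hνx, hνV⟩ := Submodule.exists_le_ker_of_notMem hx0V
  have hH := TrisecantQ.finrank_ker_inf (homogeneousSubmodule (Fin 2) K 5) ν x0 hx0S hνx
  rw [TrisecantQ.finrank_S] at hH
  have hVeq : V = LinearMap.ker ν ⊓ homogeneousSubmodule (Fin 2) K 5 := by
    haveI : FiniteDimensional K ↥(LinearMap.ker ν ⊓ homogeneousSubmodule (Fin 2) K 5) :=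
      Submodule.finiteDimensional_inf_right _ _
    apply Submodule.eq_of_le_of_finrank_eq (le_inf hνV hV)
    omega
  -- bilinear pairing
  let B : ↥(homogeneousSubmodule (Fin 2) K 3) →ₗ[K]
      ↥(homogeneousSubmodule (Fin 2) K 2) →ₗ[K] K :=
    ((LinearMap.mul K (MvPolynomial (Fin 2) K)).compr₂ ν).domRestrict₁₂ _ _
  let Ψ : ↥(homogeneousSubmodule (Fin 2) K 2) →ₗ[K]
      Module.Dual K ↥(homogeneousSubmodule (Fin 2) K 3) := B.flip
  have hΨ : ∀ (e : ↥(homogeneousSubmodule (Fin 2) K 2))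
      (g : ↥(homogeneousSubmodule (Fin 2) K 3)), Ψ e g = ν (g.1 * e.1) := fun e g => rfl
  have hΨinj : Function.Injective Ψ := by
    rw [← LinearMap.ker_eq_bot, LinearMap.ker_eq_bot']
    intro e he
    by_contra hne
    have he0 : e.1 ≠ 0 := fun h => hne (Subtype.ext h)
    obtain ⟨v, hv, h, hh, hF⟩ := hsep e.1 e.2 he0 x0 hx0S
    apply hνx
    have h1 : ν (h * e.1) = 0 := by
      have h2 := LinearMap.congr_fun he ⟨h, hh⟩
      rw [hΨ] at h2
      exact h2
    rw [hF, map_add, LinearMap.mem_ker.mp (hνV hv), zero_add, mul_comm, h1]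
  have hrange : Module.finrank K ↥(LinearMap.range Ψ) = 3 := by
    rw [LinearMap.finrank_range_of_inj hΨinj, TrisecantQ.finrank_S]
  have hN := Subspace.finrank_add_finrank_dualCoannihilator_eq (LinearMap.range Ψ)
  rw [hrange, TrisecantQ.finrank_S] at hN
  have hN1 : Module.finrank K ↥(LinearMap.range Ψ).dualCoannihilator = 1 := by omega
  have hmemN : ∀ g : ↥(homogeneousSubmodule (Fin 2) K 3),
      g ∈ (LinearMap.range Ψ).dualCoannihilator ↔
        ∀ e ∈ homogeneousSubmodule (Fin 2) K 2, ν (g.1 * e) = 0 := by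
    intro g
    rw [Submodule.mem_dualCoannihilator]
    constructor
    · intro h e he
      exact h (Ψ ⟨e, he⟩) ⟨_, rfl⟩
    · rintro h _ ⟨e, rfl⟩
      exact h e.1 e.2
  have hNne : (LinearMap.range Ψ).dualCoannihilator ≠ ⊥ := by
    intro h
    rw [h, finrank_bot] at hN1
    omega
  obtain ⟨g0, hg0N, hg00⟩ := Submodule.exists_mem_ne_zero_of_ne_bot hNne
  obtain ⟨g, hg0⟩ : ∃ g : ↥(LinearMap.range Ψ).dualCoannihilator, g ≠ 0 :=
    ⟨⟨g0, hg0N⟩, fun h => hg00 (congrArg Subtype.val h)⟩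
  refine ⟨g.1.1, g.1.2, fun h => hg0 (Subtype.ext (Subtype.ext h)), ?_, ?_⟩
  · intro h hh
    rw [hVeq]
    refine ⟨LinearMap.mem_ker.mpr ((hmemN g.1).mp g.2 h hh), ?_⟩
    exact ((mem_homogeneousSubmodule _ _).mp g.1.2).mul ((mem_homogeneousSubmodule _ _).mp hh)
  · intro g' hg' hg'V
    have hg'N : (⟨g', hg'⟩ : ↥(homogeneousSubmodule (Fin 2) K 3)) ∈
        (LinearMap.range Ψ).dualCoannihilator := by
      rw [hmemN]
      intro e he
      exact LinearMap.mem_ker.mp (hνV (hg'V e he))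
    obtain ⟨c, hc⟩ := (finrank_eq_one_iff_of_nonzero' g hg0).mp hN1 ⟨⟨g', hg'⟩, hg'N⟩
    refine ⟨c, ?_⟩
    have h3 := congrArg (fun x => x.1.1) hc
    exact h3.symm

end Groth.Agent.Helper25.TrisecantQ5
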