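import Mathlib
import Groth.Agent.Lib.Helper25.GaDualStruct

/-!
# Endomorphisms of the truncated additive group `A[X]/(X^{p²})` in characteristic `p` (helper25)
-/

set_option autoImplicit false

namespace Groth.Agent.Helper25.TruncAdd

open Polynomial Groth.Agent.Helper25.GaDual

variable {p : ℕ} [hp : Fact p.Prime] {A : Type*} [CommRing A] [CharP A p]

theorem additive_iff (q : A[X]) (hdeg : q.natDegree < p ^ 2) :
    (aeval (MvPolynomial.X 0 + MvPolynomial.X 1 : MvPolynomial (Fin 2) A) q -
        aeval (MvPolynomial.X 0 : MvPolynomial (Fin 2) A) q -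
        aeval (MvPolynomial.X 1 : MvPolynomial (Fin 2) A) q ∈
      Ideal.span ({MvPolynomial.X 0 ^ p ^ 2, MvPolynomial.X 1 ^ p ^ 2} :
        Set (MvPolynomial (Fin 2) A)) ↔
    ∃ a₁ ap : A, q = C a₁ * X + C ap * X ^ p) := by
  have hp2 : 2 ≤ p := hp.out.two_le
  have hpp : p < p ^ 2 := by nlinarith
  constructor
  · intro h
    have key : ∀ m n, m < p ^ 2 → n < p ^ 2 →
        (((m + n).choose m : ℕ) : A) * q.coeff (m + n) - (if n = 0 then q.coeff m else 0) -
          (if m = 0 then q.coeff n else 0) = 0 := by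
      intro m n hm hn
      have := coeff_eq_zero_of_mem_span h m n hm hn
      rwa [MvPolynomial.coeff_sub, MvPolynomial.coeff_sub, coeff_aeval_add, coeff_aeval_X0,
        coeff_aeval_X1] at this
    have h0 : q.coeff 0 = 0 := by
      have := key 0 0 (by omega) (by omega)
      simpa using this
    have key2 : ∀ m n, 1 ≤ m → 1 ≤ n → m < p ^ 2 → n < p ^ 2 →
        (((m + n).choose m : ℕ) : A) * q.coeff (m + n) = 0 := by
      intro m n hm1 hn1 hm hn
      have := key m n hm hn
      rwa [if_neg (by omega), if_neg (by omega), sub_zero, sub_zero] at this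
    have hk : ∀ k, 2 ≤ k → k ≠ p → q.coeff k = 0 := by
      intro k hk2 hkp
      by_cases hlt : k < p ^ 2
      · by_cases hdvd : p ∣ k
        · obtain ⟨j, rfl⟩ := hdvd
          have hj1 : j ≠ 1 := fun h => hkp (by rw [h, mul_one])
          have hj0 : j ≠ 0 := fun h => by
            rw [h, mul_zero] at hk2
            omega
          have hj2 : 2 ≤ j := by omega
          have hjp : j < p := by
            by_contra hcon
            push Not at hcon
            have h1 : p * p ≤ p * j := Nat.mul_le_mul_left p hcon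
            rw [sq] at hlt
            exact absurd (lt_of_lt_of_le hlt h1) (lt_irrefl _)
          have hn : p * j = p + p * (j - 1) := by
            obtain ⟨i, rfl⟩ : ∃ i, j = i + 1 := ⟨j - 1, by omega⟩
            rw [Nat.add_sub_cancel]
            ring
          have hn1 : 1 ≤ p * (j - 1) := Nat.mul_pos hp.out.pos (by omega)
          have hn2 : p * (j - 1) < p ^ 2 :=
            lt_of_le_of_lt (Nat.mul_le_mul_left p (Nat.sub_le j 1)) hlt
          have hc := key2 p (p * (j - 1)) (by omega) hn1 hpp hn2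
          rw [← hn, natCast_choose_lucas (p := p), Nat.mul_mod_right, Nat.mod_self,
            Nat.mul_div_cancel_left j hp.out.pos, Nat.div_self hp.out.pos, Nat.choose_zero_right,
            Nat.choose_one_right, one_mul] at hc
          have hu : IsUnit ((j : ℕ) : A) :=
            isUnit_natCast_of_not_dvd (p := p) (Nat.not_dvd_of_pos_of_lt (by omega) hjp)
          exact hu.mul_right_eq_zero.mp hc
        · have hc := key2 1 (k - 1) le_rfl (by omega) (by omega) (by omega)
          have e : 1 + (k - 1) = k := by omega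
          rw [e, Nat.choose_one_right] at hc
          exact (isUnit_natCast_of_not_dvd (p := p) hdvd).mul_right_eq_zero.mp hc
      · exact Polynomial.coeff_eq_zero_of_natDegree_lt (by omega)
    refine ⟨q.coeff 1, q.coeff p, ?_⟩
    ext k
    rw [coeff_add, coeff_C_mul, coeff_C_mul, coeff_X, coeff_X_pow]
    by_cases hk1 : k = 1
    · rw [if_pos hk1.symm, if_neg (by omega : ¬ k = p), hk1]
      ring
    · by_cases hkp : k = p
      · rw [if_neg (fun h => hk1 h.symm), if_pos hkp, hkp]
        ring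
      · rw [if_neg (fun h => hk1 h.symm), if_neg hkp, mul_zero, mul_zero, add_zero]
        by_cases hk0 : k = 0
        · rw [hk0]
          exact h0
        · exact hk k (by omega) hkp
  · rintro ⟨a₁, ap, rfl⟩
    have h0 : aeval (MvPolynomial.X 0 + MvPolynomial.X 1 : MvPolynomial (Fin 2) A)
          (C a₁ * X + C ap * X ^ p) -
        aeval (MvPolynomial.X 0 : MvPolynomial (Fin 2) A) (C a₁ * X + C ap * X ^ p) -
        aeval (MvPolynomial.X 1 : MvPolynomial (Fin 2) A) (C a₁ * X + C ap * X ^ p) = 0 := by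
      simp only [map_add, map_mul, map_pow, aeval_C, aeval_X]
      rw [add_pow_char]
      ring
    rw [h0]
    exact Ideal.zero_mem _

/-- the truncation ideal `(X^{p²})` -/
noncomputable abbrev J (p : ℕ) (A : Type*) [CommRing A] : Ideal A[X] :=
  Ideal.span ({X ^ p ^ 2} : Set A[X])

omit hp [CharP A p] in
theorem phi_mk (a₁ ap : A) (φ : (A[X] ⧸ J p A) →ₐ[A] (A[X] ⧸ J p A))
    (hφ : φ (Ideal.Quotient.mk (J p A) X) =
      Ideal.Quotient.mk (J p A) (C a₁ * X + C ap * X ^ p)) (P : A[X]) :
    φ (Ideal.Quotient.mk (J p A) P) =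
      Ideal.Quotient.mk (J p A) (aeval (C a₁ * X + C ap * X ^ p) P) := by
  have h : φ.comp (Ideal.Quotient.mkₐ A (J p A)) =
      (Ideal.Quotient.mkₐ A (J p A)).comp (aeval (C a₁ * X + C ap * X ^ p)) := by
    apply Polynomial.algHom_ext
    rw [AlgHom.comp_apply, AlgHom.comp_apply, aeval_X]
    exact hφ
  exact DFunLike.congr_fun h P

theorem isUnit_of_surj (a₁ ap : A) (φ : (A[X] ⧸ J p A) →ₐ[A] (A[X] ⧸ J p A))
    (hφ : φ (Ideal.Quotient.mk (J p A) X) =
      Ideal.Quotient.mk (J p A) (C a₁ * X + C ap * X ^ p))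
    (hs : Function.Surjective φ) : IsUnit a₁ := by
  have hp0 : p ≠ 0 := hp.out.ne_zero
  have hpp : p ^ 2 ≠ 0 := pow_ne_zero 2 hp0
  obtain ⟨b, hb⟩ := hs (Ideal.Quotient.mk (J p A) X)
  obtain ⟨g, rfl⟩ := Ideal.Quotient.mk_surjective b
  rw [phi_mk a₁ ap φ hφ, Ideal.Quotient.eq, Ideal.mem_span_singleton] at hb
  obtain ⟨h, hh⟩ := hb
  have hc : ((p ^ 2 : ℕ) : A) = 0 := by
    rw [Nat.cast_pow, CharP.cast_eq_zero, zero_pow two_ne_zero]
  have h1 : eval 0 (derivative (X ^ p ^ 2 * h)) = 0 := by
    rw [derivative_mul, derivative_X_pow, hc]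
    simp only [C_0, zero_mul, eval_add, eval_mul, eval_pow, eval_X, eval_zero, zero_add]
    rw [zero_pow hpp, zero_mul]
  have hL' : derivative (C a₁ * X + C ap * X ^ p : A[X]) = C a₁ := by
    rw [derivative_add, derivative_C_mul, derivative_C_mul, derivative_X, derivative_X_pow,
      CharP.cast_eq_zero]
    simp
  have hd : derivative (aeval (C a₁ * X + C ap * X ^ p) g) = 1 + derivative (X ^ p ^ 2 * h) := by
    have : aeval (C a₁ * X + C ap * X ^ p) g = X + X ^ p ^ 2 * h := by
      rw [← hh]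
      ring
    rw [this, derivative_add, derivative_X]
  have e0 := congrArg (eval 0) hd
  rw [← comp_eq_aeval, derivative_comp, eval_mul, hL', eval_C, eval_add, eval_one, h1,
    add_zero] at e0
  exact isUnit_iff_exists_inv.mpr ⟨_, e0⟩

theorem surj_of_isUnit (a₁ ap : A) (φ : (A[X] ⧸ J p A) →ₐ[A] (A[X] ⧸ J p A))
    (hφ : φ (Ideal.Quotient.mk (J p A) X) =
      Ideal.Quotient.mk (J p A) (C a₁ * X + C ap * X ^ p))
    (hu : IsUnit a₁) : Function.Surjective φ := by
  obtain ⟨u, hu1⟩ := isUnit_iff_exists_inv.mp hu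
  have hLp : (C a₁ * X + C ap * X ^ p : A[X]) ^ p =
      C (a₁ ^ p) * X ^ p + C (ap ^ p) * X ^ p ^ 2 := by
    rw [add_pow_char, mul_pow, mul_pow, ← pow_mul, ← sq, C_pow, C_pow]
  have hyS : Ideal.Quotient.mk (J p A) (C a₁ * X + C ap * X ^ p) ∈ φ.range := ⟨_, hφ⟩
  have hC : ∀ a : A, Ideal.Quotient.mk (J p A) (C a) ∈ φ.range := fun a => by
    have : Ideal.Quotient.mk (J p A) (C a) = algebraMap A _ a :=
      (Ideal.Quotient.mkₐ A (J p A)).commutes a
    rw [this]
    exact Subalgebra.algebraMap_mem _ a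
  have hCu : (C (u ^ p) * C (a₁ ^ p) : A[X]) = 1 := by
    rw [← C_mul, ← mul_pow, mul_comm u, hu1, one_pow, C_1]
  have hCu' : (C u * C a₁ : A[X]) = 1 := by
    rw [← C_mul, mul_comm, hu1, C_1]
  have hxp : Ideal.Quotient.mk (J p A) (X ^ p) =
      Ideal.Quotient.mk (J p A) (C (u ^ p)) *
        (Ideal.Quotient.mk (J p A) (C a₁ * X + C ap * X ^ p)) ^ p := by
    rw [← map_pow, ← map_mul, Ideal.Quotient.eq, Ideal.mem_span_singleton]
    refine ⟨- C (u ^ p) * C (ap ^ p), ?_⟩
    rw [hLp]
    linear_combination (-(X : A[X]) ^ p) * hCu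
  have hx : Ideal.Quotient.mk (J p A) X =
      Ideal.Quotient.mk (J p A) (C u) *
        (Ideal.Quotient.mk (J p A) (C a₁ * X + C ap * X ^ p) -
          Ideal.Quotient.mk (J p A) (C ap) * Ideal.Quotient.mk (J p A) (X ^ p)) := by
    rw [← map_mul, ← map_sub, ← map_mul]
    congr 1
    linear_combination (-(X : A[X])) * hCu'
  have hxpS : Ideal.Quotient.mk (J p A) (X ^ p) ∈ φ.range := by
    rw [hxp]
    exact mul_mem (hC _) (pow_mem hyS p)
  have hxS : Ideal.Quotient.mk (J p A) X ∈ φ.range := by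
    rw [hx]
    exact mul_mem (hC u) (sub_mem hyS (mul_mem (hC ap) hxpS))
  have hall : ∀ P : A[X], Ideal.Quotient.mk (J p A) P ∈ φ.range := by
    intro P
    induction P using Polynomial.induction_on with
    | C a => exact hC a
    | add f g hf hg =>
      rw [map_add]
      exact add_mem hf hg
    | monomial n a h =>
      rw [pow_succ, ← mul_assoc, map_mul]
      exact mul_mem h hxS
  intro b
  obtain ⟨P, rfl⟩ := Ideal.Quotient.mk_surjective b
  exact (AlgHom.mem_range φ).mp (hall P)

theorem bij_iff (a₁ ap : A) (φ : (A[X] ⧸ J p A) →ₐ[A] (A[X] ⧸ J p A))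
    (hφ : φ (Ideal.Quotient.mk (J p A) X) =
      Ideal.Quotient.mk (J p A) (C a₁ * X + C ap * X ^ p)) :
    Function.Bijective φ ↔ IsUnit a₁ := by
  constructor
  · intro h
    exact isUnit_of_surj a₁ ap φ hφ h.2
  · intro hu
    have hs := surj_of_isUnit a₁ ap φ hφ hu
    have hfin : Module.Finite A (A[X] ⧸ J p A) := (monic_X_pow (p ^ 2)).finite_adjoinRoot
    refine ⟨?_, hs⟩
    exact OrzechProperty.injective_of_surjective_endomorphism φ.toLinearMap hs

end Groth.Agent.Helper25.TruncAdd
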