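import Mathlib
import Groth.Agent.Lib.Helper6.TrigDiagQuot
import Groth.Agent.Lib.Helper6.PrimQuot
import Groth.Agent.Lib.Helper6.Uni1

set_option autoImplicit false

/-!
# Unipotent groups: closed subgroups, quotients, extensions (Hopf form)
-/

namespace Groth.Agent.Helper25.UnipExt

open TensorProduct Groth.Agent.Helper6.CoConn

universe u v

section Local

variable (k : Type u) [Field k] (A : Type v) [CommRing A] [Bialgebra k A]

/-- local form of `isUnipotent_of_isCoconn` (proof following helper6's `CoConn`): a comodule with a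
nonzero vector whose coaction is killed by an iterated reduced coproduct has a nonzero fixed
vector. -/
theorem fixedPts_ne_bot_of_exists {V : Type v} [AddCommGroup V] [Module k V]
    [HopfRep.Comod k A V]
    (hex : ∃ n, ∃ v : V, v ≠ 0 ∧
      (D k A n).lTensor V (HopfRep.Comod.coact (k := k) (A := A) v) = 0) :
    HopfRep.fixedPts k A V ≠ ⊥ := by
  classical
  set ρ : V →ₗ[k] V ⊗[k] A := HopfRep.Comod.coact (k := k) (A := A) (V := V) with hρ
  obtain ⟨v₀, hv₀, hk⟩ := Nat.find_spec hex
  have hmin : ∀ n < Nat.find hex, ∀ v : V, (D k A n).lTensor V (ρ v) = 0 → v = 0 := by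
    intro n hn v hv
    by_contra hne
    exact Nat.find_min hex hn ⟨v, hne, hv⟩
  have hfix : (pr k A).lTensor V (ρ v₀) = 0 := by
    rcases Nat.eq_zero_or_pos (Nat.find hex) with h0 | hpos
    · rw [h0] at hk
      exact hk
    · obtain ⟨n, hn⟩ : ∃ n, Nat.find hex = n + 1 := ⟨Nat.find hex - 1, by omega⟩
      rw [hn] at hk
      let G : V →ₗ[k] V ⊗[k] (T k A n) := (D k A n).lTensor V ∘ₗ ρ
      have hG : Function.Injective G := by
        rw [← LinearMap.ker_eq_bot, LinearMap.ker_eq_bot']
        intro v hv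
        exact hmin n (by omega) v hv
      have hGi : Function.Injective (G.rTensor A) :=
        Module.Flat.rTensor_preserves_injective_linearMap _ hG
      apply hGi
      rw [map_zero]
      have e1 : (TensorProduct.assoc k V (T k A n) A).symm.toLinearMap ∘ₗ
          (TensorProduct.map (D k A n) (pr k A)).lTensor V ∘ₗ
          (TensorProduct.assoc k V A A).toLinearMap =
          TensorProduct.map ((D k A n).lTensor V) (pr k A) := by
        apply TensorProduct.ext_threefold
        intro v a b
        simp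
      have hco := LinearMap.congr_fun (HopfRep.Comod.coassoc (k := k) (A := A) (V := V)) v₀
      simp only [LinearMap.comp_apply] at hco
      have e2 : (D k A (n + 1)).lTensor V (ρ v₀) =
          (TensorProduct.map (D k A n) (pr k A)).lTensor V
            ((TensorProduct.assoc k V A A) (ρ.rTensor A (ρ v₀))) := by
        rw [lTensor_D_succ]
        congr 1
        exact hco.symm
      have e3 : G.rTensor A ((pr k A).lTensor V (ρ v₀)) =
          TensorProduct.map ((D k A n).lTensor V) (pr k A) (ρ.rTensor A (ρ v₀)) := by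
        have e4 : G.rTensor A ∘ₗ (pr k A).lTensor V =
            TensorProduct.map ((D k A n).lTensor V) (pr k A) ∘ₗ ρ.rTensor A := by
          apply TensorProduct.ext'
          intro v a
          simp [G]
        exact LinearMap.congr_fun e4 (ρ v₀)
      have e5 : (TensorProduct.map (D k A n) (pr k A)).lTensor V
            ((TensorProduct.assoc k V A A) (ρ.rTensor A (ρ v₀))) = 0 := e2.symm.trans hk
      rw [e3, ← e1]
      simp only [LinearMap.comp_apply, LinearEquiv.coe_coe]
      rw [e5, map_zero]
  have hρv : ρ v₀ = v₀ ⊗ₜ[k] (1 : A) := by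
    have h1 : (pr k A).lTensor V (ρ v₀) = ρ v₀ -
        (Algebra.linearMap k A).lTensor V
          ((Coalgebra.counit (R := k) (A := A)).lTensor V (ρ v₀)) := by
      unfold pr
      rw [LinearMap.lTensor_sub, LinearMap.sub_apply, LinearMap.lTensor_id, LinearMap.id_apply,
        LinearMap.lTensor_comp, LinearMap.comp_apply]
    have h2 := LinearMap.congr_fun (HopfRep.Comod.counit_comp (k := k) (A := A) (V := V)) v₀
    simp only [LinearMap.comp_apply, LinearMap.flip_apply, TensorProduct.mk_apply] at h2
    rw [hfix] at h1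
    have h3 : ρ v₀ = (Algebra.linearMap k A).lTensor V
          ((Coalgebra.counit (R := k) (A := A)).lTensor V (ρ v₀)) := by
      exact sub_eq_zero.1 h1.symm
    rw [h3, hρ, h2, LinearMap.lTensor_tmul, Algebra.linearMap_apply, map_one]
  intro hbot
  have hmem : v₀ ∈ HopfRep.fixedPts k A V := hρv
  rw [hbot] at hmem
  exact hv₀ ((Submodule.mem_bot k).1 hmem)

end Local

section Ext

variable {k : Type u} [Field k] {A C : Type u} [CommRing A] [CommRing C] [HopfAlgebra k A]
  [HopfAlgebra k C]

/-- extensions of unipotent groups are unipotent -/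
theorem isUnipotent_of_ext (ψ : C →ₐc[k] A) (J : Ideal A) [J.IsHopfIdeal k]
    (hJ : J = Ideal.map (ψ : C →+* A) (RingHom.ker (Bialgebra.counitAlgHom k C)))
    (hC : HopfRep.IsUnipotent k C) (hN : HopfRep.IsUnipotent k (A ⧸ J)) :
    HopfRep.IsUnipotent k A := by
  intro V _ _ cV hfin hnt
  haveI := hfin
  let cJ : HopfRep.Comod k (A ⧸ J) V :=
    Groth.Agent.Helper12.corestrict V (Bialgebra.Quotient.mkBialgHom J).toCoalgHom
  have hfix := @hN V _ _ cJ hfin hnt
  obtain ⟨v, hvmem, hv0⟩ := Submodule.exists_mem_ne_zero_of_ne_bot hfix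
  have hv' : cJ.coact v = v ⊗ₜ[k] (1 : A ⧸ J) := hvmem
  have hv'' : (LinearMap.lTensor V (Ideal.Quotient.mkₐ k J).toLinearMap) (cV.coact v) =
      v ⊗ₜ[k] (1 : A ⧸ J) := hv'
  have hcoef := Groth.Agent.Lib.Helper6.TrigDiagQuot.coef_mem_range ψ J hJ cV v hv''
  have hρS : cV.coact v ∈
      LinearMap.range ((Subalgebra.toSubmodule (ψ : C →ₐ[k] A).range).subtype.lTensor V) := by
    apply Groth.Agent.Lib.Helper6.TrigDiagQuot.mem_range_lTensor_of_coef_mem
    intro l
    exact hcoef l
  have hCc := isCoconn_of_isUnipotent k C hC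
  have hfinite : ∀ y : V ⊗[k] (Subalgebra.toSubmodule (ψ : C →ₐ[k] A).range), ∃ n, ∀ m, n ≤ m →
      (D k A m).lTensor V
        ((Subalgebra.toSubmodule (ψ : C →ₐ[k] A).range).subtype.lTensor V y) = 0 := by
    intro y
    induction y using TensorProduct.induction_on with
    | zero => exact ⟨0, fun m _ => by rw [map_zero, map_zero]⟩
    | tmul w s =>
      have hs2 : (s : A) ∈ (ψ : C →ₐ[k] A).range := s.2
      obtain ⟨c, hc⟩ : ∃ c, (ψ : C →ₐ[k] A) c = (s : A) := hs2
      obtain ⟨n, hn⟩ := hCc c
      refine ⟨n, fun m hm => ?_⟩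
      rw [LinearMap.lTensor_tmul, LinearMap.lTensor_tmul]
      have h1 : D k A m (ψ c) = 0 := by
        rw [Groth.Agent.Lib.Helper6.PrimQuot.D_map, D_mono k C hm hn, map_zero]
      have h2 : (Subalgebra.toSubmodule (ψ : C →ₐ[k] A).range).subtype s = ψ c := hc.symm
      rw [h2, h1, TensorProduct.tmul_zero]
    | add x y hx hy =>
      obtain ⟨n1, h1⟩ := hx
      obtain ⟨n2, h2⟩ := hy
      exact ⟨max n1 n2, fun m hm => by
        rw [map_add, map_add, h1 m (le_trans (le_max_left _ _) hm),
          h2 m (le_trans (le_max_right _ _) hm), add_zero]⟩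
  obtain ⟨y, hy⟩ := hρS
  obtain ⟨n, hn⟩ := hfinite y
  exact fixedPts_ne_bot_of_exists k A ⟨n, v, hv0, by rw [← hy]; exact hn n le_rfl⟩

/-- closed subgroups of unipotent groups are unipotent -/
theorem isUnipotent_of_surjective {B : Type u} [CommRing B] [HopfAlgebra k B] (φ : A →ₐc[k] B)
    (hφ : Function.Surjective φ) (hU : HopfRep.IsUnipotent k A) : HopfRep.IsUnipotent k B :=
  isUnipotent_of_isCoconn k B
    (Groth.Agent.Lib.Helper6.PrimQuot.isCoconn_of_surjective φ hφ (isCoconn_of_isUnipotent k A hU))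

/-- quotients of unipotent groups are unipotent -/
theorem isUnipotent_of_injective (ψ : C →ₐc[k] A) (hψ : Function.Injective ψ)
    (hU : HopfRep.IsUnipotent k A) : HopfRep.IsUnipotent k C :=
  isUnipotent_of_isCoconn k C (fun c => by
    obtain ⟨n, hn⟩ := isCoconn_of_isUnipotent k A hU (ψ c)
    exact ⟨n, Groth.Agent.Helper6.Uni.D_eq_zero_of_map_injective ψ hψ hn⟩)

end Ext

end Groth.Agent.Helper25.UnipExt
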