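import Mathlib
import Groth.Prelude.Def_Dieu

/-!
# Descent for the semilinear base change `Dieu.BC`: equalizer of the two pullbacks for finite
projective modules, and injectivity of `m ↦ 1 ⊗ m` for a faithfully flat quotient situation.
-/

namespace Groth.Agent.Helper25.VDesc1

open TensorProduct

section Basic

variable {A B C : Type*} [CommRing A] [CommRing B] [CommRing C]
variable (g : A →+* B)
variable {P : Type*} [AddCommGroup P] [Module A P]

/-- `x ↦ b ⊗ x` as an additive map. -/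
noncomputable def tmulHom (b : B) : P →+ Dieu.BC g P :=
  AddMonoidHom.mk' (fun x => Dieu.BC.tmul g b x) (fun x y => Dieu.BC.tmul_add g b x y)

theorem tmul_sum {ι : Type*} (s : Finset ι) (b : B) (f : ι → P) :
    Dieu.BC.tmul g b (∑ k ∈ s, f k) = ∑ k ∈ s, Dieu.BC.tmul g b (f k) :=
  map_sum (tmulHom g b) f s

variable (gi : B →+* C) (g₀ : A →+* C) (e : gi.comp g = g₀)

/-- The `gi`-semilinear map `BC g P → BC g₀ P`, `b ⊗ x ↦ gi b ⊗ x`. -/
noncomputable def J (z : Dieu.BC g P) : Dieu.BC g₀ P := Dieu.BC.castHom e (Dieu.BC.push g gi z)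

theorem J_tmul (b : B) (x : P) :
    J g gi g₀ e (Dieu.BC.tmul g b x) = Dieu.BC.tmul g₀ (gi b) x := by
  rw [J, Dieu.BC.push_tmul, Dieu.BC.castHom_tmul]

theorem J_add (z z' : Dieu.BC g P) : J g gi g₀ e (z + z') = J g gi g₀ e z + J g gi g₀ e z' := by
  rw [J, map_add, map_add]; rfl

theorem J_zero : J g gi g₀ e (0 : Dieu.BC g P) = 0 := by
  rw [J, map_zero, map_zero]

/-- The `B`-linear extension of a linear form. -/
noncomputable def Lam (l : P →ₗ[A] A) : Dieu.BC g P →ₗ[B] B :=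
  Dieu.BC.lift g ((Dieu.semilinearOfRingHom g).comp l)

theorem Lam_tmul (l : P →ₗ[A] A) (b : B) (x : P) :
    Lam g l (Dieu.BC.tmul g b x) = b * g (l x) := by
  rw [Lam, Dieu.BC.lift_tmul]; rfl

theorem Lam_J (l : P →ₗ[A] A) (z : Dieu.BC g P) :
    Lam g₀ l (J g gi g₀ e z) = gi (Lam g l z) := by
  induction z using Dieu.BC.induction_on g with
  | zero => rw [J_zero, map_zero, map_zero, map_zero]
  | tmul b y => rw [J_tmul, Lam_tmul, Lam_tmul, map_mul, ← e]; rfl
  | add z₁ z₂ h₁ h₂ => rw [J_add, map_add, h₁, h₂, map_add, map_add]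

theorem exists_dual_basis (A : Type*) [CommRing A] (P : Type*) [AddCommGroup P] [Module A P]
    [Module.Finite A P] [Module.Projective A P] :
    ∃ (n : ℕ) (x : Fin n → P) (l : Fin n → (P →ₗ[A] A)), ∀ y : P, y = ∑ k, l k y • x k := by
  obtain ⟨n, f, hf⟩ := Module.Finite.exists_fin' A P
  obtain ⟨s, hs⟩ := Module.projective_lifting_property f LinearMap.id hf
  refine ⟨n, fun k => f (fun j => if k = j then 1 else 0),
    fun k => (LinearMap.proj k).comp s, fun y => ?_⟩
  have h1 : f (s y) = y := by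
    have h := LinearMap.congr_fun hs y
    simpa using h
  have h2 := LinearMap.pi_apply_eq_sum_univ f (s y)
  rw [h1] at h2
  exact h2

theorem eq_sum_Lam {n : ℕ} (x : Fin n → P) (l : Fin n → (P →ₗ[A] A))
    (hxl : ∀ y, y = ∑ k, l k y • x k) (z : Dieu.BC g P) :
    z = ∑ k, Lam g (l k) z • Dieu.BC.tmul g 1 (x k) := by
  induction z using Dieu.BC.induction_on g with
  | zero => simp
  | tmul b y =>
    conv_lhs => rw [hxl y]
    rw [tmul_sum]
    refine Finset.sum_congr rfl (fun k _ => ?_)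
    rw [Lam_tmul, Dieu.BC.smul_tmul, mul_one, Dieu.BC.tmul_mul_apply]
  | add z₁ z₂ h₁ h₂ =>
    conv_lhs => rw [h₁, h₂]
    rw [← Finset.sum_add_distrib]
    refine Finset.sum_congr rfl (fun k _ => ?_)
    rw [map_add, add_smul]

theorem tmul_one_injective [Module.Finite A P] [Module.Projective A P]
    (hg : Function.Injective g) :
    Function.Injective (fun y : P => Dieu.BC.tmul g 1 y) := by
  obtain ⟨n, x, l, hxl⟩ := exists_dual_basis A P
  intro y y' hyy
  have hyy' : Dieu.BC.tmul g 1 y = Dieu.BC.tmul g 1 y' := hyy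
  have hsub : Dieu.BC.tmul g 1 (y - y') = 0 := by
    rw [sub_eq_add_neg, Dieu.BC.tmul_add, Dieu.BC.tmul_neg, hyy']
    exact add_neg_cancel _
  have hl : ∀ k, l k (y - y') = 0 := by
    intro k
    apply hg
    have h := congrArg (Lam g (l k)) hsub
    rw [Lam_tmul, one_mul, map_zero] at h
    rw [h, map_zero]
  have h := hxl (y - y')
  simp only [hl, zero_smul, Finset.sum_const_zero] at h
  exact sub_eq_zero.mp h

theorem exists_of_J_eq [Module.Finite A P] [Module.Projective A P]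
    (g₀ : A →+* C) (g₁ g₂ : B →+* C) (e₁ : g₁.comp g = g₀) (e₂ : g₂.comp g = g₀)
    (heq : ∀ b : B, g₁ b = g₂ b → ∃ a, g a = b)
    (z : Dieu.BC g P) (hz : J g g₁ g₀ e₁ z = J g g₂ g₀ e₂ z) :
    ∃ y : P, Dieu.BC.tmul g 1 y = z := by
  obtain ⟨n, x, l, hxl⟩ := exists_dual_basis A P
  have h1 : ∀ k, ∃ a, g a = Lam g (l k) z := by
    intro k
    apply heq
    rw [← Lam_J g g₁ g₀ e₁, ← Lam_J g g₂ g₀ e₂, hz]
  choose a ha using h1
  refine ⟨∑ k, a k • x k, ?_⟩
  rw [tmul_sum]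
  conv_rhs => rw [eq_sum_Lam g x l hxl z]
  refine Finset.sum_congr rfl (fun k _ => ?_)
  rw [← ha k, Dieu.BC.smul_tmul, mul_one, Dieu.BC.tmul_apply_eq]

end Basic

section Descent

variable {A B C : Type*} [CommRing A] [CommRing B] [CommRing C]
variable (g : A →+* B) (g₀ : A →+* C) (g₁ g₂ : B →+* C)
  (e₁ : g₁.comp g = g₀) (e₂ : g₂.comp g = g₀)
variable {P P' : Type*} [AddCommGroup P] [Module A P] [AddCommGroup P'] [Module A P']

theorem exists_descent [Module.Finite A P'] [Module.Projective A P']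
    (hg : Function.Injective g) (heq : ∀ b : B, g₁ b = g₂ b → ∃ a, g a = b)
    (χ : Dieu.BC g P →ₗ[B] Dieu.BC g P')
    (hdesc : ∀ (z₁ : Dieu.BC g₁ (Dieu.BC g P)) (z₂ : Dieu.BC g₂ (Dieu.BC g P)),
      (Dieu.BC.castHom (P := P) e₁).comp (Dieu.BC.lift g₁ (Dieu.BC.push g g₁)) z₁ =
        (Dieu.BC.castHom (P := P) e₂).comp (Dieu.BC.lift g₂ (Dieu.BC.push g g₂)) z₂ →
      (Dieu.BC.castHom (P := P') e₁).comp (Dieu.BC.lift g₁ (Dieu.BC.push g g₁))
          (Dieu.BC.map g₁ χ z₁) =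
        (Dieu.BC.castHom (P := P') e₂).comp (Dieu.BC.lift g₂ (Dieu.BC.push g g₂))
          (Dieu.BC.map g₂ χ z₂)) :
    ∃ ψ : P →ₗ[A] P', ∀ x, Dieu.BC.tmul g 1 (ψ x) = χ (Dieu.BC.tmul g 1 x) := by
  have hinj := tmul_one_injective g (P := P') hg
  have step1 : ∀ x : P, ∃ y : P', Dieu.BC.tmul g 1 y = χ (Dieu.BC.tmul g 1 x) := by
    intro x
    apply exists_of_J_eq g g₀ g₁ g₂ e₁ e₂ heq
    have h := hdesc (Dieu.BC.tmul g₁ 1 (Dieu.BC.tmul g 1 x))
      (Dieu.BC.tmul g₂ 1 (Dieu.BC.tmul g 1 x)) (by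
        simp only [LinearMap.comp_apply, Dieu.BC.lift_tmul, one_smul, Dieu.BC.push_tmul,
          Dieu.BC.castHom_tmul, map_one])
    simp only [Dieu.BC.map_tmul, LinearMap.comp_apply, Dieu.BC.lift_tmul, one_smul] at h
    exact h
  choose ψ hψ using step1
  refine ⟨{ toFun := ψ, map_add' := ?_, map_smul' := ?_ }, hψ⟩
  · intro x y
    apply hinj
    show Dieu.BC.tmul g 1 (ψ (x + y)) = Dieu.BC.tmul g 1 (ψ x + ψ y)
    rw [hψ, Dieu.BC.tmul_add, Dieu.BC.tmul_add, map_add, hψ, hψ]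
  · intro a x
    apply hinj
    show Dieu.BC.tmul g 1 (ψ (a • x)) = Dieu.BC.tmul g 1 ((RingHom.id A) a • ψ x)
    have h1 : Dieu.BC.tmul g 1 (a • x) = g a • Dieu.BC.tmul g 1 x := by
      rw [← Dieu.BC.tmul_apply_eq g a x, Dieu.BC.tmul_eq_smul_tmul_one g (g a) x]
    have h2 : Dieu.BC.tmul g 1 (a • ψ x) = g a • Dieu.BC.tmul g 1 (ψ x) := by
      rw [← Dieu.BC.tmul_apply_eq g a (ψ x), Dieu.BC.tmul_eq_smul_tmul_one g (g a) (ψ x)]
    rw [hψ, h1, map_smul, ← hψ, RingHom.id_apply, h2]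

end Descent

section Pure

/-- If `h = f ∘ π` with `π` surjective, `f` faithfully flat, and `ker π` kills `M`, then
`m ↦ 1 ⊗ m : M → BC h M` is injective. -/
theorem tmul_one_injective_of_faithfullyFlat
    {A S R : Type*} [CommRing A] [CommRing S] [CommRing R] [Algebra S R]
    [Module.FaithfullyFlat S R]
    (π : A →+* S) (hπ : Function.Surjective π) (h : A →+* R)
    (hh : ∀ a, h a = algebraMap S R (π a))
    (M : Type*) [AddCommGroup M] [Module A M] (hM : ∀ a : A, π a = 0 → ∀ m : M, a • m = 0) :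
    Function.Injective (fun m : M => Dieu.BC.tmul h 1 m) := by
  have htors : Module.IsTorsionBySet A M (RingHom.ker π : Set A) := by
    intro x a
    exact hM a.1 (RingHom.mem_ker.mp a.2) x
  let : Module (A ⧸ RingHom.ker π) M := htors.module
  let e : A ⧸ RingHom.ker π ≃+* S := RingHom.quotientKerEquivOfSurjective hπ
  let : Module S M := Module.compHom M (e.symm : S →+* A ⧸ RingHom.ker π)
  have hsmul : ∀ (a : A) (m : M), (π a) • m = a • m := by
    intro a m
    show (e.symm (π a)) • m = a • m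
    rw [RingHom.quotientKerEquivOfSurjective_symm_apply hπ a]
    exact Module.IsTorsionBySet.mk_smul htors a m
  let φ : Dieu.Res h →+ M →+ TensorProduct S R M :=
    AddMonoidHom.mk'
      (fun t => AddMonoidHom.mk' (fun m => t.val ⊗ₜ[S] m)
        (fun m m' => TensorProduct.tmul_add _ _ _))
      (fun t t' => by
        ext m
        exact TensorProduct.add_tmul _ _ _)
  have hφ : ∀ (a : A) (t : Dieu.Res h) (m : M), φ (a • t) m = φ t (a • m) := by
    intro a t m
    show (h a * t.val) ⊗ₜ[S] m = t.val ⊗ₜ[S] (a • m)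
    rw [← hsmul a m, TensorProduct.tmul_smul, TensorProduct.smul_tmul', Algebra.smul_def, ← hh]
  let Ξ : Dieu.BC h M →+ TensorProduct S R M := TensorProduct.liftAddHom φ hφ
  have hΞ : ∀ m : M, Ξ (Dieu.BC.tmul h 1 m) = (1 : R) ⊗ₜ[S] m := fun m => rfl
  intro m m' hmm
  have h1 := congrArg Ξ hmm
  rw [hΞ, hΞ] at h1
  exact Module.FaithfullyFlat.tensorProduct_mk_injective (A := S) (B := R) M h1

end Pure

end Groth.Agent.Helper25.VDesc1
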