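import Mathlib
import Groth.Prelude.Def_Disp2
import Groth.Agent.Lib.Helper25.VDesc1

/-!
# Faithfully flat descent of homomorphisms of 3n-displays
-/

set_option autoImplicit false

universe u v

namespace Groth.Agent.Helper25.VDesc2

open Groth.Agent.Helper25.VDesc1

/-- The equalizer of `W(R) ⇉ W(R ⊗_S R)` is `W(S)` for `S → R` faithfully flat. -/
theorem witt_equalizer {p : ℕ} [Fact p.Prime] (S R : Type*) [CommRing S] [CommRing R]
    [Algebra S R] [Module.FaithfullyFlat S R] (b : WittVector p R)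
    (hb : (WittVector.map (Algebra.TensorProduct.includeLeftRingHom : R →+* TensorProduct S R R) :
        WittVector p R →+* WittVector p (TensorProduct S R R)) b =
      (WittVector.map ((Algebra.TensorProduct.includeRight : R →ₐ[S] TensorProduct S R R) :
        R →+* TensorProduct S R R) : WittVector p R →+* WittVector p (TensorProduct S R R)) b) :
    ∃ a : WittVector p S,
      (WittVector.map (algebraMap S R) : WittVector p S →+* WittVector p R) a = b := by
  have heff := Algebra.IsEffective.of_faithfullyFlat S R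
  have h1 : ∀ n, ∃ s : S, algebraMap S R s = b.coeff n := by
    intro n
    have hn := congrArg (fun w => w.coeff n) hb
    simp only [WittVector.map_coeff] at hn
    have hmem : b.coeff n ∈
        (((Algebra.TensorProduct.includeLeftRingHom : R →+* TensorProduct S R R).eqLocus
          (Algebra.TensorProduct.includeRight : R →ₐ[S] TensorProduct S R R).toRingHom :
            Subring R) : Set R) := hn
    rw [heff.eqLocus_includeLeft_includeRight] at hmem
    exact hmem
  choose a ha using h1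
  refine ⟨WittVector.mk p a, ?_⟩
  ext n
  rw [WittVector.map_coeff, WittVector.coeff_mk, ha]

section Disp

variable {p : ℕ} [Fact p.Prime] {S R : Type u} [CommRing S] [CommRing R] [Algebra S R]
  [Module.FaithfullyFlat S R]
variable {P P' : Type v} [AddCommGroup P] [Module (WittVector p S) P]
  [AddCommGroup P'] [Module (WittVector p S) P']

local notation "gW" => (WittVector.map (algebraMap S R) : WittVector p S →+* WittVector p R)

theorem map_injective_of_faithfullyFlat : Function.Injective gW :=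
  WittVector.map_injective _ (FaithfulSMul.algebraMap_injective S R)

omit [Module.FaithfullyFlat S R] in
theorem tmul_mem_Q (D : W4c1extbt610.Display3n p S P)
    (DR : W4c1extbt610.Display3n p R (Dieu.BC gW P))
    (hDR : Dieu.IsDispBaseChange (algebraMap S R) D DR) {q : P} (hq : q ∈ D.Q) :
    Dieu.BC.tmul gW 1 q ∈ DR.Q := by
  rw [hDR.Q_eq, LinearMap.mem_ker, Dieu.bcQuotMap_tmul, Submodule.mkQ_apply,
    (Submodule.Quotient.mk_eq_zero _).mpr hq]
  exact Dieu.BC.tmul_zero _ _

theorem mem_Q_of_tmul_mem (D' : W4c1extbt610.Display3n p S P')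
    (DR' : W4c1extbt610.Display3n p R (Dieu.BC gW P'))
    (hDR' : Dieu.IsDispBaseChange (algebraMap S R) D' DR') {y : P'}
    (hy : Dieu.BC.tmul gW 1 y ∈ DR'.Q) : y ∈ D'.Q := by
  rw [hDR'.Q_eq, LinearMap.mem_ker, Dieu.bcQuotMap_tmul, map_one] at hy
  have hinj := tmul_one_injective_of_faithfullyFlat
    (π := (WittVector.constantCoeff : WittVector p S →+* S))
    (fun r => ⟨WittVector.teichmuller p r, WittVector.teichmuller_coeff_zero p r⟩)
    ((WittVector.constantCoeff : WittVector p R →+* R).comp gW)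
    (fun a => WittVector.map_coeff _ a 0)
    (P' ⧸ D'.Q)
    (by
      intro a ha m
      obtain ⟨y, rfl⟩ := Submodule.Quotient.mk_surjective _ m
      rw [← Submodule.Quotient.mk_smul, Submodule.Quotient.mk_eq_zero]
      apply D'.IV_smul_le
      refine Submodule.smul_mem_smul ?_ Submodule.mem_top
      have h : a = WittVector.verschiebung (a.shift 1) := by
        have h' := WittVector.eq_iterate_verschiebung (x := a) (n := 1)
          (by intro i hi; obtain rfl : i = 0 := by omega
              exact ha)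
        simpa using h'
      rw [h]
      exact W4c1extbt610.verschiebung_mem_IV p S _)
  have h3 : D'.Q.mkQ y = 0 := by
    apply hinj
    show Dieu.BC.tmul _ 1 (D'.Q.mkQ y) = Dieu.BC.tmul _ 1 0
    rw [hy, Dieu.BC.tmul_zero]
  exact (Submodule.Quotient.mk_eq_zero _).mp h3

theorem isHom_of_descent (D : W4c1extbt610.Display3n p S P) (D' : W4c1extbt610.Display3n p S P')
    (DR : W4c1extbt610.Display3n p R (Dieu.BC gW P))
    (hDR : Dieu.IsDispBaseChange (algebraMap S R) D DR)
    (DR' : W4c1extbt610.Display3n p R (Dieu.BC gW P'))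
    (hDR' : Dieu.IsDispBaseChange (algebraMap S R) D' DR')
    (χ : Dieu.BC gW P →ₗ[WittVector p R] Dieu.BC gW P') (hχ : W4c1extbt610.IsHom DR DR' χ)
    (ψ : P →ₗ[WittVector p S] P')
    (hψ : ∀ x, Dieu.BC.tmul gW 1 (ψ x) = χ (Dieu.BC.tmul gW 1 x)) :
    W4c1extbt610.IsHom D D' ψ := by
  have hfin' : Module.Finite (WittVector p S) P' := D'.finite
  have hproj' : Module.Projective (WittVector p S) P' := D'.projective
  have hinj' := tmul_one_injective gW (P := P') map_injective_of_faithfullyFlat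
  have hmaps : ∀ q : P, q ∈ D.Q → ψ q ∈ D'.Q := by
    intro q hq
    apply mem_Q_of_tmul_mem D' DR' hDR'
    rw [hψ]
    exact hχ.mapsTo _ (tmul_mem_Q D DR hDR hq)
  refine ⟨hmaps, ?_, ?_⟩
  · intro x
    apply hinj'
    show Dieu.BC.tmul gW 1 (ψ (D.F x)) = Dieu.BC.tmul gW 1 (D'.F (ψ x))
    have h1 : DR.F (Dieu.BC.tmul gW 1 x) = Dieu.BC.tmul gW 1 (D.F x) := by
      rw [hDR.F_tmul, map_one]
    have h2 : DR'.F (Dieu.BC.tmul gW 1 (ψ x)) = Dieu.BC.tmul gW 1 (D'.F (ψ x)) := by
      rw [hDR'.F_tmul, map_one]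
    rw [hψ, ← h1, hχ.comm_F, ← hψ, h2]
  · intro q
    apply hinj'
    show Dieu.BC.tmul gW 1 (ψ (D.Vinv q)) = Dieu.BC.tmul gW 1 (D'.Vinv ⟨ψ q, hmaps q q.2⟩)
    have hq1 : Dieu.BC.tmul gW 1 (q : P) ∈ DR.Q := tmul_mem_Q D DR hDR q.2
    have hq2 : Dieu.BC.tmul gW 1 (ψ q) ∈ DR'.Q := by
      rw [hψ]; exact hχ.mapsTo _ hq1
    have h1 : DR.Vinv ⟨_, hq1⟩ = Dieu.BC.tmul gW 1 (D.Vinv q) :=
      (hDR.Vinv_tmul 1 q hq1).trans (by rw [map_one])
    have h2 : DR'.Vinv ⟨_, hq2⟩ = Dieu.BC.tmul gW 1 (D'.Vinv ⟨ψ q, hmaps q q.2⟩) :=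
      (hDR'.Vinv_tmul 1 ⟨ψ q, hmaps q q.2⟩ hq2).trans (by rw [map_one])
    rw [hψ, ← h1, hχ.comm_Vinv ⟨_, hq1⟩, ← h2]
    congr 1
    exact Subtype.ext (hψ q).symm

theorem unique_of_descent (D' : W4c1extbt610.Display3n p S P')
    (χ : Dieu.BC gW P →ₗ[WittVector p R] Dieu.BC gW P')
    (ψ ψ' : P →ₗ[WittVector p S] P')
    (hψ : ∀ x, Dieu.BC.tmul gW 1 (ψ x) = χ (Dieu.BC.tmul gW 1 x))
    (hψ' : Dieu.BC.map gW ψ' = χ) : ψ' = ψ := by
  have hfin' : Module.Finite (WittVector p S) P' := D'.finite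
  have hproj' : Module.Projective (WittVector p S) P' := D'.projective
  have hinj' := tmul_one_injective gW (P := P') map_injective_of_faithfullyFlat
  apply LinearMap.ext
  intro x
  apply hinj'
  show Dieu.BC.tmul gW 1 (ψ' x) = Dieu.BC.tmul gW 1 (ψ x)
  rw [hψ, ← hψ', Dieu.BC.map_tmul]

end Disp

end Groth.Agent.Helper25.VDesc2
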