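import Mathlib

/-!
# Witt vectors over a ring in which `p` is nilpotent: units and maximal ideals

* `isUnit_one_sub_of_coeff_zero`: if `p` is nilpotent in `R` and `y : 𝕎 R` has zeroth coefficient
  `0`, then `1 - y` is a unit.
* `mem_of_isMaximal_of_coeff_zero`: every maximal ideal of `𝕎 R` contains all such `y`.
* `comap_frobenius_eq`: every maximal ideal of `𝕎 R` is fixed by the comap of the Frobenius.
-/

namespace Groth.Agent.Helper25.VSharp1

open WittVector Function

variable {p : ℕ} [hp : Fact p.Prime] {R : Type*} [CommRing R]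

local notation "𝕎" => WittVector p

theorem cc_apply (x : 𝕎 R) : (WittVector.constantCoeff x : R) = x.coeff 0 := rfl

theorem coeff_zero_natCast (n : ℕ) : ((n : 𝕎 R)).coeff 0 = (n : R) := by
  rw [← cc_apply, map_natCast]

theorem coeff_zero_pow (x : 𝕎 R) (n : ℕ) : (x ^ n).coeff 0 = x.coeff 0 ^ n := by
  rw [← cc_apply, map_pow, cc_apply]

theorem coeff_zero_sub (x y : 𝕎 R) : (x - y).coeff 0 = x.coeff 0 - y.coeff 0 := by
  rw [← cc_apply, map_sub, cc_apply, cc_apply]

theorem coeff_zero_p_pow_mul {N : ℕ} (hN : (p : R) ^ N = 0) (z : 𝕎 R) :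
    (((p : 𝕎 R)) ^ N * z).coeff 0 = 0 := by
  rw [WittVector.mul_coeff_zero, coeff_zero_pow, coeff_zero_natCast, hN, zero_mul]

theorem frobenius_iterate_p_pow (N k : ℕ) :
    (WittVector.frobenius (p := p) (R := R))^[k] ((p : 𝕎 R) ^ N) = (p : 𝕎 R) ^ N := by
  induction k with
  | zero => rfl
  | succ k ih => rw [Function.iterate_succ_apply', ih, map_pow, map_natCast]

theorem coeff_p_pow_mul_of_coeff_eq_zero {N : ℕ} (hN : (p : R) ^ N = 0) (z : 𝕎 R) (k : ℕ)
    (hz : ∀ i < k, z.coeff i = 0) : ∀ i < k + 1, ((p : 𝕎 R) ^ N * z).coeff i = 0 := by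
  intro i hi
  have h1 : z = verschiebung^[k] (z.shift k) := WittVector.eq_iterate_verschiebung hz
  have h2 : (p : 𝕎 R) ^ N * z = verschiebung^[k] (z.shift k * (p : 𝕎 R) ^ N) := by
    conv_lhs => rw [h1]
    rw [mul_comm, WittVector.iterate_verschiebung_mul_left, frobenius_iterate_p_pow]
  rw [h2]
  rcases Nat.lt_succ_iff_lt_or_eq.mp hi with h | h
  · exact WittVector.iterate_verschiebung_coeff_eq_zero _ h
  · rw [h]
    have h3 := WittVector.iterate_verschiebung_coeff (z.shift k * (p : 𝕎 R) ^ N) k 0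
    rw [zero_add] at h3
    rw [h3, mul_comm]
    exact coeff_zero_p_pow_mul hN _

theorem coeff_p_pow_mul_eq_zero {N : ℕ} (hN : (p : R) ^ N = 0) (n : ℕ) (z : 𝕎 R) :
    ∀ i < n, ((p : 𝕎 R) ^ (N * n) * z).coeff i = 0 := by
  induction n with
  | zero => intro i hi; exact absurd hi (Nat.not_lt_zero _)
  | succ n ih =>
    have h : (p : 𝕎 R) ^ (N * (n + 1)) * z = (p : 𝕎 R) ^ N * ((p : 𝕎 R) ^ (N * n) * z) := by
      rw [Nat.mul_succ, pow_add]; ring
    rw [h]
    exact coeff_p_pow_mul_of_coeff_eq_zero hN _ n ih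

theorem verschiebung_mul_p (z : 𝕎 R) :
    verschiebung (z * (p : 𝕎 R)) = verschiebung z * (p : 𝕎 R) := by
  rw [mul_comm z, ← nsmul_eq_mul, map_nsmul, nsmul_eq_mul, mul_comm]

theorem verschiebung_pow_succ (x : 𝕎 R) (j : ℕ) :
    (verschiebung x) ^ (j + 1) = verschiebung (x ^ (j + 1)) * (p : 𝕎 R) ^ j := by
  induction j with
  | zero => simp
  | succ j ih =>
    rw [pow_succ, ih]
    have h1 : verschiebung (x ^ (j + 1)) * verschiebung x =
        verschiebung (x ^ (j + 1 + 1)) * (p : 𝕎 R) := by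
      rw [← WittVector.verschiebung_mul_frobenius, WittVector.frobenius_verschiebung, ← mul_assoc,
        ← pow_succ, verschiebung_mul_p]
    calc verschiebung (x ^ (j + 1)) * (p : 𝕎 R) ^ j * verschiebung x
        = (verschiebung (x ^ (j + 1)) * verschiebung x) * (p : 𝕎 R) ^ j := by ring
      _ = verschiebung (x ^ (j + 1 + 1)) * (p : 𝕎 R) * (p : 𝕎 R) ^ j := by rw [h1]
      _ = verschiebung (x ^ (j + 1 + 1)) * (p : 𝕎 R) ^ (j + 1) := by rw [pow_succ]; ring

/-- If `p` is nilpotent in `R`, then `1 - y` is a unit of `𝕎 R` whenever `y` has zeroth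
coefficient `0`. -/
theorem isUnit_one_sub_of_coeff_zero (hpn : IsNilpotent (p : R)) (y : 𝕎 R)
    (hy : y.coeff 0 = 0) : IsUnit (1 - y) := by
  obtain ⟨N, hN⟩ := hpn
  have hyV : y = verschiebung (y.shift 1) := by
    have h := WittVector.eq_iterate_verschiebung (x := y) (n := 1)
      (by intro i hi; obtain rfl : i = 0 := by omega
          exact hy)
    simpa using h
  have hpow : ∀ n : ℕ, y ^ (N * n + 1) ∈ RingHom.ker (WittVector.truncate (p := p) (R := R) n) := by
    intro n
    rw [WittVector.mem_ker_truncate]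
    intro i hi
    rw [hyV, verschiebung_pow_succ, mul_comm]
    exact coeff_p_pow_mul_eq_zero hN n _ i hi
  have hunit : ∀ n : ℕ, IsUnit (WittVector.truncate (p := p) (R := R) n (1 - y)) := by
    intro n
    rw [map_sub, map_one]
    apply IsNilpotent.isUnit_one_sub
    refine ⟨N * n + 1, ?_⟩
    rw [← map_pow]
    exact (RingHom.mem_ker).mp (hpow n)
  obtain ⟨w, hw⟩ : ∃ w : 𝕎 R, w = 1 - y := ⟨_, rfl⟩
  rw [← hw] at hunit ⊢
  let S := Localization.Away w
  let f : ∀ k : ℕ, S →+* TruncatedWittVector p k R := fun k =>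
    IsLocalization.Away.lift w (g := WittVector.truncate (p := p) (R := R) k) (hunit k)
  have f_comp : ∀ k, (f k).comp (algebraMap (𝕎 R) S) = WittVector.truncate k := fun k =>
    IsLocalization.Away.lift_comp w (hunit k)
  have f_compat : ∀ (k₁ k₂ : ℕ) (hk : k₁ ≤ k₂),
      (TruncatedWittVector.truncate hk).comp (f k₂) = f k₁ := by
    intro k₁ k₂ hk
    apply IsLocalization.ringHom_ext (Submonoid.powers w)
    rw [RingHom.comp_assoc, f_comp, f_comp, TruncatedWittVector.truncate_comp_wittVector_truncate]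
  let G : S →+* 𝕎 R := WittVector.lift f f_compat
  have hG : G.comp (algebraMap (𝕎 R) S) = RingHom.id _ := by
    apply WittVector.hom_ext
    intro k
    rw [← RingHom.comp_assoc, WittVector.truncate_comp_lift, f_comp, RingHom.comp_id]
  have h1 : IsUnit (algebraMap (𝕎 R) S w) := IsLocalization.Away.algebraMap_isUnit w
  have h2 : IsUnit (G (algebraMap (𝕎 R) S w)) := h1.map G
  have h3 : G (algebraMap (𝕎 R) S w) = w := by
    have h := congrArg (fun φ : 𝕎 R →+* 𝕎 R => φ w) hG
    simpa using h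
  rwa [h3] at h2

/-- If `p` is nilpotent in `R`, every maximal ideal of `𝕎 R` contains the Witt vectors with
zeroth coefficient `0`. -/
theorem mem_of_isMaximal_of_coeff_zero (hpn : IsNilpotent (p : R)) (m : Ideal (𝕎 R))
    [hm : m.IsMaximal] (y : 𝕎 R) (hy : y.coeff 0 = 0) : y ∈ m := by
  by_contra hnot
  obtain ⟨c, i, hi, hci⟩ := hm.exists_inv hnot
  have hi' : i = 1 - c * y := by rw [← hci]; ring
  have hu : IsUnit i := by
    rw [hi']
    apply isUnit_one_sub_of_coeff_zero hpn
    rw [WittVector.mul_coeff_zero, hy, mul_zero]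
  exact hm.ne_top (Ideal.eq_top_of_isUnit_mem _ hi hu)

theorem frobenius_sub_pow_mem (hpn : IsNilpotent (p : R)) (q : Ideal (𝕎 R)) [hq : q.IsPrime]
    (hI : ∀ y : 𝕎 R, y.coeff 0 = 0 → y ∈ q) (w : 𝕎 R) :
    WittVector.frobenius w - w ^ p ∈ q := by
  obtain ⟨N, hN⟩ := hpn
  obtain ⟨u, hu⟩ : ∃ u : 𝕎 R, u = WittVector.frobenius w - w ^ p := ⟨_, rfl⟩
  rw [← hu]
  have hu0 : ∃ a : R, u.coeff 0 = (p : R) * a := by
    refine ⟨MvPolynomial.aeval w.coeff (WittVector.frobeniusPolyAux p 0), ?_⟩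
    rw [hu, coeff_zero_sub, coeff_zero_pow, WittVector.coeff_frobenius, WittVector.frobeniusPoly]
    simp
  obtain ⟨a, ha⟩ := hu0
  have ht : WittVector.teichmuller p (u.coeff 0) ∈ q := by
    apply hq.mem_of_pow_mem N
    rw [← map_pow, ha, mul_pow, hN, zero_mul, WittVector.teichmuller_zero]
    exact q.zero_mem
  have hd : u - WittVector.teichmuller p (u.coeff 0) ∈ q := by
    apply hI
    rw [coeff_zero_sub, WittVector.teichmuller_coeff_zero, sub_self]
  have h := q.add_mem hd ht
  simpa using h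

/-- If `p` is nilpotent in `R`, every maximal ideal of `𝕎 R` is its own preimage under the
Frobenius. -/
theorem comap_frobenius_eq (hpn : IsNilpotent (p : R)) (m : Ideal (𝕎 R)) [hm : m.IsMaximal] :
    Ideal.comap (WittVector.frobenius : 𝕎 R →+* 𝕎 R) m = m := by
  have : m.IsPrime := hm.isPrime
  ext w
  rw [Ideal.mem_comap]
  have h := frobenius_sub_pow_mem hpn m
    (fun y hy => mem_of_isMaximal_of_coeff_zero hpn m y hy) w
  have hp0 : 0 < p := hp.out.pos
  constructor
  · intro hF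
    have h' : w ^ p ∈ m := by
      have h'' := m.sub_mem hF h
      simpa using h''
    exact (hm.isPrime.pow_mem_iff_mem p hp0).mp h'
  · intro hw
    have hwp : w ^ p ∈ m := (hm.isPrime.pow_mem_iff_mem p hp0).mpr hw
    have h' := m.add_mem h hwp
    simpa using h'

end Groth.Agent.Helper25.VSharp1
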