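import Mathlib
import Groth.Prelude.Def_Dieu

/-!
# Rank of the semilinear base change `Dieu.BC g P` and a rank criterion for injectivity
-/

namespace Groth.Agent.Helper25.VSharp2

open TensorProduct

section BC

variable {A : Type*} {B : Type*} [CommRing A] [CommRing B] (g : A →+* B)
variable (P : Type*) [AddCommGroup P] [Module A P]

/-- The identity `Res g → B` as an `A`-linear equivalence, for an algebra structure inducing `g`. -/
noncomputable def resEquiv [Algebra A B] (hg : ∀ a, algebraMap A B a = g a) :
    Dieu.Res g ≃ₗ[A] B where
  toFun t := t.val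
  invFun b := Dieu.Res.mk g b
  map_add' _ _ := rfl
  map_smul' a t := by
    show g a * t.val = a • t.val
    rw [Algebra.smul_def, hg]
  left_inv _ := rfl
  right_inv _ := rfl

noncomputable def bcEquivA [Algebra A B] (hg : ∀ a, algebraMap A B a = g a) :
    (Dieu.Res g ⊗[A] P) ≃ₗ[A] (B ⊗[A] P) :=
  TensorProduct.congr (resEquiv g hg) (LinearEquiv.refl A P)

theorem bcEquivA_smul [Algebra A B] (hg : ∀ a, algebraMap A B a = g a) (c : B)
    (z : Dieu.Res g ⊗[A] P) :
    bcEquivA g P hg (((Dieu.Res.mulLeft g c).rTensor P) z) = c • bcEquivA g P hg z := by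
  induction z using TensorProduct.induction_on with
  | zero => simp
  | tmul t x =>
    rw [LinearMap.rTensor_tmul, bcEquivA, TensorProduct.congr_tmul, TensorProduct.congr_tmul,
      TensorProduct.smul_tmul']
    rfl
  | add x y hx hy => rw [map_add, map_add, hx, hy, map_add, smul_add]

/-- `Dieu.BC g P` is the usual base change for an algebra structure inducing `g`. -/
noncomputable def bcEquiv [Algebra A B] (hg : ∀ a, algebraMap A B a = g a) :
    Dieu.BC g P ≃ₗ[B] (B ⊗[A] P) where
  toFun z := bcEquivA g P hg z
  invFun z := (bcEquivA g P hg).symm z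
  map_add' x y := map_add (bcEquivA g P hg) x y
  map_smul' c z := bcEquivA_smul g P hg c z
  left_inv z := (bcEquivA g P hg).symm_apply_apply z
  right_inv z := (bcEquivA g P hg).apply_symm_apply z

theorem finite_BC [Module.Finite A P] : Module.Finite B (Dieu.BC g P) := by
  let : Algebra A B := g.toAlgebra
  exact Module.Finite.equiv (bcEquiv g P (fun _ => rfl)).symm

theorem projective_BC [Module.Projective A P] : Module.Projective B (Dieu.BC g P) := by
  let : Algebra A B := g.toAlgebra
  exact Module.Projective.of_equiv (bcEquiv g P (fun _ => rfl)).symm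

theorem rankAtStalk_BC [Module.Finite A P] [Module.Flat A P] (q : PrimeSpectrum B) :
    Module.rankAtStalk (Dieu.BC g P) q = Module.rankAtStalk P (PrimeSpectrum.comap g q) := by
  let : Algebra A B := g.toAlgebra
  rw [congrFun (Module.rankAtStalk_eq_of_equiv (bcEquiv g P (fun _ => rfl))) q]
  exact Module.rankAtStalk_baseChange q

end BC

section Rank

variable {R : Type*} [CommRing R] {M N : Type*} [AddCommGroup M] [Module R M]
  [AddCommGroup N] [Module R N]
  [Module.Finite R M] [Module.Projective R M] [Module.Finite R N] [Module.Projective R N]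

/-- A surjective linear map between finite projective modules with the same rank function is
injective. -/
theorem injective_of_surjective_of_rankAtStalk_eq (f : M →ₗ[R] N) (hf : Function.Surjective f)
    (hr : ∀ q : PrimeSpectrum R, Module.rankAtStalk M q = Module.rankAtStalk N q) :
    Function.Injective f := by
  obtain ⟨s, hs⟩ := Module.projective_lifting_property f LinearMap.id hf
  have hfs : ∀ n, f (s n) = n := fun n => by
    have h := LinearMap.congr_fun hs n
    simpa using h
  let K := LinearMap.ker f
  let π : M →ₗ[R] K := LinearMap.codRestrict K (LinearMap.id - s ∘ₗ f) (by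
    intro x
    rw [LinearMap.mem_ker]
    simp [hfs])
  have hπ : ∀ k : K, π k = k := by
    intro k
    apply Subtype.ext
    have hk : f (k : M) = 0 := k.2
    simp [π, hk]
  have : Module.Finite R K := Module.Finite.of_surjective π (fun k => ⟨k, hπ k⟩)
  have : Module.Projective R K := Module.Projective.of_split K.subtype π (by
    ext k
    simp [hπ])
  let e : M ≃ₗ[R] N × K := LinearEquiv.ofLinearMap (f.prod π) (s.coprod K.subtype)
    (by
      apply LinearMap.ext
      rintro ⟨n, k⟩
      have hk : f (k : M) = 0 := k.2
      apply Prod.ext
      · simp [hfs, hk]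
      · apply Subtype.ext
        simp [π, hfs, hk])
    (by
      apply LinearMap.ext
      intro x
      simp [π])
  have h1 : Module.rankAtStalk (R := R) M = Module.rankAtStalk N + Module.rankAtStalk K := by
    rw [Module.rankAtStalk_eq_of_equiv e, Module.rankAtStalk_prod]
  have h2 : Module.rankAtStalk (R := R) K = 0 := by
    ext q
    have h := congrFun h1 q
    rw [Pi.add_apply, hr q] at h
    simpa using h
  have h3 : Subsingleton K := Module.rankAtStalk_eq_zero_iff_subsingleton.mp h2
  rw [← LinearMap.ker_eq_bot]
  exact Submodule.eq_bot_of_subsingleton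

end Rank

end Groth.Agent.Helper25.VSharp2
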