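import Mathlib
import Groth.Prelude.Def_Disp2
import Groth.Agent.Lib.Helper25.VSharp1
import Groth.Agent.Lib.Helper25.VSharp2

/-!
# The operator `V^#` of a 3n-display over a ring in which `p` is nilpotent
-/

set_option autoImplicit false

universe u v

namespace Groth.Agent.Helper25.VSharp3

open WittVector Groth.Agent.Helper25.VSharp1 Groth.Agent.Helper25.VSharp2

variable {p : ℕ} [hp : Fact p.Prime] {R : Type u} [CommRing R]
variable {P : Type v} [AddCommGroup P] [Module (WittVector p R) P]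

local notation "σ" => (WittVector.frobenius : WittVector p R →+* WittVector p R)

theorem exists_eq_verschiebung_of_mem_IV {r : WittVector p R}
    (hr : r ∈ W4c1extbt610.IV p R) : ∃ b : WittVector p R, r = WittVector.verschiebung b := by
  unfold W4c1extbt610.IV at hr
  induction hr using Submodule.span_induction with
  | mem x hx => obtain ⟨b, rfl⟩ := hx; exact ⟨b, rfl⟩
  | zero => exact ⟨0, (map_zero _).symm⟩
  | add x y _ _ hx hy =>
    obtain ⟨b, rfl⟩ := hx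
    obtain ⟨c, rfl⟩ := hy
    exact ⟨b + c, (map_add _ _ _).symm⟩
  | smul c x _ hx =>
    obtain ⟨b, rfl⟩ := hx
    exact ⟨b * WittVector.frobenius c, by
      rw [WittVector.verschiebung_mul_frobenius, smul_eq_mul, mul_comm]⟩

theorem rankAtStalk_comap_frobenius (hpn : IsNilpotent (p : R))
    [Module.Finite (WittVector p R) P] [Module.Flat (WittVector p R) P]
    (q : PrimeSpectrum (WittVector p R)) :
    Module.rankAtStalk P (PrimeSpectrum.comap σ q) = Module.rankAtStalk P q := by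
  obtain ⟨m, hm, hqm⟩ := Ideal.exists_le_maximal q.asIdeal q.isPrime.ne_top
  let M : PrimeSpectrum (WittVector p R) := ⟨m, hm.isPrime⟩
  have h1 : q ≤ M := hqm
  have h2 : PrimeSpectrum.comap σ q ≤ M := by
    show Ideal.comap σ q.asIdeal ≤ m
    calc Ideal.comap σ q.asIdeal ≤ Ideal.comap σ m := Ideal.comap_mono hqm
      _ = m := comap_frobenius_eq hpn m
  rw [Module.rankAtStalk_eq_of_le_of_finite_of_flat P h1,
    Module.rankAtStalk_eq_of_le_of_finite_of_flat P h2]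

theorem vSharp_unique (D : W4c1extbt610.Display3n p R P)
    (Vs Vs' : P →ₗ[WittVector p R] Dieu.BC σ P)
    (h : Dieu.IsVSharp D Vs) (h' : Dieu.IsVSharp D Vs') : Vs = Vs' := by
  apply LinearMap.ext_on D.span_range_Vinv
  rintro _ ⟨y, rfl⟩
  have h1 := h.app_smul_Vinv 1 y
  have h2 := h'.app_smul_Vinv 1 y
  rw [one_smul] at h1 h2
  rw [h1, h2]

theorem exists_vSharp (hpn : IsNilpotent (p : R)) (D : W4c1extbt610.Display3n p R P) :
    ∃ Vs : P →ₗ[WittVector p R] Dieu.BC σ P, Dieu.IsVSharp D Vs := by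
  obtain ⟨L, T, hLT, hQ⟩ := D.exists_normal
  have hfin : Module.Finite (WittVector p R) P := D.finite
  have hproj : Module.Projective (WittVector p R) P := D.projective
  have hflat : Module.Flat (WittVector p R) P := Module.Flat.of_projective
  have hLQ : L ≤ D.Q := by rw [hQ]; exact le_sup_left
  have hTQ : W4c1extbt610.IV p R • T ≤ D.Q := by rw [hQ]; exact le_sup_right
  obtain ⟨πL, hπL⟩ : ∃ f : P →ₗ[WittVector p R] L, f = Submodule.projectionOnto L T hLT := ⟨_, rfl⟩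
  obtain ⟨πT, hπT⟩ : ∃ f : P →ₗ[WittVector p R] T, f = Submodule.projectionOnto T L hLT.symm :=
    ⟨_, rfl⟩
  have hπLL : ∀ l (hl : l ∈ L), πL l = ⟨l, hl⟩ := fun l hl => by
    rw [hπL]; exact Submodule.projectionOnto_apply_of_mem_left hLT hl
  have hπLT : ∀ t (_ : t ∈ T), πL t = 0 := fun t ht => by
    rw [hπL]; exact Submodule.projectionOnto_apply_of_mem_right hLT ht
  have hπTT : ∀ t (ht : t ∈ T), πT t = ⟨t, ht⟩ := fun t ht => by
    rw [hπT]; exact Submodule.projectionOnto_apply_of_mem_left hLT.symm ht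
  have hπTL : ∀ l (_ : l ∈ L), πT l = 0 := fun l hl => by
    rw [hπT]; exact Submodule.projectionOnto_apply_of_mem_right hLT.symm hl
  -- the semilinear map `Φ = V⁻¹|L ⊕ F|T`
  let Φ : P →ₛₗ[σ] P :=
    (D.Vinv.comp ((Submodule.inclusion hLQ).comp πL)) + (D.F.comp (T.subtype.comp πT))
  have hΦ : ∀ x, Φ x = D.Vinv (Submodule.inclusion hLQ (πL x)) + D.F ((πT x : T) : P) :=
    fun x => rfl
  have hΦL : ∀ l (hl : l ∈ L), Φ l = D.Vinv ⟨l, hLQ hl⟩ := by
    intro l hl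
    have h3 : Submodule.inclusion hLQ (⟨l, hl⟩ : L) = ⟨l, hLQ hl⟩ := rfl
    rw [hΦ, hπLL l hl, hπTL l hl, h3, Submodule.coe_zero, map_zero, add_zero]
  have hΦT : ∀ t (_ : t ∈ T), Φ t = D.F t := by
    intro t ht
    rw [hΦ, hπLT t ht, hπTT t ht, map_zero, map_zero, zero_add]
  let θ : P →ₗ[WittVector p R] P :=
    L.subtype.comp πL + (p : WittVector p R) • (T.subtype.comp πT)
  have hθ : ∀ x, θ x = ((πL x : L) : P) + (p : WittVector p R) • ((πT x : T) : P) :=
    fun x => rfl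
  have hθL : ∀ l (_ : l ∈ L), θ l = l := by
    intro l hl
    rw [hθ, hπLL l hl, hπTL l hl, Submodule.coe_zero, smul_zero, add_zero]
  have hθT : ∀ t (_ : t ∈ T), θ t = (p : WittVector p R) • t := by
    intro t ht
    rw [hθ, hπLT t ht, hπTT t ht, Submodule.coe_zero, zero_add]
  let Ψ : Dieu.BC σ P →ₗ[WittVector p R] P := Dieu.BC.lift σ Φ
  let Θ : Dieu.BC σ P →ₗ[WittVector p R] Dieu.BC σ P := Dieu.BC.map σ θ
  have hΨ : ∀ b x, Ψ (Dieu.BC.tmul σ b x) = b • Φ x := fun b x => Dieu.BC.lift_tmul σ Φ b x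
  have hΘ : ∀ b x, Θ (Dieu.BC.tmul σ b x) = Dieu.BC.tmul σ b (θ x) :=
    fun b x => Dieu.BC.map_tmul σ θ b x
  have key' : ∀ y, y ∈ D.Q → ∃ (hy : y ∈ D.Q) (m : Dieu.BC σ P),
      Ψ m = D.Vinv ⟨y, hy⟩ ∧ Θ m = Dieu.BC.tmul σ 1 y := by
    intro y hy
    rw [hQ] at hy
    obtain ⟨l, hl, s, hs, rfl⟩ := Submodule.mem_sup.mp hy
    have hPl : ∃ (h : l ∈ D.Q) (m : Dieu.BC σ P),
        Ψ m = D.Vinv ⟨l, h⟩ ∧ Θ m = Dieu.BC.tmul σ 1 l := by
      refine ⟨hLQ hl, Dieu.BC.tmul σ 1 l, ?_, ?_⟩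
      · rw [hΨ, one_smul, hΦL l hl]
      · rw [hΘ, hθL l hl]
    have hPs : ∃ (h : s ∈ D.Q) (m : Dieu.BC σ P),
        Ψ m = D.Vinv ⟨s, h⟩ ∧ Θ m = Dieu.BC.tmul σ 1 s := by
      refine Submodule.smul_induction_on hs ?_ ?_
      · intro r hr t ht
        obtain ⟨b, rfl⟩ := exists_eq_verschiebung_of_mem_IV hr
        have hmem : WittVector.verschiebung b • t ∈ D.Q :=
          hTQ (Submodule.smul_mem_smul hr ht)
        refine ⟨hmem, Dieu.BC.tmul σ b t, ?_, ?_⟩
        · rw [hΨ, hΦT t ht]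
          exact (D.Vinv_verschiebung_smul b t).symm
        · rw [hΘ, hθT t ht, ← Dieu.BC.tmul_mul_apply, ← Dieu.BC.tmul_mul_apply, map_natCast,
            WittVector.frobenius_verschiebung, one_mul]
      · rintro x y ⟨hx, mx, hx1, hx2⟩ ⟨hy', my, hy1, hy2⟩
        refine ⟨D.Q.add_mem hx hy', mx + my, ?_, ?_⟩
        · rw [map_add, hx1, hy1]
          exact (map_add D.Vinv ⟨x, hx⟩ ⟨y, hy'⟩).symm
        · rw [map_add, hx2, hy2, Dieu.BC.tmul_add]
    obtain ⟨h1, m1, e1, e1'⟩ := hPl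
    obtain ⟨h2, m2, e2, e2'⟩ := hPs
    refine ⟨D.Q.add_mem h1 h2, m1 + m2, ?_, ?_⟩
    · rw [map_add, e1, e2]
      exact (map_add D.Vinv ⟨l, h1⟩ ⟨s, h2⟩).symm
    · rw [map_add, e1', e2', Dieu.BC.tmul_add]
  have key : ∀ y (hy : y ∈ D.Q), ∃ m : Dieu.BC σ P,
      Ψ m = D.Vinv ⟨y, hy⟩ ∧ Θ m = Dieu.BC.tmul σ 1 y := by
    intro y hy
    obtain ⟨_, m, h1, h2⟩ := key' y hy
    exact ⟨m, h1, h2⟩
  have hsurj : Function.Surjective Ψ := by
    rw [← LinearMap.range_eq_top, eq_top_iff, ← D.span_range_Vinv, Submodule.span_le]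
    rintro _ ⟨⟨y, hy⟩, rfl⟩
    obtain ⟨m, hm, _⟩ := key y hy
    exact ⟨m, hm⟩
  have hfin' : Module.Finite (WittVector p R) (Dieu.BC σ P) := finite_BC σ P
  have hproj' : Module.Projective (WittVector p R) (Dieu.BC σ P) := projective_BC σ P
  have hrk : ∀ q : PrimeSpectrum (WittVector p R),
      Module.rankAtStalk (Dieu.BC σ P) q = Module.rankAtStalk P q := by
    intro q
    rw [@rankAtStalk_BC _ _ _ _ σ P _ _ hfin hflat q,
      @rankAtStalk_comap_frobenius p hp R _ P _ _ hpn hfin hflat q]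
  have hinj : Function.Injective Ψ :=
    @injective_of_surjective_of_rankAtStalk_eq _ _ _ _ _ _ _ _ hfin' hproj' hfin hproj Ψ hsurj hrk
  let Ψe : Dieu.BC σ P ≃ₗ[WittVector p R] P := LinearEquiv.ofBijective Ψ ⟨hinj, hsurj⟩
  let Vs : P →ₗ[WittVector p R] Dieu.BC σ P := Θ.comp Ψe.symm.toLinearMap
  have hVs : ∀ (y : D.Q), Vs (D.Vinv y) = Dieu.BC.tmul σ 1 (y : P) := by
    rintro ⟨y, hy⟩
    obtain ⟨m, hm1, hm2⟩ := key y hy
    show Θ (Ψe.symm (D.Vinv ⟨y, hy⟩)) = _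
    have h : Ψe.symm (D.Vinv ⟨y, hy⟩) = m := by
      rw [LinearEquiv.symm_apply_eq]
      exact hm1.symm
    rw [h, hm2]
  refine ⟨Vs, ⟨?_, ?_⟩⟩
  · intro w x
    have hF : D.F x = D.Vinv ⟨WittVector.verschiebung (1 : WittVector p R) • x,
        D.IV_smul_le (Submodule.smul_mem_smul (W4c1extbt610.verschiebung_mem_IV p R 1)
          Submodule.mem_top)⟩ := by
      rw [D.Vinv_verschiebung_smul, one_smul]
    rw [map_smul, hF, hVs]
    show w • Dieu.BC.tmul σ 1 (WittVector.verschiebung (1 : WittVector p R) • x) = _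
    rw [← Dieu.BC.tmul_mul_apply, WittVector.frobenius_verschiebung, one_mul, one_mul,
      Dieu.BC.smul_tmul, Dieu.BC.smul_tmul, mul_comm]
  · intro w y
    rw [map_smul, hVs, Dieu.BC.smul_tmul, mul_one]

end Groth.Agent.Helper25.VSharp3
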