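import Mathlib

/-!
# Algebraic independence of elements with "infinitely different" valuations
-/

namespace Groth.Agent.Helper25.ValDimA

section OrdGroup

variable {G : Type*} [CommGroup G] [LinearOrder G] [IsOrderedMonoid G]

/-- elements infinitely closer to `1` than `g0` -/
def closeSub (g0 : G) (h0 : g0 < 1) : Subgroup G where
  carrier := {γ | ∀ m : ℤ, g0 < γ ^ m}
  mul_mem' := by
    intro a b ha hb m
    rw [mul_zpow]
    rcases le_total (a ^ m) (b ^ m) with h | h
    · calc g0 < a ^ (m + m) := ha _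
        _ = a ^ m * a ^ m := zpow_add a m m
        _ ≤ a ^ m * b ^ m := mul_le_mul' le_rfl h
    · calc g0 < b ^ (m + m) := hb _
        _ = b ^ m * b ^ m := zpow_add b m m
        _ ≤ a ^ m * b ^ m := mul_le_mul' h le_rfl
  one_mem' := by
    intro m
    rw [one_zpow]
    exact h0
  inv_mem' := by
    intro a ha m
    rw [inv_zpow']
    exact ha (-m)

theorem mem_closeSub_of (g0 g : G) (h0 : g0 < 1) (hg : g ≤ 1) (h : ∀ m : ℕ, g0 < g ^ m) :
    g ∈ closeSub g0 h0 := by
  intro m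
  obtain ⟨k, rfl | rfl⟩ := Int.eq_nat_or_neg m
  · rw [zpow_natCast]
    exact h k
  · rw [zpow_neg, zpow_natCast]
    calc g0 < 1 := h0
      _ ≤ (g ^ k)⁻¹ := one_le_inv'.mpr (pow_le_one' hg k)

theorem pow_self_not_mem (g0 : G) (h0 : g0 < 1) (e : ℤ) (he : e ≠ 0) :
    g0 ^ e ∉ closeSub g0 h0 := by
  intro hmem
  obtain ⟨k, hk | hk⟩ := Int.eq_nat_or_neg e
  · have hk0 : k ≠ 0 := by
      rintro rfl
      exact he (by simpa using hk)
    obtain ⟨k', rfl⟩ := Nat.exists_eq_succ_of_ne_zero hk0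
    have h1 := hmem 1
    rw [zpow_one, hk, zpow_natCast, pow_succ] at h1
    have h2 : g0 ^ k' * g0 ≤ 1 * g0 := mul_le_mul' (pow_le_one' h0.le k') le_rfl
    rw [one_mul] at h2
    exact absurd h1 (not_lt.mpr h2)
  · have hk0 : k ≠ 0 := by
      rintro rfl
      exact he (by simpa using hk)
    obtain ⟨k', rfl⟩ := Nat.exists_eq_succ_of_ne_zero hk0
    have h1 := hmem (-1)
    rw [hk, ← zpow_mul, neg_mul_neg, mul_one, zpow_natCast, pow_succ] at h1
    have h2 : g0 ^ k' * g0 ≤ 1 * g0 := mul_le_mul' (pow_le_one' h0.le k') le_rfl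
    rw [one_mul] at h2
    exact absurd h1 (not_lt.mpr h2)

theorem prod_zpow_eq_one (g : ℕ → G) (J : Finset ℕ) :
    (∀ j ∈ J, g j < 1) → (∀ i ∈ J, ∀ j ∈ J, i < j → ∀ m : ℕ, g i < g j ^ m) →
    ∀ a : ℕ → ℤ, ∏ j ∈ J, g j ^ a j = 1 → ∀ j ∈ J, a j = 0 := by
  refine Finset.induction_on_min J ?_ ?_
  · intro _ _ a _ j hj
    simp at hj
  · intro i s hi ih hlt hll a hprod
    have his : i ∉ s := fun h => lt_irrefl i (hi i h)
    rw [Finset.prod_insert his] at hprod
    have h0 : g i < 1 := hlt i (Finset.mem_insert_self i s)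
    have hQ : ∏ j ∈ s, g j ^ a j ∈ closeSub (g i) h0 := by
      apply Subgroup.prod_mem
      intro j hj
      apply Subgroup.zpow_mem
      apply mem_closeSub_of
      · exact (hlt j (Finset.mem_insert_of_mem hj)).le
      · exact hll i (Finset.mem_insert_self i s) j (Finset.mem_insert_of_mem hj) (hi j hj)
    have hgi : g i ^ a i ∈ closeSub (g i) h0 := by
      have : g i ^ a i = (∏ j ∈ s, g j ^ a j)⁻¹ := eq_inv_of_mul_eq_one_left hprod
      rw [this]
      exact Subgroup.inv_mem _ hQ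
    have hai : a i = 0 := by
      by_contra hne
      exact pow_self_not_mem (g i) h0 (a i) hne hgi
    rw [hai, zpow_zero, one_mul] at hprod
    have ih' := ih (fun j hj => hlt j (Finset.mem_insert_of_mem hj))
      (fun i' hi' j hj => hll i' (Finset.mem_insert_of_mem hi') j (Finset.mem_insert_of_mem hj))
      a hprod
    intro j hj
    rcases Finset.mem_insert.mp hj with rfl | hj
    · exact hai
    · exact ih' j hj

end OrdGroup

section GroupWithZero

variable {Γ₀ : Type*} [LinearOrderedCommGroupWithZero Γ₀]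

theorem prod_zpow_inj (γ : ℕ → Γ₀) (J : Finset ℕ)
    (h1 : ∀ j ∈ J, γ j ≠ 0 ∧ γ j < 1)
    (hll : ∀ i ∈ J, ∀ j ∈ J, i < j → ∀ m : ℕ, γ i < γ j ^ m)
    (a b : ℕ → ℤ) (hab : ∏ j ∈ J, γ j ^ a j = ∏ j ∈ J, γ j ^ b j) : ∀ j ∈ J, a j = b j := by
  classical
  let g : ℕ → Γ₀ˣ := fun j => if h : γ j = 0 then 1 else Units.mk0 (γ j) h
  have hg : ∀ j ∈ J, (g j : Γ₀) = γ j := by
    intro j hj
    simp only [g, dif_neg (h1 j hj).1, Units.val_mk0]
  have key := prod_zpow_eq_one g J ?_ ?_ (fun j => a j - b j) ?_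
  · intro j hj
    have h := key j hj
    change a j - b j = 0 at h
    omega
  · intro j hj
    rw [← Units.val_lt_val, hg j hj, Units.val_one]
    exact (h1 j hj).2
  · intro i hi j hj hij m
    rw [← Units.val_lt_val, Units.val_pow_eq_pow_val, hg i hi, hg j hj]
    exact hll i hi j hj hij m
  · apply Units.ext
    rw [Units.coe_prod, Units.val_one]
    have : ∀ j ∈ J, ((g j ^ (a j - b j) : Γ₀ˣ) : Γ₀) = γ j ^ a j / γ j ^ b j := by
      intro j hj
      rw [Units.val_zpow_eq_zpow_val, hg j hj, zpow_sub₀ (h1 j hj).1]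
    rw [Finset.prod_congr rfl this, Finset.prod_div_distrib, hab, div_self]
    rw [Finset.prod_ne_zero_iff]
    intro j hj
    exact zpow_ne_zero _ (h1 j hj).1

end GroupWithZero

section Val

universe u

variable {L : Type u} [Field L] (A : ValuationSubring L)

theorem val_natCast_le_one (n : ℕ) : A.valuation (n : L) ≤ 1 :=
  (A.valuation_le_one_iff _).mpr (natCast_mem A n)

theorem val_intCast_le_one (n : ℤ) : A.valuation (n : L) ≤ 1 :=
  (A.valuation_le_one_iff _).mpr (intCast_mem A n)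

theorem val_prime_eq_one {ℓ q : ℕ} (hℓ : ℓ.Prime) (hq : q.Prime) (hne : q ≠ ℓ)
    (hv : A.valuation (ℓ : L) < 1) : A.valuation (q : L) = 1 := by
  refine le_antisymm (val_natCast_le_one A q) (not_lt.mp fun hlt => ?_)
  have hco : IsCoprime (q : ℤ) (ℓ : ℤ) :=
    Nat.isCoprime_iff_coprime.mpr ((Nat.coprime_primes hq hℓ).mpr hne)
  obtain ⟨s, t, hst⟩ := hco
  have h1 : (s : L) * (q : L) + (t : L) * (ℓ : L) = 1 := by
    have := congrArg (Int.cast : ℤ → L) hst
    push_cast at this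
    exact this
  have h2 : A.valuation ((s : L) * (q : L) + (t : L) * (ℓ : L)) < 1 := by
    apply Valuation.map_add_lt
    · rw [map_mul]
      calc A.valuation (s : L) * A.valuation (q : L) ≤ 1 * A.valuation (q : L) :=
            mul_le_mul' (val_intCast_le_one A s) le_rfl
        _ < 1 := by rw [one_mul]; exact hlt
    · rw [map_mul]
      calc A.valuation (t : L) * A.valuation (ℓ : L) ≤ 1 * A.valuation (ℓ : L) :=
            mul_le_mul' (val_intCast_le_one A t) le_rfl
        _ < 1 := by rw [one_mul]; exact hv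
  rw [h1, map_one] at h2
  exact lt_irrefl _ h2

theorem val_nat (γ0 : A.ValueGroup)
    (hq : ∀ q : ℕ, q.Prime → (q : L) ≠ 0 →
      A.valuation (q : L) = 1 ∨ A.valuation (q : L) = γ0) (n : ℕ) :
    (n : L) ≠ 0 → ∃ e : ℕ, A.valuation (n : L) = γ0 ^ e := by
  refine Nat.recOnMul
    (motive := fun n => (n : L) ≠ 0 → ∃ e : ℕ, A.valuation (n : L) = γ0 ^ e) ?_ ?_ ?_ ?_ n
  · intro h
    exact absurd Nat.cast_zero h
  · intro _
    exact ⟨0, by rw [Nat.cast_one, map_one, pow_zero]⟩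
  · intro p hp h
    rcases hq p hp h with h1 | h1
    · exact ⟨0, by rw [h1, pow_zero]⟩
    · exact ⟨1, by rw [h1, pow_one]⟩
  · intro a b ha hb h
    rw [Nat.cast_mul] at h
    obtain ⟨e1, h1⟩ := ha (left_ne_zero_of_mul h)
    obtain ⟨e2, h2⟩ := hb (right_ne_zero_of_mul h)
    exact ⟨e1 + e2, by rw [Nat.cast_mul, map_mul, h1, h2, pow_add]⟩

theorem val_int (γ0 : A.ValueGroup)
    (hq : ∀ q : ℕ, q.Prime → (q : L) ≠ 0 →
      A.valuation (q : L) = 1 ∨ A.valuation (q : L) = γ0) (a : ℤ) (ha : (a : L) ≠ 0) :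
    ∃ e : ℕ, A.valuation (a : L) = γ0 ^ e := by
  rcases Int.natAbs_eq a with h | h
  · have h' : (a : L) = (a.natAbs : L) := by
      rw [← Int.cast_natCast, ← h]
    rw [h'] at ha ⊢
    exact val_nat A γ0 hq _ ha
  · have h' : (a : L) = -((a.natAbs : ℕ) : L) := by
      rw [← Int.cast_natCast, ← Int.cast_neg, ← h]
    rw [h', Valuation.map_neg]
    rw [h', neg_ne_zero] at ha
    exact val_nat A γ0 hq _ ha

theorem val_bot (γ0 : A.ValueGroup) (h0 : γ0 ≠ 0)
    (hq : ∀ q : ℕ, q.Prime → (q : L) ≠ 0 →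
      A.valuation (q : L) = 1 ∨ A.valuation (q : L) = γ0)
    (c : L) (hc : c ∈ (⊥ : Subfield L)) (hc0 : c ≠ 0) :
    ∃ e : ℤ, A.valuation c = γ0 ^ e := by
  rw [← Subfield.closure_empty, Subfield.mem_closure_iff] at hc
  obtain ⟨y, hy, z, hz, rfl⟩ := hc
  rw [Subring.closure_empty, Subring.mem_bot] at hy hz
  obtain ⟨a, rfl⟩ := hy
  obtain ⟨b, rfl⟩ := hz
  rw [div_ne_zero_iff] at hc0
  obtain ⟨e1, h1⟩ := val_int A γ0 hq a hc0.1
  obtain ⟨e2, h2⟩ := val_int A γ0 hq b hc0.2
  refine ⟨(e1 : ℤ) - e2, ?_⟩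
  rw [map_div₀, h1, h2, zpow_sub₀ h0, zpow_natCast, zpow_natCast]

theorem algIndep (J : Finset ℕ) (w : ℕ → L) (j0 : ℕ) (hj0 : j0 ∈ J)
    (hw : ∀ j ∈ J, w j ≠ 0 ∧ A.valuation (w j) < 1)
    (hll : ∀ i ∈ J, ∀ j ∈ J, i < j → ∀ m : ℕ, A.valuation (w i) < A.valuation (w j) ^ m)
    (hF : ∀ c ∈ (⊥ : Subfield L), c ≠ 0 → ∃ e : ℤ, A.valuation c = A.valuation (w j0) ^ e) :
    AlgebraicIndependent (⊥ : Subfield L) (fun j : {j // j ∈ J.erase j0} => w j) := by
  classical
  rw [algebraicIndependent_iff]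
  intro p hp
  by_contra hp0
  have hcoef : ∀ d : {j // j ∈ J.erase j0} →₀ ℕ, ∃ e : ℤ, d ∈ p.support →
      A.valuation ((MvPolynomial.coeff d p : (⊥ : Subfield L)) : L) =
        A.valuation (w j0) ^ e := by
    intro d
    by_cases hd : d ∈ p.support
    · obtain ⟨e, he⟩ := hF _ (MvPolynomial.coeff d p).2 (by
        intro h0
        exact (MvPolynomial.mem_support_iff.mp hd) (Subtype.ext h0))
      exact ⟨e, fun _ => he⟩
    · exact ⟨0, fun h => absurd h hd⟩
  choose e he using hcoef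
  let γ : ℕ → A.ValueGroup := fun j => A.valuation (w j)
  let E : ({j // j ∈ J.erase j0} →₀ ℕ) → ℕ → ℤ := fun d j =>
    if j = j0 then e d else if h : j ∈ J.erase j0 then (d ⟨j, h⟩ : ℤ) else 0
  let t : ({j // j ∈ J.erase j0} →₀ ℕ) → L := fun d =>
    ((MvPolynomial.coeff d p : (⊥ : Subfield L)) : L) *
      ∏ i : {j // j ∈ J.erase j0}, w i ^ d i
  have hsum : MvPolynomial.aeval (fun j : {j // j ∈ J.erase j0} => w j) p =
      ∑ d ∈ p.support, t d := by
    rw [MvPolynomial.aeval_def, MvPolynomial.eval₂_eq']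
    rfl
  have hval : ∀ d ∈ p.support, A.valuation (t d) = ∏ j ∈ J, γ j ^ E d j := by
    intro d hd
    change A.valuation (((MvPolynomial.coeff d p : (⊥ : Subfield L)) : L) *
      ∏ i : {j // j ∈ J.erase j0}, w i ^ d i) = _
    rw [map_mul, map_prod, ← Finset.mul_prod_erase J _ hj0]
    congr 1
    · have : E d j0 = e d := by simp only [E, if_pos rfl]
      rw [this]
      exact he d hd
    · rw [← Finset.prod_coe_sort (J.erase j0)]
      apply Finset.prod_congr rfl
      intro i _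
      have hi : (i : ℕ) ≠ j0 := (Finset.mem_erase.mp i.2).1
      have : E d i = (d i : ℤ) := by
        simp only [E, if_neg hi, dif_pos i.2]
      rw [this, zpow_natCast, map_pow]
  have hinj : ∀ d ∈ p.support, ∀ d' ∈ p.support,
      A.valuation (t d) = A.valuation (t d') → d = d' := by
    intro d hd d' hd' h
    rw [hval d hd, hval d' hd'] at h
    have key := prod_zpow_inj γ J
      (fun j hj => ⟨(Valuation.ne_zero_iff _).mpr (hw j hj).1, (hw j hj).2⟩) hll (E d) (E d') h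
    ext i
    have hi := key i (Finset.mem_of_mem_erase i.2)
    have hine : (i : ℕ) ≠ j0 := (Finset.mem_erase.mp i.2).1
    simp only [E, if_neg hine, dif_pos i.2] at hi
    exact_mod_cast hi
  have hne : p.support.Nonempty := by
    rw [Finset.nonempty_iff_ne_empty, Ne, MvPolynomial.support_eq_empty]
    exact hp0
  obtain ⟨d0, hd0, hmax⟩ := Finset.exists_max_image p.support (fun d => A.valuation (t d)) hne
  have hv : A.valuation (∑ d ∈ p.support, t d) = A.valuation (t d0) := by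
    apply Valuation.map_sum_eq_of_lt _ hd0
    intro d hd
    rw [Finset.mem_sdiff, Finset.mem_singleton] at hd
    exact lt_of_le_of_ne (hmax d hd.1) (fun h => hd.2 (hinj d hd.1 d0 hd0 h))
  have ht0 : t d0 ≠ 0 := by
    apply mul_ne_zero
    · intro h0
      exact (MvPolynomial.mem_support_iff.mp hd0) (Subtype.ext h0)
    · rw [Finset.prod_ne_zero_iff]
      intro i _
      exact pow_ne_zero _ (hw i (Finset.mem_of_mem_erase i.2)).1
  rw [hsum] at hp
  rw [hp, map_zero] at hv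
  exact ht0 ((Valuation.zero_iff _).mp hv.symm)

theorem card_erase_cast (J : Finset ℕ) (j0 : ℕ) (hj0 : j0 ∈ J) :
    Cardinal.mk {j // j ∈ J.erase j0} = ((J.card - 1 : ℕ) : Cardinal) := by
  rw [Cardinal.mk_fintype, Fintype.card_coe, Finset.card_erase_of_mem hj0]

end Val

end Groth.Agent.Helper25.ValDimA
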