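import Mathlib
import Groth.Agent.Lib.Helper25.ValDimA

/-!
# Chains of primes dominated by a valuation ring and transcendence degree
-/

namespace Groth.Agent.Helper25.ValDimB

open Groth.Agent.Helper25.ValDimA

universe u

variable {L : Type u} [Field L] (A : ValuationSubring L) {B : Type u} [CommRing B] (φ : B →+* L)

theorem star (hφ : Function.Injective φ)
    (H : ∀ b b' : B, b' ≠ 0 → A.valuation (φ b) ≤ A.valuation (φ b') →
      ∃ a c : B, A.valuation (φ c) = 1 ∧ b * c = a * b')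
    (Q : Ideal B) [Q.IsPrime] (hQ : ∀ b ∈ Q, A.valuation (φ b) < 1)
    {y x : B} (hy : y ∈ Q) (hx : x ∉ Q) (m : ℕ) :
    A.valuation (φ y) < A.valuation (φ x) ^ m := by
  by_contra h
  rw [not_lt] at h
  have hx0 : φ x ≠ 0 := by
    intro h0
    have : x = 0 := hφ (by rw [h0, map_zero])
    exact hx (this ▸ Q.zero_mem)
  have hy0 : y ≠ 0 := by
    rintro rfl
    rw [map_zero, map_zero, le_zero_iff] at h
    exact pow_ne_zero m ((Valuation.ne_zero_iff _).mpr hx0) h
  obtain ⟨a, c, hc, hac⟩ := H (x ^ m) y hy0 (by rw [map_pow, map_pow]; exact h)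
  have hmem : x ^ m * c ∈ Q := by
    rw [hac]
    exact Q.mul_mem_left a hy
  rcases Ideal.IsPrime.mem_or_mem inferInstance hmem with h1 | h1
  · exact hx (Ideal.IsPrime.mem_of_pow_mem inferInstance m h1)
  · exact absurd hc (ne_of_lt (hQ c h1))

theorem chain_algIndep (hφ : Function.Injective φ)
    (H : ∀ b b' : B, b' ≠ 0 → A.valuation (φ b) ≤ A.valuation (φ b') →
      ∃ a c : B, A.valuation (φ c) = 1 ∧ b * c = a * b')
    (p : LTSeries (PrimeSpectrum B)) (hn : 1 ≤ p.length)
    (hp : ∀ b ∈ (p.last).asIdeal, A.valuation (φ b) < 1) :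
    ∃ (J : Finset ℕ) (w : ℕ → L) (j0 : ℕ), j0 ∈ J ∧ p.length ≤ J.card ∧
      (∀ j ∈ J, w j ∈ Set.range φ) ∧
      AlgebraicIndependent (⊥ : Subfield L) (fun j : {j // j ∈ J.erase j0} => w j) := by
  classical
  set n := p.length with hn_def
  let q' : ℕ → PrimeSpectrum B := fun j => p ⟨min j n, Nat.lt_succ_of_le (min_le_right j n)⟩
  have hmono : ∀ i j, i ≤ j → q' i ≤ q' j := by
    intro i j hij
    apply p.monotone
    rw [Fin.mk_le_mk]
    exact min_le_min_right n hij
  have hstrict : ∀ j, 1 ≤ j → j ≤ n → q' (j - 1) < q' j := by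
    intro j h1 h2
    apply p.strictMono
    rw [Fin.mk_lt_mk, min_eq_left (by omega), min_eq_left h2]
    omega
  have hlast : ∀ j, q' j ≤ p.last := by
    intro j
    apply p.monotone
    exact Fin.le_last _
  let Lo : ℕ → Ideal B := fun j => if j = 0 then ⊥ else (q' (j - 1)).asIdeal
  let Up : ℕ → Ideal B := fun j => if j ≤ n then (q' j).asIdeal else ⊤
  have hLo : ∀ j, 1 ≤ j → Lo j = (q' (j - 1)).asIdeal := by
    intro j hj
    simp only [Lo, if_neg (by omega : ¬ j = 0)]
  have hUp : ∀ j, j ≤ n → Up j = (q' j).asIdeal := by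
    intro j hj
    simp only [Up, if_pos hj]
  have F1 : ∀ i j, i < j → j ≤ n + 1 → Up i ≤ Lo j := by
    intro i j hij hj
    rw [hUp i (by omega), hLo j (by omega), PrimeSpectrum.asIdeal_le_asIdeal]
    exact hmono i (j - 1) (by omega)
  have F2 : ∀ j, 1 ≤ j → (Lo j).IsPrime ∧ ∀ b ∈ Lo j, A.valuation (φ b) < 1 := by
    intro j hj
    rw [hLo j hj]
    refine ⟨(q' (j - 1)).isPrime, fun b hb => hp b ?_⟩
    exact (PrimeSpectrum.asIdeal_le_asIdeal _ _).mpr (hlast (j - 1)) hb
  have hx : ∀ j, ∃ b : B, 1 ≤ j → j ≤ n → b ∉ Lo j ∧ b ∈ Up j := by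
    intro j
    by_cases h : 1 ≤ j ∧ j ≤ n
    · have h1 := (PrimeSpectrum.asIdeal_lt_asIdeal _ _).mpr (hstrict j h.1 h.2)
      obtain ⟨b, hb1, hb2⟩ := SetLike.exists_of_lt h1
      refine ⟨b, fun _ _ => ?_⟩
      rw [hLo j h.1, hUp j h.2]
      exact ⟨hb2, hb1⟩
    · exact ⟨0, fun h1 h2 => absurd ⟨h1, h2⟩ h⟩
  choose x hx using hx
  have hUpv : ∀ j, j ≤ n → ∀ b ∈ Up j, A.valuation (φ b) < 1 := by
    intro j hj b hb
    rw [hUp j hj] at hb
    exact hp b ((PrimeSpectrum.asIdeal_le_asIdeal _ _).mpr (hlast j) hb)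
  -- the common final step
  have finish : ∀ (J : Finset ℕ) (b' : ℕ → B) (j0 : ℕ), j0 ∈ J →
      (∀ j ∈ J, j ≤ n + 1 ∧ b' j ∉ Lo j ∧ b' j ∈ Up j ∧ A.valuation (φ (b' j)) < 1) →
      (∀ q : ℕ, q.Prime → (q : L) ≠ 0 →
        A.valuation (q : L) = 1 ∨ A.valuation (q : L) = A.valuation (φ (b' j0))) →
      AlgebraicIndependent (⊥ : Subfield L) (fun j : {j // j ∈ J.erase j0} => φ (b' j)) := by
    intro J b' j0 hj0 G hq
    have hne : ∀ j ∈ J, φ (b' j) ≠ 0 := by
      intro j hj h0
      have : b' j = 0 := hφ (by rw [h0, map_zero])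
      exact (G j hj).2.1 (this ▸ (Lo j).zero_mem)
    refine algIndep A J (fun j => φ (b' j)) j0 hj0 (fun j hj => ⟨hne j hj, (G j hj).2.2.2⟩) ?_ ?_
    · intro i hi j hj hij m
      have hj1 : 1 ≤ j := by omega
      haveI := (F2 j hj1).1
      exact star A φ hφ H (Lo j) (F2 j hj1).2 (F1 i j hij (G j hj).1 (G i hi).2.2.1)
        (G j hj).2.1 m
    · intro c hc hc0
      exact val_bot A _ ((Valuation.ne_zero_iff _).mpr (hne j0 hj0)) hq c hc hc0
  by_cases hα : ∃ ℓ : ℕ, ℓ.Prime ∧ (ℓ : L) ≠ 0 ∧ A.valuation (ℓ : L) < 1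
  · obtain ⟨ℓ, hℓ, hℓ0, hℓv⟩ := hα
    have hℓB : φ (ℓ : B) = (ℓ : L) := map_natCast φ ℓ
    have hex : ∃ j, (ℓ : B) ∈ Up j := ⟨n + 1, by simp only [Up, if_neg (by omega : ¬ n + 1 ≤ n)]; trivial⟩
    let j0 := Nat.find hex
    have hj0 : (ℓ : B) ∈ Up j0 := Nat.find_spec hex
    have hj0le : j0 ≤ n + 1 := Nat.find_min' hex (by simp only [Up, if_neg (by omega : ¬ n + 1 ≤ n)]; trivial)
    have hmin : ∀ j, j < j0 → (ℓ : B) ∉ Up j := fun j hj => Nat.find_min hex hj
    have hLoℓ : (ℓ : B) ∉ Lo j0 := by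
      by_cases h0 : j0 = 0
      · simp only [Lo, if_pos h0]
        intro hmem
        rw [Ideal.mem_bot] at hmem
        rw [hmem, map_zero] at hℓB
        exact hℓ0 hℓB.symm
      · rw [hLo j0 (by omega), ← hUp (j0 - 1) (by omega)]
        exact hmin (j0 - 1) (by omega)
    let b' : ℕ → B := fun j => if j = j0 then (ℓ : B) else x j
    have hb'0 : b' j0 = (ℓ : B) := by simp only [b', if_pos rfl]
    refine ⟨insert j0 (Finset.Icc 1 n), fun j => φ (b' j), j0, Finset.mem_insert_self _ _, ?_,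
      fun j _ => ⟨b' j, rfl⟩, ?_⟩
    · calc n = (Finset.Icc 1 n).card := by simp
        _ ≤ (insert j0 (Finset.Icc 1 n)).card := Finset.card_le_card (Finset.subset_insert _ _)
    · apply finish _ b' j0 (Finset.mem_insert_self _ _)
      · intro j hj
        by_cases hjj : j = j0
        · subst hjj
          rw [hb'0, hℓB]
          exact ⟨hj0le, hLoℓ, hj0, hℓv⟩
        · have hj' : j ∈ Finset.Icc 1 n := (Finset.mem_insert.mp hj).resolve_left hjj
          rw [Finset.mem_Icc] at hj'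
          have hbj : b' j = x j := by simp only [b', if_neg hjj]
          rw [hbj]
          have := hx j hj'.1 hj'.2
          exact ⟨by omega, this.1, this.2, hUpv j hj'.2 _ this.2⟩
      · intro q hq hq0
        rw [hb'0, hℓB]
        by_cases hql : q = ℓ
        · right
          rw [hql]
        · left
          exact val_prime_eq_one A hℓ hq hql hℓv
  · push Not at hα
    have h1n : 1 ∈ Finset.Icc 1 n := Finset.mem_Icc.mpr ⟨le_rfl, hn⟩
    refine ⟨Finset.Icc 1 n, fun j => φ (x j), 1, h1n, by simp, fun j _ => ⟨x j, rfl⟩, ?_⟩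
    apply finish _ x 1 h1n
    · intro j hj
      rw [Finset.mem_Icc] at hj
      have := hx j hj.1 hj.2
      exact ⟨by omega, this.1, this.2, hUpv j hj.2 _ this.2⟩
    · intro q hq hq0
      left
      exact le_antisymm (val_natCast_le_one A q) (hα q hq hq0)

theorem length_le_trdeg (hφ : Function.Injective φ)
    (H : ∀ b b' : B, b' ≠ 0 → A.valuation (φ b) ≤ A.valuation (φ b') →
      ∃ a c : B, A.valuation (φ c) = 1 ∧ b * c = a * b')
    (p : LTSeries (PrimeSpectrum B))
    (hp : ∀ b ∈ (p.last).asIdeal, A.valuation (φ b) < 1) :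
    ((p.length - 1 : ℕ) : Cardinal.{u}) ≤ Algebra.trdeg (⊥ : Subfield L) L := by
  by_cases hn : 1 ≤ p.length
  · obtain ⟨J, w, j0, hj0, hcard, -, hAI⟩ := chain_algIndep A φ hφ H p hn hp
    have h := hAI.lift_cardinalMk_le_trdeg
    rw [card_erase_cast J j0 hj0, Cardinal.lift_natCast, Cardinal.lift_uzero] at h
    refine le_trans ?_ h
    exact_mod_cast Nat.sub_le_sub_right hcard 1
  · have : p.length - 1 = 0 := by omega
    rw [this, Nat.cast_zero]
    exact bot_le

theorem trdeg_adjoin_le (T : Finset L) :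
    Algebra.trdeg (⊥ : Subfield L) (IntermediateField.adjoin (⊥ : Subfield L) (T : Set L)) ≤
      (T.card : Cardinal.{u}) := by
  let g : ↥(T : Set L) → IntermediateField.adjoin (⊥ : Subfield L) (T : Set L) :=
    fun t => ⟨t.1, IntermediateField.subset_adjoin _ _ t.2⟩
  haveI : Algebra.IsAlgebraic (Algebra.adjoin (⊥ : Subfield L) (Set.range g))
      (IntermediateField.adjoin (⊥ : Subfield L) (T : Set L)) := by
    refine ⟨fun e => ?_⟩
    obtain ⟨r, s, hrs⟩ := (IntermediateField.mem_adjoin_iff (⊥ : Subfield L) e.1).mp e.2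
    have hval : ∀ r : MvPolynomial (↥(T : Set L)) (⊥ : Subfield L),
        ((MvPolynomial.aeval g r :
          IntermediateField.adjoin (⊥ : Subfield L) (T : Set L)) : L) =
        MvPolynomial.aeval Subtype.val r := by
      intro r
      exact MvPolynomial.comp_aeval_apply (f := g)
        (φ := (IntermediateField.adjoin (⊥ : Subfield L) (T : Set L)).val) (p := r)
    have he : e = MvPolynomial.aeval g r / MvPolynomial.aeval g s := by
      apply Subtype.ext
      rw [hrs]
      push_cast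
      rw [hval, hval]
    have hmem : ∀ r : MvPolynomial (↥(T : Set L)) (⊥ : Subfield L),
        MvPolynomial.aeval g r ∈ Algebra.adjoin (⊥ : Subfield L) (Set.range g) := by
      intro r
      rw [Algebra.adjoin_range_eq_range_aeval]
      exact ⟨r, rfl⟩
    rw [he, div_eq_mul_inv]
    have h1 : IsAlgebraic (Algebra.adjoin (⊥ : Subfield L) (Set.range g))
        ((MvPolynomial.aeval g s)⁻¹ :
          IntermediateField.adjoin (⊥ : Subfield L) (T : Set L)) :=
      IsAlgebraic.inv (isAlgebraic_algebraMap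
        (⟨MvPolynomial.aeval g s, hmem s⟩ : Algebra.adjoin (⊥ : Subfield L) (Set.range g)))
    have h2 := h1.smul
      (⟨MvPolynomial.aeval g r, hmem r⟩ : Algebra.adjoin (⊥ : Subfield L) (Set.range g))
    rw [Algebra.smul_def] at h2
    exact h2
  refine le_trans (Algebra.IsAlgebraic.trdeg_le_cardinalMk (⊥ : Subfield L) (Set.range g)) ?_
  refine le_trans Cardinal.mk_range_le ?_
  rw [Finset.coe_sort_coe, Cardinal.mk_coe_finset]

theorem length_le_card (hφ : Function.Injective φ)
    (H : ∀ b b' : B, b' ≠ 0 → A.valuation (φ b) ≤ A.valuation (φ b') →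
      ∃ a c : B, A.valuation (φ c) = 1 ∧ b * c = a * b')
    (T : Finset L)
    (hE : ∀ b, φ b ∈ IntermediateField.adjoin (⊥ : Subfield L) (T : Set L))
    (p : LTSeries (PrimeSpectrum B))
    (hp : ∀ b ∈ (p.last).asIdeal, A.valuation (φ b) < 1) :
    p.length ≤ T.card + 1 := by
  by_cases hn : 1 ≤ p.length
  · obtain ⟨J, w, j0, hj0, hcard, hw, hAI⟩ := chain_algIndep A φ hφ H p hn hp
    have hwE : ∀ j : {j // j ∈ J.erase j0},
        w j ∈ IntermediateField.adjoin (⊥ : Subfield L) (T : Set L) := by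
      intro j
      obtain ⟨b, hb⟩ := hw j (Finset.mem_of_mem_erase j.2)
      rw [← hb]
      exact hE b
    have hAI' : AlgebraicIndependent (⊥ : Subfield L)
        (fun j : {j // j ∈ J.erase j0} =>
          (⟨w j, hwE j⟩ : IntermediateField.adjoin (⊥ : Subfield L) (T : Set L))) :=
      AlgebraicIndependent.of_comp
        (IntermediateField.adjoin (⊥ : Subfield L) (T : Set L)).val hAI
    have h := hAI'.lift_cardinalMk_le_trdeg
    rw [card_erase_cast J j0 hj0, Cardinal.lift_natCast, Cardinal.lift_uzero] at h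
    have h2 := le_trans h (trdeg_adjoin_le T)
    have h3 : J.card - 1 ≤ T.card := by exact_mod_cast h2
    omega
  · omega

theorem krullDim_valuationSubring_le (d : ℕ)
    (hd : Algebra.trdeg (⊥ : Subfield L) L = d) :
    ringKrullDim A ≤ ((d + 1 : ℕ) : WithBot ℕ∞) := by
  unfold ringKrullDim Order.krullDim
  apply iSup_le
  intro p
  have h := length_le_trdeg A A.subtype Subtype.val_injective ?H p ?hp
  · rw [hd] at h
    have h' : p.length - 1 ≤ d := by exact_mod_cast h
    have : p.length ≤ d + 1 := by omega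
    exact_mod_cast this
  case H =>
    intro b b' hb' hle
    have hb'0 : (b' : L) ≠ 0 := fun h => hb' (Subtype.ext h)
    have hmem : (b : L) / (b' : L) ∈ A := by
      rw [← A.valuation_le_one_iff, map_div₀]
      exact div_le_one_of_le₀ hle zero_le'
    refine ⟨⟨_, hmem⟩, 1, by simp, ?_⟩
    apply Subtype.ext
    simp [div_mul_cancel₀ _ hb'0]
  case hp =>
    intro b hb
    change A.valuation (b : L) < 1
    rw [← A.valuation_lt_one_iff]
    exact IsLocalRing.le_maximalIdeal (p.last.isPrime.ne_top) hb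

end Groth.Agent.Helper25.ValDimB
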