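import Mathlib
import Groth.Agent.Lib.Helper25.ValDimB

/-!
# A valuation ring is a filtered union of valuation subrings with finite spectrum
-/

namespace Groth.Agent.Helper25.ValFiltUnion

open Groth.Agent.Helper25.ValDimB

universe u

/-- a valuation ring of finite Krull dimension has finite spectrum -/
theorem finite_primeSpectrum_of_dim {D : Type u} [CommRing D] [IsDomain D] [ValuationRing D]
    (n : ℕ) (h : ringKrullDim D ≤ ((n : ℕ∞) : WithBot ℕ∞)) : Finite (PrimeSpectrum D) := by
  have hh : ∀ x : PrimeSpectrum D, Order.height x ≤ (n : ℕ∞) := by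
    intro x
    have h1 := Order.height_le_krullDim x
    have h2 : ((Order.height x : ℕ∞) : WithBot ℕ∞) ≤ ((n : ℕ∞) : WithBot ℕ∞) := le_trans h1 h
    exact WithBot.coe_le_coe.mp h2
  have hne : ∀ x : PrimeSpectrum D, Order.height x ≠ ⊤ := fun x =>
    ne_top_of_le_ne_top (ENat.coe_ne_top n) (hh x)
  have hf : ∀ x : PrimeSpectrum D, (Order.height x).toNat < n + 1 := by
    intro x
    have h1 := hh x
    rw [← ENat.coe_toNat (hne x)] at h1
    have h2 : (Order.height x).toNat ≤ n := by exact_mod_cast h1
    omega
  refine Finite.of_injective (fun x => (⟨(Order.height x).toNat, hf x⟩ : Fin (n + 1))) ?_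
  intro x y hxy
  have hxy1 : (Order.height x).toNat = (Order.height y).toNat := congrArg Fin.val hxy
  have hxy' : Order.height x = Order.height y := by
    rw [← ENat.coe_toNat (hne x), ← ENat.coe_toNat (hne y), hxy1]
  by_contra hne'
  rcases (ValuationRing.le_total_ideal D).total x.asIdeal y.asIdeal with hle | hle
  · have hlt : x < y := lt_of_le_of_ne ((PrimeSpectrum.asIdeal_le_asIdeal _ _).mp hle) hne'
    have := Order.height_strictMono hlt (lt_top_iff_ne_top.mpr (hne x))
    exact absurd hxy' (ne_of_lt this)
  · have hlt : y < x := lt_of_le_of_ne ((PrimeSpectrum.asIdeal_le_asIdeal _ _).mp hle)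
      (fun h => hne' h.symm)
    have := Order.height_strictMono hlt (lt_top_iff_ne_top.mpr (hne y))
    exact absurd hxy'.symm (ne_of_lt this)

variable (R : Type u) [CommRing R] [IsDomain R] [ValuationRing R]

/-- the valuation subring of the fraction field -/
noncomputable def vsR : ValuationSubring (FractionRing R) :=
  { (algebraMap R (FractionRing R)).range with
    mem_or_inv_mem' := fun x => by
      rcases ValuationRing.isInteger_or_isInteger R x with h | h
      · obtain ⟨r, hr⟩ := h
        exact Or.inl ⟨r, hr⟩
      · obtain ⟨r, hr⟩ := h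
        exact Or.inr ⟨r, hr⟩ }

theorem mem_vsR {x : FractionRing R} :
    x ∈ vsR R ↔ ∃ r : R, algebraMap R (FractionRing R) r = x := Iff.rfl

open Classical in
/-- image of a finite set in the fraction field -/
noncomputable def TT (s : Finset R) : Finset (FractionRing R) :=
  s.image (algebraMap R (FractionRing R))

/-- the subfield generated by a finite set -/
noncomputable def KK (s : Finset R) :
    IntermediateField (⊥ : Subfield (FractionRing R)) (FractionRing R) :=
  IntermediateField.adjoin _ ((TT R s : Finset (FractionRing R)) : Set (FractionRing R))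

/-- the subring of elements lying in the subfield -/
noncomputable def FF (s : Finset R) : Subring R :=
  Subring.comap (algebraMap R (FractionRing R)) (KK R s).toSubfield.toSubring

theorem mem_FF {s : Finset R} {r : R} :
    r ∈ FF R s ↔ algebraMap R (FractionRing R) r ∈ KK R s := Iff.rfl

theorem FF_mono : Monotone (FF R) := by
  intro s s' hss r hr
  rw [mem_FF] at hr ⊢
  refine IntermediateField.adjoin.mono _ _ _ ?_ hr
  classical
  intro x hx
  rw [Finset.mem_coe] at hx ⊢
  unfold TT at hx ⊢
  exact Finset.image_subset_image hss hx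

theorem self_mem_FF (r : R) : r ∈ FF R {r} := by
  rw [mem_FF]
  apply IntermediateField.subset_adjoin
  classical
  rw [Finset.mem_coe]
  unfold TT
  exact Finset.mem_image_of_mem _ (Finset.mem_singleton_self r)

theorem valuationRing_FF (s : Finset R) : ValuationRing (FF R s) := by
  rw [ValuationRing.iff_dvd_total]
  have key : ∀ a b : FF R s, (a : R) ∣ (b : R) → a ∣ b := by
    rintro a b ⟨c, hc⟩
    by_cases ha : (a : R) = 0
    · refine ⟨0, ?_⟩
      apply Subtype.ext
      rw [hc, ha]
      simp
    · have hcmem : c ∈ FF R s := by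
        rw [mem_FF]
        have hane : algebraMap R (FractionRing R) (a : R) ≠ 0 :=
          (map_ne_zero_iff _ (IsFractionRing.injective R (FractionRing R))).mpr ha
        have : algebraMap R (FractionRing R) c =
            algebraMap R (FractionRing R) (b : R) / algebraMap R (FractionRing R) (a : R) := by
          rw [hc, map_mul, mul_div_cancel_left₀ _ hane]
        rw [this]
        exact div_mem ((mem_FF R).mp b.2) ((mem_FF R).mp a.2)
      exact ⟨⟨c, hcmem⟩, Subtype.ext hc⟩
  refine ⟨fun a b => ?_⟩
  rcases ValuationRing.dvd_total (a : R) (b : R) with h | h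
  · exact Or.inl (key a b h)
  · exact Or.inr (key b a h)

theorem length_le (s : Finset R) (p : LTSeries (PrimeSpectrum (FF R s))) :
    p.length ≤ s.card + 1 := by
  have hinj : Function.Injective ((algebraMap R (FractionRing R)).comp (FF R s).subtype) :=
    (IsFractionRing.injective R (FractionRing R)).comp Subtype.val_injective
  have hval1 : ∀ b : FF R s, (vsR R).valuation
      (((algebraMap R (FractionRing R)).comp (FF R s).subtype) b) ≤ 1 := by
    intro b
    rw [ValuationSubring.valuation_le_one_iff]
    exact ⟨b, rfl⟩
  have h := length_le_card (vsR R) ((algebraMap R (FractionRing R)).comp (FF R s).subtype) hinj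
    ?H (TT R s) ?hE p ?hp
  · refine le_trans h ?_
    have : (TT R s).card ≤ s.card := by
      classical
      unfold TT
      exact Finset.card_image_le
    omega
  case H =>
    intro b b' hb' hle
    have hb'0 : ((algebraMap R (FractionRing R)).comp (FF R s).subtype) b' ≠ 0 := by
      intro h0
      exact hb' (hinj (by rw [h0, map_zero]))
    have hmem : ((algebraMap R (FractionRing R)).comp (FF R s).subtype) b /
        ((algebraMap R (FractionRing R)).comp (FF R s).subtype) b' ∈ vsR R := by
      rw [← ValuationSubring.valuation_le_one_iff, map_div₀]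
      exact div_le_one_of_le₀ hle zero_le'
    obtain ⟨r, hr⟩ := (mem_vsR R).mp hmem
    have hrmem : r ∈ FF R s := by
      rw [mem_FF, hr]
      exact div_mem ((mem_FF R).mp b.2) ((mem_FF R).mp b'.2)
    refine ⟨⟨r, hrmem⟩, 1, by rw [map_one, map_one], ?_⟩
    apply hinj
    rw [mul_one, map_mul]
    change _ = algebraMap R (FractionRing R) r * _
    rw [hr, div_mul_cancel₀ _ hb'0]
  case hE =>
    intro b
    exact (mem_FF R).mp b.2
  case hp =>
    intro b hb
    by_contra hlt
    rw [not_lt] at hlt
    have h1 : (vsR R).valuation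
        (((algebraMap R (FractionRing R)).comp (FF R s).subtype) b) = 1 :=
      le_antisymm (hval1 b) hlt
    have hb0 : ((algebraMap R (FractionRing R)).comp (FF R s).subtype) b ≠ 0 := by
      intro h0
      rw [h0, map_zero] at h1
      exact zero_ne_one h1
    have hmem : (((algebraMap R (FractionRing R)).comp (FF R s).subtype) b)⁻¹ ∈ vsR R := by
      rw [← ValuationSubring.valuation_le_one_iff, map_inv₀, h1, inv_one]
    obtain ⟨r, hr⟩ := (mem_vsR R).mp hmem
    have hrmem : r ∈ FF R s := by
      rw [mem_FF, hr]
      exact inv_mem ((mem_FF R).mp b.2)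
    have hunit : IsUnit b := by
      refine IsUnit.of_mul_eq_one (⟨r, hrmem⟩ : FF R s) ?_
      apply hinj
      rw [map_mul, map_one]
      change _ * algebraMap R (FractionRing R) r = 1
      rw [hr, mul_inv_cancel₀ hb0]
    exact p.last.isPrime.ne_top (Ideal.eq_top_of_isUnit_mem _ hb hunit)

theorem finite_primeSpectrum_FF (s : Finset R) : Finite (PrimeSpectrum (FF R s)) := by
  haveI := valuationRing_FF R s
  apply finite_primeSpectrum_of_dim (s.card + 1)
  unfold ringKrullDim Order.krullDim
  apply iSup_le
  intro p
  have := length_le R s p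
  exact_mod_cast this

theorem main : ∃ (ι : Type u) (_ : Preorder ι) (_ : IsDirected ι (fun a b ↦ a ≤ b))
    (_ : Nonempty ι) (F : ι → Subring R), Monotone F ∧ (⨆ i, F i) = ⊤ ∧
      ∀ i, ValuationRing (F i) ∧ Finite (PrimeSpectrum (F i)) := by
  refine ⟨Finset R, inferInstance, ⟨fun a b => ?_⟩, ⟨∅⟩, FF R, FF_mono R, ?_, fun s =>
    ⟨valuationRing_FF R s, finite_primeSpectrum_FF R s⟩⟩
  · classical
    exact ⟨a ∪ b, Finset.subset_union_left, Finset.subset_union_right⟩
  · rw [eq_top_iff]
    intro r _
    exact (le_iSup (FF R) {r}) (self_mem_FF R r)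

end Groth.Agent.Helper25.ValFiltUnion
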