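import Mathlib

/-!
# Finite intersections of valuation rings (with a subfield) are semilocal Prüfer
-/

namespace Groth.Agent.Helper25.ValNagata

universe u

variable {L : Type u} [Field L]

/-- geometric sum -/
def tt (x : L) (s : ℕ) : L := ∑ j ∈ Finset.range s, x ^ j

theorem tt_zero (x : L) : tt x 0 = 0 := by simp [tt]

theorem tt_one (x : L) : tt x 1 = 1 := by simp [tt]

theorem tt_succ' (x : L) (s : ℕ) : tt x (s + 1) = 1 + x * tt x s := by
  unfold tt
  rw [Finset.sum_range_succ', Finset.mul_sum, pow_zero, add_comm]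
  congr 1
  apply Finset.sum_congr rfl
  intro j _
  rw [pow_succ']

theorem tt_add (x : L) (s s' : ℕ) : tt x (s + s') = tt x s + x ^ s * tt x s' := by
  unfold tt
  rw [Finset.sum_range_add, Finset.mul_sum]
  congr 1
  apply Finset.sum_congr rfl
  intro j _
  rw [pow_add]

theorem tt_mem (K : Subfield L) {x : L} (hx : x ∈ K) (s : ℕ) : tt x s ∈ K :=
  sum_mem fun j _ => pow_mem hx j

theorem tt_mem_vs (V : ValuationSubring L) {x : L} (hx : x ∈ V) (s : ℕ) : tt x s ∈ V :=
  sum_mem fun j _ => pow_mem hx j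

variable {ι : Type*} [Finite ι] (V : ι → ValuationSubring L)

theorem exists_s (x : L) :
    ∃ s : ℕ, 2 ≤ s ∧ ∀ i, x ∈ V i → (V i).valuation (tt x s) = 1 := by
  classical
  cases nonempty_fintype ι
  let P : ι → ℕ → Prop := fun i s => (V i).valuation (tt x s) < 1
  have hle : ∀ i, x ∈ V i → ∀ s, (V i).valuation (tt x s) ≤ 1 := fun i hx s =>
    ((V i).valuation_le_one_iff _).mpr (tt_mem_vs (V i) hx s)
  have hb : ∀ i, (V i).valuation x < 1 → ∀ s, ¬ P i (s + 1) := by
    intro i hx s hP
    have hxm : x ∈ V i := ((V i).valuation_le_one_iff _).mp hx.le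
    have h1 : (V i).valuation (x * tt x s) < 1 := by
      rw [map_mul]
      calc (V i).valuation x * (V i).valuation (tt x s) ≤ (V i).valuation x * 1 :=
            mul_le_mul' le_rfl (hle i hxm s)
        _ < 1 := by rw [mul_one]; exact hx
    have h2 : (V i).valuation (tt x (s + 1)) = 1 := by
      rw [tt_succ']
      exact Valuation.map_one_add_of_lt _ h1
    have h3 : (V i).valuation (tt x (s + 1)) < 1 := hP
    rw [h2] at h3
    exact lt_irrefl _ h3
  have hadd : ∀ i, (V i).valuation x = 1 → ∀ s s', P i s → P i s' → P i (s + s') := by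
    intro i hx s s' h1 h2
    change (V i).valuation (tt x (s + s')) < 1
    rw [tt_add]
    apply Valuation.map_add_lt _ h1
    rw [map_mul, map_pow, hx, one_pow, one_mul]
    exact h2
  have hsub : ∀ i, (V i).valuation x = 1 → ∀ s s', P i (s + s') → P i s → P i s' := by
    intro i hx s s' h1 h2
    have h3 : x ^ s * tt x s' = tt x (s + s') - tt x s := by
      rw [tt_add]
      ring
    have h4 : (V i).valuation (x ^ s * tt x s') < 1 := by
      rw [h3]
      exact Valuation.map_sub_lt _ h1 h2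
    rw [map_mul, map_pow, hx, one_pow, one_mul] at h4
    exact h4
  have hmul : ∀ i, (V i).valuation x = 1 → ∀ n, P i n → ∀ k, P i (k * n) := by
    intro i hx n hn k
    induction k with
    | zero =>
      change (V i).valuation (tt x (0 * n)) < 1
      rw [zero_mul, tt_zero, map_zero]
      exact zero_lt_one
    | succ k ih =>
      rw [Nat.succ_mul]
      exact hadd i hx _ _ ih hn
  let nn : ι → ℕ := fun i => if h : ∃ s, 0 < s ∧ P i s then Classical.choose h else 1
  have hnn_pos : ∀ i, 0 < nn i := by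
    intro i
    by_cases h : ∃ s, 0 < s ∧ P i s
    · simp only [nn, dif_pos h]
      exact (Classical.choose_spec h).1
    · simp only [nn, dif_neg h]
      exact Nat.one_pos
  have hnn_P : ∀ i, (∃ s, 0 < s ∧ P i s) → P i (nn i) := by
    intro i h
    simp only [nn, dif_pos h]
    exact (Classical.choose_spec h).2
  have hNpos : 0 < ∏ i, nn i := Finset.prod_pos fun i _ => hnn_pos i
  refine ⟨(∏ i, nn i) + 1, by omega, fun i hxi => ?_⟩
  refine le_antisymm (hle i hxi _) (not_lt.mp fun hP => ?_)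
  have hPi : P i ((∏ i, nn i) + 1) := hP
  rcases lt_or_eq_of_le (((V i).valuation_le_one_iff _).mpr hxi) with hx | hx
  · exact hb i hx _ hPi
  · have hex : ∃ s, 0 < s ∧ P i s := ⟨(∏ i, nn i) + 1, by omega, hPi⟩
    obtain ⟨k, hk⟩ : nn i ∣ ∏ i, nn i := Finset.dvd_prod_of_mem nn (Finset.mem_univ i)
    have hPN : P i (∏ i, nn i) := by
      rw [hk, mul_comm]
      exact hmul i hx _ (hnn_P i hex) k
    have hP1 : P i 1 := hsub i hx _ 1 hPi hPN
    have h5 : (V i).valuation (tt x 1) < 1 := hP1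
    rw [tt_one, map_one] at h5
    exact lt_irrefl _ h5

theorem exists_y [Nonempty ι] (K : Subfield L) (x : L) (hx : x ∈ K) :
    ∃ y : L, y ∈ K ∧ y ≠ 0 ∧ (∀ i, y ∈ V i) ∧ (∀ i, x * y ∈ V i) ∧
      ∀ i, x ∈ V i → (V i).valuation y = 1 := by
  classical
  obtain ⟨s, hs2, hs⟩ := exists_s V x
  have hgt : ∀ i, x ∉ V i → 1 < (V i).valuation x := by
    intro i hxi
    rw [← not_le, (V i).valuation_le_one_iff]
    exact hxi
  have hval : ∀ i, x ∉ V i → (V i).valuation (tt x s) = (V i).valuation x ^ (s - 1) := by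
    intro i hxi
    have h1 := hgt i hxi
    have := Valuation.map_sum_eq_of_lt (V i).valuation (s := Finset.range s)
      (f := fun j => x ^ j) (j := s - 1) (Finset.mem_range.mpr (by omega)) ?_
    · rw [map_pow] at this
      exact this
    · intro j hj
      rw [Finset.mem_sdiff, Finset.mem_range, Finset.mem_singleton] at hj
      rw [map_pow, map_pow]
      exact pow_lt_pow_right₀ h1 (by omega)
  obtain ⟨i0⟩ := ‹Nonempty ι›
  have ht0 : tt x s ≠ 0 := by
    intro h0
    by_cases hxi : x ∈ V i0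
    · have := hs i0 hxi
      rw [h0, map_zero] at this
      exact zero_ne_one this
    · have := hval i0 hxi
      rw [h0, map_zero] at this
      exact (pow_ne_zero _ (ne_of_gt (lt_trans zero_lt_one (hgt i0 hxi)))) this.symm
  refine ⟨(tt x s)⁻¹, inv_mem (tt_mem K hx s), inv_ne_zero ht0, ?_, ?_, ?_⟩
  · intro i
    rw [← (V i).valuation_le_one_iff, map_inv₀]
    by_cases hxi : x ∈ V i
    · rw [hs i hxi, inv_one]
    · rw [hval i hxi]
      exact inv_le_one_of_one_le₀ (one_le_pow₀ (hgt i hxi).le)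
  · intro i
    by_cases hxi : x ∈ V i
    · refine mul_mem hxi ?_
      rw [← (V i).valuation_le_one_iff, map_inv₀, hs i hxi, inv_one]
    · rw [← (V i).valuation_le_one_iff, map_mul, map_inv₀, hval i hxi, ← div_eq_mul_inv]
      apply div_le_one_of_le₀ _ zero_le'
      calc (V i).valuation x = (V i).valuation x ^ 1 := (pow_one _).symm
        _ ≤ (V i).valuation x ^ (s - 1) := pow_le_pow_right₀ (hgt i hxi).le (by omega)
  · intro i hxi
    rw [map_inv₀, hs i hxi, inv_one]

section B

variable {B : Type u} [CommRing B] (K : Subfield L) (φ : B →+* L)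

/-- the prime of `B` cut out by the `i`-th valuation -/
def pp (hV : ∀ i (b : B), φ b ∈ V i) (i : ι) : Ideal B where
  carrier := {b | (V i).valuation (φ b) < 1}
  add_mem' := by
    intro a b ha hb
    change (V i).valuation (φ (a + b)) < 1
    rw [map_add]
    exact Valuation.map_add_lt _ ha hb
  zero_mem' := by
    change (V i).valuation (φ 0) < 1
    rw [map_zero, map_zero]
    exact zero_lt_one
  smul_mem' := by
    intro c b hb
    change (V i).valuation (φ (c • b)) < 1
    rw [smul_eq_mul, map_mul, map_mul]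
    calc (V i).valuation (φ c) * (V i).valuation (φ b) ≤ 1 * (V i).valuation (φ b) :=
          mul_le_mul' (((V i).valuation_le_one_iff _).mpr (hV i c)) le_rfl
      _ < 1 := by rw [one_mul]; exact hb

theorem mem_pp {hV : ∀ i (b : B), φ b ∈ V i} {i : ι} {b : B} :
    b ∈ pp V φ hV i ↔ (V i).valuation (φ b) < 1 := Iff.rfl

theorem pp_ne_top (hV : ∀ i (b : B), φ b ∈ V i) (i : ι) : pp V φ hV i ≠ ⊤ := by
  intro h
  have : (1 : B) ∈ pp V φ hV i := by
    rw [h]
    trivial
  rw [mem_pp, map_one, map_one] at this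
  exact lt_irrefl _ this

theorem pp_isPrime (hV : ∀ i (b : B), φ b ∈ V i) (i : ι) : (pp V φ hV i).IsPrime := by
  refine ⟨pp_ne_top V φ hV i, fun {a b} hab => ?_⟩
  rw [mem_pp, map_mul, map_mul] at hab
  by_contra hcon
  rw [not_or, mem_pp, not_lt, mem_pp, not_lt] at hcon
  have ha := le_antisymm (((V i).valuation_le_one_iff _).mpr (hV i a)) hcon.1
  have hb := le_antisymm (((V i).valuation_le_one_iff _).mpr (hV i b)) hcon.2
  rw [ha, hb, one_mul] at hab
  exact lt_irrefl _ hab

variable (hφ : Function.Injective φ)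
  (hr : ∀ x : L, x ∈ Set.range φ ↔ (x ∈ K ∧ ∀ i, x ∈ V i))

include hφ hr

theorem H_prop [Nonempty ι] (i : ι) (b b' : B) (hb' : b' ≠ 0)
    (h : (V i).valuation (φ b) ≤ (V i).valuation (φ b')) :
    ∃ a c : B, (V i).valuation (φ c) = 1 ∧ b * c = a * b' := by
  have hb'0 : φ b' ≠ 0 := fun h0 => hb' (hφ (by rw [h0, map_zero]))
  have hxK : φ b / φ b' ∈ K := div_mem ((hr _).mp ⟨b, rfl⟩).1 ((hr _).mp ⟨b', rfl⟩).1
  have hxV : φ b / φ b' ∈ V i := by
    rw [← (V i).valuation_le_one_iff, map_div₀]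
    exact div_le_one_of_le₀ h zero_le'
  obtain ⟨y, hyK, hy0, hyV, hxyV, hy1⟩ := exists_y V K (φ b / φ b') hxK
  obtain ⟨c, hc⟩ := (hr y).mpr ⟨hyK, hyV⟩
  obtain ⟨a, ha⟩ := (hr (φ b / φ b' * y)).mpr ⟨mul_mem hxK hyK, hxyV⟩
  refine ⟨a, c, by rw [hc]; exact hy1 i hxV, ?_⟩
  apply hφ
  rw [map_mul, map_mul, hc, ha]
  field_simp

theorem exists_le_pp [Nonempty ι] (I : Ideal B) (hI : I ≠ ⊤) :
    ∃ i, ∀ b ∈ I, (V i).valuation (φ b) < 1 := by
  classical
  cases nonempty_fintype ι
  have hV : ∀ i (b : B), φ b ∈ V i := fun i b => ((hr (φ b)).mp ⟨b, rfl⟩).2 i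
  by_contra hcon
  push Not at hcon
  obtain ⟨i0⟩ := ‹Nonempty ι›
  have hnot : ¬ ((I : Set B) ⊆ ⋃ i ∈ ((Finset.univ : Finset ι) : Set ι),
      (pp V φ hV i : Set B)) := by
    rw [Ideal.subset_union_prime i0 i0 (fun i _ _ _ => pp_isPrime V φ hV i)]
    rintro ⟨i, _, hle⟩
    obtain ⟨b, hbI, hb⟩ := hcon i
    exact absurd (hle hbI) (not_lt.mpr hb)
  rw [Set.not_subset] at hnot
  obtain ⟨a, haI, ha⟩ := hnot
  have hav : ∀ i, (V i).valuation (φ a) = 1 := by
    intro i
    refine le_antisymm (((V i).valuation_le_one_iff _).mpr (hV i a)) (not_lt.mp fun hlt => ha ?_)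
    simp only [Set.mem_iUnion]
    exact ⟨i, Finset.mem_coe.mpr (Finset.mem_univ i), hlt⟩
  have ha0 : φ a ≠ 0 := by
    intro h0
    have := hav i0
    rw [h0, map_zero] at this
    exact zero_ne_one this
  obtain ⟨c, hc⟩ := (hr (φ a)⁻¹).mpr ⟨inv_mem ((hr _).mp ⟨a, rfl⟩).1, fun i => by
    rw [← (V i).valuation_le_one_iff, map_inv₀, hav i, inv_one]⟩
  have hac : a * c = 1 := by
    apply hφ
    rw [map_mul, hc, map_one, mul_inv_cancel₀ ha0]
  exact hI (Ideal.eq_top_of_isUnit_mem I haI (IsUnit.of_mul_eq_one c hac))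

theorem valuationRing_localization [Nonempty ι] [IsDomain B] (q : Ideal B) [q.IsPrime] :
    ValuationRing (Localization.AtPrime q) := by
  obtain ⟨i, hi⟩ := exists_le_pp V K φ hφ hr q (Ideal.IsPrime.ne_top inferInstance)
  rw [ValuationRing.iff_dvd_total]
  have key : ∀ b b' : B, b' ≠ 0 → (V i).valuation (φ b) ≤ (V i).valuation (φ b') →
      algebraMap B (Localization.AtPrime q) b' ∣ algebraMap B (Localization.AtPrime q) b := by
    intro b b' hb' hle
    obtain ⟨a, c, hc, hac⟩ := H_prop V K φ hφ hr i b b' hb' hle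
    have hcq : c ∉ q := fun hcq => absurd hc (ne_of_lt (hi c hcq))
    have hu : IsUnit (algebraMap B (Localization.AtPrime q) c) :=
      IsLocalization.map_units (Localization.AtPrime q) (⟨c, hcq⟩ : q.primeCompl)
    rw [← hu.dvd_mul_right, ← map_mul, hac, map_mul]
    exact Dvd.intro_left _ rfl
  have key2 : ∀ b b' : B,
      algebraMap B (Localization.AtPrime q) b' ∣ algebraMap B (Localization.AtPrime q) b ∨
      algebraMap B (Localization.AtPrime q) b ∣ algebraMap B (Localization.AtPrime q) b' := by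
    intro b b'
    by_cases hb : b = 0
    · left
      rw [hb, map_zero]
      exact dvd_zero _
    by_cases hb' : b' = 0
    · right
      rw [hb', map_zero]
      exact dvd_zero _
    rcases le_total ((V i).valuation (φ b)) ((V i).valuation (φ b')) with h | h
    · exact Or.inl (key b b' hb' h)
    · exact Or.inr (key b' b hb h)
  have h1 : ∀ (a : B) (s : q.primeCompl),
      IsLocalization.mk' (Localization.AtPrime q) a s ∣
        algebraMap B (Localization.AtPrime q) a :=
    fun a s => ⟨algebraMap B _ s, (IsLocalization.mk'_spec _ a s).symm⟩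
  have h2 : ∀ (a : B) (s : q.primeCompl),
      algebraMap B (Localization.AtPrime q) a ∣
        IsLocalization.mk' (Localization.AtPrime q) a s := by
    intro a s
    have hu : IsUnit (algebraMap B (Localization.AtPrime q) s) := IsLocalization.map_units _ s
    rw [← hu.dvd_mul_right, IsLocalization.mk'_spec]
  refine ⟨fun z w => ?_⟩
  obtain ⟨⟨a, s⟩, rfl⟩ := IsLocalization.mk'_surjective q.primeCompl z
  obtain ⟨⟨b, t⟩, rfl⟩ := IsLocalization.mk'_surjective q.primeCompl w
  rcases key2 a b with h | h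
  · right
    exact dvd_trans (h1 b t) (dvd_trans h (h2 a s))
  · left
    exact dvd_trans (h1 a s) (dvd_trans h (h2 b t))

theorem finite_maximalSpectrum [Nonempty ι] : Finite (MaximalSpectrum B) := by
  have hV : ∀ i (b : B), φ b ∈ V i := fun i b => ((hr (φ b)).mp ⟨b, rfl⟩).2 i
  have hex : ∀ m : MaximalSpectrum B, ∃ i, m.asIdeal ≤ pp V φ hV i := fun m => by
    obtain ⟨i, hi⟩ := exists_le_pp V K φ hφ hr m.asIdeal m.isMaximal.ne_top
    exact ⟨i, fun b hb => hi b hb⟩
  choose f hf using hex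
  refine Finite.of_injective f ?_
  intro m m' hmm
  have h1 : m.asIdeal = pp V φ hV (f m) := m.isMaximal.eq_of_le (pp_ne_top V φ hV _) (hf m)
  have h2 : m'.asIdeal = pp V φ hV (f m') := m'.isMaximal.eq_of_le (pp_ne_top V φ hV _) (hf m')
  apply MaximalSpectrum.ext
  rw [h1, h2, hmm]

omit hφ in
theorem exists_div [Nonempty ι] (x : L) (hx : x ∈ K) :
    ∃ a b : B, b ≠ 0 ∧ x = φ a / φ b := by
  obtain ⟨y, hyK, hy0, hyV, hxyV, -⟩ := exists_y V K x hx
  obtain ⟨b, hb⟩ := (hr y).mpr ⟨hyK, hyV⟩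
  obtain ⟨a, ha⟩ := (hr (x * y)).mpr ⟨mul_mem hx hyK, hxyV⟩
  refine ⟨a, b, ?_, ?_⟩
  · rintro rfl
    rw [map_zero] at hb
    exact hy0 hb.symm
  · rw [ha, hb, mul_div_cancel_right₀ _ hy0]

end B

end Groth.Agent.Helper25.ValNagata
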