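import Mathlib
import Groth.Agent.Lib.Helper25.ValNagata
import Groth.Agent.Lib.Helper25.ValDimB

/-!
# Semilocal Prüfer domains: intersection with a subfield, finite-dimensional approximation
-/

namespace Groth.Agent.Helper25.ValPruferB

open Groth.Agent.Helper25

universe u

section General

variable {R L : Type u} [CommRing R] [IsDomain R] [Field L] [Algebra R L] [IsFractionRing R L]

/-- localization at a prime as a subalgebra of the fraction field -/
noncomputable abbrev Dp (p : Ideal R) [p.IsPrime] : Subalgebra R L :=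
  Localization.subalgebra.ofField L p.primeCompl p.primeCompl_le_nonZeroDivisors

theorem mem_Dp {p : Ideal R} [p.IsPrime] {x : L} :
    x ∈ Dp (L := L) p ↔ ∃ a s : R, s ∉ p ∧ x = algebraMap R L a * (algebraMap R L s)⁻¹ :=
  ⟨fun ⟨a, s, hs, h⟩ => ⟨a, s, hs, h⟩, fun ⟨a, s, hs, h⟩ => ⟨a, s, hs, h⟩⟩

theorem valuationRing_Dp
    (hR : ∀ (p : Ideal R) [p.IsPrime], ValuationRing (Localization.AtPrime p))
    (p : Ideal R) [p.IsPrime] : ValuationRing (Dp (L := L) p) := by
  haveI := hR p
  let e : Localization.AtPrime p ≃ₐ[R] Dp (L := L) p :=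
    IsLocalization.algEquiv p.primeCompl (Localization.AtPrime p) (Dp (L := L) p)
  exact Function.Surjective.valuationRing (e.toRingEquiv.toRingHom) e.surjective

/-- the valuation subring `R_p` of `L` -/
noncomputable def Vp (hR : ∀ (p : Ideal R) [p.IsPrime], ValuationRing (Localization.AtPrime p))
    (p : Ideal R) [p.IsPrime] : ValuationSubring L :=
  { (Dp (L := L) p).toSubring with
    mem_or_inv_mem' := fun x => by
      haveI := valuationRing_Dp (L := L) hR p
      rcases ValuationRing.isInteger_or_isInteger (Dp (L := L) p) x with ⟨d, hd⟩ | ⟨d, hd⟩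
      · left
        rw [← hd]
        exact d.2
      · right
        rw [← hd]
        exact d.2 }

theorem mem_Vp {hR : ∀ (p : Ideal R) [p.IsPrime], ValuationRing (Localization.AtPrime p)}
    {p : Ideal R} [p.IsPrime] {x : L} :
    x ∈ Vp (L := L) hR p ↔
      ∃ a s : R, s ∉ p ∧ x = algebraMap R L a * (algebraMap R L s)⁻¹ :=
  mem_Dp

theorem forall_mem_Vp_iff
    (hR : ∀ (p : Ideal R) [p.IsPrime], ValuationRing (Localization.AtPrime p)) (x : L) :
    (∀ m : MaximalSpectrum R, x ∈ Vp (L := L) hR m.asIdeal) ↔ x ∈ (algebraMap R L).range := by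
  constructor
  · intro h
    let I : Ideal R :=
      { carrier := {r | algebraMap R L r * x ∈ (algebraMap R L).range}
        add_mem' := by
          intro a b ha hb
          rw [Set.mem_setOf_eq, map_add, add_mul]
          exact add_mem ha hb
        zero_mem' := by
          rw [Set.mem_setOf_eq, map_zero, zero_mul]
          exact zero_mem _
        smul_mem' := by
          intro c a ha
          rw [Set.mem_setOf_eq, smul_eq_mul, map_mul, mul_assoc]
          exact mul_mem ⟨c, rfl⟩ ha }
    by_contra hx
    have hI : I ≠ ⊤ := by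
      intro h'
      have h1 : (1 : R) ∈ I := by
        rw [h']
        trivial
      change algebraMap R L 1 * x ∈ (algebraMap R L).range at h1
      rw [map_one, one_mul] at h1
      exact hx h1
    obtain ⟨m, hm, hIm⟩ := Ideal.exists_le_maximal I hI
    obtain ⟨a, s, hs, hxs⟩ := mem_Vp.mp (h ⟨m, hm⟩)
    apply hs
    apply hIm
    change algebraMap R L s * x ∈ (algebraMap R L).range
    have hs0 : algebraMap R L s ≠ 0 := by
      intro h0
      have : s = 0 := IsFractionRing.injective R L (by rw [h0, map_zero])
      exact hs (this ▸ m.zero_mem)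
    refine ⟨a, ?_⟩
    rw [hxs]
    field_simp
  · rintro ⟨r, rfl⟩ m
    rw [mem_Vp]
    refine ⟨r, 1, (Ideal.ne_top_iff_one _).mp m.isMaximal.ne_top, ?_⟩
    rw [map_one, inv_one, mul_one]

theorem main_inf
    (hR : ∀ (p : Ideal R) [p.IsPrime], ValuationRing (Localization.AtPrime p))
    (hfin : Finite (MaximalSpectrum R)) (K : Subfield L) :
    (∀ (p : Ideal ↥((algebraMap R L).range ⊓ K.toSubring)) [p.IsPrime],
        ValuationRing (Localization.AtPrime p)) ∧
      Finite (MaximalSpectrum ↥((algebraMap R L).range ⊓ K.toSubring)) ∧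
      ∀ x : L, x ∈ K → ∃ a b : L, a ∈ (algebraMap R L).range ⊓ K.toSubring ∧
        b ∈ (algebraMap R L).range ⊓ K.toSubring ∧ b ≠ 0 ∧ x = a / b := by
  haveI := hfin
  haveI : Nonempty (MaximalSpectrum R) := by
    obtain ⟨m, hm⟩ := Ideal.exists_maximal R
    exact ⟨⟨m, hm⟩⟩
  have hinj : Function.Injective (Subring.subtype ((algebraMap R L).range ⊓ K.toSubring)) :=
    Subtype.val_injective
  have hr : ∀ x : L, x ∈ Set.range (Subring.subtype ((algebraMap R L).range ⊓ K.toSubring)) ↔
      (x ∈ K ∧ ∀ m : MaximalSpectrum R, x ∈ Vp (L := L) hR m.asIdeal) := by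
    intro x
    rw [forall_mem_Vp_iff]
    constructor
    · rintro ⟨b, rfl⟩
      have := Subring.mem_inf.mp b.2
      exact ⟨this.2, this.1⟩
    · rintro ⟨h1, h2⟩
      exact ⟨⟨x, Subring.mem_inf.mpr ⟨h2, h1⟩⟩, rfl⟩
  refine ⟨fun p _ => ValNagata.valuationRing_localization
      (fun m : MaximalSpectrum R => Vp (L := L) hR m.asIdeal) K _ hinj hr p,
    ValNagata.finite_maximalSpectrum
      (fun m : MaximalSpectrum R => Vp (L := L) hR m.asIdeal) K _ hinj hr, ?_⟩
  intro x hx
  obtain ⟨a, b, hb, hab⟩ := ValNagata.exists_div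
    (fun m : MaximalSpectrum R => Vp (L := L) hR m.asIdeal) K _ hr x hx
  exact ⟨a.1, b.1, a.2, b.2, fun h => hb (Subtype.ext h), hab⟩

end General

section Union

variable (R : Type u) [CommRing R] [IsDomain R]

open Classical in
/-- image of a finite set in the fraction field -/
noncomputable def TT (s : Finset R) : Finset (FractionRing R) :=
  s.image (algebraMap R (FractionRing R))

/-- the subfield generated by a finite set -/
noncomputable def KK (s : Finset R) :
    IntermediateField (⊥ : Subfield (FractionRing R)) (FractionRing R) :=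
  IntermediateField.adjoin _ ((TT R s : Finset (FractionRing R)) : Set (FractionRing R))

/-- the subring of elements lying in the subfield -/
noncomputable def RR (s : Finset R) : Subring R :=
  Subring.comap (algebraMap R (FractionRing R)) (KK R s).toSubfield.toSubring

theorem mem_RR {s : Finset R} {r : R} :
    r ∈ RR R s ↔ algebraMap R (FractionRing R) r ∈ KK R s := Iff.rfl

theorem main_union
    (hR : ∀ (p : Ideal R) [p.IsPrime], ValuationRing (Localization.AtPrime p))
    (hfin : Finite (MaximalSpectrum R)) (s : Finset R) :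
    ∃ R' : Subring R, (↑s : Set R) ⊆ R' ∧
      (∀ (p : Ideal R') [p.IsPrime], ValuationRing (Localization.AtPrime p)) ∧
      Finite (MaximalSpectrum R') ∧ ringKrullDim R' < ⊤ := by
  haveI := hfin
  haveI : Nonempty (MaximalSpectrum R) := by
    obtain ⟨m, hm⟩ := Ideal.exists_maximal R
    exact ⟨⟨m, hm⟩⟩
  have hinj : Function.Injective ((algebraMap R (FractionRing R)).comp (RR R s).subtype) :=
    (IsFractionRing.injective R (FractionRing R)).comp Subtype.val_injective
  have hr : ∀ x : FractionRing R,
      x ∈ Set.range ((algebraMap R (FractionRing R)).comp (RR R s).subtype) ↔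
      (x ∈ (KK R s).toSubfield ∧
        ∀ m : MaximalSpectrum R, x ∈ Vp (L := FractionRing R) hR m.asIdeal) := by
    intro x
    rw [forall_mem_Vp_iff]
    constructor
    · rintro ⟨b, rfl⟩
      exact ⟨(mem_RR R).mp b.2, ⟨b.1, rfl⟩⟩
    · rintro ⟨h1, ⟨r, rfl⟩⟩
      exact ⟨⟨r, (mem_RR R).mpr h1⟩, rfl⟩
  refine ⟨RR R s, ?_, fun p _ => ValNagata.valuationRing_localization
      (fun m : MaximalSpectrum R => Vp (L := FractionRing R) hR m.asIdeal)
      (KK R s).toSubfield _ hinj hr p,
    ValNagata.finite_maximalSpectrum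
      (fun m : MaximalSpectrum R => Vp (L := FractionRing R) hR m.asIdeal)
      (KK R s).toSubfield _ hinj hr, ?_⟩
  · intro r hr'
    rw [SetLike.mem_coe, mem_RR]
    apply IntermediateField.subset_adjoin
    classical
    rw [Finset.mem_coe]
    unfold TT
    exact Finset.mem_image_of_mem _ (Finset.mem_coe.mp hr')
  · have hle : ringKrullDim (RR R s) ≤ (((TT R s).card + 1 : ℕ) : WithBot ℕ∞) := by
      unfold ringKrullDim Order.krullDim
      apply iSup_le
      intro p
      obtain ⟨m, hm⟩ := ValNagata.exists_le_pp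
        (fun m : MaximalSpectrum R => Vp (L := FractionRing R) hR m.asIdeal)
        (KK R s).toSubfield _ hinj hr p.last.asIdeal p.last.isPrime.ne_top
      have := ValDimB.length_le_card (Vp (L := FractionRing R) hR m.asIdeal)
        ((algebraMap R (FractionRing R)).comp (RR R s).subtype) hinj
        (ValNagata.H_prop
          (fun m : MaximalSpectrum R => Vp (L := FractionRing R) hR m.asIdeal)
          (KK R s).toSubfield _ hinj hr m)
        (TT R s) (fun b => (mem_RR R).mp b.2) p hm
      exact_mod_cast this
    refine lt_of_le_of_lt hle ?_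
    exact WithBot.coe_lt_coe.mpr (ENat.coe_lt_top _)

end Union

end Groth.Agent.Helper25.ValPruferB
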