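import Mathlib

/-!
# Reduction to restricted degree modulo Artin–Schreier type relations

Helper lemmas for `WildQuot.ker_aeval_minorElts_eq_span` (S15807).
-/

namespace Groth.Agent.Helper25.WQNormal

open MvPolynomial

/-- Freshman's dream for subtraction, only assuming `(p : S) = 0`. -/
theorem sub_pow_of_prime_cast_eq_zero {S : Type*} [CommRing S] {p : ℕ} (hp : p.Prime)
    (hS : (p : S) = 0) (x y : S) : (x - y) ^ p = x ^ p - y ^ p := by
  obtain ⟨r, hr⟩ := exists_add_pow_prime_eq hp (x - y) y
  rw [sub_add_cancel, hS] at hr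
  rw [hr]; ring

/-- The pure algebra identity for the `p`-th power of a minor element. -/
theorem minor_pow_eq {S : Type*} [CommRing S] (q : ℕ) (hq : (q + 1).Prime)
    (hS : ((q + 1 : ℕ) : S) = 0) (A0 Aj M U V Xj X0 : S)
    (hU : U ^ (q + 1) = (M * Aj) ^ q * U + Xj) (hV : V ^ (q + 1) = (M * A0) ^ q * V + X0) :
    (A0 * U - Aj * V) ^ (q + 1) =
      (M * A0 * Aj) ^ q * (A0 * U - Aj * V) + (A0 ^ (q + 1) * Xj - Aj ^ (q + 1) * X0) := by
  rw [sub_pow_of_prime_cast_eq_zero hq hS, mul_pow, mul_pow, hU, hV]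
  ring

/-- The `p`-th power of a minor element in an `R`-algebra where the Artin–Schreier relations
hold. -/
theorem minor_pow_eq' {R : Type*} [CommRing R] {σ : Type*} {S : Type*} [CommRing S] [Algebra R S]
    (p : ℕ) [Fact p.Prime] [CharP R p] (a : σ → R) (μ : R) (x : σ → R) (u : σ → S)
    (hu : ∀ i, u i ^ p = algebraMap R S ((μ * a i) ^ (p - 1)) * u i + algebraMap R S (x i))
    (i₀ j : σ) :
    (algebraMap R S (a i₀) * u j - algebraMap R S (a j) * u i₀) ^ p =
      algebraMap R S ((μ * a i₀ * a j) ^ (p - 1)) *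
          (algebraMap R S (a i₀) * u j - algebraMap R S (a j) * u i₀)
        + algebraMap R S (a i₀ ^ p * x j - a j ^ p * x i₀) := by
  have hpr : p.Prime := Fact.out
  have hpS : ((p : ℕ) : S) = 0 := by
    rw [← map_natCast (algebraMap R S) p, CharP.cast_eq_zero, map_zero]
  have hj := hu j
  have h0 := hu i₀
  obtain ⟨q, rfl⟩ : ∃ q, p = q + 1 := ⟨p - 1, by have := hpr.pos; omega⟩
  simp only [Nat.add_sub_cancel, map_pow, map_mul, map_sub] at hj h0 ⊢
  exact minor_pow_eq q hpr hpS _ _ _ _ _ _ _ hj h0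

variable {R : Type*} [CommRing R] {τ : Type*}

theorem monomial_mem_restrictDegree (m : ℕ) (e : τ →₀ ℕ) (c : R) (he : ∀ i, e i ≤ m) :
    monomial e c ∈ restrictDegree τ R m := by
  rw [mem_restrictDegree]
  intro s hs i
  have h := support_monomial_subset hs
  rw [Finset.mem_singleton] at h
  rw [h]; exact he i

theorem C_mem_restrictDegree (m : ℕ) (c : R) :
    (C c : MvPolynomial τ R) ∈ restrictDegree τ R m := by
  rw [C_apply]
  exact monomial_mem_restrictDegree m 0 c (fun i => by simp)

/-- Multiplying a monomial of restricted degree by a variable and reducing. -/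
theorem monomial_mul_X_reduce (p : ℕ) (hp : 2 ≤ p) (b d : τ → R) (e : τ →₀ ℕ) (c : R)
    (he : ∀ i, e i ≤ p - 1) (j : τ) :
    ∃ Q'' ∈ restrictDegree τ R (p - 1),
      monomial e c * X j - Q'' ∈
        Ideal.span (Set.range fun j : τ => X j ^ p - C (b j) * X j - C (d j)) := by
  classical
  by_cases hj : e j + 1 ≤ p - 1
  · refine ⟨monomial (e + Finsupp.single j 1) c, ?_, ?_⟩
    · apply monomial_mem_restrictDegree
      intro i
      rw [Finsupp.add_apply, Finsupp.single_apply]
      split_ifs with h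
      · subst h; exact hj
      · have := he i; omega
    · rw [monomial_add_single, pow_one, sub_self]
      exact Ideal.zero_mem _
  · have hej : e j = p - 1 := by have := he j; omega
    have hdecomp : monomial e c = monomial (e.erase j) c * X j ^ (p - 1) := by
      rw [← monomial_add_single, ← hej, Finsupp.erase_add_single]
    have hpp : (X j : MvPolynomial τ R) ^ (p - 1) * X j = X j ^ p := by
      rw [← pow_succ, Nat.sub_add_cancel (by omega)]
    refine ⟨b j • monomial (e.erase j + Finsupp.single j 1) c + d j • monomial (e.erase j) c,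
      ?_, ?_⟩
    · apply Submodule.add_mem
      · apply Submodule.smul_mem
        apply monomial_mem_restrictDegree
        intro i
        rw [Finsupp.add_apply, Finsupp.single_apply]
        split_ifs with h
        · subst h; rw [Finsupp.erase_same]; omega
        · rw [Finsupp.erase_ne (Ne.symm h)]; have := he i; omega
      · apply Submodule.smul_mem
        apply monomial_mem_restrictDegree
        intro i
        by_cases h : i = j
        · subst h; rw [Finsupp.erase_same]; omega
        · rw [Finsupp.erase_ne h]; exact he i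
    · have hid : monomial e c * X j -
          (b j • monomial (e.erase j + Finsupp.single j 1) c + d j • monomial (e.erase j) c)
          = monomial (e.erase j) c * (X j ^ p - C (b j) * X j - C (d j)) := by
        rw [monomial_add_single, pow_one, smul_eq_C_mul, smul_eq_C_mul, hdecomp, ← hpp]
        ring
      rw [hid]
      exact Ideal.mul_mem_left _ _ (Ideal.subset_span ⟨j, rfl⟩)

/-- Multiplying a polynomial of restricted degree by a variable and reducing. -/
theorem mul_X_reduce (p : ℕ) (hp : 2 ≤ p) (b d : τ → R) (Q : MvPolynomial τ R)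
    (hQ : Q ∈ restrictDegree τ R (p - 1)) (j : τ) :
    ∃ Q'' ∈ restrictDegree τ R (p - 1),
      Q * X j - Q'' ∈ Ideal.span (Set.range fun j : τ => X j ^ p - C (b j) * X j - C (d j)) := by
  rw [mem_restrictDegree] at hQ
  have key : ∃ Q'' ∈ restrictDegree τ R (p - 1),
      (∑ v ∈ Q.support, monomial v (coeff v Q)) * X j - Q'' ∈
        Ideal.span (Set.range fun j : τ => X j ^ p - C (b j) * X j - C (d j)) := by
    refine Finset.sum_induction (fun v => monomial v (coeff v Q))
      (fun T => ∃ Q'' ∈ restrictDegree τ R (p - 1), T * X j - Q'' ∈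
        Ideal.span (Set.range fun j : τ => X j ^ p - C (b j) * X j - C (d j))) ?_ ?_ ?_
    · rintro T₁ T₂ ⟨Q₁, h₁, h₁'⟩ ⟨Q₂, h₂, h₂'⟩
      refine ⟨Q₁ + Q₂, Submodule.add_mem _ h₁ h₂, ?_⟩
      have : (T₁ + T₂) * X j - (Q₁ + Q₂) = (T₁ * X j - Q₁) + (T₂ * X j - Q₂) := by ring
      rw [this]; exact Ideal.add_mem _ h₁' h₂'
    · refine ⟨0, Submodule.zero_mem _, ?_⟩
      rw [zero_mul, sub_zero]; exact Ideal.zero_mem _
    · intro v hv
      exact monomial_mul_X_reduce p hp b d v _ (hQ v hv) j
  rwa [support_sum_monomial_coeff] at key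

/-- Every polynomial is congruent, modulo the relations `X j ^ p = b j X j + d j`, to a polynomial
of degree `≤ p - 1` in each variable. -/
theorem exists_restrictDegree_sub_mem (p : ℕ) (hp : 2 ≤ p) (b d : τ → R)
    (Q : MvPolynomial τ R) :
    ∃ Q' ∈ restrictDegree τ R (p - 1),
      Q - Q' ∈ Ideal.span (Set.range fun j : τ => X j ^ p - C (b j) * X j - C (d j)) := by
  refine MvPolynomial.induction_on (motive := fun Q => ∃ Q' ∈ restrictDegree τ R (p - 1),
      Q - Q' ∈ Ideal.span (Set.range fun j : τ => X j ^ p - C (b j) * X j - C (d j))) Q ?_ ?_ ?_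
  · intro a
    exact ⟨C a, C_mem_restrictDegree _ a, by rw [sub_self]; exact Ideal.zero_mem _⟩
  · rintro Q₁ Q₂ ⟨Q₁', h₁, h₁'⟩ ⟨Q₂', h₂, h₂'⟩
    refine ⟨Q₁' + Q₂', Submodule.add_mem _ h₁ h₂, ?_⟩
    have : (Q₁ + Q₂) - (Q₁' + Q₂') = (Q₁ - Q₁') + (Q₂ - Q₂') := by ring
    rw [this]; exact Ideal.add_mem _ h₁' h₂'
  · rintro Q₁ j ⟨Q₁', h₁, h₁'⟩
    obtain ⟨Q'', h₂, h₂'⟩ := mul_X_reduce p hp b d Q₁' h₁ j
    refine ⟨Q'', h₂, ?_⟩
    have : Q₁ * X j - Q'' = (Q₁ - Q₁') * X j + (Q₁' * X j - Q'') := by ring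
    rw [this]; exact Ideal.add_mem _ (Ideal.mul_mem_right _ _ h₁') h₂'

end Groth.Agent.Helper25.WQNormal
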