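import Mathlib
import Groth.Agent.Lib.Helper25.WQNormal

/-!
# Kernel of the map to the minor elements of an Artin–Schreier tower

Helper lemmas for `WildQuot.ker_aeval_minorElts_eq_span` (S15807).
-/

namespace Groth.Agent.Helper25.WQKer

open MvPolynomial
open Groth.Agent.Helper25.WQNormal

theorem natCast_pow_char {K : Type*} [CommRing K] (p : ℕ) [Fact p.Prime] [CharP K p] (m : ℕ) :
    ((m : K)) ^ p = m := by
  induction m with
  | zero => rw [Nat.cast_zero, zero_pow (Fact.out : p.Prime).ne_zero]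
  | succ m ih => rw [Nat.cast_succ, add_pow_char, ih, one_pow]

/-- Artin–Schreier shift: if `θ` is a root of `T ^ p - w ^ (p-1) T - x` then so is `θ + m w`. -/
theorem as_shift {K : Type*} [CommRing K] (p : ℕ) [Fact p.Prime] [CharP K p] (θ w x : K) (m : ℕ)
    (hθ : θ ^ p = w ^ (p - 1) * θ + x) :
    (θ + (m : K) * w) ^ p = w ^ (p - 1) * (θ + (m : K) * w) + x := by
  have hp1 : w ^ (p - 1) * w = w ^ p := by
    rw [← pow_succ, Nat.sub_add_cancel (Fact.out : p.Prime).one_le]
  rw [add_pow_char, mul_pow, natCast_pow_char, hθ, ← hp1]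
  ring

theorem exists_as_root {K : Type*} [Field K] [IsAlgClosed K] (p : ℕ) (hp : 2 ≤ p) (c x : K) :
    ∃ θ : K, θ ^ p = c * θ + x := by
  have hdeg : (Polynomial.X ^ p - (Polynomial.C c * Polynomial.X + Polynomial.C x) :
      Polynomial K).degree = p := by
    rw [Polynomial.degree_sub_eq_left_of_degree_lt, Polynomial.degree_X_pow]
    rw [Polynomial.degree_X_pow]
    exact lt_of_le_of_lt Polynomial.degree_linear_le (by exact_mod_cast (show 1 < p by omega))
  obtain ⟨θ, hθ⟩ := IsAlgClosed.exists_root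
    (Polynomial.X ^ p - (Polynomial.C c * Polynomial.X + Polynomial.C x) : Polynomial K)
    (by rw [hdeg]; exact_mod_cast (show p ≠ 0 by omega))
  refine ⟨θ, ?_⟩
  rw [Polynomial.IsRoot.def] at hθ
  simp only [Polynomial.eval_sub, Polynomial.eval_pow, Polynomial.eval_X, Polynomial.eval_add,
    Polynomial.eval_mul, Polynomial.eval_C] at hθ
  exact sub_eq_zero.mp hθ

/-- evaluation hom out of the Artin–Schreier quotient -/
noncomputable def evA {R : Type*} [CommRing R] {σ : Type*} (p : ℕ) (w x : σ → R)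
    {K : Type*} [CommRing K] [Algebra R K] (t : σ → K)
    (ht : ∀ i, t i ^ p = algebraMap R K (w i ^ (p - 1)) * t i + algebraMap R K (x i)) :
    (MvPolynomial σ R ⧸ Ideal.span (Set.range fun i : σ =>
      X i ^ p - C (w i ^ (p - 1)) * X i - C (x i))) →ₐ[R] K :=
  Ideal.Quotient.liftₐ _ (aeval t) (by
    intro Q hQ
    have hle : Ideal.span (Set.range fun i : σ => X i ^ p - C (w i ^ (p - 1)) * X i - C (x i)) ≤
        RingHom.ker (aeval t : MvPolynomial σ R →ₐ[R] K) := by
      rw [Ideal.span_le]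
      rintro _ ⟨i, rfl⟩
      rw [SetLike.mem_coe, RingHom.mem_ker]
      simp only [map_sub, map_mul, map_pow, aeval_X, aeval_C]
      rw [ht i, map_pow]; ring
    exact RingHom.mem_ker.mp (hle hQ))

theorem evA_mk_X {R : Type*} [CommRing R] {σ : Type*} (p : ℕ) (w x : σ → R)
    {K : Type*} [CommRing K] [Algebra R K] (t : σ → K)
    (ht : ∀ i, t i ^ p = algebraMap R K (w i ^ (p - 1)) * t i + algebraMap R K (x i)) (i : σ) :
    evA p w x t ht (Ideal.Quotient.mk _ (X i)) = t i := by
  unfold evA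
  rw [Ideal.Quotient.liftₐ_apply, Ideal.Quotient.lift_mk]
  simp

/-- A polynomial of degree `< p` in each variable vanishing on a `p × ⋯ × p` grid is zero. -/
theorem eq_zero_of_eval_grid {K : Type*} [Field K] (p : ℕ) [Fact p.Prime] [CharP K p]
    {τ : Type*} [Finite τ] (P : MvPolynomial τ K) (hP : ∀ j, degreeOf j P < p)
    (ζ W : τ → K) (hW : ∀ j, W j ≠ 0)
    (h : ∀ m : τ → ℕ, eval (fun j => ζ j + (m j : K) * W j) P = 0) : P = 0 := by
  classical
  have hcard : ∀ j, ((Finset.range p).image (fun m : ℕ => ζ j + (m : K) * W j)).card = p := by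
    intro j
    rw [Finset.card_image_of_injOn, Finset.card_range]
    intro m hm m' hm' hmm
    have hmm' : ζ j + (m : K) * W j = ζ j + (m' : K) * W j := hmm
    have h1 : ((m : K) - (m' : K)) * W j = 0 := by linear_combination hmm'
    rcases mul_eq_zero.mp h1 with h2 | h2
    · exact CharP.natCast_injOn_Iio K p (by simpa using hm) (by simpa using hm')
        (sub_eq_zero.mp h2)
    · exact absurd h2 (hW j)
  refine eq_zero_of_eval_zero_at_prod_finset P
    (fun j => (Finset.range p).image (fun m : ℕ => ζ j + (m : K) * W j)) ?_ ?_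
  · intro j
    rw [hcard j]; exact hP j
  · intro y hy
    have hy' : ∀ j, ∃ m : ℕ, y j = ζ j + (m : K) * W j := by
      intro j
      obtain ⟨m, _, hm⟩ := Finset.mem_image.mp (hy j)
      exact ⟨m, hm.symm⟩
    choose m hm using hy'
    have hy2 : y = fun j => ζ j + (m j : K) * W j := funext hm
    rw [hy2]; exact h m

/-- Injectivity on the restricted-degree part. -/
theorem eq_zero_of_aeval_minor_eq_zero {R : Type*} [CommRing R] (p : ℕ) [Fact p.Prime]
    {σ : Type*} [Finite σ] [DecidableEq σ] (a w x : σ → R) (i₀ : σ)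
    {K : Type*} [Field K] [Algebra R K] [CharP K p] (hι : Function.Injective (algebraMap R K))
    (hW : ∀ j : {j : σ // j ≠ i₀}, a i₀ * w j.1 ≠ 0)
    (θ : σ → K) (hθ : ∀ i, θ i ^ p = algebraMap R K (w i ^ (p - 1)) * θ i + algebraMap R K (x i))
    (I : Ideal (MvPolynomial σ R))
    (hI : I = Ideal.span (Set.range fun i : σ => X i ^ p - C (w i ^ (p - 1)) * X i - C (x i)))
    (z : {j : σ // j ≠ i₀} → MvPolynomial σ R ⧸ I)
    (hz : ∀ j, z j = algebraMap R (MvPolynomial σ R ⧸ I) (a i₀) * Ideal.Quotient.mk I (X j.1)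
      - algebraMap R (MvPolynomial σ R ⧸ I) (a j.1) * Ideal.Quotient.mk I (X i₀))
    (Q : MvPolynomial {j : σ // j ≠ i₀} R) (hQ : Q ∈ restrictDegree {j : σ // j ≠ i₀} R (p - 1))
    (h0 : aeval z Q = 0) : Q = 0 := by
  classical
  subst hI
  have hpr : p.Prime := Fact.out
  apply MvPolynomial.map_injective (algebraMap R K) hι
  rw [_root_.map_zero]
  refine eq_zero_of_eval_grid p (map (algebraMap R K) Q) ?_
    (fun j => algebraMap R K (a i₀) * θ j.1 - algebraMap R K (a j.1) * θ i₀)
    (fun j => algebraMap R K (a i₀ * w j.1)) ?_ ?_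
  · intro j
    rw [degreeOf_lt_iff hpr.pos]
    intro s hs
    have h1 := (mem_restrictDegree _ _ _).mp hQ s (support_map_subset _ _ hs) j
    have h2 := hpr.pos
    omega
  · intro j h
    exact hW j (hι (by rw [_root_.map_zero]; exact h))
  · intro m
    obtain ⟨t, htdef⟩ : ∃ t : σ → K, ∀ i, t i =
        θ i + (((if h : i = i₀ then 0 else m ⟨i, h⟩ : ℕ)) : K) * algebraMap R K (w i) :=
      ⟨_, fun _ => rfl⟩
    have ht : ∀ i, t i ^ p = algebraMap R K (w i ^ (p - 1)) * t i + algebraMap R K (x i) := by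
      intro i
      rw [htdef i, map_pow]
      exact as_shift p (θ i) (algebraMap R K (w i)) (algebraMap R K (x i)) _
        (by rw [← map_pow]; exact hθ i)
    have h1 := congrArg (evA p w x t ht) h0
    rw [comp_aeval_apply, _root_.map_zero] at h1
    rw [eval_map, ← aeval_def]
    refine Eq.trans (congrArg (fun f : {j : σ // j ≠ i₀} → K => aeval f Q)
      (funext fun j => ?_)) h1
    rw [hz j]
    simp only [map_sub, map_mul, AlgHom.commutes, evA_mk_X]
    rw [htdef j.1, htdef i₀, dif_neg j.2, dif_pos rfl]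
    simp only [Subtype.coe_eta, Nat.cast_zero, zero_mul, add_zero]
    ring

/-- The kernel computation, relative to an algebraically closed field containing `R`. -/
theorem ker_eq_span_of_field {R : Type*} [CommRing R] [IsDomain R] (p : ℕ) [Fact p.Prime]
    [CharP R p] {σ : Type*} [Finite σ] [DecidableEq σ]
    (K : Type*) [Field K] [IsAlgClosed K] [Algebra R K]
    (hι : Function.Injective (algebraMap R K))
    (a : σ → R) (μ : R) (x : σ → R) (ha : ∀ i, a i ≠ 0) (hμ : μ ≠ 0) (i₀ : σ)
    (I : Ideal (MvPolynomial σ R))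
    (hI : I = Ideal.span (Set.range fun i : σ =>
      X i ^ p - C ((μ * a i) ^ (p - 1)) * X i - C (x i)))
    (z : {j : σ // j ≠ i₀} → MvPolynomial σ R ⧸ I)
    (hz : ∀ j, z j = algebraMap R (MvPolynomial σ R ⧸ I) (a i₀) * Ideal.Quotient.mk I (X j.1)
      - algebraMap R (MvPolynomial σ R ⧸ I) (a j.1) * Ideal.Quotient.mk I (X i₀))
    (r : {j : σ // j ≠ i₀} → MvPolynomial {j : σ // j ≠ i₀} R)
    (hr : ∀ j, r j = X j ^ p - C ((μ * a i₀ * a j.1) ^ (p - 1)) * X j
        - C (a i₀ ^ p * x j.1 - a j.1 ^ p * x i₀)) :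
    RingHom.ker (aeval z : MvPolynomial {j : σ // j ≠ i₀} R →ₐ[R] MvPolynomial σ R ⧸ I) =
      Ideal.span (Set.range r) := by
  classical
  have hpr : p.Prime := Fact.out
  have : CharP K p := charP_of_injective_algebraMap hι p
  obtain rfl : r = fun j => X j ^ p - C ((μ * a i₀ * a j.1) ^ (p - 1)) * X j
        - C (a i₀ ^ p * x j.1 - a j.1 ^ p * x i₀) := funext hr
  have hu : ∀ i : σ, (Ideal.Quotient.mk I (X i)) ^ p =
      algebraMap R (MvPolynomial σ R ⧸ I) ((μ * a i) ^ (p - 1)) * Ideal.Quotient.mk I (X i)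
        + algebraMap R (MvPolynomial σ R ⧸ I) (x i) := by
    intro i
    have h1 : Ideal.Quotient.mk I (X i ^ p - C ((μ * a i) ^ (p - 1)) * X i - C (x i)) = 0 := by
      rw [Ideal.Quotient.eq_zero_iff_mem, hI]
      exact Ideal.subset_span ⟨i, rfl⟩
    rw [map_sub, map_sub, map_mul, map_pow] at h1
    rw [← Ideal.Quotient.mk_algebraMap, ← Ideal.Quotient.mk_algebraMap,
      MvPolynomial.algebraMap_eq]
    linear_combination h1
  have hle : Ideal.span (Set.range fun j : {j : σ // j ≠ i₀} =>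
      X j ^ p - C ((μ * a i₀ * a j.1) ^ (p - 1)) * X j
        - C (a i₀ ^ p * x j.1 - a j.1 ^ p * x i₀)) ≤
      RingHom.ker (aeval z : MvPolynomial {j : σ // j ≠ i₀} R →ₐ[R] MvPolynomial σ R ⧸ I) := by
    rw [Ideal.span_le]
    rintro _ ⟨j, rfl⟩
    rw [SetLike.mem_coe, RingHom.mem_ker]
    have key := minor_pow_eq' p a μ x (fun i => Ideal.Quotient.mk I (X i)) hu i₀ j.1
    simp only [map_sub, map_mul, map_pow, aeval_X, aeval_C] at key ⊢
    rw [hz j]
    linear_combination key
  apply le_antisymm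
  · intro Q hQ
    rw [RingHom.mem_ker] at hQ
    obtain ⟨Q', hQ'deg, hQ'⟩ := exists_restrictDegree_sub_mem p hpr.two_le
      (fun j : {j : σ // j ≠ i₀} => (μ * a i₀ * a j.1) ^ (p - 1))
      (fun j : {j : σ // j ≠ i₀} => a i₀ ^ p * x j.1 - a j.1 ^ p * x i₀) Q
    have hQ'0 : aeval z Q' = 0 := by
      have h1 := hle hQ'
      rw [RingHom.mem_ker, map_sub, hQ, zero_sub, neg_eq_zero] at h1
      exact h1
    have hθ : ∀ i, ∃ θ : K, θ ^ p =
        algebraMap R K ((μ * a i) ^ (p - 1)) * θ + algebraMap R K (x i) :=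
      fun i => exists_as_root p hpr.two_le _ _
    choose θ hθ using hθ
    have hzero : Q' = 0 :=
      eq_zero_of_aeval_minor_eq_zero p a (fun i => μ * a i) x i₀ hι
        (fun j => mul_ne_zero (ha i₀) (mul_ne_zero hμ (ha j.1))) θ hθ I hI z hz Q' hQ'deg hQ'0
    rw [hzero, sub_zero] at hQ'
    exact hQ'
  · exact hle

/-- The kernel of the map to the minor elements is generated by the Artin–Schreier relations. -/
theorem ker_eq_span {R : Type*} [CommRing R] [IsDomain R] (p : ℕ) [Fact p.Prime]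
    [CharP R p] {σ : Type*} [Finite σ] [DecidableEq σ]
    (a : σ → R) (μ : R) (x : σ → R) (ha : ∀ i, a i ≠ 0) (hμ : μ ≠ 0) (i₀ : σ)
    (I : Ideal (MvPolynomial σ R))
    (hI : I = Ideal.span (Set.range fun i : σ =>
      X i ^ p - C ((μ * a i) ^ (p - 1)) * X i - C (x i)))
    (z : {j : σ // j ≠ i₀} → MvPolynomial σ R ⧸ I)
    (hz : ∀ j, z j = algebraMap R (MvPolynomial σ R ⧸ I) (a i₀) * Ideal.Quotient.mk I (X j.1)
      - algebraMap R (MvPolynomial σ R ⧸ I) (a j.1) * Ideal.Quotient.mk I (X i₀))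
    (r : {j : σ // j ≠ i₀} → MvPolynomial {j : σ // j ≠ i₀} R)
    (hr : ∀ j, r j = X j ^ p - C ((μ * a i₀ * a j.1) ^ (p - 1)) * X j
        - C (a i₀ ^ p * x j.1 - a j.1 ^ p * x i₀)) :
    RingHom.ker (aeval z : MvPolynomial {j : σ // j ≠ i₀} R →ₐ[R] MvPolynomial σ R ⧸ I) =
      Ideal.span (Set.range r) :=
  ker_eq_span_of_field p (AlgebraicClosure (FractionRing R))
    (by
      rw [IsScalarTower.algebraMap_eq R (FractionRing R) (AlgebraicClosure (FractionRing R)),
        RingHom.coe_comp]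
      exact (algebraMap (FractionRing R) (AlgebraicClosure (FractionRing R))).injective.comp
        (IsFractionRing.injective R (FractionRing R)))
    a μ x ha hμ i₀ I hI z hz r hr

end Groth.Agent.Helper25.WQKer
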