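import Mathlib

/-!
# Freeness of `O⟦X⟧` over `O⟦f⟧` via Weierstrass division
-/

namespace Groth.Agent.Helper25.WeierFree

open PowerSeries

universe u

variable {O : Type u} [CommRing O]

/-- The map `c ↦ Σ_i c_i(f) X^i`. -/
noncomputable def Phi (f : PowerSeries O) (n : ℕ) (c : Fin n → PowerSeries O) : PowerSeries O :=
  ∑ i : Fin n, (subst f (c i) : PowerSeries O) * X ^ (i : ℕ)

section PhiLemmas

variable {f : PowerSeries O} {n : ℕ}

theorem Phi_add (hf : HasSubst f) (c c' : Fin n → PowerSeries O) :
    Phi f n (c + c') = Phi f n c + Phi f n c' := by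
  unfold Phi
  rw [← Finset.sum_add_distrib]
  refine Finset.sum_congr rfl fun i _ => ?_
  rw [Pi.add_apply, subst_add hf, add_mul]

theorem Phi_sub (hf : HasSubst f) (c c' : Fin n → PowerSeries O) :
    Phi f n (c - c') = Phi f n c - Phi f n c' := by
  unfold Phi
  rw [← Finset.sum_sub_distrib]
  refine Finset.sum_congr rfl fun i _ => ?_
  rw [Pi.sub_apply, subst_sub hf, sub_mul]

theorem Phi_X_mul (hf : HasSubst f) (c : Fin n → PowerSeries O) :
    Phi f n (fun i => X * c i) = f * Phi f n c := by
  unfold Phi
  rw [Finset.mul_sum]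
  refine Finset.sum_congr rfl fun i _ => ?_
  rw [subst_mul hf, subst_X hf, mul_assoc]

theorem Phi_C (a : Fin n → O) :
    Phi f n (fun i => C (a i)) = ∑ i : Fin n, C (a i) * X ^ (i : ℕ) := by
  unfold Phi
  refine Finset.sum_congr rfl fun i _ => ?_
  rw [subst_C]
  rfl

end PhiLemmas

section Poly

variable {n : ℕ}

/-- polynomial with given coefficients -/
noncomputable def rpoly (n : ℕ) (a : Fin n → O) : Polynomial O :=
  ∑ i : Fin n, Polynomial.C (a i) * Polynomial.X ^ (i : ℕ)

theorem rpoly_degree (a : Fin n → O) : (rpoly n a).degree < n :=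
  Polynomial.degree_sum_fin_lt a

theorem rpoly_coe (a : Fin n → O) :
    ((rpoly n a : Polynomial O) : PowerSeries O) = ∑ i : Fin n, C (a i) * X ^ (i : ℕ) := by
  unfold rpoly
  rw [← Polynomial.coeToPowerSeries.ringHom_apply, map_sum]
  refine Finset.sum_congr rfl fun i _ => ?_
  rw [map_mul, map_pow, Polynomial.coeToPowerSeries.ringHom_apply,
    Polynomial.coeToPowerSeries.ringHom_apply, Polynomial.coe_C, Polynomial.coe_X]

theorem rpoly_coeff (a : Fin n → O) (i : Fin n) : (rpoly n a).coeff i = a i := by
  unfold rpoly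
  rw [Polynomial.finset_sum_coeff, Finset.sum_eq_single i]
  · rw [Polynomial.coeff_C_mul_X_pow, if_pos rfl]
  · intro j _ hji
    rw [Polynomial.coeff_C_mul_X_pow, if_neg]
    intro h
    exact hji (Fin.ext h.symm)
  · intro h
    exact absurd (Finset.mem_univ i) h

theorem coe_eq_of_degree_lt (r : Polynomial O) (hr : r.degree < n) :
    (r : PowerSeries O) = ∑ i : Fin n, C (r.coeff i) * X ^ (i : ℕ) := by
  ext d
  rw [Polynomial.coeff_coe, map_sum]
  simp_rw [coeff_C_mul_X_pow]
  by_cases hd : d < n
  · rw [Finset.sum_eq_single (⟨d, hd⟩ : Fin n)]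
    · simp
    · intro j _ hj
      rw [if_neg]
      intro h
      exact hj (Fin.ext h.symm)
    · intro h
      exact absurd (Finset.mem_univ _) h
  · have h0 : r.coeff d = 0 :=
      Polynomial.coeff_eq_zero_of_degree_lt
        (lt_of_lt_of_le hr (by exact_mod_cast not_lt.mp hd))
    rw [h0]
    symm
    apply Finset.sum_eq_zero
    intro j _
    rw [if_neg]
    intro h
    exact hd (h ▸ j.2)

end Poly

section Local

variable [IsLocalRing O]

/-- The Weierstrass degree. -/
noncomputable abbrev wn (f : PowerSeries O) : ℕ := (f.map (IsLocalRing.residue O)).order.toNat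

variable {f : PowerSeries O}

theorem Phi_decomp (hf : HasSubst f) {n : ℕ} (c : Fin n → PowerSeries O) :
    Phi f n c = f * Phi f n (fun i => mk fun p => coeff (p + 1) (c i)) +
      ((rpoly n fun i => constantCoeff (c i) : Polynomial O) : PowerSeries O) := by
  have h : c = (fun i => X * (mk fun p => coeff (p + 1) (c i))) +
      fun i => C (constantCoeff (c i)) := by
    funext i
    exact eq_X_mul_shift_add_const (c i)
  conv_lhs => rw [h]
  rw [Phi_add hf, Phi_X_mul hf, Phi_C, rpoly_coe]

variable [IsAdicComplete (IsLocalRing.maximalIdeal O) O]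

theorem Phi_inj_aux (hf : HasSubst f) (hg : f.map (IsLocalRing.residue O) ≠ 0) :
    ∀ (J : ℕ) (c : Fin (wn f) → PowerSeries O),
      Phi f (wn f) c = 0 → ∀ i, ∀ j < J, coeff j (c i) = 0 := by
  intro J
  induction J with
  | zero =>
    intro c _ i j hj
    omega
  | succ J ih =>
    intro c hc i j hj
    have hdec := Phi_decomp hf c
    rw [hc] at hdec
    have hW : IsWeierstrassDivision (0 : PowerSeries O) f
        (Phi f (wn f) (fun i => mk fun p => coeff (p + 1) (c i)))
        (rpoly (wn f) (fun i => constantCoeff (c i))) := ⟨rpoly_degree _, hdec⟩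
    obtain ⟨h1, h2⟩ := PowerSeries.IsWeierstrassDivision.eq_zero hg hW
    rcases j with _ | j
    · have h3 := rpoly_coeff (fun i => constantCoeff (c i)) i
      rw [h2, Polynomial.coeff_zero] at h3
      rw [coeff_zero_eq_constantCoeff_apply]
      exact h3.symm
    · have h3 := ih _ h1 i j (by omega)
      simp only [coeff_mk] at h3
      exact h3

theorem Phi_injective (hf : HasSubst f) (hg : f.map (IsLocalRing.residue O) ≠ 0)
    (c c' : Fin (wn f) → PowerSeries O) (h : Phi f (wn f) c = Phi f (wn f) c') : c = c' := by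
  have h0 : Phi f (wn f) (c - c') = 0 := by rw [Phi_sub hf, h, sub_self]
  funext i
  ext j
  have h1 := Phi_inj_aux hf hg (j + 1) (c - c') h0 i j (Nat.lt_succ_self j)
  rw [Pi.sub_apply, map_sub, sub_eq_zero] at h1
  exact h1

/-- iterated Weierstrass quotients -/
noncomputable def Gseq (f g : PowerSeries O) (j : ℕ) : PowerSeries O :=
  (fun h => h /ʷ f)^[j] g

/-- the coefficient series -/
noncomputable def cc (f g : PowerSeries O) (i : ℕ) : PowerSeries O :=
  mk fun j => (Gseq f g j %ʷ f).coeff i

theorem cc_decomp (f g : PowerSeries O) (i : ℕ) :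
    cc f g i = X * cc f (g /ʷ f) i + C ((g %ʷ f).coeff i) := by
  ext (_ | j)
  · rw [map_add, coeff_zero_X_mul, zero_add, coeff_zero_C]
    simp only [cc, coeff_mk, Gseq, Function.iterate_zero_apply]
  · rw [map_add, coeff_succ_X_mul, coeff_C, if_neg (Nat.succ_ne_zero j), add_zero]
    simp only [cc, coeff_mk, Gseq, Function.iterate_succ_apply]

theorem Phi_cc (hf : HasSubst f) (hf0 : constantCoeff f = 0)
    (hg : f.map (IsLocalRing.residue O) ≠ 0) :
    ∀ (J : ℕ) (g : PowerSeries O), X ^ J ∣ g - Phi f (wn f) (fun i => cc f g i) := by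
  intro J
  induction J with
  | zero =>
    intro g
    rw [pow_zero]
    exact one_dvd _
  | succ J ih =>
    intro g
    have h1 : g = f * (g /ʷ f) + ((g %ʷ f : Polynomial O) : PowerSeries O) :=
      eq_mul_weierstrassDiv_add_weierstrassMod g hg
    have h2 : Phi f (wn f) (fun i => cc f g i) =
        f * Phi f (wn f) (fun i => cc f (g /ʷ f) i) +
          ((g %ʷ f : Polynomial O) : PowerSeries O) := by
      have h3 : (fun i : Fin (wn f) => cc f g i) =
          (fun i : Fin (wn f) => X * cc f (g /ʷ f) i) +
            fun i : Fin (wn f) => C ((g %ʷ f).coeff i) := by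
        funext i
        exact cc_decomp f g i
      rw [h3, Phi_add hf, Phi_X_mul hf, Phi_C,
        ← coe_eq_of_degree_lt _ (degree_weierstrassMod_lt g f)]
    have h4 : g - Phi f (wn f) (fun i => cc f g i) =
        f * ((g /ʷ f) - Phi f (wn f) (fun i => cc f (g /ʷ f) i)) := by
      linear_combination h1 - h2
    rw [h4, pow_succ']
    exact mul_dvd_mul (X_dvd_iff.mpr hf0) (ih _)

theorem forward [IsDomain O] (hf : HasSubst f) (hg : f.map (IsLocalRing.residue O) ≠ 0) :
    ∃ (n : ℕ) (b : Fin n → PowerSeries O), ∀ g : PowerSeries O,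
      ∃! c : Fin n → PowerSeries O, g = ∑ i, (subst f (c i) : PowerSeries O) * b i := by
  have hf0 : constantCoeff f = 0 := IsNilpotent.eq_zero hf
  refine ⟨wn f, fun i => X ^ (i : ℕ), fun g => ?_⟩
  have hex : g = Phi f (wn f) (fun i => cc f g i) := by
    have h0 : g - Phi f (wn f) (fun i => cc f g i) = 0 := by
      ext d
      have h1 := X_pow_dvd_iff.mp (Phi_cc hf hf0 hg (d + 1) g) d (Nat.lt_succ_self d)
      rw [h1, map_zero]
    exact sub_eq_zero.mp h0
  refine ⟨fun i => cc f g i, hex, ?_⟩
  intro c' hc'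
  have hc'' : g = Phi f (wn f) c' := hc'
  exact Phi_injective hf hg _ _ (hc''.symm.trans hex)

theorem backward_aux (hf : HasSubst f)
    (hall : ∀ j, coeff j f ∈ IsLocalRing.maximalIdeal O) (c : PowerSeries O) :
    ∃ κ : IsLocalRing.ResidueField O,
      (subst f c : PowerSeries O).map (IsLocalRing.residue O) = C κ := by
  have h0 : f.map (IsLocalRing.residue O) = 0 := by
    ext j
    rw [coeff_map, map_zero]
    exact (IsLocalRing.residue_eq_zero_iff _).mpr (hall j)
  have h1 : (subst f c : PowerSeries O).map (IsLocalRing.residue O) =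
      (c.map (IsLocalRing.residue O)).subst (f.map (IsLocalRing.residue O)) := map_subst hf c
  refine ⟨constantCoeff (c.map (IsLocalRing.residue O)), ?_⟩
  rw [h1, h0, subst_zero_eq_C_constantCoeff, MvPowerSeries.map_C]
  rfl

theorem backward (hf : HasSubst f)
    (hall : ∀ j, coeff j f ∈ IsLocalRing.maximalIdeal O)
    (n : ℕ) (b : Fin n → PowerSeries O)
    (h : ∀ g : PowerSeries O, ∃ c : Fin n → PowerSeries O,
      g = ∑ i, (subst f (c i) : PowerSeries O) * b i) : False := by
  let π : PowerSeries O →+* PowerSeries (IsLocalRing.ResidueField O) :=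
    PowerSeries.map (IsLocalRing.residue O)
  let W : Submodule (IsLocalRing.ResidueField O) (PowerSeries (IsLocalRing.ResidueField O)) :=
    Submodule.span _ (Set.range fun i => π (b i))
  have hmem : ∀ j : ℕ, (X : PowerSeries (IsLocalRing.ResidueField O)) ^ j ∈ W := by
    intro j
    obtain ⟨c, hc⟩ := h (X ^ j)
    have h1 : (X : PowerSeries (IsLocalRing.ResidueField O)) ^ j = π (X ^ j) := by
      rw [map_pow]
      congr 1
      exact (map_X _).symm
    rw [h1, hc, map_sum]
    refine Submodule.sum_mem _ fun i _ => ?_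
    obtain ⟨κ, hκ⟩ := backward_aux hf hall (c i)
    rw [map_mul]
    have h2 : π (subst f (c i)) = C κ := hκ
    rw [h2, ← smul_eq_C_mul]
    exact Submodule.smul_mem _ _ (Submodule.subset_span ⟨i, rfl⟩)
  haveI hfin : Module.Finite (IsLocalRing.ResidueField O) W :=
    FiniteDimensional.span_of_finite _ (Set.finite_range _)
  have hle : Module.finrank (IsLocalRing.ResidueField O) W ≤ n := by
    have h3 : Module.finrank (IsLocalRing.ResidueField O) W ≤ Fintype.card (Fin n) :=
      finrank_range_le_card (R := IsLocalRing.ResidueField O) (fun i => π (b i))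
    rw [Fintype.card_fin] at h3
    exact h3
  let v : Fin (n + 1) → W := fun j => ⟨X ^ (j : ℕ), hmem j⟩
  have hli : LinearIndependent (IsLocalRing.ResidueField O) v := by
    apply LinearIndependent.of_comp W.subtype
    rw [Fintype.linearIndependent_iff]
    intro a ha i
    have h2 : coeff (i : ℕ) (∑ j : Fin (n + 1),
        a j • (X : PowerSeries (IsLocalRing.ResidueField O)) ^ (j : ℕ)) = a i := by
      rw [map_sum, Finset.sum_eq_single i]
      · rw [map_smul, coeff_X_pow, if_pos rfl, smul_eq_mul, mul_one]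
      · intro j _ hj
        rw [map_smul, coeff_X_pow, if_neg, smul_zero]
        intro h4
        exact hj (Fin.ext h4.symm)
      · intro h4
        exact absurd (Finset.mem_univ i) h4
    have h3 : ∑ j : Fin (n + 1),
        a j • (X : PowerSeries (IsLocalRing.ResidueField O)) ^ (j : ℕ) = 0 := ha
    rw [h3, map_zero] at h2
    exact h2.symm
  have h5 := hli.fintype_card_le_finrank
  simp only [Fintype.card_fin] at h5
  omega

theorem main (O : Type u) [CommRing O] [IsDomain O] [IsLocalRing O]
    [IsAdicComplete (IsLocalRing.maximalIdeal O) O] (f : PowerSeries O) (hf : HasSubst f) :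
    (∃ n : ℕ, coeff n f ∉ IsLocalRing.maximalIdeal O) ↔
      ∃ (n : ℕ) (b : Fin n → PowerSeries O), ∀ g : PowerSeries O,
        ∃! c : Fin n → PowerSeries O, g = ∑ i, (subst f (c i) : PowerSeries O) * b i := by
  constructor
  · rintro ⟨N, hN⟩
    apply forward hf
    intro h0
    apply hN
    have h1 := congrArg (coeff N) h0
    rw [coeff_map, map_zero] at h1
    exact (IsLocalRing.residue_eq_zero_iff _).mp h1
  · rintro ⟨n, b, hb⟩
    by_contra hcon
    push Not at hcon
    exact backward hf hcon n b (fun g => (hb g).exists)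

end Local

end Groth.Agent.Helper25.WeierFree
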