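import Mathlib

set_option autoImplicit false

namespace Groth.Agent.Helper25.WeilMod

open Polynomial

section Reduce

/-- reduction of a two-variable polynomial modulo `FV - q` to a one-variable polynomial, after
multiplying by a power of `F` -/
lemma exists_reduce (q : ℤ) (g : MvPolynomial (Fin 2) ℤ) :
    ∃ (N : ℕ) (G : ℤ[X]) (k : MvPolynomial (Fin 2) ℤ),
      (MvPolynomial.X 0) ^ N * g =
        Polynomial.aeval (MvPolynomial.X 0 : MvPolynomial (Fin 2) ℤ) G
        + k * (MvPolynomial.X 0 * MvPolynomial.X 1 - MvPolynomial.C q) := by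
  induction g using MvPolynomial.induction_on with
  | C c =>
    refine ⟨0, Polynomial.C c, 0, ?_⟩
    simp [MvPolynomial.algebraMap_eq]
  | add g₁ g₂ h₁ h₂ =>
    obtain ⟨N₁, G₁, k₁, e₁⟩ := h₁
    obtain ⟨N₂, G₂, k₂, e₂⟩ := h₂
    refine ⟨N₁ + N₂, X ^ N₂ * G₁ + X ^ N₁ * G₂,
      MvPolynomial.X 0 ^ N₂ * k₁ + MvPolynomial.X 0 ^ N₁ * k₂, ?_⟩
    simp only [map_add, map_mul, map_pow, Polynomial.aeval_X]
    rw [pow_add]
    linear_combination (MvPolynomial.X 0 ^ N₂) * e₁ + (MvPolynomial.X 0 ^ N₁) * e₂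
  | mul_X g i h =>
    obtain ⟨N, G, k, e⟩ := h
    have hi : i = 0 ∨ i = 1 := by fin_cases i <;> simp
    rcases hi with rfl | rfl
    · refine ⟨N, G * X, k * MvPolynomial.X 0, ?_⟩
      simp only [map_mul, Polynomial.aeval_X]
      linear_combination (MvPolynomial.X 0) * e
    · refine ⟨N + 1, Polynomial.C q * G,
        Polynomial.aeval (MvPolynomial.X 0 : MvPolynomial (Fin 2) ℤ) G
          + k * (MvPolynomial.X 0 * MvPolynomial.X 1 - MvPolynomial.C q)
          + k * MvPolynomial.C q, ?_⟩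
      simp only [map_mul, Polynomial.aeval_C, MvPolynomial.algebraMap_eq]
      rw [pow_succ]
      linear_combination (MvPolynomial.X 0 * MvPolynomial.X 1) * e

lemma apply_hom {S : Type*} [Ring S] (θ : MvPolynomial (Fin 2) ℤ →+* S) (q : ℤ)
    (hθ : θ (MvPolynomial.X 0) * θ (MvPolynomial.X 1) = θ (MvPolynomial.C q))
    (g : MvPolynomial (Fin 2) ℤ) (N : ℕ) (G : ℤ[X]) (k : MvPolynomial (Fin 2) ℤ)
    (h : (MvPolynomial.X 0) ^ N * g =
        Polynomial.aeval (MvPolynomial.X 0 : MvPolynomial (Fin 2) ℤ) G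
        + k * (MvPolynomial.X 0 * MvPolynomial.X 1 - MvPolynomial.C q)) :
    θ (MvPolynomial.X 0) ^ N * θ g =
      Polynomial.eval₂ (Int.castRingHom S) (θ (MvPolynomial.X 0)) G := by
  have h1 := congrArg θ h
  simp only [map_mul, map_pow, map_add, map_sub] at h1
  rw [hθ, sub_self, mul_zero, add_zero] at h1
  rw [h1, Polynomial.aeval_def, Polynomial.hom_eval₂]
  congr 1
  exact RingHom.ext_int _ _

end Reduce

section EndSide

variable {T : Type*} [AddCommGroup T] [Module.Finite ℤ T] [Module.Free ℤ T]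

lemma comm_of_mul_eq (FT VT : Module.End ℤ T) (q : ℤ) (hq : q ≠ 0)
    (h : FT * VT = (q : Module.End ℤ T)) : VT * FT = (q : Module.End ℤ T) := by
  classical
  let b := Module.Free.chooseBasis ℤ T
  let Θ : Module.End ℤ T →+* Matrix (Module.Free.ChooseBasisIndex ℤ T)
      (Module.Free.ChooseBasisIndex ℤ T) ℚ :=
    (Int.castRingHom ℚ).mapMatrix.comp
      ((LinearMap.toMatrixAlgEquiv b : Module.End ℤ T ≃ₐ[ℤ] _) : Module.End ℤ T →+* _)
  have hΘinj : Function.Injective Θ := by
    intro x y hxy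
    apply (LinearMap.toMatrixAlgEquiv b).injective
    ext i j
    have := congrFun (congrFun hxy i) j
    simpa [Θ] using this
  have hq' : (q : ℚ) ≠ 0 := Int.cast_ne_zero.mpr hq
  have hqm : ((q : ℤ) : Matrix (Module.Free.ChooseBasisIndex ℤ T)
      (Module.Free.ChooseBasisIndex ℤ T) ℚ) = (q : ℚ) • 1 := by
    rw [← Algebra.algebraMap_eq_smul_one, map_intCast]
  have h1 : Θ FT * Θ VT = (q : ℚ) • 1 := by rw [← map_mul, h, map_intCast, hqm]
  have h2 : Θ FT * ((q : ℚ)⁻¹ • Θ VT) = 1 := by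
    rw [Matrix.mul_smul, h1, smul_smul, inv_mul_cancel₀ hq', one_smul]
  have h3 := mul_eq_one_comm.mp h2
  rw [Matrix.smul_mul] at h3
  have h4 : Θ VT * Θ FT = (q : ℚ) • 1 := by
    have := congrArg (fun M => (q : ℚ) • M) h3
    simpa [smul_smul, hq'] using this
  apply hΘinj
  rw [map_mul, h4, map_intCast, hqm]

lemma injective_of_mul_eq (FT VT : Module.End ℤ T) (q : ℤ) (hq : q ≠ 0)
    (h : VT * FT = (q : Module.End ℤ T)) : Function.Injective FT := by
  intro x y hxy
  have h1 : (VT * FT) x = (VT * FT) y := by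
    rw [Module.End.mul_apply, Module.End.mul_apply, hxy]
  rw [h, Module.End.intCast_apply, Module.End.intCast_apply] at h1
  exact smul_right_injective T hq h1

lemma commute_aeval (FT VT : Module.End ℤ T) (hc : Commute FT VT) (P : ℤ[X]) :
    Commute (Polynomial.aeval FT P) VT := by
  induction P using Polynomial.induction_on' with
  | add p r hp hr => rw [map_add]; exact hp.add_left hr
  | monomial n c =>
    rw [Polynomial.aeval_monomial]
    exact (Algebra.commute_algebraMap_left c VT).mul_left (hc.pow_left n)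

end EndSide

section Main

variable {L : Type*} [CommRing L] [Algebra ℤ L] (a b : L) (q : ℤ)

theorem main (hab : a * b = (q : L)) (hq : q ≠ 0) (Pw : ℤ[X]) (hPw : Polynomial.aeval a Pw = 0)
    (hdvd : ∀ G : ℤ[X], Polynomial.aeval a G = 0 → Pw ∣ G)
    (T : Type*) [AddCommGroup T] [Module.Finite ℤ T] [Module.Free ℤ T] (FT : T →ₗ[ℤ] T) :
    (∃ _ : Module (MvPolynomial.aeval ![a, b] : MvPolynomial (Fin 2) ℤ →ₐ[ℤ] L).range T,
        ∀ t : T, (⟨(MvPolynomial.aeval ![a, b] : MvPolynomial (Fin 2) ℤ →ₐ[ℤ] L)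
          (MvPolynomial.X 0), AlgHom.mem_range_self _ _⟩ :
          (MvPolynomial.aeval ![a, b] : MvPolynomial (Fin 2) ℤ →ₐ[ℤ] L).range) • t = FT t) ↔
      (Polynomial.aeval FT Pw = 0 ∧ ∃ VT : T →ₗ[ℤ] T, FT ∘ₗ VT = q • LinearMap.id) := by
  set ev : MvPolynomial (Fin 2) ℤ →ₐ[ℤ] L := MvPolynomial.aeval ![a, b] with hev
  have hev0 : ev (MvPolynomial.X 0) = a := by simp [hev]
  have hev1 : ev (MvPolynomial.X 1) = b := by simp [hev]
  have hCq : (MvPolynomial.C q : MvPolynomial (Fin 2) ℤ) = ((q : ℤ) : MvPolynomial (Fin 2) ℤ) :=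
    eq_intCast (MvPolynomial.C : ℤ →+* MvPolynomial (Fin 2) ℤ) q
  constructor
  · rintro ⟨inst, hF⟩
    letI := inst
    let φ : ev.range →+* Module.End ℤ T := Module.toModuleEnd ℤ T
    have hφ : ∀ (r : ev.range) (t : T), φ r t = r • t := fun r t => rfl
    set Fw : ev.range := ⟨ev (MvPolynomial.X 0), AlgHom.mem_range_self _ _⟩ with hFw
    set Vw : ev.range := ⟨ev (MvPolynomial.X 1), AlgHom.mem_range_self _ _⟩ with hVw
    have hφF : φ Fw = FT := LinearMap.ext fun t => by rw [hφ]; exact hF t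
    have hFw0 : Polynomial.aeval Fw Pw = 0 := by
      apply Subtype.ext
      rw [Polynomial.aeval_subalgebra_coe]
      show Polynomial.aeval (ev (MvPolynomial.X 0)) Pw = 0
      rw [hev0]; exact hPw
    have hFV : Fw * Vw = ((q : ℤ) : ev.range) := by
      apply Subtype.ext
      have hc : ((((q : ℤ) : ev.range)) : L) = ((q : ℤ) : L) := map_intCast ev.range.val q
      rw [Subalgebra.coe_mul, hc]
      show ev (MvPolynomial.X 0) * ev (MvPolynomial.X 1) = _
      rw [hev0, hev1, hab]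
    refine ⟨?_, φ Vw, ?_⟩
    · rw [← hφF, Polynomial.aeval_def]
      have h1 : algebraMap ℤ (Module.End ℤ T) = φ.comp (algebraMap ℤ ev.range) :=
        RingHom.ext_int _ _
      rw [h1, ← Polynomial.hom_eval₂, ← Polynomial.aeval_def, hFw0, map_zero]
    · rw [← hφF, ← Module.End.mul_eq_comp, ← map_mul, hFV, map_intCast]
      ext t
      rw [Module.End.intCast_apply, LinearMap.smul_apply, LinearMap.id_apply]
  · rintro ⟨hP, VT, hFV⟩
    have hFV' : FT * VT = ((q : ℤ) : Module.End ℤ T) := by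
      rw [Module.End.mul_eq_comp, hFV]
      ext t
      rw [Module.End.intCast_apply, LinearMap.smul_apply, LinearMap.id_apply]
    have hVF := comm_of_mul_eq FT VT q hq hFV'
    have hFinj := injective_of_mul_eq FT VT q hq hVF
    have hcomm : Commute FT VT := by rw [Commute, SemiconjBy, hFV', hVF]
    let f₁ : ℤ[X] →+* Module.End ℤ T :=
      (Polynomial.aeval FT : ℤ[X] →ₐ[ℤ] Module.End ℤ T).toRingHom
    let f₂ : (ℤ[X])[X] →+* Module.End ℤ T :=
      Polynomial.eval₂RingHom' f₁ VT (fun P => commute_aeval FT VT hcomm P)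
    let χ : MvPolynomial (Fin 2) ℤ →ₐ[ℤ] (ℤ[X])[X] :=
      MvPolynomial.aeval ![Polynomial.C Polynomial.X, Polynomial.X]
    let ρ₀ : MvPolynomial (Fin 2) ℤ →+* Module.End ℤ T := f₂.comp χ.toRingHom
    have hρ0 : ρ₀ (MvPolynomial.X 0) = FT := by
      simp [ρ₀, χ, f₂, f₁]
    have hρ1 : ρ₀ (MvPolynomial.X 1) = VT := by
      simp [ρ₀, χ, f₂, f₁]
    have hρC : ρ₀ (MvPolynomial.C q) = ((q : ℤ) : Module.End ℤ T) := by
      rw [hCq, map_intCast]
    have hθ : ρ₀ (MvPolynomial.X 0) * ρ₀ (MvPolynomial.X 1) = ρ₀ (MvPolynomial.C q) := by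
      rw [hρ0, hρ1, hρC, hFV']
    have hevθ : ev.toRingHom (MvPolynomial.X 0) * ev.toRingHom (MvPolynomial.X 1) =
        ev.toRingHom (MvPolynomial.C q) := by
      show ev (MvPolynomial.X 0) * ev (MvPolynomial.X 1) = ev (MvPolynomial.C q)
      rw [hev0, hev1, hab, hCq, map_intCast]
    have hker : ∀ g, ev g = 0 → ρ₀ g = 0 := by
      intro g hg
      obtain ⟨N, G, k, e⟩ := exists_reduce q g
      have h1 : ev (MvPolynomial.X 0) ^ N * ev g =
          Polynomial.eval₂ (Int.castRingHom L) (ev (MvPolynomial.X 0)) G :=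
        apply_hom ev.toRingHom q hevθ g N G k e
      have h2 := apply_hom ρ₀ q hθ g N G k e
      rw [hg, mul_zero, hev0] at h1
      have h3 : Polynomial.aeval a G = 0 := by
        rw [Polynomial.aeval_def, RingHom.ext_int (algebraMap ℤ L) (Int.castRingHom L)]
        exact h1.symm
      obtain ⟨H, rfl⟩ := hdvd G h3
      rw [hρ0] at h2
      have h4 : Polynomial.eval₂ (Int.castRingHom (Module.End ℤ T)) FT (Pw * H) = 0 := by
        have h5 : Polynomial.eval₂ (Int.castRingHom (Module.End ℤ T)) FT (Pw * H) =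
            Polynomial.aeval FT (Pw * H) := by
          rw [Polynomial.aeval_def,
            RingHom.ext_int (algebraMap ℤ (Module.End ℤ T)) (Int.castRingHom _)]
        rw [h5, map_mul, hP, zero_mul]
      rw [h4] at h2
      have h6 : Function.Injective (FT ^ N) := by
        rw [Module.End.coe_pow]; exact hFinj.iterate N
      refine LinearMap.ext fun t => ?_
      have h5 : (FT ^ N) (ρ₀ g t) = 0 := by
        have := LinearMap.congr_fun h2 t
        simpa [Module.End.mul_apply] using this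
      exact h6 (by rw [h5, LinearMap.zero_apply, map_zero])
    let f : MvPolynomial (Fin 2) ℤ →+* ev.range := ev.rangeRestrict.toRingHom
    have hfsurj : Function.Surjective f := ev.rangeRestrict_surjective
    have hkerle : RingHom.ker f ≤ RingHom.ker ρ₀ := by
      intro g hg
      rw [RingHom.mem_ker] at hg ⊢
      apply hker
      exact congrArg Subtype.val hg
    let ρ : ev.range →+* Module.End ℤ T := f.liftOfSurjective hfsurj ⟨ρ₀, hkerle⟩
    have hρ : ∀ g, ρ (f g) = ρ₀ g := fun g =>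
      f.liftOfRightInverse_comp_apply _ _ ⟨ρ₀, hkerle⟩ g
    refine ⟨Module.compHom T ρ, fun t => ?_⟩
    show (ρ (f (MvPolynomial.X 0))) t = FT t
    rw [hρ, hρ0]

end Main

section PiEval

lemma aeval_pi_apply {ι : Type*} (K : ι → Type*) [∀ i, CommRing (K i)]
    [Algebra ℤ ((i : ι) → K i)] (x : (i : ι) → K i) (P : ℤ[X]) (i : ι) :
    (Polynomial.aeval x P) i = Polynomial.aeval (x i) P := by
  rw [Polynomial.aeval_def, Polynomial.aeval_def]
  have h := Polynomial.hom_eval₂ P (algebraMap ℤ ((i : ι) → K i)) (Pi.evalRingHom K i) x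
  rw [RingHom.ext_int ((Pi.evalRingHom K i).comp (algebraMap ℤ ((i : ι) → K i)))
    (algebraMap ℤ (K i))] at h
  exact h

end PiEval

end Groth.Agent.Helper25.WeilMod
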