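import Mathlib

set_option autoImplicit false

namespace Groth.Agent.Helper25.WeilOrd

open Polynomial

section Ultra

variable {L : Type*} [NormedField L] [IsUltrametricDist L]

lemma norm_sum_lt_one {ι : Type*} (s : Finset ι) (f : ι → L) (h : ∀ i ∈ s, ‖f i‖ < 1) :
    ‖∑ i ∈ s, f i‖ < 1 := by
  classical
  induction s using Finset.induction_on with
  | empty => simp
  | insert a s ha ih =>
    rw [Finset.sum_insert ha]
    refine lt_of_le_of_lt (IsUltrametricDist.norm_add_le_max _ _) (max_lt ?_ ?_)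
    · exact h a (Finset.mem_insert_self a s)
    · exact ih (fun i hi => h i (Finset.mem_insert_of_mem hi))

lemma norm_sub_le_one {a b : L} (ha : ‖a‖ ≤ 1) (hb : ‖b‖ ≤ 1) : ‖a - b‖ ≤ 1 := by
  rw [sub_eq_add_neg]
  refine le_trans (IsUltrametricDist.norm_add_le_max _ _) (max_le ha ?_)
  rwa [norm_neg]

lemma norm_sub_lt_one {a b : L} (ha : ‖a‖ < 1) (hb : ‖b‖ < 1) : ‖a - b‖ < 1 := by
  rw [sub_eq_add_neg]
  refine lt_of_le_of_lt (IsUltrametricDist.norm_add_le_max _ _) (max_lt ha ?_)
  rwa [norm_neg]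

/-- The monic polynomial with prescribed roots. -/
noncomputable def mprod (N : Multiset L) : L[X] := (N.map fun β => X - C β).prod

lemma mprod_zero : mprod (0 : Multiset L) = 1 := by simp [mprod]

lemma mprod_cons (β : L) (N : Multiset L) : mprod (β ::ₘ N) = (X - C β) * mprod N := by
  simp [mprod]

lemma mprod_add (U N : Multiset L) : mprod (U + N) = mprod U * mprod N := by
  simp [mprod]

lemma coeff_mprod_cons_zero (β : L) (N : Multiset L) :
    (mprod (β ::ₘ N)).coeff 0 = - (β * (mprod N).coeff 0) := by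
  rw [mprod_cons, sub_mul, coeff_sub, coeff_C_mul, coeff_X_mul_zero, zero_sub]

lemma coeff_mprod_cons_succ (β : L) (N : Multiset L) (j : ℕ) :
    (mprod (β ::ₘ N)).coeff (j + 1) = (mprod N).coeff j - β * (mprod N).coeff (j + 1) := by
  rw [mprod_cons, sub_mul, coeff_sub, coeff_C_mul, coeff_X_mul]

lemma coeff_mprod_le_one (N : Multiset L) (h : ∀ β ∈ N, ‖β‖ ≤ 1) :
    ∀ j, ‖(mprod N).coeff j‖ ≤ 1 := by
  induction N using Multiset.induction_on with
  | empty =>
    intro j
    rw [mprod_zero, coeff_one]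
    split_ifs <;> simp
  | cons β N ih =>
    intro j
    have hβ := h β (Multiset.mem_cons_self β N)
    have ih' := ih (fun γ hγ => h γ (Multiset.mem_cons_of_mem hγ))
    have hm : ∀ j, ‖β * (mprod N).coeff j‖ ≤ 1 := fun j => by
      rw [norm_mul]; exact mul_le_one₀ hβ (norm_nonneg _) (ih' j)
    cases j with
    | zero => rw [coeff_mprod_cons_zero, norm_neg]; exact hm 0
    | succ j => rw [coeff_mprod_cons_succ]; exact norm_sub_le_one (ih' j) (hm (j + 1))

lemma coeff_mprod_lt_one (N : Multiset L) (h : ∀ β ∈ N, ‖β‖ < 1) :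
    ∀ j, j < Multiset.card N → ‖(mprod N).coeff j‖ < 1 := by
  induction N using Multiset.induction_on with
  | empty => intro j hj; simp at hj
  | cons β N ih =>
    intro j hj
    have hβ := h β (Multiset.mem_cons_self β N)
    have hN : ∀ γ ∈ N, ‖γ‖ < 1 := fun γ hγ => h γ (Multiset.mem_cons_of_mem hγ)
    have hle := coeff_mprod_le_one N (fun γ hγ => (hN γ hγ).le)
    have hm : ∀ j, ‖β * (mprod N).coeff j‖ < 1 := fun j => by
      rw [norm_mul]; exact mul_lt_one_of_nonneg_of_lt_one_left (norm_nonneg _) hβ (hle j)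
    rw [Multiset.card_cons] at hj
    cases j with
    | zero => rw [coeff_mprod_cons_zero, norm_neg]; exact hm 0
    | succ j =>
      rw [coeff_mprod_cons_succ]
      exact norm_sub_lt_one (ih hN j (by omega)) (hm (j + 1))

lemma coeff_zero_mprod_eq_one (U : Multiset L) (h : ∀ α ∈ U, ‖α‖ = 1) :
    ‖(mprod U).coeff 0‖ = 1 := by
  induction U using Multiset.induction_on with
  | empty => rw [mprod_zero, coeff_one_zero, norm_one]
  | cons α U ih =>
    rw [coeff_mprod_cons_zero, norm_neg, norm_mul, h α (Multiset.mem_cons_self α U),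
      ih (fun γ hγ => h γ (Multiset.mem_cons_of_mem hγ)), mul_one]

lemma mprod_monic (N : Multiset L) : (mprod N).Monic := by
  unfold mprod
  exact monic_multiset_prod_of_monic _ _ (fun β _ => monic_X_sub_C β)

lemma natDegree_mprod (N : Multiset L) : (mprod N).natDegree = Multiset.card N := by
  unfold mprod
  exact natDegree_multiset_prod_X_sub_C_eq_card N

lemma coeff_card_mprod (N : Multiset L) : (mprod N).coeff (Multiset.card N) = 1 := by
  have := (mprod_monic N).coeff_natDegree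
  rwa [natDegree_mprod] at this

lemma coeff_mul_lt_one (U N : Multiset L) (hU : ∀ α ∈ U, ‖α‖ = 1) (hN : ∀ β ∈ N, ‖β‖ < 1)
    (m : ℕ) (hm : m < Multiset.card N) : ‖(mprod U * mprod N).coeff m‖ < 1 := by
  rw [coeff_mul]
  apply norm_sum_lt_one
  rintro ⟨i, j⟩ hij
  have hj : i + j = m := Finset.HasAntidiagonal.mem_antidiagonal.mp hij
  rw [norm_mul]
  have h1 := coeff_mprod_le_one U (fun α hα => (hU α hα).le) i
  have h2 := coeff_mprod_lt_one N hN j (by omega)
  calc ‖(mprod U).coeff i‖ * ‖(mprod N).coeff j‖ ≤ 1 * ‖(mprod N).coeff j‖ := by gcongr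
    _ = ‖(mprod N).coeff j‖ := one_mul _
    _ < 1 := h2

lemma coeff_mul_eq_one (U N : Multiset L) (hU : ∀ α ∈ U, ‖α‖ = 1) (hN : ∀ β ∈ N, ‖β‖ < 1) :
    ‖(mprod U * mprod N).coeff (Multiset.card N)‖ = 1 := by
  classical
  rw [coeff_mul]
  have hmem : ((0, Multiset.card N) : ℕ × ℕ) ∈ Finset.HasAntidiagonal.antidiagonal (Multiset.card N) := by simp
  rw [← Finset.add_sum_erase _ _ hmem]
  have h0 : ‖(mprod U).coeff 0 * (mprod N).coeff (Multiset.card N)‖ = 1 := by
    rw [coeff_card_mprod, mul_one]; exact coeff_zero_mprod_eq_one U hU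
  have hrest : ‖∑ x ∈ (Finset.HasAntidiagonal.antidiagonal (Multiset.card N)).erase (0, Multiset.card N),
      (mprod U).coeff x.1 * (mprod N).coeff x.2‖ < 1 := by
    apply norm_sum_lt_one
    rintro ⟨i, j⟩ hij
    rw [Finset.mem_erase, Finset.HasAntidiagonal.mem_antidiagonal] at hij
    obtain ⟨hne, hsum⟩ := hij
    have hsum' : i + j = Multiset.card N := hsum
    have hj : j < Multiset.card N := by
      rcases Nat.lt_or_ge j (Multiset.card N) with h | h
      · exact h
      · exfalso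
        apply hne
        have hi0 : i = 0 := by omega
        have hjv : j = Multiset.card N := by omega
        rw [hi0, hjv]
    rw [norm_mul]
    have h1 := coeff_mprod_le_one U (fun α hα => (hU α hα).le) i
    have h2 := coeff_mprod_lt_one N hN j hj
    calc ‖(mprod U).coeff i‖ * ‖(mprod N).coeff j‖ ≤ 1 * ‖(mprod N).coeff j‖ := by gcongr
      _ = ‖(mprod N).coeff j‖ := one_mul _
      _ < 1 := h2
  have hne : ‖(mprod U).coeff (0, Multiset.card N).1 * (mprod N).coeff (0, Multiset.card N).2‖ ≠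
      ‖∑ x ∈ (Finset.HasAntidiagonal.antidiagonal (Multiset.card N)).erase (0, Multiset.card N),
      (mprod U).coeff x.1 * (mprod N).coeff x.2‖ := by
    show ‖(mprod U).coeff 0 * (mprod N).coeff (Multiset.card N)‖ ≠ _
    rw [h0]; exact (ne_of_lt hrest).symm
  rw [IsUltrametricDist.norm_add_eq_max_of_norm_ne_norm hne]
  show max ‖(mprod U).coeff 0 * (mprod N).coeff (Multiset.card N)‖ _ = 1
  rw [h0]
  exact max_eq_left hrest.le

lemma norm_root_le_one {F : L[X]} (hF : F.Monic) (hc : ∀ j, ‖F.coeff j‖ ≤ 1) {α : L}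
    (hα : F.eval α = 0) : ‖α‖ ≤ 1 := by
  by_contra hlt
  push Not at hlt
  have h1 : F.eval α = α ^ F.natDegree + ∑ i ∈ Finset.range F.natDegree, F.coeff i * α ^ i := by
    conv_lhs => rw [hF.as_sum]
    simp [eval_finsetSum]
  rw [h1] at hα
  have h2 : α ^ F.natDegree = - ∑ i ∈ Finset.range F.natDegree, F.coeff i * α ^ i :=
    eq_neg_of_add_eq_zero_left hα
  rcases Nat.eq_zero_or_pos F.natDegree with h0 | hpos
  · rw [h0] at hα; simp at hα
  · have h3 : ‖∑ i ∈ Finset.range F.natDegree, F.coeff i * α ^ i‖ ≤ ‖α‖ ^ (F.natDegree - 1) := by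
      apply IsUltrametricDist.norm_sum_le_of_forall_le_of_nonneg (by positivity)
      intro i hi
      rw [norm_mul, norm_pow]
      have hi' : i ≤ F.natDegree - 1 := by have := Finset.mem_range.mp hi; omega
      calc ‖F.coeff i‖ * ‖α‖ ^ i ≤ 1 * ‖α‖ ^ i := by gcongr; exact hc i
        _ = ‖α‖ ^ i := one_mul _
        _ ≤ ‖α‖ ^ (F.natDegree - 1) := pow_le_pow_right₀ hlt.le hi'
    have h4 : ‖α‖ ^ F.natDegree ≤ ‖α‖ ^ (F.natDegree - 1) := by
      rw [← norm_pow, h2, norm_neg]; exact h3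
    have h5 : ‖α‖ ^ (F.natDegree - 1) < ‖α‖ ^ F.natDegree := pow_lt_pow_right₀ hlt (by omega)
    linarith

theorem main_ultra (F : L[X]) (hF : F.Monic) (hsplit : F.Splits) (hc : ∀ j, ‖F.coeff j‖ ≤ 1)
    (hnodup : F.roots.Nodup) (q : L) (hq0 : q ≠ 0) (hq : ‖q‖ < 1)
    (hinv : ∀ α ∈ F.roots, q / α ∈ F.roots)
    [DecidablePred fun z : L => ‖z‖ = 1] :
    2 * Multiset.card (F.roots.filter (fun z => ‖z‖ = 1)) = F.natDegree ↔
      ‖F.coeff (F.natDegree / 2)‖ = 1 := by
  obtain ⟨U, hUdef⟩ : ∃ U, U = F.roots.filter (fun z => ‖z‖ = 1) := ⟨_, rfl⟩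
  obtain ⟨N, hNdef⟩ : ∃ N, N = F.roots.filter (fun z => ¬ ‖z‖ = 1) := ⟨_, rfl⟩
  rw [← hUdef]
  have hUN : U + N = F.roots := by
    rw [hUdef, hNdef]; exact Multiset.filter_add_not _ _
  have hU : ∀ α ∈ U, ‖α‖ = 1 := fun α hα => by
    rw [hUdef] at hα; exact (Multiset.mem_filter.mp hα).2
  have hN : ∀ β ∈ N, ‖β‖ < 1 := fun β hβ => by
    rw [hNdef] at hβ
    obtain ⟨h1, h2⟩ := Multiset.mem_filter.mp hβ
    exact lt_of_le_of_ne (norm_root_le_one hF hc ((mem_roots hF.ne_zero).mp h1)) h2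
  have hFeq : F = mprod U * mprod N := by
    rw [← mprod_add, hUN]; exact hsplit.eq_prod_roots_of_monic hF
  have hcard : Multiset.card U + Multiset.card N = F.natDegree := by
    rw [← Multiset.card_add, hUN, hsplit.natDegree_eq_card_roots]
  have hle : Multiset.card U ≤ Multiset.card N := by
    have hsub : U.map (fun α => q / α) ≤ N := by
      rw [Multiset.le_iff_subset]
      · intro β hβ
        obtain ⟨α, hα, rfl⟩ := Multiset.mem_map.mp hβ
        rw [hNdef, Multiset.mem_filter]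
        refine ⟨hinv α ?_, ?_⟩
        · rw [hUdef] at hα; exact Multiset.mem_of_mem_filter hα
        · rw [norm_div, hU α hα, div_one]; exact ne_of_lt hq
      · refine Multiset.Nodup.map ?_ ?_
        · intro a b hab
          simp only [div_eq_mul_inv] at hab
          exact inv_injective (mul_left_cancel₀ hq0 hab)
        · rw [hUdef]; exact Multiset.Nodup.filter _ hnodup
    have := Multiset.card_le_card hsub
    rwa [Multiset.card_map] at this
  have hlt : ∀ m < Multiset.card N, ‖F.coeff m‖ < 1 := fun m hm => by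
    rw [hFeq]; exact coeff_mul_lt_one U N hU hN m hm
  have heq : ‖F.coeff (Multiset.card N)‖ = 1 := by
    rw [hFeq]; exact coeff_mul_eq_one U N hU hN
  constructor
  · intro h
    have : F.natDegree / 2 = Multiset.card N := by omega
    rw [this]; exact heq
  · intro h
    have hnot : ¬ (F.natDegree / 2 < Multiset.card N) := fun hlt' => by
      have := hlt _ hlt'; rw [h] at this; exact lt_irrefl _ this
    omega

end Ultra

section Refl

lemma sym_of_half (P : ℤ[X]) (Q : ℤ) (d : ℕ) (hn : P.natDegree = d + d)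
    (hsym : ∀ r ≤ d, P.coeff (d - r) = Q ^ r * P.coeff (d + r)) :
    ∀ j ≤ P.natDegree, P.coeff j * Q ^ j = Q ^ d * P.coeff (P.natDegree - j) := by
  intro j hj
  rcases le_total j d with h | h
  · obtain ⟨r, rfl⟩ := Nat.exists_eq_add_of_le h
    have := hsym r (by omega)
    rw [Nat.add_sub_cancel] at this
    have h2 : P.natDegree - j = j + r + r := by omega
    rw [h2, this, pow_add]; ring
  · obtain ⟨r, rfl⟩ := Nat.exists_eq_add_of_le h
    have hr : r ≤ d := by omega
    have := hsym r hr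
    have h2 : P.natDegree - (d + r) = d - r := by omega
    rw [h2, this, pow_add]; ring

lemma eval_reflect {L : Type*} [CommRing L] (P : ℤ[X]) (Q : ℤ) (d : ℕ)
    (hsym : ∀ j ≤ P.natDegree, P.coeff j * Q ^ j = Q ^ d * P.coeff (P.natDegree - j))
    (α β : L) (hαβ : α * β = (Q : L)) :
    α ^ P.natDegree * (P.map (Int.castRingHom L)).eval β =
      (Q : L) ^ d * (P.map (Int.castRingHom L)).eval α := by
  rw [eval_map, eval_map, eval₂_eq_sum_range, eval₂_eq_sum_range, Finset.mul_sum, Finset.mul_sum]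
  rw [← Finset.sum_range_reflect
    (fun j => (Q : L) ^ d * ((Int.castRingHom L) (P.coeff j) * α ^ j)) (P.natDegree + 1)]
  apply Finset.sum_congr rfl
  intro j hj
  have hj' : j ≤ P.natDegree := by have := Finset.mem_range.mp hj; omega
  have h1 : P.natDegree + 1 - 1 - j = P.natDegree - j := by omega
  rw [h1]
  have h2 : α ^ P.natDegree = α ^ (P.natDegree - j) * α ^ j := by
    rw [← pow_add]; congr 1; omega
  have h3 : ((P.coeff j : ℤ) : L) * (Q : L) ^ j = (Q : L) ^ d * ((P.coeff (P.natDegree - j) : ℤ) : L) := by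
    have := congrArg (Int.cast : ℤ → L) (hsym j hj')
    push_cast at this
    exact this
  simp only [eq_intCast]
  calc α ^ P.natDegree * ((P.coeff j : L) * β ^ j)
      = ((P.coeff j : L) * (α * β) ^ j) * α ^ (P.natDegree - j) := by rw [h2, mul_pow]; ring
    _ = ((P.coeff j : L) * (Q : L) ^ j) * α ^ (P.natDegree - j) := by rw [hαβ]
    _ = ((Q : L) ^ d * (P.coeff (P.natDegree - j) : L)) * α ^ (P.natDegree - j) := by rw [h3]
    _ = (Q : L) ^ d * ((P.coeff (P.natDegree - j) : L) * α ^ (P.natDegree - j)) := by ring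

end Refl

section Padic

variable (p : ℕ) [hp : Fact p.Prime]

lemma norm_intCast_le_one (a : ℤ) : ‖(a : PadicAlgCl p)‖ ≤ 1 := by
  have : (a : PadicAlgCl p) = algebraMap ℚ_[p] (PadicAlgCl p) (a : ℚ_[p]) :=
    (map_intCast (algebraMap ℚ_[p] (PadicAlgCl p)) a).symm
  rw [this, PadicAlgCl.norm_extends]
  exact Padic.norm_int_le_one a

lemma norm_intCast_lt_one_iff (a : ℤ) : ‖(a : PadicAlgCl p)‖ < 1 ↔ (p : ℤ) ∣ a := by
  have : (a : PadicAlgCl p) = algebraMap ℚ_[p] (PadicAlgCl p) (a : ℚ_[p]) :=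
    (map_intCast (algebraMap ℚ_[p] (PadicAlgCl p)) a).symm
  rw [this, PadicAlgCl.norm_extends]
  exact Padic.norm_intCast_lt_one_iff

lemma norm_intCast_eq_one_iff (a : ℤ) : ‖(a : PadicAlgCl p)‖ = 1 ↔ ¬ (p : ℤ) ∣ a := by
  rw [← norm_intCast_lt_one_iff p a, not_lt]
  constructor
  · intro h; rw [h]
  · intro h; exact le_antisymm (norm_intCast_le_one p a) h

theorem ordinary_iff (e : ℕ) (he : 0 < e) (P : ℤ[X]) (hP : P.Monic)
    (hirr : Irreducible P) (heven : Even P.natDegree)
    (hsym : ∀ r ≤ P.natDegree / 2, P.coeff (P.natDegree / 2 - r) =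
        (p : ℤ) ^ (e * r) * P.coeff (P.natDegree / 2 + r))
    [DecidablePred fun z : PadicAlgCl p => ‖z‖ = 1] :
    2 * Multiset.card ((P.aroots (PadicAlgCl p)).filter (fun z => ‖z‖ = 1)) = P.natDegree ↔
      ¬ ((p : ℤ) ∣ P.coeff (P.natDegree / 2)) := by
  obtain ⟨d, hd⟩ := heven
  have hd2 : P.natDegree / 2 = d := by omega
  rw [hd2] at hsym
  have hsym' : ∀ r ≤ d, P.coeff (d - r) = ((p : ℤ) ^ e) ^ r * P.coeff (d + r) := fun r hr => by
    rw [hsym r hr, pow_mul]
  have hsymm := sym_of_half P ((p : ℤ) ^ e) d hd hsym'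
  obtain ⟨F, hFdef⟩ : ∃ F : (PadicAlgCl p)[X], F = P.map (Int.castRingHom (PadicAlgCl p)) :=
    ⟨_, rfl⟩
  have hFm : F.Monic := by rw [hFdef]; exact hP.map _
  have hFdeg : F.natDegree = P.natDegree := by rw [hFdef]; exact hP.natDegree_map _
  have hFc : ∀ j, F.coeff j = ((P.coeff j : ℤ) : PadicAlgCl p) := fun j => by
    rw [hFdef, coeff_map]; simp
  have hc : ∀ j, ‖F.coeff j‖ ≤ 1 := fun j => by rw [hFc]; exact norm_intCast_le_one p _
  have hsep : F.Separable := by
    have h1 : Irreducible (P.map (algebraMap ℤ ℚ)) :=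
      (hP.irreducible_iff_irreducible_map_fraction_map).mp hirr
    have h2 : (P.map (algebraMap ℤ ℚ)).Separable := h1.separable
    have h3 := h2.map (f := algebraMap ℚ (PadicAlgCl p))
    rw [Polynomial.map_map] at h3
    have hcomp : (algebraMap ℚ (PadicAlgCl p)).comp (algebraMap ℤ ℚ) =
        Int.castRingHom (PadicAlgCl p) := Subsingleton.elim _ _
    rw [hcomp] at h3
    rw [hFdef]
    exact h3
  have hnodup := nodup_roots hsep
  have hQ0 : (((p : ℤ) ^ e : ℤ) : PadicAlgCl p) ≠ 0 := by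
    rw [Int.cast_ne_zero]
    exact pow_ne_zero _ (by exact_mod_cast (Fact.out : p.Prime).ne_zero)
  have hQlt : ‖(((p : ℤ) ^ e : ℤ) : PadicAlgCl p)‖ < 1 :=
    (norm_intCast_lt_one_iff p _).mpr (dvd_pow_self _ he.ne')
  have hinv : ∀ α ∈ F.roots, (((p : ℤ) ^ e : ℤ) : PadicAlgCl p) / α ∈ F.roots := by
    intro α hα
    have hα0 : F.eval α = 0 := (mem_roots hFm.ne_zero).mp hα
    have hαne : α ≠ 0 := by
      rintro rfl
      have h0 := hsymm 0 (Nat.zero_le _)
      simp only [pow_zero, mul_one, Nat.sub_zero] at h0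
      rw [hP.coeff_natDegree, mul_one] at h0
      rw [← coeff_zero_eq_eval_zero, hFc, h0] at hα0
      have h5 := Int.cast_eq_zero.mp hα0
      exact absurd h5 (pow_ne_zero _ (pow_ne_zero _
        (by exact_mod_cast (Fact.out : p.Prime).ne_zero)))
    rw [mem_roots hFm.ne_zero, IsRoot.def]
    have hrefl := eval_reflect (L := PadicAlgCl p) P ((p : ℤ) ^ e) d hsymm α
      ((((p : ℤ) ^ e : ℤ) : PadicAlgCl p) / α) (by field_simp)
    rw [← hFdef, hα0, mul_zero] at hrefl
    exact (mul_eq_zero.mp hrefl).resolve_left (pow_ne_zero _ hαne)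
  have key := main_ultra F hFm (IsAlgClosed.splits F) hc hnodup _ hQ0 hQlt hinv
  have e1 : P.aroots (PadicAlgCl p) = F.roots := by
    rw [aroots_def, hFdef,
      (Subsingleton.elim (algebraMap ℤ (PadicAlgCl p)) (Int.castRingHom (PadicAlgCl p)))]
  rw [e1]
  refine Iff.trans ?_ (Iff.trans key ?_)
  · rw [hFdeg]
  · rw [hFdeg, hd2, hFc, norm_intCast_eq_one_iff]

end Padic

end Groth.Agent.Helper25.WeilOrd
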