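import Mathlib

/-!
Sums of polar parts on the projective line: the operator `T P = P' Π - P S`
(numerator of the derivative of `P / E`), basic identities and order lemmas.
-/

namespace Groth.Agent.Helper25.Wronsk
open Polynomial Finset

variable {k : Type*} [Field k] {m : ℕ} (r : Fin m → k) (a : Fin m → ℕ)

noncomputable def PP : k[X] := ∏ j, (X - C (r j))
noncomputable def Pj (i : Fin m) : k[X] := ∏ j ∈ univ.erase i, (X - C (r j))
noncomputable def EE : k[X] := ∏ j, (X - C (r j)) ^ (a j)
noncomputable def Ei (i : Fin m) : k[X] := ∏ j ∈ univ.erase i, (X - C (r j)) ^ (a j)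
noncomputable def DD : k[X] := ∏ j, (X - C (r j)) ^ (a j + 1)
noncomputable def Di (i : Fin m) : k[X] := ∏ j ∈ univ.erase i, (X - C (r j)) ^ (a j + 1)
noncomputable def SS : k[X] := ∑ j, C (a j : k) * Pj r j
noncomputable def T : k[X] →ₗ[k] k[X] :=
  (LinearMap.mulRight k (PP r)).comp derivative - LinearMap.mulRight k (SS r a)

theorem T_apply (P : k[X]) : T r a P = derivative P * PP r - P * SS r a := by
  simp only [T, LinearMap.sub_apply, LinearMap.comp_apply, LinearMap.mulRight_apply]

theorem PP_eq (i : Fin m) : PP r = (X - C (r i)) * Pj r i :=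
  (Finset.mul_prod_erase univ _ (mem_univ i)).symm

theorem EE_eq (i : Fin m) : EE r a = (X - C (r i)) ^ a i * Ei r a i :=
  (Finset.mul_prod_erase univ (fun j => (X - C (r j)) ^ a j) (mem_univ i)).symm

theorem DD_eq : DD r a = EE r a * PP r := by
  simp only [DD, EE, PP, ← Finset.prod_mul_distrib, pow_succ]

theorem Di_eq (i : Fin m) : Di r a i = Ei r a i * Pj r i := by
  simp only [Di, Ei, Pj, ← Finset.prod_mul_distrib, pow_succ]

theorem pow_aux (Z : k[X]) (n : ℕ) : C (n : k) * Z ^ (n - 1) * Z = C (n : k) * Z ^ n := by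
  rcases Nat.eq_zero_or_pos n with h | h
  · simp [h]
  · rw [mul_assoc, ← pow_succ, Nat.sub_add_cancel h]

theorem dE : derivative (EE r a) * PP r = EE r a * SS r a := by
  rw [EE, derivative_prod_finset, Finset.sum_mul, SS, Finset.mul_sum]
  refine Finset.sum_congr rfl fun i _ => ?_
  rw [derivative_X_sub_C_pow, PP_eq r i]
  change Ei r a i * _ * _ = EE r a * _
  rw [EE_eq r a i]
  linear_combination (Ei r a i * Pj r i) * pow_aux (X - C (r i)) (a i)

theorem T_mul (P g : k[X]) : T r a (P * g) = T r a P * g + P * derivative g * PP r := by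
  simp only [T_apply, derivative_mul]; ring

theorem T_EE : T r a (EE r a) = 0 := by
  rw [T_apply, dE, sub_self]

theorem T_EE_mul (g : k[X]) : T r a (EE r a * g) = DD r a * derivative g := by
  rw [T_mul, T_EE, DD_eq]; ring

theorem T_sub_EE (P : k[X]) (c : k) : T r a (P - C c * EE r a) = T r a P := by
  rw [map_sub, ← smul_eq_C_mul, map_smul, T_EE, smul_zero, sub_zero]

theorem T_Ei (i : Fin m) : T r a (Ei r a i) = - (C (a i : k) * Di r a i) := by
  have h := T_EE r a
  rw [EE_eq r a i, mul_comm, T_mul, derivative_X_sub_C_pow, PP_eq r i] at h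
  have hne : (X - C (r i)) ^ a i ≠ 0 := pow_ne_zero _ (X_sub_C_ne_zero _)
  apply mul_right_cancel₀ hne
  rw [Di_eq]
  linear_combination h - (Ei r a i * Pj r i) * pow_aux (X - C (r i)) (a i)

theorem T_Ei_mul (i : Fin m) (u : k[X]) :
    T r a (Ei r a i * u) =
      Di r a i * (derivative u * (X - C (r i)) - C (a i : k) * u) := by
  rw [T_mul, T_Ei, PP_eq r i, Di_eq]; ring

/-! ### degrees -/

theorem PP_monic : (PP r).Monic := monic_prod_of_monic _ _ fun j _ => monic_X_sub_C _

theorem PP_natDegree : (PP r).natDegree = m := by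
  rw [PP, natDegree_prod_of_monic _ _ (fun j _ => monic_X_sub_C _)]; simp

theorem Pj_monic (i : Fin m) : (Pj r i).Monic := monic_prod_of_monic _ _ fun j _ => monic_X_sub_C _

theorem Pj_natDegree (i : Fin m) : (Pj r i).natDegree = m - 1 := by
  rw [Pj, natDegree_prod_of_monic _ _ (fun j _ => monic_X_sub_C _)]
  simp [Finset.card_erase_of_mem]

theorem EE_monic : (EE r a).Monic :=
  monic_prod_of_monic _ _ fun j _ => (monic_X_sub_C _).pow _

theorem EE_natDegree : (EE r a).natDegree = ∑ j, a j := by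
  rw [EE, natDegree_prod_of_monic _ _ (fun j _ => (monic_X_sub_C _).pow _)]
  simp [natDegree_pow]

theorem EE_ne_zero : EE r a ≠ 0 := (EE_monic r a).ne_zero

theorem XPj_monic (j : Fin m) : (X * Pj r j).Monic := monic_X.mul (Pj_monic r j)

theorem XPj_natDegree (j : Fin m) : (X * Pj r j).natDegree = m := by
  rw [monic_X.natDegree_mul (Pj_monic r j), natDegree_X, Pj_natDegree]
  have := j.pos
  omega

theorem XS_eq : X * SS r a = ∑ j, C (a j : k) * (X * Pj r j) := by
  rw [SS, Finset.mul_sum]; exact Finset.sum_congr rfl fun j _ => by ring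

theorem XS_natDegree_le : (X * SS r a).natDegree ≤ m := by
  rw [XS_eq]
  refine natDegree_sum_le_of_forall_le _ _ fun j _ => ?_
  exact (natDegree_C_mul_le _ _).trans (XPj_natDegree r j).le

theorem XS_coeff : (X * SS r a).coeff m = ((∑ j, a j : ℕ) : k) := by
  rw [XS_eq, finsetSum_coeff]
  push_cast
  refine Finset.sum_congr rfl fun j _ => ?_
  rw [coeff_C_mul]
  have := (XPj_monic r j).coeff_natDegree
  rw [XPj_natDegree] at this
  rw [this, mul_one]

theorem XD_natDegree_le (P : k[X]) {M : ℕ} (hP : P.natDegree ≤ M) :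
    (X * derivative P).natDegree ≤ M := by
  rw [natDegree_le_iff_coeff_eq_zero]
  intro i hi
  cases i with
  | zero => simp
  | succ i =>
    rw [coeff_X_mul, coeff_derivative, coeff_eq_zero_of_natDegree_lt (by omega), zero_mul]

theorem XD_coeff (P : k[X]) (M : ℕ) : (X * derivative P).coeff M = (M : k) * P.coeff M := by
  cases M with
  | zero => simp
  | succ M => rw [coeff_X_mul, coeff_derivative]; push_cast; ring

theorem XT_eq (P : k[X]) : X * T r a P = (X * derivative P) * PP r - P * (X * SS r a) := by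
  rw [T_apply]; ring

theorem coeff_T (P : k[X]) (M j : ℕ) (hP : P.natDegree ≤ M) (hj : j + 1 = M + m) :
    (T r a P).coeff j = ((M : k) - ((∑ j, a j : ℕ) : k)) * P.coeff M := by
  have h2 : (T r a P).coeff j = (X * T r a P).coeff (j + 1) := (coeff_X_mul _ _).symm
  have hPPc : (PP r).coeff m = 1 := by
    have := (PP_monic r).coeff_natDegree
    rwa [PP_natDegree] at this
  rw [h2, XT_eq, hj, coeff_sub,
    coeff_mul_add_eq_of_natDegree_le (XD_natDegree_le P hP) (PP_natDegree r).le,
    coeff_mul_add_eq_of_natDegree_le hP (XS_natDegree_le r a), XS_coeff, XD_coeff, hPPc]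
  ring

/-- `T` maps polynomials of degree `≤ J` to polynomials of degree `< J + m`. -/
theorem T_natDegree (P : k[X]) (J : ℕ) (hP : P.natDegree ≤ J) (j : ℕ) (hj : J + m ≤ j) :
    (T r a P).coeff j = 0 := by
  have h2 : (T r a P).coeff j = (X * T r a P).coeff (j + 1) := (coeff_X_mul _ _).symm
  rw [h2, XT_eq, coeff_sub]
  have h3 : ((X * derivative P) * PP r).natDegree ≤ J + m :=
    natDegree_mul_le.trans (add_le_add (XD_natDegree_le P hP) (PP_natDegree r).le)
  have h4 : (P * (X * SS r a)).natDegree ≤ J + m :=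
    natDegree_mul_le.trans (add_le_add hP (XS_natDegree_le r a))
  rw [coeff_eq_zero_of_natDegree_lt (by omega), coeff_eq_zero_of_natDegree_lt (by omega), sub_zero]

theorem mem_LT_succ_iff (P : k[X]) (J : ℕ) : P ∈ degreeLT k (J + 1) ↔ P.natDegree ≤ J := by
  rw [mem_degreeLT, degree_lt_iff_coeff_zero, natDegree_le_iff_coeff_eq_zero]
  exact ⟨fun h i hi => h i hi, fun h i hi => h i hi⟩

theorem mem_LT_iff_coeff (P : k[X]) (J : ℕ) : P ∈ degreeLT k J ↔ ∀ i, J ≤ i → P.coeff i = 0 := by
  rw [mem_degreeLT, degree_lt_iff_coeff_zero]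

/-! ### the order at infinity -/

theorem inf_step [CharZero k] (J : ℕ) : ∀ (M : ℕ) (P : k[X]), P.natDegree = M →
    (∀ j, J + m ≤ j + 1 → (T r a P).coeff j = 0) →
      ∃ c : k, P - C c * EE r a ∈ degreeLT k J := by
  intro M
  induction M using Nat.strong_induction_on with
  | _ M ih =>
    intro P hM hcond
    by_cases hPJ : P ∈ degreeLT k J
    · exact ⟨0, by simpa using hPJ⟩
    have hP0 : P ≠ 0 := fun h => hPJ (h ▸ Submodule.zero_mem _)
    have hJM : J ≤ M := by
      by_contra hlt
      rw [not_le] at hlt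
      apply hPJ
      rw [mem_LT_iff_coeff]
      intro i hi
      exact coeff_eq_zero_of_natDegree_lt (by omega)
    have hlc : P.coeff M ≠ 0 := by
      rw [← hM]; exact leadingCoeff_ne_zero.mpr hP0
    by_cases hMα : M = ∑ j, a j
    · have hEc : (EE r a).coeff M = 1 := by
        have := (EE_monic r a).coeff_natDegree
        rwa [EE_natDegree, ← hMα] at this
      have hT : T r a (P - C (P.coeff M) * EE r a) = T r a P := T_sub_EE r a P _
      by_cases h0 : P - C (P.coeff M) * EE r a = 0
      · exact ⟨P.coeff M, by rw [h0]; exact Submodule.zero_mem _⟩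
      have hle : (P - C (P.coeff M) * EE r a).natDegree ≤ M := by
        refine (natDegree_sub_le _ _).trans (max_le hM.le ?_)
        exact (natDegree_C_mul_le _ _).trans (by rw [EE_natDegree, hMα])
      have hcz : (P - C (P.coeff M) * EE r a).coeff M = 0 := by
        rw [coeff_sub, coeff_C_mul, hEc, mul_one, sub_self]
      have hdeg : (P - C (P.coeff M) * EE r a).natDegree < M := by
        refine lt_of_le_of_ne hle fun heq => h0 ?_
        rw [← leadingCoeff_eq_zero, leadingCoeff, heq]
        exact hcz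
      obtain ⟨c₁, hc₁⟩ := ih _ hdeg _ rfl (by rw [hT]; exact hcond)
      refine ⟨P.coeff M + c₁, ?_⟩
      have : P - C (P.coeff M + c₁) * EE r a =
          P - C (P.coeff M) * EE r a - C c₁ * EE r a := by
        rw [C_add]; ring
      rw [this]; exact hc₁
    · exfalso
      have hMm : 1 ≤ M + m := by
        rcases Nat.eq_zero_or_pos m with h | h
        · subst h
          have : (∑ j : Fin 0, a j) = 0 := by simp
          omega
        · omega
      obtain ⟨j, hj⟩ : ∃ j, j + 1 = M + m := ⟨M + m - 1, by omega⟩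
      have h1 := coeff_T r a P M j hM.le hj
      rw [hcond j (by omega)] at h1
      have h2 : ((M : k) - ((∑ j, a j : ℕ) : k)) ≠ 0 := by
        rw [sub_ne_zero]; exact_mod_cast hMα
      exact hlc ((mul_eq_zero.mp h1.symm).resolve_left h2)

theorem ker_T [CharZero k] (P : k[X]) (hP : T r a P = 0) : ∃ c : k, P = C c * EE r a := by
  obtain ⟨c, hc⟩ := inf_step r a 0 _ P rfl (fun j _ => by rw [hP, coeff_zero])
  refine ⟨c, ?_⟩
  have : P - C c * EE r a = 0 := by
    rw [mem_degreeLT, Nat.cast_zero] at hc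
    exact degree_eq_bot.mp (by
      rcases h : (P - C c * EE r a).degree with _ | n
      · rfl
      · rw [h] at hc; exact absurd hc (by simp))
  exact sub_eq_zero.mp this

/-! ### evaluations and the order at a marked point -/

theorem eval_Pj_ne (hr : Function.Injective r) (i : Fin m) : (Pj r i).eval (r i) ≠ 0 := by
  rw [Pj, eval_prod]
  refine Finset.prod_ne_zero_iff.mpr fun j hj => ?_
  simp only [eval_sub, eval_X, eval_C]
  rw [sub_ne_zero]
  exact fun h => (Finset.ne_of_mem_erase hj) (hr h).symm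

theorem eval_Ei_ne (hr : Function.Injective r) (i : Fin m) : (Ei r a i).eval (r i) ≠ 0 := by
  rw [Ei, eval_prod]
  refine Finset.prod_ne_zero_iff.mpr fun j hj => ?_
  simp only [eval_pow, eval_sub, eval_X, eval_C]
  refine pow_ne_zero _ ?_
  rw [sub_ne_zero]
  exact fun h => (Finset.ne_of_mem_erase hj) (hr h).symm

theorem eval_Pj_eq_zero {i j : Fin m} (hij : j ≠ i) : (Pj r j).eval (r i) = 0 := by
  rw [Pj, eval_prod]
  exact Finset.prod_eq_zero (Finset.mem_erase.mpr ⟨hij.symm, mem_univ i⟩) (by simp)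

theorem eval_SS (i : Fin m) : (SS r a).eval (r i) = (a i : k) * (Pj r i).eval (r i) := by
  rw [SS, eval_finsetSum, Finset.sum_eq_single i]
  · simp
  · intro j _ hj; simp [eval_Pj_eq_zero r hj]
  · simp

theorem eval_PP_ne (q : k) (hq : ∀ j, q ≠ r j) : (PP r).eval q ≠ 0 := by
  rw [PP, eval_prod]
  exact Finset.prod_ne_zero_iff.mpr fun j _ => by simpa [sub_ne_zero] using hq j

theorem eval_Pj_ne' (q : k) (hq : ∀ j, q ≠ r j) (i : Fin m) : (Pj r i).eval q ≠ 0 := by
  rw [Pj, eval_prod]
  exact Finset.prod_ne_zero_iff.mpr fun j _ => by simpa [sub_ne_zero] using hq j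

theorem eval_EE_ne (q : k) (hq : ∀ j, q ≠ r j) : (EE r a).eval q ≠ 0 := by
  rw [EE, eval_prod]
  exact Finset.prod_ne_zero_iff.mpr fun j _ => by
    simp only [eval_pow, eval_sub, eval_X, eval_C]
    exact pow_ne_zero _ (by simpa [sub_ne_zero] using hq j)

theorem T_pow_mul (i : Fin m) (n : ℕ) (Q : k[X]) :
    T r a ((X - C (r i)) ^ n * Q) = (X - C (r i)) ^ n *
      ((C (n : k) * Q + (X - C (r i)) * derivative Q) * Pj r i - Q * SS r a) := by
  rw [T_apply, derivative_mul, derivative_X_sub_C_pow, PP_eq r i]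
  linear_combination (Q * Pj r i) * pow_aux (X - C (r i)) n

theorem ord_step [CharZero k] (hr : Function.Injective r) (i : Fin m) (s : ℕ) (hs : s ≠ a i)
    (P : k[X]) (h1 : (X - C (r i)) ^ s ∣ P) (h2 : (X - C (r i)) ^ (s + 1) ∣ T r a P) :
    (X - C (r i)) ^ (s + 1) ∣ P := by
  obtain ⟨Q, rfl⟩ := h1
  rw [T_pow_mul, pow_succ] at h2
  have h3 := (mul_dvd_mul_iff_left (pow_ne_zero s (X_sub_C_ne_zero (r i)))).mp h2
  rw [dvd_iff_isRoot, IsRoot.def] at h3
  simp only [eval_sub, eval_mul, eval_add, eval_C, eval_X, sub_self, zero_mul, add_zero] at h3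
  rw [eval_SS] at h3
  have h4 : ((s : k) - (a i : k)) * (Q.eval (r i)) * (Pj r i).eval (r i) = 0 := by
    linear_combination h3
  have hsa : (s : k) - (a i : k) ≠ 0 := by rw [sub_ne_zero]; exact_mod_cast hs
  have hQ : Q.eval (r i) = 0 := by
    rcases mul_eq_zero.mp h4 with h | h
    · exact (mul_eq_zero.mp h).resolve_left hsa
    · exact absurd h (eval_Pj_ne r hr i)
  rw [pow_succ]
  exact mul_dvd_mul_left _ (dvd_iff_isRoot.mpr hQ)

theorem T_pow_mul' (q : k) (n : ℕ) (Q : k[X]) :
    T r a ((X - C q) ^ (n + 1) * Q) = (X - C q) ^ n *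
      ((C ((n + 1 : ℕ) : k) * Q + (X - C q) * derivative Q) * PP r -
        (X - C q) * Q * SS r a) := by
  rw [T_apply, derivative_mul, derivative_X_sub_C_pow, Nat.add_sub_cancel, pow_succ]
  ring

theorem ord_step' [CharZero k] (q : k) (hq : ∀ j, q ≠ r j) (s : ℕ) (P : k[X])
    (h1 : (X - C q) ^ (s + 1) ∣ P) (h2 : (X - C q) ^ (s + 1) ∣ T r a P) :
    (X - C q) ^ (s + 1 + 1) ∣ P := by
  obtain ⟨Q, rfl⟩ := h1
  rw [T_pow_mul', pow_succ] at h2
  have h3 := (mul_dvd_mul_iff_left (pow_ne_zero s (X_sub_C_ne_zero q))).mp h2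
  rw [dvd_iff_isRoot, IsRoot.def] at h3
  simp only [eval_sub, eval_mul, eval_add, eval_C, eval_X, sub_self, zero_mul, add_zero,
    sub_zero] at h3
  have hs1 : ((s + 1 : ℕ) : k) ≠ 0 := by exact_mod_cast Nat.succ_ne_zero s
  have hQ : Q.eval q = 0 := by
    rcases mul_eq_zero.mp h3 with h | h
    · exact (mul_eq_zero.mp h).resolve_left hs1
    · exact absurd h (eval_PP_ne r q hq)
  rw [pow_succ (X - C q) (s + 1)]
  exact mul_dvd_mul_left _ (dvd_iff_isRoot.mpr hQ)

theorem marked_sub [CharZero k] (hr : Function.Injective r) (i : Fin m) (n : ℕ) (P : k[X])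
    (h : (X - C (r i)) ^ n ∣ T r a P) :
    ∃ c : k, (X - C (r i)) ^ n ∣ P - C c * EE r a := by
  have stage1 : ∀ s, s ≤ n → s ≤ a i → (X - C (r i)) ^ s ∣ P := by
    intro s
    induction s with
    | zero => intros; simp
    | succ s ih =>
      intro h1 h2
      exact ord_step r a hr i s (by omega) P (ih (by omega) (by omega))
        (dvd_trans (pow_dvd_pow _ h1) h)
  by_cases hn : n ≤ a i
  · exact ⟨0, by simpa using stage1 n le_rfl hn⟩
  rw [not_le] at hn
  obtain ⟨Q, hQ⟩ := stage1 (a i) hn.le le_rfl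
  have hEi : (Ei r a i).eval (r i) ≠ 0 := eval_Ei_ne r a hr i
  have hP₁ : P - C (Q.eval (r i) / (Ei r a i).eval (r i)) * EE r a =
      (X - C (r i)) ^ (a i) * (Q - C (Q.eval (r i) / (Ei r a i).eval (r i)) * Ei r a i) := by
    rw [EE_eq r a i, hQ]; ring
  have hroot : (X - C (r i)) ∣ (Q - C (Q.eval (r i) / (Ei r a i).eval (r i)) * Ei r a i) := by
    rw [dvd_iff_isRoot, IsRoot.def, eval_sub, eval_mul, eval_C, div_mul_cancel₀ _ hEi, sub_self]
  have stage2 : ∀ s, a i + 1 ≤ s → s ≤ n →
      (X - C (r i)) ^ s ∣ P - C (Q.eval (r i) / (Ei r a i).eval (r i)) * EE r a := by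
    intro s hs
    induction s, hs using Nat.le_induction with
    | base => intro _; rw [hP₁, pow_succ]; exact mul_dvd_mul_left _ hroot
    | succ s hs ih =>
      intro h1
      exact ord_step r a hr i s (by omega) _ (ih (by omega))
        (by rw [T_sub_EE]; exact dvd_trans (pow_dvd_pow _ h1) h)
  exact ⟨_, stage2 n hn le_rfl⟩

theorem unmarked_sub [CharZero k] (q : k) (hq : ∀ j, q ≠ r j) (n : ℕ) (P : k[X])
    (h : (X - C q) ^ n ∣ T r a P) :
    ∃ c : k, (X - C q) ^ (n + 1) ∣ P - C c * EE r a := by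
  have hE : (EE r a).eval q ≠ 0 := eval_EE_ne r a q hq
  have h0 : (X - C q) ^ (0 + 1) ∣ P - C (P.eval q / (EE r a).eval q) * EE r a := by
    rw [zero_add, pow_one, dvd_iff_isRoot, IsRoot.def, eval_sub, eval_mul, eval_C,
      div_mul_cancel₀ _ hE, sub_self]
  have hall : ∀ s, s ≤ n →
      (X - C q) ^ (s + 1) ∣ P - C (P.eval q / (EE r a).eval q) * EE r a := by
    intro s
    induction s with
    | zero => intro _; exact h0
    | succ s ih =>
      intro hs
      exact ord_step' r a q hq s _ (ih (by omega))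
        (by rw [T_sub_EE]; exact dvd_trans (pow_dvd_pow _ (by omega)) h)
  exact ⟨_, hall n le_rfl⟩

end Groth.Agent.Helper25.Wronsk
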