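import Groth.Agent.Lib.Helper25.Wronsk1

/-!
Sums of polar parts: the space `V` is the image of `k[X]_{≤ N}` under `T`;
dimension counts of the vanishing filtrations.
-/

namespace Groth.Agent.Helper25.Wronsk
open Polynomial Finset Module

variable {k : Type*} [Field k] {m : ℕ} (r : Fin m → k) (a : Fin m → ℕ)

instance instFinLT (n : ℕ) : FiniteDimensional k (degreeLT k n) :=
  Module.Finite.equiv (degreeLTEquiv k n).symm

theorem finrank_degreeLT (n : ℕ) : finrank k (degreeLT k n) = n := by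
  rw [(degreeLTEquiv k n).finrank_eq, Module.finrank_fin_fun]

theorem mem_LT_zero (P : k[X]) : P ∈ degreeLT k 0 ↔ P = 0 := by
  rw [mem_LT_iff_coeff]
  constructor
  · intro h; ext i; simpa using h i (Nat.zero_le i)
  · rintro rfl; simp

theorem mem_Y (c : k) (n : ℕ) (P : k[X]) :
    P ∈ (Ideal.span {(X - C c) ^ n}).restrictScalars k ↔ (X - C c) ^ n ∣ P := by
  rw [Submodule.restrictScalars_mem, Ideal.mem_span_singleton]

/-- The sum of polar parts, as in the statements. -/
noncomputable def Vb (b : ℕ) : Submodule k k[X] :=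
  (degreeLT k b).map (LinearMap.mulLeft k (∏ j, (X - C (r j)) ^ (a j + 1))) ⊔
    ⨆ i, (degreeLT k (a i)).map
      (LinearMap.mulLeft k (∏ j ∈ Finset.univ.erase i, (X - C (r j)) ^ (a j + 1)))

instance instFinVb (b : ℕ) : FiniteDimensional k (Vb r a b) := by
  unfold Vb; infer_instance

theorem deriv_mem (u : k[X]) (n : ℕ) (hu : u ∈ degreeLT k (n + 1)) :
    derivative u ∈ degreeLT k n := by
  rw [mem_LT_iff_coeff] at *
  intro i hi
  rw [coeff_derivative, hu (i + 1) (by omega), zero_mul]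

theorem theta_mem (u : k[X]) (n : ℕ) (c e : k) (hu : u ∈ degreeLT k n) :
    derivative u * (X - C c) - C e * u ∈ degreeLT k n := by
  have h1 : X * derivative u ∈ degreeLT k n := by
    rw [mem_LT_iff_coeff] at *
    intro i hi
    cases i with
    | zero => simp
    | succ i => rw [coeff_X_mul, coeff_derivative, hu (i + 1) hi, zero_mul]
  have h2 : derivative u ∈ degreeLT k n := by
    rw [mem_LT_iff_coeff] at *
    intro i hi
    rw [coeff_derivative, hu (i + 1) (by omega), zero_mul]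
  have e1 : derivative u * (X - C c) - C e * u =
      X * derivative u - c • derivative u - e • u := by
    rw [smul_eq_C_mul, smul_eq_C_mul]; ring
  rw [e1]
  exact Submodule.sub_mem _ (Submodule.sub_mem _ h1 (Submodule.smul_mem _ _ h2))
    (Submodule.smul_mem _ _ hu)

theorem Ei_monic (i : Fin m) : (Ei r a i).Monic :=
  monic_prod_of_monic _ _ fun j _ => (monic_X_sub_C _).pow _

theorem Ei_natDegree_add (i : Fin m) : a i + (Ei r a i).natDegree = ∑ j, a j := by
  rw [← EE_natDegree r a, EE_eq r a i,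
    natDegree_mul (pow_ne_zero _ (X_sub_C_ne_zero _)) (Ei_monic r a i).ne_zero, natDegree_pow,
    natDegree_X_sub_C, mul_one]

theorem T_mem_Vb (hr : Function.Injective r) (b : ℕ) (P : k[X])
    (hP : P ∈ degreeLT k ((∑ j, a j) + b + 1)) : T r a P ∈ Vb r a b := by
  classical
  obtain ⟨q, u, hu, hPeq⟩ := eq_quo_mul_prod_add_sum_rem_mul_prod
    (s := (univ : Finset (Fin m))) P (g := fun j => (X - C (r j)) ^ a j)
    (fun j _ => (monic_X_sub_C _).pow _)
    (fun i _ j _ hij =>
      (isCoprime_X_sub_C_of_isUnit_sub (sub_ne_zero.mpr (hr.ne hij)).isUnit).pow)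
  change P = q * EE r a + ∑ i, u i * Ei r a i at hPeq
  have hu' : ∀ i, u i ∈ degreeLT k (a i) := by
    intro i
    have h := hu i (mem_univ i)
    rw [degree_pow, degree_X_sub_C] at h
    rw [mem_degreeLT]
    simpa using h
  have hun : ∀ i, (u i * Ei r a i).natDegree ≤ (∑ j, a j) + b := by
    intro i
    by_cases h0 : u i = 0
    · rw [h0, zero_mul, natDegree_zero]; exact Nat.zero_le _
    have h1 : (u i).natDegree < a i := by
      have := hu' i
      rw [mem_degreeLT] at this
      exact (natDegree_lt_iff_degree_lt h0).mpr this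
    have h2 := Ei_natDegree_add r a i
    exact natDegree_mul_le.trans (by omega)
  have hq : q ∈ degreeLT k (b + 1) := by
    by_cases hq0 : q = 0
    · rw [hq0]; exact Submodule.zero_mem _
    have h1 : q * EE r a = P - ∑ i, u i * Ei r a i := by rw [hPeq]; ring
    have h2 : (q * EE r a).natDegree ≤ (∑ j, a j) + b := by
      rw [h1]
      refine (natDegree_sub_le _ _).trans (max_le ((mem_LT_succ_iff P _).mp hP) ?_)
      exact natDegree_sum_le_of_forall_le _ _ fun i _ => hun i
    rw [natDegree_mul hq0 (EE_ne_zero r a), EE_natDegree] at h2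
    rw [mem_LT_succ_iff]; omega
  have hq' := deriv_mem q b hq
  have hT : T r a P = DD r a * derivative q +
      ∑ i, Di r a i * (derivative (u i) * (X - C (r i)) - C (a i : k) * u i) := by
    rw [hPeq, map_add, map_sum, mul_comm q, T_EE_mul]
    congr 1
    refine Finset.sum_congr rfl fun i _ => ?_
    rw [mul_comm (u i), T_Ei_mul]
  rw [hT]
  refine Submodule.add_mem _ (Submodule.mem_sup_left ?_) (Submodule.mem_sup_right ?_)
  · exact Submodule.mem_map.mpr ⟨derivative q, hq', rfl⟩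
  · refine Submodule.sum_mem _ fun i _ => Submodule.mem_iSup_of_mem i ?_
    exact Submodule.mem_map.mpr ⟨_, theta_mem (u i) (a i) (r i) (a i : k) (hu' i), rfl⟩

theorem finrank_iSup_le' {ι W : Type*} [Fintype ι] [AddCommGroup W] [Module k W]
    (M : ι → Submodule k W) [∀ i, FiniteDimensional k (M i)] :
    finrank k ↥(⨆ i, M i) ≤ ∑ i, finrank k (M i) := by
  classical
  rw [← Finset.sup_univ_eq_iSup]
  induction (univ : Finset ι) using Finset.induction_on with
  | empty => simp
  | insert i s hi ih =>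
    rw [Finset.sup_insert, Finset.sum_insert hi]
    exact (Submodule.finrank_add_le_finrank_add_finrank _ _).trans (Nat.add_le_add_left ih _)

theorem finrank_Vb_le (b : ℕ) : finrank k (Vb r a b) ≤ (∑ j, a j) + b := by
  unfold Vb
  refine (Submodule.finrank_add_le_finrank_add_finrank _ _).trans ?_
  have h1 : finrank k ((degreeLT k b).map
      (LinearMap.mulLeft k (∏ j, (X - C (r j)) ^ (a j + 1)))) ≤ b :=
    (Submodule.finrank_map_le _ _).trans (finrank_degreeLT b).le
  have h2 := finrank_iSup_le' (fun i => (degreeLT k (a i)).map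
      (LinearMap.mulLeft k (∏ j ∈ Finset.univ.erase i, (X - C (r j)) ^ (a j + 1))))
  have h3 : ∑ i, finrank k ((degreeLT k (a i)).map
      (LinearMap.mulLeft k (∏ j ∈ Finset.univ.erase i, (X - C (r j)) ^ (a j + 1)))) ≤
        ∑ i, a i :=
    Finset.sum_le_sum fun i _ => (Submodule.finrank_map_le _ _).trans (finrank_degreeLT (a i)).le
  omega

theorem finrank_map_T [CharZero k] (G : Submodule k k[X]) [FiniteDimensional k G]
    (hE : EE r a ∈ G) : finrank k ↥(G.map (T r a)) + 1 = finrank k ↥G := by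
  have h := LinearMap.finrank_range_add_finrank_ker ((T r a).domRestrict G)
  rw [LinearMap.range_domRestrict] at h
  have hker : LinearMap.ker ((T r a).domRestrict G) =
      Submodule.span k {(⟨EE r a, hE⟩ : G)} := by
    ext x
    rw [LinearMap.mem_ker, LinearMap.domRestrict_apply, Submodule.mem_span_singleton]
    constructor
    · intro hx
      obtain ⟨c, hc⟩ := ker_T r a x.1 hx
      exact ⟨c, Subtype.ext (by rw [hc, Submodule.coe_smul, smul_eq_C_mul])⟩
    · rintro ⟨c, rfl⟩
      change T r a (c • EE r a) = 0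
      rw [map_smul, T_EE, smul_zero]
  rw [hker, finrank_span_singleton
    (fun h0 => EE_ne_zero r a (congrArg Subtype.val h0))] at h
  exact h

theorem map_inf_comap' (L Y : Submodule k k[X]) :
    L.map (T r a) ⊓ Y = (L ⊓ Y.comap (T r a)).map (T r a) := by
  ext h
  constructor
  · rintro ⟨⟨P, hP, rfl⟩, hY⟩
    exact ⟨P, ⟨hP, hY⟩, rfl⟩
  · rintro ⟨P, ⟨hP, hY⟩, rfl⟩
    exact ⟨⟨P, hP, rfl⟩, hY⟩

theorem E_mem_LT (N : ℕ) (hN : ∑ j, a j ≤ N) : EE r a ∈ degreeLT k (N + 1) := by
  rw [mem_LT_succ_iff, EE_natDegree]; exact hN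

theorem E_mem_LT_iff (J : ℕ) : EE r a ∈ degreeLT k J ↔ ∑ j, a j < J := by
  rw [mem_degreeLT, degree_eq_natDegree (EE_ne_zero r a), EE_natDegree, Nat.cast_lt]

theorem Vb_eq [CharZero k] (hr : Function.Injective r) (b : ℕ) :
    Vb r a b = (degreeLT k ((∑ j, a j) + b + 1)).map (T r a) := by
  have hle : (degreeLT k ((∑ j, a j) + b + 1)).map (T r a) ≤ Vb r a b := by
    rintro _ ⟨P, hP, rfl⟩; exact T_mem_Vb r a hr b P hP
  have hE : EE r a ∈ degreeLT k ((∑ j, a j) + b + 1) := E_mem_LT r a _ (by omega)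
  have h1 := finrank_map_T r a _ hE
  rw [finrank_degreeLT] at h1
  have h2 : finrank k (Vb r a b) ≤ (∑ j, a j) + b := finrank_Vb_le r a b
  exact (Submodule.eq_of_le_of_finrank_le hle (by omega)).symm

theorem finrank_Vb [CharZero k] (hr : Function.Injective r) (b : ℕ) :
    finrank k (Vb r a b) = (∑ j, a j) + b := by
  have hE : EE r a ∈ degreeLT k ((∑ j, a j) + b + 1) := E_mem_LT r a _ (by omega)
  have h1 := finrank_map_T r a _ hE
  rw [finrank_degreeLT, ← Vb_eq r a hr b] at h1
  omega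

theorem finrank_span_sup {W : Type*} [AddCommGroup W] [Module k W] (E : W) (hE : E ≠ 0)
    (H : Submodule k W) [FiniteDimensional k H] [DecidablePred (· ∈ H)] :
    finrank k ↥((k ∙ E) ⊔ H) = finrank k H + (if E ∈ H then 0 else 1) := by
  by_cases h : E ∈ H
  · rw [if_pos h, add_zero, sup_eq_right.mpr ((Submodule.span_singleton_le_iff_mem _ _).mpr h)]
  · rw [if_neg h]
    have h1 := Submodule.finrank_sup_add_finrank_inf_eq (k ∙ E) H
    have h2 : (k ∙ E) ⊓ H = ⊥ :=
      disjoint_iff.mp (Submodule.disjoint_span_singleton_of_notMem h).symm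
    rw [h2, finrank_bot, finrank_span_singleton hE] at h1
    omega

/-- Transfer of dimension counts through `T`. -/
theorem finrank_inf [CharZero k] (hr : Function.Injective r) (b N : ℕ)
    (hN : N = (∑ j, a j) + b) (Y H : Submodule k k[X]) [FiniteDimensional k H]
    [DecidablePred (· ∈ H)]
    (hG : degreeLT k (N + 1) ⊓ Y.comap (T r a) = (k ∙ EE r a) ⊔ H) :
    finrank k ↥(Vb r a b ⊓ Y) + 1 = finrank k H + (if EE r a ∈ H then 0 else 1) := by
  subst hN
  rw [Vb_eq r a hr b, map_inf_comap']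
  have hE : EE r a ∈ degreeLT k ((∑ j, a j) + b + 1) ⊓ Y.comap (T r a) := by
    refine ⟨E_mem_LT r a _ (by omega), ?_⟩
    change T r a (EE r a) ∈ Y
    rw [T_EE]; exact Submodule.zero_mem _
  rw [finrank_map_T r a _ hE, hG]
  exact finrank_span_sup _ (EE_ne_zero r a) H

/-! ### descriptions of the filtration steps -/

theorem G_marked [CharZero k] (hr : Function.Injective r) (N : ℕ) (hN : ∑ j, a j ≤ N)
    (i : Fin m) (n : ℕ) :
    degreeLT k (N + 1) ⊓ ((Ideal.span {(X - C (r i)) ^ n}).restrictScalars k).comap (T r a) =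
      (k ∙ EE r a) ⊔
        (degreeLT k (N + 1) ⊓ (Ideal.span {(X - C (r i)) ^ n}).restrictScalars k) := by
  apply le_antisymm
  · intro P hP0
    obtain ⟨hP, hT⟩ := Submodule.mem_inf.mp hP0
    rw [Submodule.mem_comap, mem_Y] at hT
    obtain ⟨c, hc⟩ := marked_sub r a hr i n P hT
    refine Submodule.mem_sup.mpr ⟨c • EE r a,
      Submodule.smul_mem _ _ (Submodule.mem_span_singleton_self _),
      P - C c * EE r a, Submodule.mem_inf.mpr ⟨?_, (mem_Y _ _ _).mpr hc⟩,
      by rw [smul_eq_C_mul]; ring⟩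
    rw [← smul_eq_C_mul]
    exact Submodule.sub_mem _ hP (Submodule.smul_mem _ _ (E_mem_LT r a N hN))
  · refine sup_le ((Submodule.span_singleton_le_iff_mem _ _).mpr
      (Submodule.mem_inf.mpr ⟨E_mem_LT r a N hN, ?_⟩)) ?_
    · rw [Submodule.mem_comap, T_EE]; exact Submodule.zero_mem _
    · intro P hP0
      obtain ⟨hP, hdiv⟩ := Submodule.mem_inf.mp hP0
      refine Submodule.mem_inf.mpr ⟨hP, ?_⟩
      rw [mem_Y] at hdiv
      obtain ⟨Q, rfl⟩ := hdiv
      rw [Submodule.mem_comap, mem_Y, T_pow_mul]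
      exact Dvd.intro _ rfl

theorem G_unmarked [CharZero k] (N : ℕ) (hN : ∑ j, a j ≤ N) (q : k) (hq : ∀ j, q ≠ r j)
    (n : ℕ) :
    degreeLT k (N + 1) ⊓ ((Ideal.span {(X - C q) ^ n}).restrictScalars k).comap (T r a) =
      (k ∙ EE r a) ⊔
        (degreeLT k (N + 1) ⊓ (Ideal.span {(X - C q) ^ (n + 1)}).restrictScalars k) := by
  apply le_antisymm
  · intro P hP0
    obtain ⟨hP, hT⟩ := Submodule.mem_inf.mp hP0
    rw [Submodule.mem_comap, mem_Y] at hT
    obtain ⟨c, hc⟩ := unmarked_sub r a q hq n P hT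
    refine Submodule.mem_sup.mpr ⟨c • EE r a,
      Submodule.smul_mem _ _ (Submodule.mem_span_singleton_self _),
      P - C c * EE r a, Submodule.mem_inf.mpr ⟨?_, (mem_Y _ _ _).mpr hc⟩,
      by rw [smul_eq_C_mul]; ring⟩
    rw [← smul_eq_C_mul]
    exact Submodule.sub_mem _ hP (Submodule.smul_mem _ _ (E_mem_LT r a N hN))
  · refine sup_le ((Submodule.span_singleton_le_iff_mem _ _).mpr
      (Submodule.mem_inf.mpr ⟨E_mem_LT r a N hN, ?_⟩)) ?_
    · rw [Submodule.mem_comap, T_EE]; exact Submodule.zero_mem _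
    · intro P hP0
      obtain ⟨hP, hdiv⟩ := Submodule.mem_inf.mp hP0
      refine Submodule.mem_inf.mpr ⟨hP, ?_⟩
      rw [mem_Y] at hdiv
      obtain ⟨Q, rfl⟩ := hdiv
      rw [Submodule.mem_comap, mem_Y, T_pow_mul']
      exact Dvd.intro _ rfl

theorem G_inf [CharZero k] (b N d : ℕ) (hN : N = (∑ j, a j) + b) (hd : d + 1 = N + m)
    (n : ℕ) :
    degreeLT k (N + 1) ⊓ (degreeLT k (d + 1 - n)).comap (T r a) =
      (k ∙ EE r a) ⊔ degreeLT k (N + 1 - n) := by
  have hNα : ∑ j, a j ≤ N := by omega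
  apply le_antisymm
  · intro P hP0
    obtain ⟨hP, hT⟩ := Submodule.mem_inf.mp hP0
    rw [Submodule.mem_comap, mem_LT_iff_coeff] at hT
    obtain ⟨c, hc⟩ := inf_step r a (N + 1 - n) _ P rfl (fun j hj => hT j (by omega))
    refine Submodule.mem_sup.mpr ⟨c • EE r a,
      Submodule.smul_mem _ _ (Submodule.mem_span_singleton_self _),
      P - C c * EE r a, hc, by rw [smul_eq_C_mul]; ring⟩
  · refine sup_le ((Submodule.span_singleton_le_iff_mem _ _).mpr
      (Submodule.mem_inf.mpr ⟨E_mem_LT r a N hNα, ?_⟩)) ?_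
    · rw [Submodule.mem_comap, T_EE]; exact Submodule.zero_mem _
    · intro P hP
      refine Submodule.mem_inf.mpr ⟨degreeLT_mono (by omega) hP, ?_⟩
      rw [Submodule.mem_comap]
      rcases Nat.eq_zero_or_pos (N + 1 - n) with h0 | hpos
      · rw [h0, mem_LT_zero] at hP
        rw [hP, map_zero]; exact Submodule.zero_mem _
      · have e1 : N + 1 - n = (N - n) + 1 := by omega
        rw [e1, mem_LT_succ_iff] at hP
        rw [mem_LT_iff_coeff]
        intro j hj
        exact T_natDegree r a P (N - n) hP j (by omega)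

theorem Hc_eq (c : k) (n N : ℕ) :
    degreeLT k (N + 1) ⊓ (Ideal.span {(X - C c) ^ n}).restrictScalars k =
      (degreeLT k (N + 1 - n)).map (LinearMap.mulLeft k ((X - C c) ^ n)) := by
  ext P
  rw [Submodule.mem_inf, mem_Y, Submodule.mem_map]
  constructor
  · rintro ⟨hP, Q, rfl⟩
    refine ⟨Q, ?_, rfl⟩
    by_cases hQ : Q = 0
    · rw [hQ]; exact Submodule.zero_mem _
    rw [mem_LT_succ_iff, natDegree_mul (pow_ne_zero _ (X_sub_C_ne_zero c)) hQ, natDegree_pow,
      natDegree_X_sub_C, mul_one] at hP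
    have e1 : N + 1 - n = (N - n) + 1 := by omega
    rw [e1, mem_LT_succ_iff]; omega
  · rintro ⟨Q, hQ, rfl⟩
    rw [LinearMap.mulLeft_apply]
    refine ⟨?_, Dvd.intro _ rfl⟩
    by_cases hQ0 : Q = 0
    · rw [hQ0, mul_zero]; exact Submodule.zero_mem _
    rcases Nat.eq_zero_or_pos (N + 1 - n) with h0 | hpos
    · rw [h0, mem_LT_zero] at hQ; exact absurd hQ hQ0
    · have e1 : N + 1 - n = (N - n) + 1 := by omega
      rw [e1, mem_LT_succ_iff] at hQ
      rw [mem_LT_succ_iff, natDegree_mul (pow_ne_zero _ (X_sub_C_ne_zero c)) hQ0, natDegree_pow,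
        natDegree_X_sub_C, mul_one]
      omega

theorem finrank_Hc (c : k) (n N : ℕ) :
    finrank k ↥(degreeLT k (N + 1) ⊓ (Ideal.span {(X - C c) ^ n}).restrictScalars k) =
      N + 1 - n := by
  rw [Hc_eq]
  have hne : (X - C c) ^ n ≠ 0 := pow_ne_zero n (X_sub_C_ne_zero c)
  have hinj : Function.Injective (LinearMap.mulLeft k ((X - C c) ^ n)) :=
    fun x y (h : (X - C c) ^ n * x = (X - C c) ^ n * y) => mul_left_cancel₀ hne h
  exact ((Submodule.equivMapOfInjective (LinearMap.mulLeft k ((X - C c) ^ n)) hinj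
    (degreeLT k (N + 1 - n))).finrank_eq.symm).trans (finrank_degreeLT _)

theorem E_mem_Hc_marked (hr : Function.Injective r) (N : ℕ) (hN : ∑ j, a j ≤ N) (i : Fin m)
    (n : ℕ) :
    EE r a ∈ degreeLT k (N + 1) ⊓ (Ideal.span {(X - C (r i)) ^ n}).restrictScalars k ↔
      n ≤ a i := by
  rw [Submodule.mem_inf, mem_Y]
  constructor
  · rintro ⟨_, hdvd⟩
    by_contra hlt
    rw [not_le] at hlt
    have h1 : (X - C (r i)) ^ (a i + 1) ∣ EE r a := dvd_trans (pow_dvd_pow _ hlt) hdvd
    rw [EE_eq r a i, pow_succ] at h1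
    have h2 := (mul_dvd_mul_iff_left (pow_ne_zero _ (X_sub_C_ne_zero (r i)))).mp h1
    exact eval_Ei_ne r a hr i (dvd_iff_isRoot.mp h2)
  · intro h
    exact ⟨E_mem_LT r a N hN, dvd_trans (pow_dvd_pow _ h) (Dvd.intro _ (EE_eq r a i).symm)⟩

theorem E_not_mem_Hc_unmarked (N : ℕ) (q : k) (hq : ∀ j, q ≠ r j) (n : ℕ) :
    EE r a ∉ degreeLT k (N + 1) ⊓ (Ideal.span {(X - C q) ^ (n + 1)}).restrictScalars k := by
  intro h
  obtain ⟨_, hdvd⟩ := Submodule.mem_inf.mp h
  rw [mem_Y] at hdvd
  have h1 : (X - C q) ∣ EE r a := dvd_trans (dvd_pow_self _ (Nat.succ_ne_zero n)) hdvd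
  exact eval_EE_ne r a q hq (dvd_iff_isRoot.mp h1)

/-! ### dimension counts for `V` -/

theorem finrank_V_marked [CharZero k] (hr : Function.Injective r) (b N : ℕ)
    (hN : N = (∑ j, a j) + b) (i : Fin m) (n : ℕ) :
    finrank k ↥(Vb r a b ⊓ (Ideal.span {(X - C (r i)) ^ n}).restrictScalars k) =
      if n ≤ a i then N - n else N + 1 - n := by
  classical
  have hNα : ∑ j, a j ≤ N := by omega
  have h := finrank_inf r a hr b N hN _ _ (G_marked r a hr N hNα i n)
  rw [finrank_Hc] at h
  have hai : a i ≤ ∑ j, a j := Finset.single_le_sum (fun j _ => Nat.zero_le (a j)) (mem_univ i)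
  by_cases hn : n ≤ a i
  · rw [if_pos ((E_mem_Hc_marked r a hr N hNα i n).mpr hn)] at h
    rw [if_pos hn]; omega
  · rw [if_neg (fun hc => hn ((E_mem_Hc_marked r a hr N hNα i n).mp hc))] at h
    rw [if_neg hn]; omega

theorem finrank_V_unmarked [CharZero k] (hr : Function.Injective r) (b N : ℕ)
    (hN : N = (∑ j, a j) + b) (q : k) (hq : ∀ j, q ≠ r j) (n : ℕ) :
    finrank k ↥(Vb r a b ⊓ (Ideal.span {(X - C q) ^ n}).restrictScalars k) = N - n := by
  classical
  have hNα : ∑ j, a j ≤ N := by omega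
  have h := finrank_inf r a hr b N hN _ _ (G_unmarked r a N hNα q hq n)
  rw [finrank_Hc, if_neg (E_not_mem_Hc_unmarked r a N q hq n)] at h
  omega

theorem finrank_V_inf [CharZero k] (hr : Function.Injective r) (b N d : ℕ)
    (hN : N = (∑ j, a j) + b) (hd : d + 1 = N + m) (n : ℕ) :
    finrank k ↥(Vb r a b ⊓ degreeLT k (d + 1 - n)) =
      if n ≤ b then N - n else N + 1 - n := by
  classical
  have h := finrank_inf r a hr b N hN _ _ (G_inf r a b N d hN hd n)
  rw [finrank_degreeLT] at h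
  by_cases hn : n ≤ b
  · rw [if_pos ((E_mem_LT_iff r a _).mpr (by omega))] at h
    rw [if_pos hn]; omega
  · rw [if_neg (fun hc => hn (by have := (E_mem_LT_iff r a _).mp hc; omega))] at h
    rw [if_neg hn]; omega

theorem hd_eq (b N d : ℕ) (hN : N = (∑ j, a j) + b) (hd : d + 1 = (∑ j, (a j + 1)) + b) :
    d + 1 = N + m := by
  rw [Finset.sum_add_distrib] at hd
  simp at hd
  omega

end Groth.Agent.Helper25.Wronsk
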