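import Groth.Agent.Lib.Helper25.Wronsk2

set_option linter.style.haveILetI false

/-!
Sums of polar parts: hyperplanes of `V` and ramification off the marked points.
-/

namespace Groth.Agent.Helper25.Wronsk
open Polynomial Finset Module

variable {k : Type*} [Field k] {m : ℕ} (r : Fin m → k) (a : Fin m → ℕ)

theorem hyperplane_inf {W' : Type*} [AddCommGroup W'] [Module k W'] (L W G : Submodule k W')
    [FiniteDimensional k L] (hW : W ≤ L) (hG : G ≤ L)
    (hfin : finrank k W + 1 = finrank k L) (hnot : ¬ G ≤ W) :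
    finrank k ↥(W ⊓ G) + 1 = finrank k G := by
  haveI : FiniteDimensional k W := Submodule.finiteDimensional_of_le hW
  haveI : FiniteDimensional k G := Submodule.finiteDimensional_of_le hG
  haveI : FiniteDimensional k ↥(W ⊔ G) := Submodule.finiteDimensional_of_le (sup_le hW hG)
  have h1 := Submodule.finrank_sup_add_finrank_inf_eq W G
  have h2 : finrank k ↥(W ⊔ G) ≤ finrank k L := Submodule.finrank_mono (sup_le hW hG)
  have h3 : finrank k W < finrank k ↥(W ⊔ G) :=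
    Submodule.finrank_lt_finrank_of_lt (lt_of_le_of_ne le_sup_left
      (fun h => hnot (by rw [h]; exact le_sup_right)))
  omega

theorem finrank_inf_hyp [CharZero k] (L W Y : Submodule k k[X]) [FiniteDimensional k L]
    (hWL : W ≤ L) (hEW : EE r a ∈ W) :
    finrank k ↥(W.map (T r a) ⊓ Y) + 1 = finrank k ↥(W ⊓ (L ⊓ Y.comap (T r a))) := by
  haveI : FiniteDimensional k W := Submodule.finiteDimensional_of_le hWL
  rw [map_inf_comap']
  have e1 : W ⊓ (L ⊓ Y.comap (T r a)) = W ⊓ Y.comap (T r a) := by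
    rw [← inf_assoc, inf_eq_left.mpr hWL]
  rw [e1]
  refine finrank_map_T r a _ (Submodule.mem_inf.mpr ⟨hEW, ?_⟩)
  rw [Submodule.mem_comap, T_EE]; exact Submodule.zero_mem _

theorem exists_W [CharZero k] (L V₁ : Submodule k k[X]) [FiniteDimensional k L]
    (hE : EE r a ∈ L) (hV₁ : V₁ ≤ L.map (T r a)) :
    ∃ W : Submodule k k[X], W ≤ L ∧ EE r a ∈ W ∧ W.map (T r a) = V₁ ∧
      finrank k W = finrank k V₁ + 1 ∧ (∀ P ∈ L, T r a P ∈ V₁ → P ∈ W) := by
  have hEW : EE r a ∈ L ⊓ V₁.comap (T r a) := by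
    refine Submodule.mem_inf.mpr ⟨hE, ?_⟩
    rw [Submodule.mem_comap, T_EE]; exact Submodule.zero_mem _
  have hmap : (L ⊓ V₁.comap (T r a)).map (T r a) = V₁ := by
    rw [← map_inf_comap']; exact inf_eq_right.mpr hV₁
  refine ⟨L ⊓ V₁.comap (T r a), inf_le_left, hEW, hmap, ?_,
    fun P hP hT => Submodule.mem_inf.mpr ⟨hP, hT⟩⟩
  have := finrank_map_T r a _ hEW
  rw [hmap] at this
  omega

theorem mem_LT_of_coeff (P : k[X]) (n : ℕ) (h : P ∈ degreeLT k (n + 1)) (h0 : P.coeff n = 0) :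
    P ∈ degreeLT k n := by
  rw [mem_LT_iff_coeff] at *
  intro i hi
  rcases Nat.eq_or_lt_of_le hi with h1 | h1
  · rw [← h1]; exact h0
  · exact h i h1

theorem span_top (N' : ℕ) (W : Submodule k k[X]) (hW : degreeLT k N' ≤ W) (A B : k[X])
    (hA : A ∈ degreeLT k (N' + 2)) (hA' : A.coeff (N' + 1) ≠ 0)
    (hB : B ∈ degreeLT k (N' + 1)) (hB' : B.coeff N' ≠ 0) (hAW : A ∈ W) (hBW : B ∈ W) :
    degreeLT k (N' + 2) ≤ W := by
  intro P hP
  obtain ⟨c₁, hc₁⟩ : ∃ c₁ : k, P - c₁ • A ∈ degreeLT k (N' + 1) := by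
    refine ⟨P.coeff (N' + 1) / A.coeff (N' + 1),
      mem_LT_of_coeff _ _ (Submodule.sub_mem _ hP (Submodule.smul_mem _ _ hA)) ?_⟩
    rw [coeff_sub, coeff_smul, smul_eq_mul, div_mul_cancel₀ _ hA', sub_self]
  obtain ⟨c₂, hc₂⟩ : ∃ c₂ : k, P - c₁ • A - c₂ • B ∈ degreeLT k N' := by
    refine ⟨(P - c₁ • A).coeff N' / B.coeff N',
      mem_LT_of_coeff _ _ (Submodule.sub_mem _ hc₁ (Submodule.smul_mem _ _ hB)) ?_⟩
    rw [coeff_sub (P - c₁ • A), coeff_smul _ B, smul_eq_mul, div_mul_cancel₀ _ hB', sub_self]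
  have h3 := Submodule.add_mem _ (Submodule.add_mem _ (hW hc₂) (Submodule.smul_mem _ c₂ hBW))
    (Submodule.smul_mem _ c₁ hAW)
  convert h3 using 1
  abel

theorem dvd_T_of_dvd (q : k) (n : ℕ) (P : k[X]) (h : (X - C q) ^ (n + 1) ∣ P) :
    (X - C q) ^ n ∣ T r a P := by
  obtain ⟨Q, rfl⟩ := h
  rw [T_pow_mul']; exact Dvd.intro _ rfl

theorem eval_T_pow (q p : k) (n : ℕ) :
    (T r a ((X - C q) ^ (n + 1))).eval p =
      (p - q) ^ n * (((n + 1 : ℕ) : k) * (PP r).eval p - (p - q) * (SS r a).eval p) := by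
  have h := T_pow_mul' r a q n 1
  rw [mul_one] at h
  rw [h]
  simp only [eval_mul, eval_pow, eval_sub, eval_X, eval_C, derivative_one, mul_zero,
    add_zero, mul_one]

theorem pow_mem_LT (q : k) (s N : ℕ) (h : s ≤ N) : (X - C q) ^ s ∈ degreeLT k (N + 1) := by
  rw [mem_LT_succ_iff, natDegree_pow, natDegree_X_sub_C, mul_one]; exact h

theorem coeff_pow_top (q : k) (s : ℕ) : ((X - C q) ^ s).coeff s = 1 := by
  have := ((monic_X_sub_C q).pow s).coeff_natDegree
  rwa [natDegree_pow, natDegree_X_sub_C, mul_one] at this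

theorem top_piece [CharZero k] (N : ℕ) (hN : ∑ j, a j ≤ N) (hN1 : 1 ≤ N) (q : k)
    (hq : ∀ j, q ≠ r j) (P : k[X]) (hP : P ∈ degreeLT k (N + 1))
    (hdvd : (X - C q) ^ (N - 1) ∣ T r a P) :
    ∃ c : k, T r a P = c • T r a ((X - C q) ^ N) := by
  obtain ⟨c₀, hc₀⟩ := unmarked_sub r a q hq (N - 1) P hdvd
  rw [Nat.sub_add_cancel hN1] at hc₀
  have hmem : P - C c₀ * EE r a ∈
      degreeLT k (N + 1) ⊓ (Ideal.span {(X - C q) ^ N}).restrictScalars k := by
    refine Submodule.mem_inf.mpr ⟨?_, (mem_Y _ _ _).mpr hc₀⟩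
    rw [← smul_eq_C_mul]
    exact Submodule.sub_mem _ hP (Submodule.smul_mem _ _ (E_mem_LT r a N hN))
  rw [Hc_eq, Nat.add_sub_cancel_left] at hmem
  obtain ⟨Q, hQ, hQeq⟩ := Submodule.mem_map.mp hmem
  rw [show (1 : ℕ) = 0 + 1 from rfl, mem_LT_succ_iff] at hQ
  obtain ⟨c', hc'⟩ : ∃ c', Q = C c' := ⟨_, eq_C_of_natDegree_le_zero hQ⟩
  subst hc'
  refine ⟨c', ?_⟩
  rw [← T_sub_EE r a P c₀, ← hQeq, LinearMap.mulLeft_apply, mul_comm, ← smul_eq_C_mul, map_smul]

theorem exists_top_of_ne_bot [CharZero k] (hr : Function.Injective r) (b N : ℕ) (hb : 1 ≤ b)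
    (hN : N = (∑ j, a j) + b) (q : k) (hq : ∀ j, q ≠ r j) (V₁ : Submodule k k[X])
    (hV₁ : V₁ ≤ Vb r a b)
    (hne : V₁ ⊓ (Ideal.span {(X - C q) ^ (N - 1)}).restrictScalars k ≠ ⊥) :
    T r a ((X - C q) ^ N) ∈ V₁ := by
  obtain ⟨h, hh, hh0⟩ := (Submodule.ne_bot_iff _).mp hne
  obtain ⟨hh1, hh2⟩ := Submodule.mem_inf.mp hh
  have hV := hV₁ hh1
  rw [Vb_eq r a hr b, ← hN] at hV
  obtain ⟨P, hP, rfl⟩ := Submodule.mem_map.mp hV
  rw [mem_Y] at hh2
  obtain ⟨c, hc⟩ := top_piece r a N (by omega) (by omega) q hq P hP hh2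
  have hc0 : c ≠ 0 := by
    rintro rfl
    rw [zero_smul] at hc
    exact hh0 hc
  have : T r a ((X - C q) ^ N) = c⁻¹ • T r a P := by
    rw [hc, smul_smul, inv_mul_cancel₀ hc0, one_smul]
  rw [this]
  exact Submodule.smul_mem _ _ hh1

theorem not_le_of_eval [CharZero k] (q p : k) (hqp : q ≠ p) (hp : ∀ j, p ≠ r j) (n : ℕ)
    (W G : Submodule k k[X]) (hmemW : ∀ P, P ∈ W → (T r a P).eval p = 0)
    (hA1 : (X - C q) ^ (n + 1) ∈ G) (hA2 : (X - C q) ^ (n + 1 + 1) ∈ G) : ¬ G ≤ W := by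
  intro hle
  have e1 := hmemW _ (hle hA1)
  have e2 := hmemW _ (hle hA2)
  rw [eval_T_pow] at e1 e2
  have hpq : p - q ≠ 0 := sub_ne_zero.mpr (Ne.symm hqp)
  have f1 := (mul_eq_zero.mp e1).resolve_left (pow_ne_zero _ hpq)
  have f2 := (mul_eq_zero.mp e2).resolve_left (pow_ne_zero _ hpq)
  have f3 : (PP r).eval p = 0 := by
    push_cast at f1 f2
    linear_combination f2 - f1
  exact eval_PP_ne r p hp f3

theorem main5 [CharZero k] (hr : Function.Injective r) (b N : ℕ) (hb : 1 ≤ b)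
    (hN : N = (∑ j, a j) + b) (p : k) (hp : ∀ j, p ≠ r j) (V₁ : Submodule k k[X])
    (hV₁ : V₁ = Vb r a b ⊓ (Ideal.span {X - C p}).restrictScalars k) :
    finrank k ↥V₁ + 1 = N ∧
    (V₁ ⊓ (Ideal.span {(X - C p) ^ N}).restrictScalars k) = ⊥ ∧
    (∀ q : k, (∀ j, q ≠ r j) → q ≠ p →
      (V₁ ⊓ (Ideal.span {(X - C q) ^ N}).restrictScalars k) = ⊥ ∧
      finrank k ↥(V₁ ⊓ (Ideal.span {(X - C q) ^ (N - 2)}).restrictScalars k) ≤ 1) ∧
    (∀ q q' : k, (∀ j, q ≠ r j) → q ≠ p → (∀ j, q' ≠ r j) → q' ≠ p →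
      (V₁ ⊓ (Ideal.span {(X - C q) ^ (N - 1)}).restrictScalars k) ≠ ⊥ →
      (V₁ ⊓ (Ideal.span {(X - C q') ^ (N - 1)}).restrictScalars k) ≠ ⊥ → q = q') := by
  have hNα : ∑ j, a j ≤ N := by omega
  have hN1 : 1 ≤ N := by omega
  have hp1 : (Ideal.span {X - C p} : Ideal k[X]) = Ideal.span {(X - C p) ^ 1} := by rw [pow_one]
  rw [hp1] at hV₁
  have hVeq : Vb r a b = (degreeLT k (N + 1)).map (T r a) := by rw [hN]; exact Vb_eq r a hr b
  have hVbot : ∀ q : k, (∀ j, q ≠ r j) →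
      Vb r a b ⊓ (Ideal.span {(X - C q) ^ N}).restrictScalars k = ⊥ := fun q hq => by
    have h := finrank_V_unmarked r a hr b N hN q hq N
    rw [Nat.sub_self] at h
    exact Submodule.finrank_eq_zero.mp h
  have hV₁le : V₁ ≤ Vb r a b := hV₁ ▸ inf_le_left
  haveI : FiniteDimensional k V₁ := Submodule.finiteDimensional_of_le hV₁le
  have hbot : ∀ q, (∀ j, q ≠ r j) →
      V₁ ⊓ (Ideal.span {(X - C q) ^ N}).restrictScalars k = ⊥ := fun q hq =>
    eq_bot_iff.mpr ((inf_le_inf_right _ hV₁le).trans (hVbot q hq).le)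
  have hfin : finrank k V₁ + 1 = N := by
    rw [hV₁, finrank_V_unmarked r a hr b N hN p hp 1]; omega
  have hV₁W : V₁ = (degreeLT k (N + 1) ⊓
      ((Ideal.span {(X - C p) ^ 1}).restrictScalars k).comap (T r a)).map (T r a) := by
    rw [hV₁, hVeq, map_inf_comap']
  have hEW : EE r a ∈ degreeLT k (N + 1) ⊓
      ((Ideal.span {(X - C p) ^ 1}).restrictScalars k).comap (T r a) := by
    refine Submodule.mem_inf.mpr ⟨E_mem_LT r a N hNα, ?_⟩
    rw [Submodule.mem_comap, T_EE]; exact Submodule.zero_mem _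
  have hW₁fin : finrank k ↥(degreeLT k (N + 1) ⊓
      ((Ideal.span {(X - C p) ^ 1}).restrictScalars k).comap (T r a)) + 1 =
        finrank k (degreeLT k (N + 1)) := by
    have := finrank_map_T r a _ hEW
    rw [← hV₁W] at this
    rw [finrank_degreeLT]; omega
  have hmemW : ∀ P, P ∈ degreeLT k (N + 1) ⊓
      ((Ideal.span {(X - C p) ^ 1}).restrictScalars k).comap (T r a) →
        (T r a P).eval p = 0 := fun P hP => by
    have := (Submodule.mem_inf.mp hP).2
    rw [Submodule.mem_comap, mem_Y, pow_one] at this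
    exact dvd_iff_isRoot.mp this
  have hV₁p : ∀ h, h ∈ V₁ → h.eval p = 0 := fun h hh => by
    rw [hV₁] at hh
    have := (Submodule.mem_inf.mp hh).2
    rw [mem_Y, pow_one] at this
    exact dvd_iff_isRoot.mp this
  refine ⟨hfin, hbot p hp, fun q hq hqp => ⟨hbot q hq, ?_⟩, ?_⟩
  · rcases Nat.lt_or_ge N 3 with hN3 | hN3
    · exact (Submodule.finrank_mono inf_le_left).trans (by omega)
    · obtain ⟨n, hn⟩ : ∃ n, N = n + 3 := ⟨N - 3, by omega⟩
      have e2 : N - 2 = n + 1 := by omega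
      rw [e2]
      have h1 := finrank_inf_hyp r a (degreeLT k (N + 1)) _
        ((Ideal.span {(X - C q) ^ (n + 1)}).restrictScalars k) inf_le_left hEW
      rw [← hV₁W] at h1
      have hEG : EE r a ∈ degreeLT k (N + 1) ⊓
          ((Ideal.span {(X - C q) ^ (n + 1)}).restrictScalars k).comap (T r a) := by
        refine Submodule.mem_inf.mpr ⟨E_mem_LT r a N hNα, ?_⟩
        rw [Submodule.mem_comap, T_EE]; exact Submodule.zero_mem _
      have hGfin := finrank_map_T r a _ hEG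
      rw [← map_inf_comap', ← hVeq, finrank_V_unmarked r a hr b N hN q hq (n + 1)] at hGfin
      have hnot := not_le_of_eval r a q p hqp hp (n + 1) _ _ hmemW
        (Submodule.mem_inf.mpr ⟨pow_mem_LT q (n + 1 + 1) N (by omega), by
          rw [Submodule.mem_comap, mem_Y]
          exact dvd_T_of_dvd r a q (n + 1) _ (pow_dvd_pow _ (by omega))⟩ :
          (X - C q) ^ (n + 1 + 1) ∈ degreeLT k (N + 1) ⊓
            ((Ideal.span {(X - C q) ^ (n + 1)}).restrictScalars k).comap (T r a))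
        (Submodule.mem_inf.mpr ⟨pow_mem_LT q (n + 1 + 1 + 1) N (by omega), by
          rw [Submodule.mem_comap, mem_Y]
          exact dvd_T_of_dvd r a q (n + 1) _ (pow_dvd_pow _ (by omega))⟩)
      have h2 := hyperplane_inf (degreeLT k (N + 1)) _ _ inf_le_left inf_le_left hW₁fin hnot
      omega
  · intro q q' hq hqp hq' hqp' hne hne'
    have t1 := hV₁p _ (exists_top_of_ne_bot r a hr b N hb hN q hq V₁ hV₁le hne)
    have t2 := hV₁p _ (exists_top_of_ne_bot r a hr b N hb hN q' hq' V₁ hV₁le hne')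
    obtain ⟨n, hn⟩ : ∃ n, N = n + 1 := ⟨N - 1, by omega⟩
    rw [hn, eval_T_pow] at t1 t2
    have f1 := (mul_eq_zero.mp t1).resolve_left (pow_ne_zero _ (sub_ne_zero.mpr (Ne.symm hqp)))
    have f2 := (mul_eq_zero.mp t2).resolve_left (pow_ne_zero _ (sub_ne_zero.mpr (Ne.symm hqp')))
    by_contra hqq
    have f3 : (q' - q) * (SS r a).eval p = 0 := by linear_combination f2 - f1
    have f4 : (SS r a).eval p = 0 := (mul_eq_zero.mp f3).resolve_left (sub_ne_zero.mpr (Ne.symm hqq))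
    rw [f4, mul_zero, sub_zero] at f1
    have hn1 : ((n + 1 : ℕ) : k) ≠ 0 := by exact_mod_cast Nat.succ_ne_zero n
    exact eval_PP_ne r p hp ((mul_eq_zero.mp f1).resolve_left hn1)

theorem coeff_pow_sub (q : k) (n : ℕ) : ((X - C q) ^ (n + 1)).coeff n = -((n + 1 : ℕ) : k) * q := by
  rw [sub_eq_add_neg, ← C_neg, coeff_X_add_C_pow, Nat.add_sub_cancel_left, pow_one,
    Nat.choose_succ_self_right]
  push_cast; ring

theorem main3 [CharZero k] (hr : Function.Injective r) (b N : ℕ) (hb : 1 ≤ b)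
    (hN : N = (∑ j, a j) + b) (V₁ : Submodule k k[X]) (hV₁ : V₁ ≤ Vb r a b)
    (hfin : finrank k ↥V₁ + 1 = N) (hU : Vb r a (b - 2) ≤ V₁) :
    (∀ q : k, (∀ j, q ≠ r j) →
      (V₁ ⊓ (Ideal.span {(X - C q) ^ N}).restrictScalars k) = ⊥ ∧
      finrank k ↥(V₁ ⊓ (Ideal.span {(X - C q) ^ (N - 2)}).restrictScalars k) ≤ 1) ∧
    (∀ q q' : k, (∀ j, q ≠ r j) → (∀ j, q' ≠ r j) →
      (V₁ ⊓ (Ideal.span {(X - C q) ^ (N - 1)}).restrictScalars k) ≠ ⊥ →
      (V₁ ⊓ (Ideal.span {(X - C q') ^ (N - 1)}).restrictScalars k) ≠ ⊥ → q = q') := by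
  have hNα : ∑ j, a j ≤ N := by omega
  have hN1 : 1 ≤ N := by omega
  haveI : FiniteDimensional k V₁ := Submodule.finiteDimensional_of_le hV₁
  have hVeq : Vb r a b = (degreeLT k (N + 1)).map (T r a) := by rw [hN]; exact Vb_eq r a hr b
  have hVbot : ∀ q : k, (∀ j, q ≠ r j) →
      Vb r a b ⊓ (Ideal.span {(X - C q) ^ N}).restrictScalars k = ⊥ := fun q hq => by
    have h := finrank_V_unmarked r a hr b N hN q hq N
    rw [Nat.sub_self] at h
    exact Submodule.finrank_eq_zero.mp h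
  have hbot : ∀ q, (∀ j, q ≠ r j) →
      V₁ ⊓ (Ideal.span {(X - C q) ^ N}).restrictScalars k = ⊥ := fun q hq =>
    eq_bot_iff.mpr ((inf_le_inf_right _ hV₁).trans (hVbot q hq).le)
  obtain ⟨W₁, hW₁L, hEW, hmap, hWfin, hWmem⟩ :=
    exists_W r a (degreeLT k (N + 1)) V₁ (E_mem_LT r a N hNα) (hVeq ▸ hV₁)
  haveI : FiniteDimensional k W₁ := Submodule.finiteDimensional_of_le hW₁L
  have hW₁fin : finrank k W₁ + 1 = finrank k (degreeLT k (N + 1)) := by
    rw [finrank_degreeLT]; omega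
  have hlow : degreeLT k (N - 1) ≤ W₁ := by
    intro P hP
    refine hWmem P (degreeLT_mono (by omega) hP) (hU ?_)
    rw [Vb_eq r a hr (b - 2)]
    exact Submodule.mem_map_of_mem (degreeLT_mono (by omega) hP)
  have hfull : ¬ degreeLT k (N + 1) ≤ W₁ := fun h => by
    have := Submodule.finrank_mono h
    omega
  refine ⟨fun q hq => ⟨hbot q hq, ?_⟩, ?_⟩
  · rcases Nat.lt_or_ge N 3 with hN3 | hN3
    · exact (Submodule.finrank_mono inf_le_left).trans (by omega)
    · obtain ⟨n, hn⟩ : ∃ n, N = n + 3 := ⟨N - 3, by omega⟩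
      have e2 : N - 2 = n + 1 := by omega
      rw [e2]
      have h1 := finrank_inf_hyp r a (degreeLT k (N + 1)) W₁
        ((Ideal.span {(X - C q) ^ (n + 1)}).restrictScalars k) hW₁L hEW
      rw [hmap] at h1
      have hEG : EE r a ∈ degreeLT k (N + 1) ⊓
          ((Ideal.span {(X - C q) ^ (n + 1)}).restrictScalars k).comap (T r a) := by
        refine Submodule.mem_inf.mpr ⟨E_mem_LT r a N hNα, ?_⟩
        rw [Submodule.mem_comap, T_EE]; exact Submodule.zero_mem _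
      have hGfin := finrank_map_T r a _ hEG
      rw [← map_inf_comap', ← hVeq, finrank_V_unmarked r a hr b N hN q hq (n + 1)] at hGfin
      have hA : ∀ s, n + 2 ≤ s → s ≤ N → (X - C q) ^ s ∈ degreeLT k (N + 1) ⊓
          ((Ideal.span {(X - C q) ^ (n + 1)}).restrictScalars k).comap (T r a) := fun s hs1 hs2 =>
        Submodule.mem_inf.mpr ⟨pow_mem_LT q s N hs2, by
          rw [Submodule.mem_comap, mem_Y]
          exact dvd_T_of_dvd r a q (n + 1) _ (pow_dvd_pow _ (by omega))⟩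
      have hnot : ¬ (degreeLT k (N + 1) ⊓
          ((Ideal.span {(X - C q) ^ (n + 1)}).restrictScalars k).comap (T r a)) ≤ W₁ := by
        intro hle
        apply hfull
        have e3 : N + 1 = (n + 2) + 2 := by omega
        have e4 : N - 1 = n + 2 := by omega
        rw [e3]
        rw [e4] at hlow
        refine span_top (n + 2) W₁ hlow ((X - C q) ^ (n + 3)) ((X - C q) ^ (n + 2))
          (pow_mem_LT q (n + 3) (n + 3) le_rfl) ?_ (pow_mem_LT q (n + 2) (n + 2) le_rfl) ?_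
          (hle (hA (n + 3) (by omega) (by omega))) (hle (hA (n + 2) (by omega) (by omega)))
        · rw [coeff_pow_top]; exact one_ne_zero
        · rw [coeff_pow_top]; exact one_ne_zero
      have h2 := hyperplane_inf (degreeLT k (N + 1)) W₁ _ hW₁L inf_le_left hW₁fin hnot
      omega
  · intro q q' hq hq' hne hne'
    have t1 := exists_top_of_ne_bot r a hr b N hb hN q hq V₁ hV₁ hne
    have t2 := exists_top_of_ne_bot r a hr b N hb hN q' hq' V₁ hV₁ hne'
    have w1 := hWmem _ (pow_mem_LT q N N le_rfl) t1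
    have w2 := hWmem _ (pow_mem_LT q' N N le_rfl) t2
    by_contra hqq
    apply hfull
    obtain ⟨n, hn⟩ : ∃ n, N = n + 1 := ⟨N - 1, by omega⟩
    have e3 : N + 1 = n + 2 := by omega
    have e4 : N - 1 = n := by omega
    rw [e3]
    rw [e4] at hlow
    rw [hn] at w1 w2
    refine span_top n W₁ hlow ((X - C q) ^ (n + 1)) ((X - C q) ^ (n + 1) - (X - C q') ^ (n + 1))
      (pow_mem_LT q (n + 1) (n + 1) le_rfl) ?_ ?_ ?_ w1 (Submodule.sub_mem _ w1 w2)
    · rw [coeff_pow_top]; exact one_ne_zero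
    · refine mem_LT_of_coeff _ _ (Submodule.sub_mem _ (pow_mem_LT q (n + 1) (n + 1) le_rfl)
        (pow_mem_LT q' (n + 1) (n + 1) le_rfl)) ?_
      rw [coeff_sub, coeff_pow_top, coeff_pow_top, sub_self]
    · rw [coeff_sub, coeff_pow_sub, coeff_pow_sub]
      have hn1 : ((n + 1 : ℕ) : k) ≠ 0 := by exact_mod_cast Nat.succ_ne_zero n
      have : -((n + 1 : ℕ) : k) * q - -((n + 1 : ℕ) : k) * q' = ((n + 1 : ℕ) : k) * (q' - q) := by
        ring
      rw [this]
      exact mul_ne_zero hn1 (sub_ne_zero.mpr (Ne.symm hqq))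

end Groth.Agent.Helper25.Wronsk
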