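import Groth.Agent.Lib.Helper25.Wronsk3

set_option linter.style.haveILetI false

/-!
Sums of polar parts: weights of hyperplanes at the marked points.
-/

namespace Groth.Agent.Helper25.Wronsk
open Polynomial Finset Module

/-! ### arithmetic -/

/-- the dimension of the `n`-th filtration step when `e` is the missing order -/
def fE (N e n : ℕ) : ℕ := if n ≤ e then N - n else N + 1 - n

theorem choose_two_succ (K : ℕ) : (K + 1).choose 2 = K + K.choose 2 := by
  rw [show 2 = 1 + 1 from rfl, Nat.choose_succ_succ, Nat.choose_one_right]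

theorem sum_f (N e : ℕ) (he : e ≤ N) :
    (∑ x ∈ range N, fE N e (x + 1)) + e = N.choose 2 + N := by
  have key : ∀ K, K ≤ N →
      (∑ y ∈ range K, fE N e (N - y)) + (K - (N - e)) = K.choose 2 + K := by
    intro K
    induction K with
    | zero => intro _; simp
    | succ K ih =>
      intro hK
      have h := ih (by omega)
      rw [Finset.sum_range_succ, choose_two_succ]
      have hterm : fE N e (N - K) + (K + 1 - (N - e)) = (K - (N - e)) + (K + 1) := by
        unfold fE; split_ifs with hc <;> omega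
      omega
  have hrefl : ∑ x ∈ range N, fE N e (x + 1) = ∑ y ∈ range N, fE N e (N - y) := by
    rw [← Finset.sum_range_reflect (fun x => fE N e (x + 1)) N]
    refine Finset.sum_congr rfl fun j hj => ?_
    have := Finset.mem_range.mp hj
    show fE N e (N - 1 - j + 1) = fE N e (N - j)
    congr 1; omega
  rw [hrefl]
  have := key N le_rfl
  omega

theorem sum_ext' (g : ℕ → ℕ) (N d : ℕ) (hd : N ≤ d) (hz : ∀ n, N < n → g n = 0) :
    ∑ x ∈ range d, g (x + 1) = ∑ x ∈ range N, g (x + 1) := by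
  obtain ⟨t, rfl⟩ := Nat.exists_eq_add_of_le hd
  rw [Finset.sum_range_add]
  have h0 : ∑ x ∈ range t, g (N + x + 1) = 0 :=
    Finset.sum_eq_zero (fun x _ => hz (N + x + 1) (by omega))
  rw [h0, add_zero]

theorem arith1 (N e d : ℕ) (hN : 1 ≤ N) (he : e ≤ N) (hd : N ≤ d + 1) (g : ℕ → ℕ)
    (h1 : ∀ n, 1 ≤ n → n + 1 ≤ N → g n + 1 = fE N e n)
    (h2 : ∀ n, N ≤ n → g n ≤ fE N e n) :
    ∃ ε : ℕ, ε ≤ 1 ∧
      (∑ n ∈ range d, g (n + 1)) + 1 = (N - 1).choose 2 + (N - e) + ε := by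
  obtain ⟨N₁, rfl⟩ : ∃ N₁, N = N₁ + 1 := ⟨N - 1, by omega⟩
  have hz : ∀ n, N₁ + 1 < n → g n = 0 := fun n hn => by
    have := h2 n (by omega)
    unfold fE at this
    split_ifs at this <;> omega
  have hgN : g (N₁ + 1) ≤ fE (N₁ + 1) e (N₁ + 1) := h2 _ le_rfl
  have hfN : fE (N₁ + 1) e (N₁ + 1) = if N₁ + 1 ≤ e then 0 else 1 := by
    unfold fE; split_ifs <;> omega
  have hsf := sum_f (N₁ + 1) e he
  rw [Finset.sum_range_succ] at hsf
  have hhead : ∑ x ∈ range N₁, g (x + 1) + N₁ = ∑ x ∈ range N₁, fE (N₁ + 1) e (x + 1) := by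
    rw [← Finset.sum_congr rfl (fun x hx => h1 (x + 1) (by omega)
      (by have := Finset.mem_range.mp hx; omega)), Finset.sum_add_distrib]
    simp
  have hc2 := choose_two_succ N₁
  have hsum : ∑ n ∈ range d, g (n + 1) =
      ∑ x ∈ range N₁, g (x + 1) + (if N₁ + 1 ≤ d then g (N₁ + 1) else 0) := by
    by_cases hdN : N₁ + 1 ≤ d
    · rw [if_pos hdN, sum_ext' g (N₁ + 1) d hdN hz, Finset.sum_range_succ]
    · rw [if_neg hdN]
      have : d = N₁ := by omega
      rw [this, add_zero]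
  rw [Nat.add_sub_cancel]
  rw [hfN] at hgN hsf
  refine ⟨(∑ n ∈ range d, g (n + 1)) + 1 - (N₁.choose 2 + (N₁ + 1 - e)), ?_, ?_⟩
  all_goals (rw [hsum]; split_ifs at * <;> omega)

theorem arith2 (N b d : ℕ) (hN : 1 ≤ N) (hb : 1 ≤ b) (hbN : b ≤ N) (hd : N ≤ d + 1)
    (hd' : d + 1 = N → b = N) (g : ℕ → ℕ)
    (h2 : ∀ n, 2 ≤ n → g n = fE N b n) (h1a : g 1 ≤ fE N b 1) (h1b : fE N b 1 ≤ g 1 + 1) :
    ∃ ε : ℕ, ε ≤ 1 ∧
      (∑ n ∈ range d, g (n + 1)) = (N - 1).choose 2 + (N - b) + (N - 2) + ε := by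
  obtain ⟨N₁, rfl⟩ : ∃ N₁, N = N₁ + 1 := ⟨N - 1, by omega⟩
  have hf1 : fE (N₁ + 1) b 1 = N₁ := by unfold fE; split_ifs <;> omega
  rw [hf1] at h1a h1b
  have hfz : ∀ n, N₁ + 1 < n → fE (N₁ + 1) b n = 0 := fun n hn => by
    unfold fE; split_ifs <;> omega
  have hfN : fE (N₁ + 1) b (N₁ + 1) = if N₁ + 1 ≤ b then 0 else 1 := by
    unfold fE; split_ifs <;> omega
  have hsf := sum_f (N₁ + 1) b hbN
  have hc2 := choose_two_succ N₁
  have hF : (∑ n ∈ range d, fE (N₁ + 1) b (n + 1)) + b = (N₁ + 1).choose 2 + (N₁ + 1) := by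
    by_cases hdN : N₁ + 1 ≤ d
    · rw [sum_ext' _ (N₁ + 1) d hdN hfz]; exact hsf
    · have hdeq : d = N₁ := by omega
      have hbeq := hd' (by omega)
      rw [Finset.sum_range_succ, hfN, if_pos (by omega)] at hsf
      rw [hdeq]; omega
  have hG : (∑ n ∈ range d, g (n + 1)) + (if 1 ≤ d then N₁ - g 1 else 0) =
      ∑ n ∈ range d, fE (N₁ + 1) b (n + 1) := by
    rcases Nat.eq_zero_or_pos d with h0 | hpos
    · subst h0; simp
    · obtain ⟨d', rfl⟩ : ∃ d', d = d' + 1 := ⟨d - 1, by omega⟩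
      rw [if_pos (by omega), Finset.sum_range_succ', Finset.sum_range_succ',
        Finset.sum_congr rfl (fun x _ => h2 (x + 1 + 1) (by omega)), zero_add, hf1]
      omega
  rw [Nat.add_sub_cancel]
  refine ⟨(∑ n ∈ range d, g (n + 1)) - (N₁.choose 2 + (N₁ + 1 - b) + (N₁ + 1 - 2)), ?_, ?_⟩
  all_goals (split_ifs at hG <;> omega)

/-! ### dropping one dimension -/

variable {k : Type*} [Field k] {m : ℕ} (r : Fin m → k) (a : Fin m → ℕ)

theorem drop_aux [CharZero k] (N : ℕ) (hNα : ∑ j, a j ≤ N) (W₁ Y : Submodule k k[X])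
    (hW₁L : W₁ ≤ degreeLT k (N + 1)) (hEW : EE r a ∈ W₁) :
    finrank k ↥(W₁.map (T r a) ⊓ Y) + 1 =
        finrank k ↥(W₁ ⊓ (degreeLT k (N + 1) ⊓ Y.comap (T r a))) ∧
      finrank k ↥((degreeLT k (N + 1)).map (T r a) ⊓ Y) + 1 =
        finrank k ↥(degreeLT k (N + 1) ⊓ Y.comap (T r a)) := by
  refine ⟨finrank_inf_hyp r a (degreeLT k (N + 1)) W₁ Y hW₁L hEW, ?_⟩
  rw [map_inf_comap']
  refine finrank_map_T r a _ (Submodule.mem_inf.mpr ⟨E_mem_LT r a N hNα, ?_⟩)
  rw [Submodule.mem_comap, T_EE]; exact Submodule.zero_mem _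

theorem drop_one [CharZero k] (N : ℕ) (hNα : ∑ j, a j ≤ N) (W₁ Y : Submodule k k[X])
    (hW₁L : W₁ ≤ degreeLT k (N + 1)) (hEW : EE r a ∈ W₁)
    (hW₁fin : finrank k W₁ + 1 = finrank k (degreeLT k (N + 1)))
    (hnot : ¬ (degreeLT k (N + 1) ⊓ Y.comap (T r a)) ≤ W₁) :
    finrank k ↥(W₁.map (T r a) ⊓ Y) + 1 =
      finrank k ↥((degreeLT k (N + 1)).map (T r a) ⊓ Y) := by
  obtain ⟨h1, h2⟩ := drop_aux r a N hNα W₁ Y hW₁L hEW
  have h3 := hyperplane_inf (degreeLT k (N + 1)) W₁ _ hW₁L inf_le_left hW₁fin hnot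
  omega

theorem drop_zero [CharZero k] (N : ℕ) (hNα : ∑ j, a j ≤ N) (W₁ Y : Submodule k k[X])
    (hW₁L : W₁ ≤ degreeLT k (N + 1)) (hEW : EE r a ∈ W₁)
    (hle : (degreeLT k (N + 1) ⊓ Y.comap (T r a)) ≤ W₁) :
    finrank k ↥(W₁.map (T r a) ⊓ Y) =
      finrank k ↥((degreeLT k (N + 1)).map (T r a) ⊓ Y) := by
  obtain ⟨h1, h2⟩ := drop_aux r a N hNα W₁ Y hW₁L hEW
  rw [inf_eq_right.mpr hle] at h1
  omega

theorem drop_le [CharZero k] (N : ℕ) (hNα : ∑ j, a j ≤ N) (W₁ Y : Submodule k k[X])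
    (hW₁L : W₁ ≤ degreeLT k (N + 1)) (hEW : EE r a ∈ W₁)
    (hW₁fin : finrank k W₁ + 1 = finrank k (degreeLT k (N + 1))) :
    finrank k ↥((degreeLT k (N + 1)).map (T r a) ⊓ Y) ≤
      finrank k ↥(W₁.map (T r a) ⊓ Y) + 1 := by
  by_cases hle : (degreeLT k (N + 1) ⊓ Y.comap (T r a)) ≤ W₁
  · have := drop_zero r a N hNα W₁ Y hW₁L hEW hle
    omega
  · have := drop_one r a N hNα W₁ Y hW₁L hEW hW₁fin hle
    omega

theorem dvd_T_of_dvd_marked (i : Fin m) (n : ℕ) (P : k[X]) (h : (X - C (r i)) ^ n ∣ P) :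
    (X - C (r i)) ^ n ∣ T r a P := by
  obtain ⟨Q, rfl⟩ := h
  rw [T_pow_mul]; exact Dvd.intro _ rfl

theorem pow_mem_G_marked (i : Fin m) (n s N : ℕ) (hns : n ≤ s) (hsN : s ≤ N) :
    (X - C (r i)) ^ s ∈ degreeLT k (N + 1) ⊓
      ((Ideal.span {(X - C (r i)) ^ n}).restrictScalars k).comap (T r a) := by
  refine Submodule.mem_inf.mpr ⟨pow_mem_LT (r i) s N hsN, ?_⟩
  rw [Submodule.mem_comap, mem_Y]
  exact dvd_T_of_dvd_marked r a i n _ (pow_dvd_pow _ hns)

theorem eval_T_pow_marked (i : Fin m) (p : k) (s : ℕ) :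
    (T r a ((X - C (r i)) ^ s)).eval p =
      (p - r i) ^ s * ((s : k) * (Pj r i).eval p - (SS r a).eval p) := by
  have h := T_pow_mul r a i s 1
  rw [mul_one] at h
  rw [h]
  simp only [eval_mul, eval_pow, eval_sub, eval_X, eval_C, derivative_one, mul_zero,
    add_zero, mul_one, one_mul]

theorem not_le_of_eval_marked [CharZero k] (i : Fin m) (p : k) (hp : ∀ j, p ≠ r j) (s : ℕ)
    (W G : Submodule k k[X]) (hmemW : ∀ P, P ∈ W → (T r a P).eval p = 0)
    (hA1 : (X - C (r i)) ^ s ∈ G) (hA2 : (X - C (r i)) ^ (s + 1) ∈ G) : ¬ G ≤ W := by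
  intro hle
  have e1 := hmemW _ (hle hA1)
  have e2 := hmemW _ (hle hA2)
  rw [eval_T_pow_marked] at e1 e2
  have hpr : p - r i ≠ 0 := sub_ne_zero.mpr (hp i)
  have f1 := (mul_eq_zero.mp e1).resolve_left (pow_ne_zero _ hpr)
  have f2 := (mul_eq_zero.mp e2).resolve_left (pow_ne_zero _ hpr)
  have f3 : (Pj r i).eval p = 0 := by
    push_cast at f2
    linear_combination f2 - f1
  exact eval_Pj_ne' r p hp i f3

theorem not_le_of_eval_inf (p : k) (hp : ∀ j, p ≠ r j) (W G : Submodule k k[X])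
    (hmemW : ∀ P, P ∈ W → (T r a P).eval p = 0)
    (h1 : (1 : k[X]) ∈ G) (hX : (X : k[X]) ∈ G) : ¬ G ≤ W := by
  intro hle
  have e1 := hmemW _ (hle h1)
  have e2 := hmemW _ (hle hX)
  rw [T_apply] at e1 e2
  simp only [derivative_one, zero_mul, zero_sub, one_mul, eval_neg, neg_eq_zero] at e1
  simp only [derivative_X, one_mul, eval_sub, eval_mul, eval_X] at e2
  rw [e1, mul_zero, sub_zero] at e2
  exact eval_PP_ne r p hp e2

/-! ### the weights -/

theorem main4 [CharZero k] (hr : Function.Injective r) (b N d : ℕ) (hb : 1 ≤ b)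
    (hN : N = (∑ j, a j) + b) (hd : d + 1 = N + m) (hm : m = 0 → d + 1 = N → b = N)
    (V₁ : Submodule k k[X]) (hV₁ : V₁ ≤ Vb r a b)
    (hfin : finrank k ↥V₁ + 1 = N) (hU : Vb r a (b - 2) ≤ V₁) :
    (∀ i : Fin m, ∃ ε : ℕ, ε ≤ 1 ∧
      (∑ n ∈ Finset.range d, finrank k
        ↥(V₁ ⊓ (Ideal.span {(X - C (r i)) ^ (n + 1)}).restrictScalars k)) + 1 =
        (N - 1).choose 2 + (N - a i) + ε) ∧
    (∃ ε : ℕ, ε ≤ 1 ∧
      (∑ n ∈ Finset.range d, finrank k ↥(V₁ ⊓ degreeLT k (d - n))) =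
        (N - 1).choose 2 + (N - b) + (N - 2) + ε) := by
  have hNα : ∑ j, a j ≤ N := by omega
  have hN1 : 1 ≤ N := by omega
  haveI : FiniteDimensional k V₁ := Submodule.finiteDimensional_of_le hV₁
  have hVeq : Vb r a b = (degreeLT k (N + 1)).map (T r a) := by rw [hN]; exact Vb_eq r a hr b
  obtain ⟨W₁, hW₁L, hEW, hmap, hWfin, hWmem⟩ :=
    exists_W r a (degreeLT k (N + 1)) V₁ (E_mem_LT r a N hNα) (hVeq ▸ hV₁)
  haveI : FiniteDimensional k W₁ := Submodule.finiteDimensional_of_le hW₁L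
  have hW₁fin : finrank k W₁ + 1 = finrank k (degreeLT k (N + 1)) := by
    rw [finrank_degreeLT]; omega
  have hlow : degreeLT k (N - 1) ≤ W₁ := by
    intro P hP
    refine hWmem P (degreeLT_mono (by omega) hP) (hU ?_)
    rw [Vb_eq r a hr (b - 2)]
    exact Submodule.mem_map_of_mem (degreeLT_mono (by omega) hP)
  have hfull : ¬ degreeLT k (N + 1) ≤ W₁ := fun h => by
    have := Submodule.finrank_mono h
    omega
  have hmono : ∀ Y : Submodule k k[X], finrank k ↥(V₁ ⊓ Y) ≤ finrank k ↥(Vb r a b ⊓ Y) :=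
    fun Y => Submodule.finrank_mono (inf_le_inf_right _ hV₁)
  constructor
  · intro i
    have hai : a i ≤ ∑ j, a j :=
      Finset.single_le_sum (fun j _ => Nat.zero_le (a j)) (mem_univ i)
    refine arith1 N (a i) d hN1 (by omega) (by omega)
      (fun n => finrank k ↥(V₁ ⊓ (Ideal.span {(X - C (r i)) ^ n}).restrictScalars k)) ?_ ?_
    · intro n hn1 hn2
      show finrank k ↥(V₁ ⊓ (Ideal.span {(X - C (r i)) ^ n}).restrictScalars k) + 1 = _
      rw [← hmap, drop_one r a N hNα W₁ _ hW₁L hEW hW₁fin, ← hVeq,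
        finrank_V_marked r a hr b N hN i n]
      · rfl
      · intro hle
        apply hfull
        obtain ⟨N', hN'⟩ : ∃ N', N = N' + 2 := ⟨N - 2, by omega⟩
        have e3 : N + 1 = N' + 1 + 2 := by omega
        have e4 : N - 1 = N' + 1 := by omega
        rw [e3]
        rw [e4] at hlow
        refine span_top (N' + 1) W₁ hlow ((X - C (r i)) ^ (N' + 2)) ((X - C (r i)) ^ (N' + 1))
          (pow_mem_LT (r i) (N' + 2) (N' + 2) le_rfl) ?_
          (pow_mem_LT (r i) (N' + 1) (N' + 1) le_rfl) ?_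
          (hle (pow_mem_G_marked r a i n (N' + 2) N (by omega) (by omega)))
          (hle (pow_mem_G_marked r a i n (N' + 1) N (by omega) (by omega)))
        · rw [coeff_pow_top]; exact one_ne_zero
        · rw [coeff_pow_top]; exact one_ne_zero
    · intro n _
      show finrank k ↥(V₁ ⊓ (Ideal.span {(X - C (r i)) ^ n}).restrictScalars k) ≤ _
      refine (hmono _).trans ?_
      rw [finrank_V_marked r a hr b N hN i n]
      exact le_rfl
  · have hsum : ∑ n ∈ Finset.range d, finrank k ↥(V₁ ⊓ degreeLT k (d - n)) =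
        ∑ n ∈ Finset.range d, (fun n' => finrank k ↥(V₁ ⊓ degreeLT k (d + 1 - n'))) (n + 1) :=
      Finset.sum_congr rfl fun n _ => by
        show _ = finrank k ↥(V₁ ⊓ degreeLT k (d + 1 - (n + 1)))
        rw [Nat.add_sub_add_right]
    rw [hsum]
    refine arith2 N b d hN1 hb (by omega) (by omega) ?_
      (fun n' => finrank k ↥(V₁ ⊓ degreeLT k (d + 1 - n'))) ?_ ?_ ?_
    · intro hdN
      have hm0 : m = 0 := by omega
      exact hm hm0 hdN
    · intro n hn
      show finrank k ↥(V₁ ⊓ degreeLT k (d + 1 - n)) = _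
      rw [← hmap, drop_zero r a N hNα W₁ _ hW₁L hEW, ← hVeq,
        finrank_V_inf r a hr b N d hN hd n]
      · rfl
      · rw [G_inf r a b N d hN hd n]
        exact sup_le ((Submodule.span_singleton_le_iff_mem _ _).mpr hEW)
          ((degreeLT_mono (by omega)).trans hlow)
    · show finrank k ↥(V₁ ⊓ degreeLT k (d + 1 - 1)) ≤ _
      refine (hmono _).trans ?_
      rw [finrank_V_inf r a hr b N d hN hd 1]
      exact le_rfl
    · show _ ≤ finrank k ↥(V₁ ⊓ degreeLT k (d + 1 - 1)) + 1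
      have := drop_le r a N hNα W₁ (degreeLT k (d + 1 - 1)) hW₁L hEW hW₁fin
      rw [hmap, ← hVeq, finrank_V_inf r a hr b N d hN hd 1] at this
      exact this

theorem main6 [CharZero k] (hr : Function.Injective r) (b N d : ℕ) (hb : 1 ≤ b)
    (hN : N = (∑ j, a j) + b) (hd : d + 1 = N + m)
    (p : k) (hp : ∀ j, p ≠ r j) (V₁ : Submodule k k[X])
    (hV₁ : V₁ = Vb r a b ⊓ (Ideal.span {X - C p}).restrictScalars k) :
    (∀ i : Fin m, ∃ ε : ℕ, ε ≤ 1 ∧
      (∑ n ∈ Finset.range d, finrank k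
        ↥(V₁ ⊓ (Ideal.span {(X - C (r i)) ^ (n + 1)}).restrictScalars k)) + 1 =
        (N - 1).choose 2 + (N - a i) + ε) ∧
    (∃ ε : ℕ, ε ≤ 1 ∧
      (∑ n ∈ Finset.range d, finrank k ↥(V₁ ⊓ degreeLT k (d - n))) + 1 =
        (N - 1).choose 2 + (N - b) + ε) := by
  have hNα : ∑ j, a j ≤ N := by omega
  have hN1 : 1 ≤ N := by omega
  have hp1 : (Ideal.span {X - C p} : Ideal k[X]) = Ideal.span {(X - C p) ^ 1} := by rw [pow_one]
  rw [hp1] at hV₁
  have hVeq : Vb r a b = (degreeLT k (N + 1)).map (T r a) := by rw [hN]; exact Vb_eq r a hr b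
  have hV₁le : V₁ ≤ Vb r a b := hV₁ ▸ inf_le_left
  haveI : FiniteDimensional k V₁ := Submodule.finiteDimensional_of_le hV₁le
  have hfin : finrank k V₁ + 1 = N := by
    rw [hV₁, finrank_V_unmarked r a hr b N hN p hp 1]; omega
  have hV₁W : V₁ = (degreeLT k (N + 1) ⊓
      ((Ideal.span {(X - C p) ^ 1}).restrictScalars k).comap (T r a)).map (T r a) := by
    rw [hV₁, hVeq, map_inf_comap']
  have hEW : EE r a ∈ degreeLT k (N + 1) ⊓
      ((Ideal.span {(X - C p) ^ 1}).restrictScalars k).comap (T r a) := by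
    refine Submodule.mem_inf.mpr ⟨E_mem_LT r a N hNα, ?_⟩
    rw [Submodule.mem_comap, T_EE]; exact Submodule.zero_mem _
  have hW₁fin : finrank k ↥(degreeLT k (N + 1) ⊓
      ((Ideal.span {(X - C p) ^ 1}).restrictScalars k).comap (T r a)) + 1 =
        finrank k (degreeLT k (N + 1)) := by
    have := finrank_map_T r a _ hEW
    rw [← hV₁W] at this
    rw [finrank_degreeLT]; omega
  have hmemW : ∀ P, P ∈ degreeLT k (N + 1) ⊓
      ((Ideal.span {(X - C p) ^ 1}).restrictScalars k).comap (T r a) →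
        (T r a P).eval p = 0 := fun P hP => by
    have := (Submodule.mem_inf.mp hP).2
    rw [Submodule.mem_comap, mem_Y, pow_one] at this
    exact dvd_iff_isRoot.mp this
  have hmono : ∀ Y : Submodule k k[X], finrank k ↥(V₁ ⊓ Y) ≤ finrank k ↥(Vb r a b ⊓ Y) :=
    fun Y => Submodule.finrank_mono (inf_le_inf_right _ hV₁le)
  constructor
  · intro i
    have hai : a i ≤ ∑ j, a j :=
      Finset.single_le_sum (fun j _ => Nat.zero_le (a j)) (mem_univ i)
    refine arith1 N (a i) d hN1 (by omega) (by omega)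
      (fun n => finrank k ↥(V₁ ⊓ (Ideal.span {(X - C (r i)) ^ n}).restrictScalars k)) ?_ ?_
    · intro n hn1 hn2
      show finrank k ↥(V₁ ⊓ (Ideal.span {(X - C (r i)) ^ n}).restrictScalars k) + 1 = _
      rw [hV₁W, drop_one r a N hNα _ _ inf_le_left hEW hW₁fin, ← hVeq,
        finrank_V_marked r a hr b N hN i n]
      · rfl
      · obtain ⟨N', hN'⟩ : ∃ N', N = N' + 1 := ⟨N - 1, by omega⟩
        exact not_le_of_eval_marked r a i p hp N' _ _ hmemW
          (pow_mem_G_marked r a i n N' N (by omega) (by omega))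
          (pow_mem_G_marked r a i n (N' + 1) N (by omega) (by omega))
    · intro n _
      show finrank k ↥(V₁ ⊓ (Ideal.span {(X - C (r i)) ^ n}).restrictScalars k) ≤ _
      refine (hmono _).trans ?_
      rw [finrank_V_marked r a hr b N hN i n]
      exact le_rfl
  · have hsum : ∑ n ∈ Finset.range d, finrank k ↥(V₁ ⊓ degreeLT k (d - n)) =
        ∑ n ∈ Finset.range d, (fun n' => finrank k ↥(V₁ ⊓ degreeLT k (d + 1 - n'))) (n + 1) :=
      Finset.sum_congr rfl fun n _ => by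
        show _ = finrank k ↥(V₁ ⊓ degreeLT k (d + 1 - (n + 1)))
        rw [Nat.add_sub_add_right]
    rw [hsum]
    refine arith1 N b d hN1 (by omega) (by omega)
      (fun n' => finrank k ↥(V₁ ⊓ degreeLT k (d + 1 - n'))) ?_ ?_
    · intro n hn1 hn2
      show finrank k ↥(V₁ ⊓ degreeLT k (d + 1 - n)) + 1 = _
      rw [hV₁W, drop_one r a N hNα _ _ inf_le_left hEW hW₁fin, ← hVeq,
        finrank_V_inf r a hr b N d hN hd n]
      · rfl
      · refine not_le_of_eval_inf r a p hp _ _ hmemW ?_ ?_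
        · rw [G_inf r a b N d hN hd n]
          refine Submodule.mem_sup_right ?_
          have e1 : N + 1 - n = (N - n) + 1 := by omega
          rw [e1, mem_LT_succ_iff, natDegree_one]; exact Nat.zero_le _
        · rw [G_inf r a b N d hN hd n]
          refine Submodule.mem_sup_right ?_
          have e1 : N + 1 - n = (N - n) + 1 := by omega
          rw [e1, mem_LT_succ_iff, natDegree_X]; omega
    · intro n _
      show finrank k ↥(V₁ ⊓ degreeLT k (d + 1 - n)) ≤ _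
      refine (hmono _).trans ?_
      rw [finrank_V_inf r a hr b N d hN hd n]
      exact le_rfl

end Groth.Agent.Helper25.Wronsk
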